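import Groth.Agent.H73.KALength

/-!
# Krull–Akizuki for valuation rings

If `R` is a Noetherian domain of dimension `≤ 1` with fraction field `L` and `V ≠ L` is a valuation
subring of `L` containing `R`, then `V` is a discrete valuation ring.
-/

set_option autoImplicit false

namespace Groth.Agent.H73.KA

variable {R L : Type*} [CommRing R] [IsDomain R] [Field L] [Algebra R L]

/-- The ball `{x | v x ≤ γ}` as an `R`-submodule of `L`. -/
def ball (V : ValuationSubring L) (hRV : ∀ r : R, algebraMap R L r ∈ V) (γ : V.ValueGroup) :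
    Submodule R L where
  carrier := {x | V.valuation x ≤ γ}
  add_mem' := fun {x y} hx hy => V.valuation.map_add_le hx hy
  zero_mem' := by
    show V.valuation 0 ≤ γ
    rw [map_zero]; exact zero_le
  smul_mem' := fun r x hx => by
    have h1 : V.valuation (algebraMap R L r) ≤ 1 := (V.valuation_le_one_iff _).mpr (hRV r)
    show V.valuation (r • x) ≤ γ
    rw [Algebra.smul_def, map_mul]
    exact (mul_le_of_le_one_left' h1).trans hx

omit [IsDomain R] in
lemma mem_ball (V : ValuationSubring L) (hRV : ∀ r : R, algebraMap R L r ∈ V) (γ : V.ValueGroup)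
    (x : L) : x ∈ ball V hRV γ ↔ V.valuation x ≤ γ := Iff.rfl

variable [IsNoetherianRing R] [Ring.KrullDimLE 1 R] [IsFractionRing R L]

theorem val_chain_bound (V : ValuationSubring L) (hRV : ∀ r : R, algebraMap R L r ∈ V)
    (a : R) (ha : a ≠ 0) :
    ∃ N : ℕ, ∀ (n : ℕ) (z : ℕ → L),
      (∀ k < n, V.valuation (z k) < V.valuation (z (k + 1))) →
      V.valuation (algebraMap R L a) ≤ V.valuation (z 0) → V.valuation (z n) ≤ 1 → n ≤ N := by
  have hfin : ∀ J : Ideal R, J ≠ ⊥ → Module.length R (R ⧸ J) ≠ ⊤ := length_quotient_ne_top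
  have hne : Module.length R (R ⧸ Ideal.span {a}) ≠ ⊤ := hfin _ (by simpa using ha)
  refine ⟨(Module.length R (R ⧸ Ideal.span {a})).toNat, fun n z hz h0 hn => ?_⟩
  have hmono : ∀ j, j ≤ n → ∀ i, i < j → V.valuation (z i) < V.valuation (z j) := by
    intro j
    induction j with
    | zero => intro _ i hi; omega
    | succ j ih =>
      intro hj i hi
      rcases Nat.lt_succ_iff_lt_or_eq.mp hi with h | rfl
      · exact (ih (by omega) i h).trans (hz j (by omega))
      · exact hz i (by omega)
  let y : Fin (n + 1) → L := fun j => z (n - j)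
  let M : Fin (n + 1) → Submodule R L :=
    fun j => Submodule.span R (Set.range y) ⊓ ball V hRV (V.valuation (y j))
  have hyv : ∀ i j : Fin (n + 1), i < j → V.valuation (y j) < V.valuation (y i) := by
    intro i j hij
    have h1 : (i : ℕ) < j := hij
    have h2 := j.isLt
    exact hmono (n - i) (by omega) (n - j) (by omega)
  have hM : StrictAnti M := by
    intro i j hij
    rw [SetLike.lt_iff_le_and_exists]
    refine ⟨?_, y i, ?_, ?_⟩
    · intro x hx
      obtain ⟨hx1, hx2⟩ := Submodule.mem_inf.mp hx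
      exact Submodule.mem_inf.mpr ⟨hx1, (mem_ball V hRV _ x).mpr
        (le_trans ((mem_ball V hRV _ x).mp hx2) (hyv i j hij).le)⟩
    · exact Submodule.mem_inf.mpr ⟨Submodule.subset_span ⟨i, rfl⟩, (mem_ball V hRV _ _).mpr le_rfl⟩
    · intro hx
      obtain ⟨_, hx2⟩ := Submodule.mem_inf.mp hx
      exact absurd ((mem_ball V hRV _ _).mp hx2) (not_le.mpr (hyv i j hij))
  have hM0 : M 0 = Submodule.span R (Set.range y) := by
    refine inf_eq_left.mpr (Submodule.span_le.mpr ?_)
    rintro _ ⟨j, rfl⟩
    show V.valuation (y j) ≤ V.valuation (y 0)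
    rcases eq_or_lt_of_le (Fin.zero_le j) with h | h
    · rw [← h]
    · exact (hyv 0 j h).le
  have hy0 : y 0 = z n := by simp [y]
  have hyl : y (Fin.last n) = z 0 := by simp [y]
  have haM : ∀ x ∈ M 0, a • x ∈ M (Fin.last n) := by
    intro x hx
    obtain ⟨hx1, hx2⟩ := Submodule.mem_inf.mp hx
    refine Submodule.mem_inf.mpr ⟨Submodule.smul_mem _ _ hx1, ?_⟩
    show V.valuation (a • x) ≤ V.valuation (y (Fin.last n))
    have hx2' : V.valuation x ≤ V.valuation (y 0) := hx2
    rw [hy0] at hx2'
    rw [hyl, Algebra.smul_def, map_mul]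
    calc V.valuation (algebraMap R L a) * V.valuation x
        ≤ V.valuation (algebraMap R L a) * 1 := mul_le_mul' le_rfl (hx2'.trans hn)
      _ = V.valuation (algebraMap R L a) := mul_one _
      _ ≤ V.valuation (z 0) := h0
  have hfg : (M 0).FG := by
    rw [hM0]; exact Submodule.fg_span (Set.finite_range y)
  have := chain_bound hfin a ha n M hM hfg haM
  rw [← ENat.natCast_toNat hne] at this
  exact_mod_cast this

theorem exists_max_val (V : ValuationSubring L) (hRV : ∀ r : R, algebraMap R L r ∈ V)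
    (a₀ : R) (ha₀ : a₀ ≠ 0) (hv : V.valuation (algebraMap R L a₀) < 1) :
    ∃ π : L, V.valuation π < 1 ∧ ∀ y : L, V.valuation y < 1 → V.valuation y ≤ V.valuation π := by
  by_contra hcon
  push Not at hcon
  obtain ⟨N, hN⟩ := val_chain_bound V hRV a₀ ha₀
  choose f hf1 hf2 using hcon
  let z : ℕ → {y : L // V.valuation y < 1} := fun k =>
    Nat.rec ⟨algebraMap R L a₀, hv⟩ (fun _ p => ⟨f p.1 p.2, hf1 p.1 p.2⟩) k
  have hz : ∀ k, V.valuation (z k).1 < V.valuation (z (k + 1)).1 := fun k => hf2 _ _
  have := hN (N + 1) (fun k => (z k).1) (fun k _ => hz k) le_rfl (z (N + 1)).2.le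
  omega

theorem exists_pow_eq (V : ValuationSubring L) (hRV : ∀ r : R, algebraMap R L r ∈ V)
    (π : L) (hπ0 : π ≠ 0) (hπ1 : V.valuation π < 1)
    (hπmax : ∀ y : L, V.valuation y < 1 → V.valuation y ≤ V.valuation π)
    (y : L) (hy0 : y ≠ 0) (hy : V.valuation y ≤ 1) :
    ∃ n : ℕ, V.valuation y = V.valuation π ^ n := by
  obtain ⟨r1, r2, hr2, hy_eq⟩ := IsFractionRing.div_surjective (A := R) y
  have hr2' : algebraMap R L r2 ≠ 0 := by
    have := nonZeroDivisors.ne_zero hr2
    simpa using this
  have hr1 : r1 ≠ 0 := by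
    rintro rfl
    apply hy0; rw [← hy_eq]; simp
  have hval : V.valuation (algebraMap R L r1) ≤ V.valuation y := by
    have : algebraMap R L r1 = y * algebraMap R L r2 := by
      rw [← hy_eq, div_mul_cancel₀ _ hr2']
    rw [this, map_mul]
    exact mul_le_of_le_one_right' ((V.valuation_le_one_iff _).mpr (hRV r2))
  obtain ⟨N, hN⟩ := val_chain_bound V hRV r1 hr1
  have hvπ0 : 0 < V.valuation π := by
    rw [zero_lt_iff]; exact (V.valuation.ne_zero_iff).mpr hπ0
  have hex : ∃ n : ℕ, V.valuation π ^ n < V.valuation y := by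
    by_contra hcon
    push Not at hcon
    have := hN (N + 1) (fun k => π ^ (N + 1 - k)) ?_ ?_ ?_
    · omega
    · intro k hk
      show V.valuation (π ^ (N + 1 - k)) < V.valuation (π ^ (N + 1 - (k + 1)))
      rw [map_pow, map_pow]
      exact pow_lt_pow_right_of_lt_one₀ hvπ0 hπ1 (by omega)
    · show V.valuation (algebraMap R L r1) ≤ V.valuation (π ^ (N + 1 - 0))
      rw [map_pow]; exact hval.trans (hcon _)
    · show V.valuation (π ^ (N + 1 - (N + 1))) ≤ 1
      simp
  classical
  have hm : V.valuation π ^ (Nat.find hex) < V.valuation y := Nat.find_spec hex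
  have hm0 : Nat.find hex ≠ 0 := by
    intro h0
    rw [h0, pow_zero] at hm
    exact absurd hy (not_le.mpr hm)
  obtain ⟨k, hk⟩ := Nat.exists_eq_succ_of_ne_zero hm0
  have hk' : V.valuation y ≤ V.valuation π ^ k := by
    have := Nat.find_min hex (show k < Nat.find hex by omega)
    exact not_lt.mp this
  refine ⟨k, le_antisymm hk' ?_⟩
  by_contra hlt
  rw [not_le] at hlt
  have hu : V.valuation (y / π ^ k) < 1 := by
    rw [map_div₀, map_pow]
    exact (div_lt_one₀ (pow_pos hvπ0 k)).mpr hlt
  have := hπmax _ hu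
  rw [map_div₀, map_pow, div_le_iff₀ (pow_pos hvπ0 k)] at this
  rw [hk, pow_succ'] at hm
  exact absurd this (not_le.mpr hm)

/-- **Krull–Akizuki for valuation rings.** -/
theorem isDiscreteValuationRing_of_le (V : ValuationSubring L)
    (hRV : ∀ r : R, algebraMap R L r ∈ V)
    (a₀ : R) (ha₀ : a₀ ≠ 0) (hv : V.valuation (algebraMap R L a₀) < 1) :
    IsDiscreteValuationRing V := by
  obtain ⟨π, hπ1, hπmax⟩ := exists_max_val V hRV a₀ ha₀ hv
  have ha₀' : algebraMap R L a₀ ≠ 0 := by simpa using ha₀
  have hπ0 : π ≠ 0 := by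
    rintro rfl
    have := hπmax _ hv
    rw [map_zero, le_zero_iff, map_eq_zero] at this
    exact ha₀' this
  have hvπ0 : 0 < V.valuation π := by
    rw [zero_lt_iff]; exact (V.valuation.ne_zero_iff).mpr hπ0
  have hπV : π ∈ V := (V.valuation_le_one_iff π).mp hπ1.le
  have key : ∀ x : V, ¬ IsUnit x → V.valuation (x : L) ≤ V.valuation π := fun x hx =>
    hπmax _ (lt_of_le_of_ne (V.valuation_le_one x)
      (fun h => hx ((V.valuation_eq_one_iff x).mpr h)))
  refine IsDiscreteValuationRing.ofHasUnitMulPowIrreducibleFactorization ⟨⟨π, hπV⟩, ?_, ?_⟩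
  · rw [irreducible_iff]
    refine ⟨fun hu => ?_, fun a b hab => ?_⟩
    · have := (V.valuation_eq_one_iff ⟨π, hπV⟩).mp hu
      exact hπ1.ne this
    · by_contra hcon
      push Not at hcon
      have h1 := key a hcon.1
      have h2 := key b hcon.2
      have h3 : V.valuation π = V.valuation (a : L) * V.valuation (b : L) := by
        have : (π : L) = (a : L) * (b : L) := congrArg Subtype.val hab
        rw [this, map_mul]
      have h4 : V.valuation (a : L) * V.valuation (b : L) ≤ V.valuation π * V.valuation π :=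
        mul_le_mul' h1 h2
      have h5 : V.valuation π * V.valuation π < V.valuation π :=
        mul_lt_of_lt_one_right hvπ0 hπ1
      exact absurd (h3.le.trans h4) (not_le.mpr h5)
  · intro x hx
    have hx0 : (x : L) ≠ 0 := fun h => hx (Subtype.ext h)
    obtain ⟨n, hn⟩ := exists_pow_eq V hRV π hπ0 hπ1 hπmax x hx0 (V.valuation_le_one x)
    have hu1 : V.valuation ((x : L) / π ^ n) = 1 := by
      rw [map_div₀, map_pow, hn, div_self (pow_ne_zero n hvπ0.ne')]
    have huV : (x : L) / π ^ n ∈ V := (V.valuation_le_one_iff _).mp hu1.le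
    have hunit : IsUnit (⟨(x : L) / π ^ n, huV⟩ : V) := (V.valuation_eq_one_iff _).mpr hu1
    obtain ⟨w, hw⟩ := hunit
    refine ⟨n, w, Subtype.ext ?_⟩
    have hw' : ((w : V) : L) = (x : L) / π ^ n := by rw [hw]
    push_cast
    rw [hw']
    field_simp

end Groth.Agent.H73.KA
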