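import Groth.Agent.H73.NagataFinite

set_option autoImplicit false
universe u

namespace Groth.Agent.H73.NagataFin

open IntermediateField

/-- N-2 domain, field `L` essentially of finite type over the fraction field. -/
theorem finite_integralClosure_of_isN2_field (R : Type u) [CommRing R] [IsDomain R]
    [IsNoetherianRing R] (hR : CAlg.IsN2 R) (L : Type u) [Field L] [Algebra R L]
    [Algebra (FractionRing R) L] [IsScalarTower R (FractionRing R) L]
    [Algebra.EssFiniteType (FractionRing R) L] :
    Module.Finite R (integralClosure R L) := by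
  have hMfin : Module.Finite (FractionRing R) (algebraicClosure (FractionRing R) L) :=
    Groth.Agent.H73.FieldAlg.finite_algebraicClosure_of_essFiniteType _ _
  have hfin : Module.Finite R (integralClosure R (algebraicClosure (FractionRing R) L)) :=
    hR (algebraicClosure (FractionRing R) L) hMfin
  have hN : IsNoetherian R (integralClosure R (algebraicClosure (FractionRing R) L)) :=
    isNoetherian_of_isNoetherianRing_of_finite R _
  have hmem : ∀ x : integralClosure R L, x.1 ∈ algebraicClosure (FractionRing R) L := by
    intro x
    rw [mem_algebraicClosure_iff]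
    exact (x.2.tower_top (A := FractionRing R)).isAlgebraic
  let f : integralClosure R L →ₗ[R] integralClosure R (algebraicClosure (FractionRing R) L) :=
    { toFun := fun x => ⟨⟨x.1, hmem x⟩, by
        exact (isIntegral_algHom_iff
          ((algebraicClosure (FractionRing R) L).val.restrictScalars R)
          Subtype.val_injective).mp x.2⟩
      map_add' := fun x y => by
        apply Subtype.ext
        apply Subtype.ext
        rfl
      map_smul' := fun r x => by
        apply Subtype.ext
        apply Subtype.ext
        rfl }
  refine Module.Finite.of_injective f (fun x y hxy => ?_)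
  have h1 : x.1 = y.1 :=
    congrArg (fun z => ((z : algebraicClosure (FractionRing R) L) : L)) (congrArg Subtype.val hxy)
  exact Subtype.ext h1

attribute [local instance] FractionRing.liftAlgebra in
/-- Nagata ring `A`, a field `L` essentially of finite type over a "residue field" `K` of `A`. -/
theorem finite_integralClosure_of_isNagata_field (A : Type u) [CommRing A] (hA : CAlg.IsNagata A)
    (K L : Type u) [Field K] [Field L] [Algebra A K] [Algebra A L] [Algebra K L]
    [IsScalarTower A K L]
    (hK : ∀ z : K, ∃ a b : A, algebraMap A K b ≠ 0 ∧ z * algebraMap A K b = algebraMap A K a)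
    [Algebra.EssFiniteType K L] : Module.Finite A (integralClosure A L) := by
  obtain ⟨hnoeth, hN2⟩ := hA
  set p : Ideal A := RingHom.ker (algebraMap A K) with hp
  have hpprime : p.IsPrime := RingHom.ker_isPrime _
  letI algRK : Algebra (A ⧸ p) K := (RingHom.kerLift (algebraMap A K)).toAlgebra
  have towerK : IsScalarTower A (A ⧸ p) K := IsScalarTower.of_algebraMap_eq fun r => rfl
  have hinjK : Function.Injective (algebraMap (A ⧸ p) K) := RingHom.kerLift_injective _
  letI algRL : Algebra (A ⧸ p) L := ((algebraMap K L).comp (algebraMap (A ⧸ p) K)).toAlgebra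
  have towerRKL : IsScalarTower (A ⧸ p) K L := IsScalarTower.of_algebraMap_eq fun r => rfl
  have towerARL : IsScalarTower A (A ⧸ p) L := IsScalarTower.of_algebraMap_eq fun r => by
    rw [IsScalarTower.algebraMap_apply A K L]; rfl
  have hFK : FaithfulSMul (A ⧸ p) K := (faithfulSMul_iff_algebraMap_injective _ _).mpr hinjK
  have hFL : FaithfulSMul (A ⧸ p) L :=
    (faithfulSMul_iff_algebraMap_injective _ _).mpr ((algebraMap K L).injective.comp hinjK)
  have towerFKL : IsScalarTower (FractionRing (A ⧸ p)) K L := by
    refine IsScalarTower.of_algebraMap_eq' ?_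
    apply IsLocalization.ringHom_ext (nonZeroDivisors (A ⧸ p))
    ext r
    simp only [RingHom.comp_apply]
    rw [← IsScalarTower.algebraMap_apply (A ⧸ p) (FractionRing (A ⧸ p)) L,
      ← IsScalarTower.algebraMap_apply (A ⧸ p) (FractionRing (A ⧸ p)) K]
    rfl
  have hsurj : Function.Surjective (algebraMap (FractionRing (A ⧸ p)) K) := by
    intro z
    obtain ⟨a, b, hb, hz⟩ := hK z
    refine ⟨algebraMap (A ⧸ p) (FractionRing (A ⧸ p)) (Ideal.Quotient.mk p a) /
      algebraMap (A ⧸ p) (FractionRing (A ⧸ p)) (Ideal.Quotient.mk p b), ?_⟩
    rw [map_div₀, ← IsScalarTower.algebraMap_apply (A ⧸ p) (FractionRing (A ⧸ p)) K,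
      ← IsScalarTower.algebraMap_apply (A ⧸ p) (FractionRing (A ⧸ p)) K]
    change algebraMap A K a / algebraMap A K b = z
    rw [div_eq_iff hb, hz]
  have hftK : Algebra.FiniteType (FractionRing (A ⧸ p)) K :=
    Algebra.FiniteType.of_surjective (Algebra.ofId (FractionRing (A ⧸ p)) K) hsurj
  have hessL : Algebra.EssFiniteType (FractionRing (A ⧸ p)) L :=
    Algebra.EssFiniteType.comp _ K L
  have h1 : Module.Finite (A ⧸ p) (integralClosure (A ⧸ p) L) :=
    finite_integralClosure_of_isN2_field (A ⧸ p) (hN2 p) L
  have h2 : Module.Finite A (integralClosure (A ⧸ p) L) := Module.Finite.trans (A ⧸ p) _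
  have hN : IsNoetherian A (integralClosure (A ⧸ p) L) :=
    isNoetherian_of_isNoetherianRing_of_finite A _
  let f : integralClosure A L →ₗ[A] integralClosure (A ⧸ p) L :=
    { toFun := fun x => ⟨x.1, x.2.tower_top⟩
      map_add' := fun _ _ => rfl
      map_smul' := fun r x => Subtype.ext (by
        change r • x.1 = (r • (⟨x.1, x.2.tower_top⟩ : integralClosure (A ⧸ p) L)).1
        rfl) }
  refine Module.Finite.of_injective f (fun x y hxy => ?_)
  have h' : (f x).1 = (f y).1 := congrArg Subtype.val hxy
  exact Subtype.ext h'

end Groth.Agent.H73.NagataFin
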