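import Groth.Agent.H73.InsepFinite
import Groth.Prelude.Def_Found

/-!
# `R[X]` is N-1 / N-2 when `R` is a Noetherian N-1 / N-2 domain
-/

set_option autoImplicit false
universe u

namespace Groth.Agent.H73.PolyN2

open Polynomial

section Construction

variable (R : Type*) [CommRing R] (R' : Type*) [CommRing R'] [Algebra R R'] (q : ℕ)

/-- The map `R[x] → R'[y]`, `x ↦ y ^ q`. -/
noncomputable def iota : R[X] →+* R'[X] :=
  (Polynomial.expand R' q : R'[X] →ₐ[R'] R'[X]).toRingHom.comp
    (Polynomial.mapRingHom (algebraMap R R'))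

lemma iota_injective (hinj : Function.Injective (algebraMap R R')) (hq : 0 < q) :
    Function.Injective (iota R R' q) :=
  (Polynomial.expand_injective hq).comp (Polynomial.map_injective _ hinj)

lemma iota_C (c : R) : iota R R' q (C c) = C (algebraMap R R' c) := by
  simp [iota]

lemma iota_X : iota R R' q X = X ^ q := by
  simp [iota]

lemma iota_monomial (n : ℕ) (c : R) :
    iota R R' q (monomial n c) = monomial (n * q) (algebraMap R R' c) := by
  simp only [iota, RingHom.coe_comp, Function.comp_apply, coe_mapRingHom, map_monomial]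
  exact Polynomial.expand_monomial q n _

/-- A polynomial whose coefficients have `p^e`-th roots in `R'` becomes a `p^e`-th power. -/
lemma exists_pow_eq_iota (p : ℕ) [ExpChar R' p] (e : ℕ) (g : R[X])
    (hroot : ∀ n ∈ g.support, ∃ r : R', r ^ p ^ e = algebraMap R R' (g.coeff n)) :
    ∃ G : R'[X], G ^ p ^ e = iota R R' (p ^ e) g := by
  classical
  choose! r hr using hroot
  refine ⟨∑ n ∈ g.support, monomial n (r n), ?_⟩
  rw [← iterateFrobenius_def (R := R'[X]) p e, map_sum]
  conv_rhs => rw [g.as_sum_support, map_sum]
  refine Finset.sum_congr rfl fun n hn => ?_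
  rw [iterateFrobenius_def, monomial_pow, iota_monomial, hr n hn]

lemma iota_comp_C : (iota R R' q).comp C = (C : R' →+* R'[X]).comp (algebraMap R R') := by
  ext c
  simp [iota_C]

lemma iota_isIntegral [Algebra.IsIntegral R R'] (hq : 0 < q) : (iota R R' q).IsIntegral := by
  intro x
  induction x using Polynomial.induction_on with
  | C a =>
    obtain ⟨f, hf, hfa⟩ := Algebra.IsIntegral.isIntegral (R := R) a
    refine ⟨f.map C, hf.map _, ?_⟩
    rw [Polynomial.eval₂_map, iota_comp_C, ← Polynomial.hom_eval₂, hfa, map_zero]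
  | add x y hx hy => exact hx.add _ hy
  | monomial n a h =>
    rw [pow_succ, ← mul_assoc]
    refine h.mul _ ?_
    refine ⟨X ^ q - C X, monic_X_pow_sub_C _ hq.ne', ?_⟩
    rw [eval₂_sub, eval₂_pow, eval₂_X, eval₂_C, iota_X, sub_self]

lemma iota_finite [Module.Finite R R'] (hq : 0 < q) : (iota R R' q).Finite := by
  have : Algebra.IsIntegral R R' := Algebra.IsIntegral.of_finite R R'
  refine (iota_isIntegral R R' q hq).to_finite ?_
  refine RingHom.FiniteType.of_comp_finiteType (f := (C : R →+* R[X])) ?_
  rw [iota_comp_C]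
  refine RingHom.FiniteType.comp ?_ ?_
  · exact (RingHom.finiteType_algebraMap (A := R') (B := R'[X])).mpr inferInstance
  · exact RingHom.Finite.to_finiteType
      ((RingHom.finite_algebraMap (A := R) (B := R')).mpr inferInstance)

end Construction

section Main

/-- The embedding argument, given enough roots in `R'`. -/
theorem finite_integralClosure_of_roots (R : Type*) [CommRing R] [IsDomain R] [IsNoetherianRing R]
    (R' : Type*) [CommRing R'] [IsDomain R'] [IsIntegrallyClosed R'] [Algebra R R']
    [Module.Finite R R'] (hinjR : Function.Injective (algebraMap R R'))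
    (p : ℕ) [ExpChar R p] (e : ℕ)
    (K' : Type*) [Field K'] [Algebra R[X] K'] [Algebra (FractionRing R[X]) K']
    [IsScalarTower R[X] (FractionRing R[X]) K']
    (S : Set K') (hS : IntermediateField.adjoin (FractionRing R[X]) S = ⊤)
    (g h : K' → R[X]) (hh : ∀ s ∈ S, h s ≠ 0)
    (hgh : ∀ s ∈ S, s ^ p ^ e * algebraMap R[X] K' (h s) = algebraMap R[X] K' (g s))
    (hg_root : ∀ s ∈ S, ∀ n ∈ (g s).support,
      ∃ r : R', r ^ p ^ e = algebraMap R R' ((g s).coeff n))
    (hh_root : ∀ s ∈ S, ∀ n ∈ (h s).support,
      ∃ r : R', r ^ p ^ e = algebraMap R R' ((h s).coeff n)) :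
    Module.Finite R[X] (integralClosure R[X] K') := by
  classical
  have hq : 0 < p ^ e := expChar_pow_pos R p e
  have hR' : ExpChar R' p := expChar_of_injective_ringHom hinjR p
  letI algPP' : Algebra R[X] R'[X] := (iota R R' (p ^ e)).toAlgebra
  have hfin : Module.Finite R[X] R'[X] := iota_finite R R' (p ^ e) hq
  have halg : ∀ x : R[X], algebraMap R[X] (FractionRing R'[X]) x =
      algebraMap R'[X] (FractionRing R'[X]) (iota R R' (p ^ e) x) := fun x =>
    IsScalarTower.algebraMap_apply R[X] R'[X] (FractionRing R'[X]) x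
  have hinj : Function.Injective (algebraMap R[X] (FractionRing R'[X])) := by
    intro x y hxy
    rw [halg, halg] at hxy
    exact iota_injective R R' (p ^ e) hinjR hq
      (IsFractionRing.injective R'[X] (FractionRing R'[X]) hxy)
  letI algFF' : Algebra (FractionRing R[X]) (FractionRing R'[X]) :=
    (IsFractionRing.lift hinj).toAlgebra
  have tower2 : IsScalarTower R[X] (FractionRing R[X]) (FractionRing R'[X]) :=
    IsScalarTower.of_algebraMap_eq fun x => (IsFractionRing.lift_algebraMap hinj x).symm
  have hF'p : ExpChar (FractionRing R'[X]) p :=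
    expChar_of_injective_ringHom (f := (algebraMap R'[X] (FractionRing R'[X])).comp
      (C : R' →+* _))
      ((IsFractionRing.injective R'[X] (FractionRing R'[X])).comp C_injective) p
  have key : ∀ s ∈ S, IsIntegral (FractionRing R[X]) s ∧
      ((minpoly (FractionRing R[X]) s).map
        (algebraMap (FractionRing R[X]) (FractionRing R'[X]))).Splits := by
    intro s hs
    obtain ⟨G, hG⟩ := exists_pow_eq_iota R R' p e (g s) (hg_root s hs)
    obtain ⟨H, hH⟩ := exists_pow_eq_iota R R' p e (h s) (hh_root s hs)
    have hhF : algebraMap R[X] (FractionRing R[X]) (h s) ≠ 0 := by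
      intro h0
      exact hh s hs (IsFractionRing.injective R[X] (FractionRing R[X]) (by rw [h0, map_zero]))
    have hhK : algebraMap R[X] K' (h s) ≠ 0 := by
      rw [IsScalarTower.algebraMap_apply R[X] (FractionRing R[X]) K']
      intro h0
      exact hhF ((algebraMap (FractionRing R[X]) K').injective (by rw [h0, map_zero]))
    set f : FractionRing R[X] :=
      algebraMap R[X] (FractionRing R[X]) (g s) / algebraMap R[X] (FractionRing R[X]) (h s)
      with hf
    have hfs : algebraMap (FractionRing R[X]) K' f = s ^ p ^ e := by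
      rw [hf, map_div₀, ← IsScalarTower.algebraMap_apply, ← IsScalarTower.algebraMap_apply,
        ← hgh s hs, mul_div_cancel_right₀ _ hhK]
    have hint : IsIntegral (FractionRing R[X]) s :=
      IsIntegral.of_pow hq (hfs ▸ isIntegral_algebraMap)
    refine ⟨hint, ?_⟩
    have hdvd : minpoly (FractionRing R[X]) s ∣ X ^ p ^ e - C f :=
      minpoly.dvd _ s (by simp [hfs])
    have hH0 : algebraMap R'[X] (FractionRing R'[X]) H ≠ 0 := by
      intro h0
      have hH' : H = 0 := (IsFractionRing.injective R'[X] (FractionRing R'[X]))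
        (by rw [h0, map_zero])
      rw [hH', zero_pow hq.ne'] at hH
      exact hh s hs (iota_injective R R' (p ^ e) hinjR hq (by rw [← hH, map_zero]))
    set β : FractionRing R'[X] :=
      algebraMap R'[X] (FractionRing R'[X]) G / algebraMap R'[X] (FractionRing R'[X]) H
      with hβdef
    have hβ : algebraMap (FractionRing R[X]) (FractionRing R'[X]) f = β ^ p ^ e := by
      rw [hf, map_div₀, ← IsScalarTower.algebraMap_apply R[X] (FractionRing R[X])
        (FractionRing R'[X]), ← IsScalarTower.algebraMap_apply R[X] (FractionRing R[X])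
        (FractionRing R'[X])]
      rw [halg, halg, ← hG, ← hH, map_pow, map_pow, hβdef, div_pow]
    have hmap : (X ^ p ^ e - C f : Polynomial (FractionRing R[X])).map
        (algebraMap (FractionRing R[X]) (FractionRing R'[X])) = (X - C β) ^ p ^ e := by
      rw [Polynomial.map_sub, Polynomial.map_pow, Polynomial.map_X, Polynomial.map_C, hβ,
        sub_pow_expChar_pow, ← C_pow]
    refine Splits.of_dvd (g := (X - C β) ^ p ^ e) ((Splits.X_sub_C β).pow _)
      (pow_ne_zero _ (X_sub_C_ne_zero β)) ?_
    rw [← hmap]
    exact Polynomial.map_dvd _ hdvd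
  obtain ⟨σ⟩ := IntermediateField.nonempty_algHom_of_adjoin_splits key hS
  exact InsepFinite.finite_integralClosure_of_algHom (P' := R'[X])
    (F' := FractionRing R'[X]) (σ.restrictScalars R[X])

end Main

section N2

/-- The integral closure of `R[X]` in a finite purely inseparable extension of its fraction field
is a finite module, for a Noetherian N-2 domain `R`. -/
theorem finite_integralClosure_of_purelyInseparable (R : Type u) [CommRing R] [IsDomain R]
    [IsNoetherianRing R] (hR : CAlg.IsN2 R)
    (K' : Type*) [Field K'] [Algebra R[X] K'] [Algebra (FractionRing R[X]) K']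
    [IsScalarTower R[X] (FractionRing R[X]) K']
    (hfd : FiniteDimensional (FractionRing R[X]) K')
    (hpi : IsPurelyInseparable (FractionRing R[X]) K') :
    Module.Finite R[X] (integralClosure R[X] K') := by
  classical
  obtain ⟨p, hp⟩ := ExpChar.exists R
  have hF : ExpChar (FractionRing R[X]) p :=
    expChar_of_injective_ringHom (f := (algebraMap R[X] (FractionRing R[X])).comp
      (C : R →+* _))
      ((IsFractionRing.injective R[X] (FractionRing R[X])).comp C_injective) p
  set e := IsPurelyInseparable.exponent (FractionRing R[X]) K' with he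
  have hq : 0 < p ^ e := expChar_pow_pos R p e
  obtain ⟨S, hS⟩ := IntermediateField.fg_of_noetherian
    (⊤ : IntermediateField (FractionRing R[X]) K')
  have hex : ∀ s : K', ∃ g h : R[X], h ≠ 0 ∧
      s ^ p ^ e * algebraMap R[X] K' h = algebraMap R[X] K' g := by
    intro s
    obtain ⟨f, hf⟩ := IsPurelyInseparable.exponent_def' (FractionRing R[X]) p s
    obtain ⟨g, h, hh, rfl⟩ := IsFractionRing.div_surjective R[X] f
    have hh0 : h ≠ 0 := nonZeroDivisors.ne_zero hh
    have hhF : algebraMap R[X] (FractionRing R[X]) h ≠ 0 := by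
      intro h0
      exact hh0 (IsFractionRing.injective R[X] (FractionRing R[X]) (by rw [h0, map_zero]))
    have hhK : algebraMap R[X] K' h ≠ 0 := by
      rw [IsScalarTower.algebraMap_apply R[X] (FractionRing R[X]) K']
      intro h0
      exact hhF ((algebraMap (FractionRing R[X]) K').injective (by rw [h0, map_zero]))
    refine ⟨g, h, hh0, ?_⟩
    rw [← he] at hf
    rw [← hf, map_div₀, ← IsScalarTower.algebraMap_apply, ← IsScalarTower.algebraMap_apply,
      div_mul_cancel₀ _ hhK]
  choose g h hh hgh using hex
  let Cs : Finset R := S.biUnion fun s =>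
    ((g s).support.image fun d => (g s).coeff d) ∪ ((h s).support.image fun d => (h s).coeff d)
  let K := FractionRing R
  let Q : Polynomial K := ∏ c ∈ Cs, (X ^ p ^ e - C (algebraMap R K c))
  let K₁ := Q.SplittingField
  have hrootK : ∀ c ∈ Cs, ∃ r : K₁, r ^ p ^ e = algebraMap R K₁ c := by
    intro c hc
    have hQ0 : Q ≠ 0 := Finset.prod_ne_zero_iff.mpr fun c _ =>
      (monic_X_pow_sub_C _ hq.ne').ne_zero
    have hsplit : (Q.map (algebraMap K K₁)).Splits := SplittingField.splits Q
    have hdvd : (X ^ p ^ e - C (algebraMap R K c)) ∣ Q := Finset.dvd_prod_of_mem _ hc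
    have h1 : ((X ^ p ^ e - C (algebraMap R K c) : Polynomial K).map
        (algebraMap K K₁)).Splits :=
      Splits.of_dvd hsplit ((Polynomial.map_ne_zero_iff (algebraMap K _).injective).mpr hQ0)
        (Polynomial.map_dvd _ hdvd)
    have hdeg : ((X ^ p ^ e - C (algebraMap R K c) : Polynomial K).map
        (algebraMap K K₁)).degree ≠ 0 := by
      rw [degree_map, degree_X_pow_sub_C hq _]
      exact_mod_cast hq.ne'
    obtain ⟨r, hr⟩ := h1.exists_eval_eq_zero hdeg
    refine ⟨r, ?_⟩
    rw [Polynomial.eval_map, Polynomial.eval₂_sub, Polynomial.eval₂_pow, Polynomial.eval₂_X,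
      Polynomial.eval₂_C, sub_eq_zero] at hr
    rw [hr, ← IsScalarTower.algebraMap_apply]
  have hfinR' : Module.Finite R (integralClosure R K₁) := hR K₁ inferInstance
  have hinjK₁ : Function.Injective (algebraMap R K₁) := by
    rw [IsScalarTower.algebraMap_eq R K K₁]
    exact (algebraMap K K₁).injective.comp (IsFractionRing.injective R K)
  have hinjR' : Function.Injective (algebraMap R (integralClosure R K₁)) := by
    intro x y hxy
    exact hinjK₁ (congrArg Subtype.val hxy)
  have hroot : ∀ c ∈ Cs, ∃ r : integralClosure R K₁,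
      r ^ p ^ e = algebraMap R (integralClosure R K₁) c := by
    intro c hc
    obtain ⟨r, hr⟩ := hrootK c hc
    have hint : IsIntegral R r := IsIntegral.of_pow hq (hr ▸ isIntegral_algebraMap)
    exact ⟨⟨r, hint⟩, Subtype.ext hr⟩
  have hic : IsIntegrallyClosed (integralClosure R K₁) :=
    integralClosure.isIntegrallyClosedOfFiniteExtension K
  refine finite_integralClosure_of_roots R (integralClosure R K₁) hinjR' p e K' (↑S) hS g h
    (fun s _ => hh s) (fun s _ => hgh s) (fun s hs d hd => hroot _ ?_)
    (fun s hs d hd => hroot _ ?_)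
  · exact Finset.mem_biUnion.mpr ⟨s, hs, Finset.mem_union_left _ (Finset.mem_image_of_mem _ hd)⟩
  · exact Finset.mem_biUnion.mpr ⟨s, hs, Finset.mem_union_right _ (Finset.mem_image_of_mem _ hd)⟩

/-- `R[X]` is N-2 for a Noetherian N-2 domain `R`. -/
theorem isN2_polynomial (R : Type u) [CommRing R] [IsDomain R] [IsNoetherianRing R]
    (hR : CAlg.IsN2 R) : CAlg.IsN2 R[X] := fun L _ _ _ _ hL =>
  Groth.Agent.H11.N2Insep.finite_integralClosure_of_purelyInseparable R[X]
    (fun K' _ _ _ _ hfd hpi => finite_integralClosure_of_purelyInseparable R hR K' hfd hpi) L hL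

/-- `R[X]` is N-1 for a Noetherian N-1 domain `R`. -/
theorem isN1_polynomial (R : Type u) [CommRing R] [IsDomain R] [IsNoetherianRing R]
    (hR : CAlg.IsN1 R) : CAlg.IsN1 R[X] := by
  let K := FractionRing R
  let R' := integralClosure R K
  have hfin : Module.Finite R R' := hR
  have hinjR' : Function.Injective (algebraMap R R') := by
    intro x y hxy
    exact IsFractionRing.injective R K (congrArg Subtype.val hxy)
  letI algPP' : Algebra R[X] R'[X] := (iota R R' 1).toAlgebra
  have hfin' : Module.Finite R[X] R'[X] := iota_finite R R' 1 Nat.one_pos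
  have halg : ∀ x : R[X], algebraMap R[X] (FractionRing R'[X]) x =
      algebraMap R'[X] (FractionRing R'[X]) (iota R R' 1 x) := fun x =>
    IsScalarTower.algebraMap_apply R[X] R'[X] (FractionRing R'[X]) x
  have hinj : Function.Injective (algebraMap R[X] (FractionRing R'[X])) := by
    intro x y hxy
    rw [halg, halg] at hxy
    exact iota_injective R R' 1 hinjR' Nat.one_pos
      (IsFractionRing.injective R'[X] (FractionRing R'[X]) hxy)
  have hic : IsIntegrallyClosed R' := integralClosure.isIntegrallyClosedOfFiniteExtension K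
  let σ : FractionRing R[X] →ₐ[R[X]] FractionRing R'[X] :=
    IsFractionRing.liftAlgHom (g := Algebra.ofId R[X] (FractionRing R'[X])) hinj
  exact InsepFinite.finite_integralClosure_of_algHom (P := R[X]) (P' := R'[X])
    (F' := FractionRing R'[X]) (K' := FractionRing R[X]) σ

end N2

end Groth.Agent.H73.PolyN2
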