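import Mathlib

/-!
# Finitely generated fields are fraction fields of smooth algebras

If `K` is a field, formally smooth over a Noetherian ring `R`, and `B ⊆ K` is a finitely generated
`R`-subalgebra with fraction field `K`, then some localisation `B[1/f] ⊆ K` is smooth over `R`.
This uses the openness of the smooth locus (`Algebra.IsSmoothAt.exists_notMem_smooth`).
-/

set_option autoImplicit false

namespace Groth.Agent.H73

open Algebra

/-- A subalgebra `A` of a field `K` such that every element of `K` is a quotient of elements of `A`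
has fraction field `K`. -/
theorem isFractionRing_subalgebra_of_forall_div {R K : Type*} [CommRing R] [Field K] [Algebra R K]
    (A : Subalgebra R K) (h : ∀ x : K, ∃ a b : K, a ∈ A ∧ b ∈ A ∧ b ≠ 0 ∧ x = a / b) :
    IsFractionRing A K := by
  rw [IsFractionRing, isLocalization_iff]
  refine ⟨fun y => ?_, fun z => ?_, fun {a b} hab => ⟨1, by rw [Subtype.ext hab]⟩⟩
  · have hy : (y : A) ≠ 0 := nonZeroDivisors.ne_zero y.2
    exact IsUnit.mk0 _ (fun h0 => hy (Subtype.ext h0))
  · obtain ⟨a, b, ha, hb, hb0, rfl⟩ := h z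
    refine ⟨(⟨a, ha⟩, ⟨⟨b, hb⟩,
      mem_nonZeroDivisors_of_ne_zero (fun h0 => hb0 (congrArg Subtype.val h0))⟩), ?_⟩
    show a / b * b = a
    exact div_mul_cancel₀ a hb0

/-- A subring `A` of a field `K` such that every element of `K` is a quotient of elements of `A`
has fraction field `K`. -/
theorem isFractionRing_subring_of_forall_div {K : Type*} [Field K]
    (A : Subring K) (h : ∀ x : K, ∃ a b : K, a ∈ A ∧ b ∈ A ∧ b ≠ 0 ∧ x = a / b) :
    IsFractionRing A K := by
  rw [IsFractionRing, isLocalization_iff]
  refine ⟨fun y => ?_, fun z => ?_, fun {a b} hab => ⟨1, by rw [Subtype.ext hab]⟩⟩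
  · have hy : (y : A) ≠ 0 := nonZeroDivisors.ne_zero y.2
    exact IsUnit.mk0 _ (fun h0 => hy (Subtype.ext h0))
  · obtain ⟨a, b, ha, hb, hb0, rfl⟩ := h z
    refine ⟨(⟨a, ha⟩, ⟨⟨b, hb⟩,
      mem_nonZeroDivisors_of_ne_zero (fun h0 => hb0 (congrArg Subtype.val h0))⟩), ?_⟩
    show a / b * b = a
    exact div_mul_cancel₀ a hb0

/-- If the fraction field `K` of a finitely presented `R`-algebra domain `B` is formally smooth
over `R`, then some nonzero localisation `B[1/f]` is smooth over `R`. -/
theorem exists_smooth_away_of_formallySmooth_fractionRing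
    (R B K : Type*) [CommRing R] [CommRing B] [IsDomain B] [Algebra R B]
    [Algebra.FinitePresentation R B] [Field K] [Algebra B K] [Algebra R K] [IsScalarTower R B K]
    [IsFractionRing B K] [Algebra.FormallySmooth R K] :
    ∃ f : B, f ≠ 0 ∧ Algebra.Smooth R (Localization.Away f) := by
  have hp : (⊥ : Ideal B).IsPrime := Ideal.isPrime_bot
  have hloc : IsLocalization (⊥ : Ideal B).primeCompl K := by
    rw [Ideal.primeCompl_bot]
    infer_instance
  let e : K ≃ₐ[B] Localization.AtPrime (⊥ : Ideal B) :=
    IsLocalization.algEquiv (⊥ : Ideal B).primeCompl K _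
  have : Algebra.IsSmoothAt R (⊥ : Ideal B) :=
    Algebra.FormallySmooth.of_equiv (e.restrictScalars R)
  obtain ⟨f, hf, hsm⟩ := Algebra.IsSmoothAt.exists_notMem_smooth R (⊥ : Ideal B)
  exact ⟨f, fun h => hf (by simp [h]), hsm⟩

/-- If a field `K` is formally smooth over a Noetherian ring `R` and `B ⊆ K` is a finitely generated
subalgebra with fraction field `K`, then there is a bigger finitely generated subalgebra of `K`
smooth over `R`. -/
theorem exists_smooth_subalgebra_fractionRing
    {R K : Type*} [CommRing R] [IsNoetherianRing R] [Field K] [Algebra R K]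
    [Algebra.FormallySmooth R K] (B : Subalgebra R K) (hB : B.FG)
    (hfrac : ∀ x : K, ∃ a b : K, a ∈ B ∧ b ∈ B ∧ b ≠ 0 ∧ x = a / b) :
    ∃ A : Subalgebra R K, B ≤ A ∧ Algebra.FiniteType R A ∧ Algebra.Smooth R A ∧
      IsFractionRing A K := by
  have hfr : IsFractionRing B K := isFractionRing_subalgebra_of_forall_div B hfrac
  have hft : Algebra.FiniteType R B := (Subalgebra.fg_iff_finiteType B).1 hB
  have hfp : Algebra.FinitePresentation R B := Algebra.FinitePresentation.of_finiteType.1 hft
  obtain ⟨f, hf0, hsm⟩ := exists_smooth_away_of_formallySmooth_fractionRing R B K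
  have hunit : ∀ y : Submonoid.powers f, IsUnit (B.val (y : B)) := by
    rintro ⟨_, n, rfl⟩
    refine IsUnit.mk0 _ ?_
    have : (f : K) ≠ 0 := fun h => hf0 (Subtype.ext h)
    simpa using pow_ne_zero n this
  let φ : Localization.Away f →ₐ[R] K :=
    IsLocalization.liftAlgHom (M := Submonoid.powers f) (f := B.val) hunit
  have hφinj : Function.Injective φ := by
    show Function.Injective
      (IsLocalization.liftAlgHom (M := Submonoid.powers f) (S := Localization.Away f)
        (f := B.val) hunit)
    rw [IsLocalization.coe_liftAlgHom, IsLocalization.lift_injective_iff]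
    intro x y
    have h1 : Function.Injective (algebraMap B (Localization.Away f)) :=
      IsLocalization.injective _ (powers_le_nonZeroDivisors_of_noZeroDivisors hf0)
    constructor
    · intro h
      rw [h1 h]
    · intro h
      have : x = y := Subtype.ext h
      rw [this]
  let A : Subalgebra R K := φ.range
  let e : Localization.Away f ≃ₐ[R] A := AlgEquiv.ofInjective φ hφinj
  have hBA : B ≤ A := by
    intro z hz
    refine ⟨algebraMap B _ ⟨z, hz⟩, ?_⟩
    show (IsLocalization.liftAlgHom (M := Submonoid.powers f) (S := Localization.Away f)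
        (f := B.val) hunit) (algebraMap B _ ⟨z, hz⟩) = z
    rw [IsLocalization.liftAlgHom_apply, IsLocalization.lift_eq]
    rfl
  have hftA : Algebra.FiniteType R A := by
    have := hsm.finitePresentation
    have h : Algebra.FiniteType R (Localization.Away f) := inferInstance
    exact h.equiv e
  refine ⟨A, hBA, hftA, Algebra.Smooth.of_equiv e, ?_⟩
  apply isFractionRing_subalgebra_of_forall_div
  intro x
  obtain ⟨a, b, ha, hb, hb0, rfl⟩ := hfrac x
  exact ⟨a, b, hBA ha, hBA hb, hb0, rfl⟩

/-- Subring version over `ℤ`. -/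
theorem exists_smooth_subring_fractionRing
    {K : Type*} [Field K] [Algebra.FormallySmooth ℤ K] (B : Subalgebra ℤ K) (hB : B.FG)
    (hfrac : ∀ x : K, ∃ a b : K, a ∈ B ∧ b ∈ B ∧ b ≠ 0 ∧ x = a / b) :
    ∃ A : Subring K, Algebra.FiniteType ℤ A ∧ Algebra.Smooth ℤ A ∧ IsFractionRing A K := by
  obtain ⟨A, hBA, hft, hsm, -⟩ := exists_smooth_subalgebra_fractionRing B hB hfrac
  let e : A ≃ₐ[ℤ] A.toSubring :=
    { toFun := fun x => ⟨x.1, x.2⟩
      invFun := fun x => ⟨x.1, x.2⟩
      left_inv := fun _ => rfl
      right_inv := fun _ => rfl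
      map_mul' := fun _ _ => rfl
      map_add' := fun _ _ => rfl
      commutes' := fun n => by
        apply Subtype.ext
        simp }
  refine ⟨A.toSubring, hft.equiv e, Algebra.Smooth.of_equiv e, ?_⟩
  apply isFractionRing_subring_of_forall_div
  intro x
  obtain ⟨a, b, ha, hb, hb0, rfl⟩ := hfrac x
  exact ⟨a, b, hBA ha, hBA hb, hb0, rfl⟩

/-- Quotient description of a finitely generated field in terms of the subring generated. -/
theorem exists_div_of_closure_eq_top {R K : Type*} [CommRing R] [Field K] [Algebra R K]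
    (s : Set K) (hs : Subfield.closure s = ⊤) (x : K) :
    ∃ a b : K, a ∈ Algebra.adjoin R s ∧ b ∈ Algebra.adjoin R s ∧ b ≠ 0 ∧ x = a / b := by
  have hx : x ∈ Subfield.closure s := hs ▸ Subfield.mem_top x
  obtain ⟨y, hy, z, hz, rfl⟩ := Subfield.mem_closure_iff.mp hx
  have hle : Subring.closure s ≤ (Algebra.adjoin R s).toSubring :=
    Subring.closure_le.mpr Algebra.subset_adjoin
  by_cases hz0 : z = 0
  · exact ⟨0, 1, zero_mem _, one_mem _, one_ne_zero, by simp [hz0]⟩
  · exact ⟨y, z, hle hy, hle hz, hz0, rfl⟩

end Groth.Agent.H73
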