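import Groth.Agent.H73.KAVal
import Groth.Agent.H73.SmoothFrac

/-!
# Existence of discrete valuation rings dominating Noetherian local rings (EGA II 7.1.7)

Everything happens inside a field `L`, in the language of `LocalSubring L`.
-/

set_option autoImplicit false

namespace Groth.Agent.H73.KA

open IsLocalRing Algebra

variable {L : Type*} [Field L]

/-- Domination of `R` by the localization of a bigger subring at a prime containing `m_R`. -/
lemma le_ofPrime_of_map_le (R : LocalSubring L) (S : Subring L) (hS : R.toSubring ≤ S)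
    (M : Ideal S) [M.IsPrime]
    (h : (maximalIdeal R.toSubring).map (Subring.inclusion hS) ≤ M) :
    R ≤ LocalSubring.ofPrime S M := by
  refine ⟨hS.trans (LocalSubring.le_ofPrime ..), ((local_hom_TFAE _).out 2 0).mp ?_⟩
  conv_rhs => rw [← IsLocalization.AtPrime.map_eq_maximalIdeal M]
  refine .trans ?_ (Ideal.map_mono h)
  rw [Ideal.map_map]; rfl

lemma mem_maximalIdeal_of_le {R R' : LocalSubring L} (h : R ≤ R') {r : L}
    (hr : r ∈ R.toSubring) (hm : (⟨r, hr⟩ : R.toSubring) ∈ maximalIdeal R.toSubring) :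
    (⟨r, LocalSubring.toSubring_mono h hr⟩ : R'.toSubring) ∈ maximalIdeal R'.toSubring := by
  obtain ⟨h1, h2⟩ := h
  rw [mem_maximalIdeal, mem_nonunits_iff] at hm ⊢
  intro hu
  exact hm (h2.map_nonunit ⟨r, hr⟩ hu)

lemma val_lt_one_of_le {R : LocalSubring L} {V : ValuationSubring L}
    (h : R ≤ V.toLocalSubring) {r : L} (hr : r ∈ R.toSubring)
    (hm : (⟨r, hr⟩ : R.toSubring) ∈ maximalIdeal R.toSubring) : V.valuation r < 1 := by
  have := mem_maximalIdeal_of_le h hr hm
  exact (V.valuation_lt_one_iff ⟨r, LocalSubring.toSubring_mono h hr⟩).mp this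

lemma maximalIdeal_ne_bot_of_le {R R' : LocalSubring L} (h : R ≤ R')
    (hR : maximalIdeal R.toSubring ≠ ⊥) : maximalIdeal R'.toSubring ≠ ⊥ := by
  obtain ⟨a, ham, ha⟩ := Submodule.exists_mem_ne_zero_of_ne_bot hR
  intro hbot
  have := mem_maximalIdeal_of_le h a.2 ham
  rw [hbot, Submodule.mem_bot] at this
  apply ha
  have h := congrArg (Subtype.val : R'.toSubring → L) this
  exact Subtype.ext h

lemma noeth_adjoin (R : Subring L) [IsNoetherianRing R] (T : Set L) (hT : T.Finite) :
    IsNoetherianRing (Algebra.adjoin R T).toSubring := by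
  have := Algebra.FiniteType.adjoin_of_finite (R := R) hT
  exact Algebra.FiniteType.isNoetherianRing R (Algebra.adjoin R T)

/-- One step: adjoin `t` or `t⁻¹` and localize, keeping Noetherianity and domination. -/
theorem exists_ge_mem_or_inv_mem (R : LocalSubring L) [IsNoetherianRing R.toSubring] (t : L) :
    ∃ R' : LocalSubring L, R ≤ R' ∧ IsNoetherianRing R'.toSubring ∧
      (t ∈ R'.toSubring ∨ t⁻¹ ∈ R'.toSubring) := by
  by_cases ht : t = 0
  · exact ⟨R, le_rfl, inferInstance, Or.inl (ht ▸ R.toSubring.zero_mem)⟩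
  let _ := invertibleOfNonzero ht
  let S := Algebra.adjoin R.toSubring {t}
  have hS : R.toSubring ≤ S.toSubring := fun r hr ↦ algebraMap_mem S ⟨r, hr⟩
  by_cases htop : (maximalIdeal R.toSubring).map (Subring.inclusion hS) = ⊤
  · have ⟨p, hp, hpx⟩ := exists_aeval_invOf_eq_zero_of_idealMap_adjoin_sup_span_eq_top t _
      (maximalIdeal.isMaximal R.toSubring).ne_top
      (top_unique <| htop.ge.trans le_self_add)
    have H : IsUnit p.leadingCoeff := of_not_not fun h ↦ by simpa using sub_mem h hp
    have hint : IsIntegral R.toSubring t⁻¹ :=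
      ⟨.C H.unit⁻¹.1 * p, by simp [Polynomial.Monic], by simpa using .inr hpx⟩
    let S' := Algebra.adjoin R.toSubring {t⁻¹}
    have : Algebra.IsIntegral R.toSubring S' := Algebra.IsIntegral.adjoin (by simpa using hint)
    obtain ⟨Q : Ideal S'.toSubring, hQ, e⟩ := Ideal.exists_ideal_over_maximal_of_isIntegral
      (S := S') (maximalIdeal R.toSubring) (le_maximalIdeal (by simp))
    have hS' : R.toSubring ≤ S'.toSubring := fun r hr ↦ algebraMap_mem S' ⟨r, hr⟩
    have : Q.IsPrime := hQ.isPrime
    refine ⟨.ofPrime S'.toSubring Q, le_ofPrime_of_map_le R _ hS' Q ?_, ?_, Or.inr ?_⟩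
    · exact Ideal.map_le_iff_le_comap.mpr e.ge
    · have := noeth_adjoin R.toSubring {t⁻¹} (Set.finite_singleton _)
      exact IsLocalization.isNoetherianRing Q.primeCompl _ inferInstance
    · exact LocalSubring.le_ofPrime _ _ (Algebra.self_mem_adjoin_singleton _ _)
  · obtain ⟨M, hM, hle⟩ := Ideal.exists_le_maximal _ htop
    have : M.IsPrime := hM.isPrime
    refine ⟨.ofPrime S.toSubring M, le_ofPrime_of_map_le R _ hS M hle, ?_, Or.inl ?_⟩
    · have := noeth_adjoin R.toSubring {t} (Set.finite_singleton _)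
      exact IsLocalization.isNoetherianRing M.primeCompl _ inferInstance
    · exact LocalSubring.le_ofPrime _ _ (Algebra.self_mem_adjoin_singleton _ _)

theorem exists_ge_forall_mem_or_inv_mem (R : LocalSubring L) [IsNoetherianRing R.toSubring]
    (s : Finset L) :
    ∃ R' : LocalSubring L, R ≤ R' ∧ IsNoetherianRing R'.toSubring ∧
      ∀ t ∈ s, t ∈ R'.toSubring ∨ t⁻¹ ∈ R'.toSubring := by
  classical
  induction s using Finset.induction_on with
  | empty => exact ⟨R, le_rfl, inferInstance, by simp⟩
  | insert t s _ ih =>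
    obtain ⟨R₁, h1, hN1, hs⟩ := ih
    obtain ⟨R₂, h2, hN2, ht⟩ := exists_ge_mem_or_inv_mem R₁ t
    refine ⟨R₂, h1.trans h2, hN2, fun x hx => ?_⟩
    rcases Finset.mem_insert.mp hx with rfl | hx
    · exact ht
    · exact (hs x hx).imp (fun h => LocalSubring.toSubring_mono h2 h)
        (fun h => LocalSubring.toSubring_mono h2 h)

/-- A subring containing `A` and, for each `t ∈ s`, `t` or `t⁻¹`, has fraction field `L` as soon
as `A ∪ s` generates `L` as a field. -/
theorem isFractionRing_of_closure (R' : Subring L) (A : Set L) (s : Set L) (hA : A ⊆ R')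
    (hs : ∀ t ∈ s, t ∈ R' ∨ t⁻¹ ∈ R') (hcl : Subfield.closure (A ∪ s) = ⊤) :
    IsFractionRing R' L := by
  have hle : Subfield.closure (A ∪ s) ≤ Subfield.closure (R' : Set L) := by
    rw [Subfield.closure_le]
    rintro x (hx | hx)
    · exact Subfield.subset_closure (hA hx)
    · rcases hs x hx with h | h
      · exact Subfield.subset_closure h
      · have := (Subfield.closure (R' : Set L)).inv_mem (Subfield.subset_closure h)
        simpa using this
  have htop : Subfield.closure (R' : Set L) = ⊤ := top_unique (hcl ▸ hle)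
  refine isFractionRing_subring_of_forall_div R' fun x => ?_
  have hx : x ∈ Subfield.closure (R' : Set L) := htop ▸ Subfield.mem_top x
  obtain ⟨y, hy, z, hz, rfl⟩ := Subfield.mem_closure_iff.mp hx
  rw [Subring.closure_eq] at hy hz
  by_cases hz0 : z = 0
  · exact ⟨0, 1, R'.zero_mem, R'.one_mem, one_ne_zero, by simp [hz0]⟩
  · exact ⟨y, z, hy, hz, hz0, rfl⟩

/-- Blowing up: a Noetherian local subring which is not a field is dominated by a Noetherian
local subring of dimension one. -/
theorem exists_ge_krullDimLE_one (R : LocalSubring L) [IsNoetherianRing R.toSubring]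
    (hR : maximalIdeal R.toSubring ≠ ⊥) :
    ∃ R' : LocalSubring L, R ≤ R' ∧ IsNoetherianRing R'.toSubring ∧
      Ring.KrullDimLE 1 R'.toSubring ∧ maximalIdeal R'.toSubring ≠ ⊥ := by
  classical
  obtain ⟨V, hV⟩ := R.exists_le_valuationSubring
  have hRV : R.toSubring ≤ V.toSubring := LocalSubring.toSubring_mono hV
  obtain ⟨gens, hgens⟩ :=
    (isNoetherianRing_iff_ideal_fg _).mp inferInstance (maximalIdeal R.toSubring)
  have hne : gens.Nonempty := by
    rw [Finset.nonempty_iff_ne_empty]
    rintro rfl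
    apply hR
    rw [← hgens]
    simp
  obtain ⟨x, hx, hxmax⟩ := Finset.exists_max_image gens (fun g => V.valuation (g : L)) hne
  have hxm : x ∈ maximalIdeal R.toSubring := hgens ▸ Ideal.subset_span hx
  have hx0 : (x : L) ≠ 0 := by
    intro h0
    apply hR
    rw [← hgens, Ideal.span_eq_bot]
    intro g hg
    have := hxmax g hg
    rw [h0, map_zero, le_zero_iff, map_eq_zero] at this
    exact Subtype.ext this
  have hx1 : V.valuation (x : L) < 1 := val_lt_one_of_le hV x.2 hxm
  let T : Set L := (fun g : R.toSubring => (g : L) / x) '' (gens : Set R.toSubring)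
  have hTfin : T.Finite := (Finset.finite_toSet gens).image _
  let S := Algebra.adjoin R.toSubring T
  have hS : R.toSubring ≤ S.toSubring := fun r hr ↦ algebraMap_mem S ⟨r, hr⟩
  have hSV : ∀ y ∈ S, y ∈ V := by
    intro y hy
    induction hy using Algebra.adjoin_induction with
    | mem y hy =>
      obtain ⟨g, hg, rfl⟩ := hy
      rw [← V.valuation_le_one_iff, map_div₀]
      have hvx : 0 < V.valuation (x : L) := by
        rw [zero_lt_iff]; exact (V.valuation.ne_zero_iff).mpr hx0
      exact (div_le_one₀ hvx).mpr (hxmax g hg)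
    | algebraMap r => exact hRV r.2
    | add a b _ _ ha hb => exact V.add_mem _ _ ha hb
    | mul a b _ _ ha hb => exact V.mul_mem _ _ ha hb
  have hSnoeth : IsNoetherianRing S.toSubring := noeth_adjoin R.toSubring T hTfin
  let x' : S.toSubring := ⟨x, hS x.2⟩
  have hmap : (maximalIdeal R.toSubring).map (Subring.inclusion hS) ≤ Ideal.span {x'} := by
    rw [← hgens, Ideal.map_span, Ideal.span_le]
    rintro _ ⟨g, hg, rfl⟩
    rw [SetLike.mem_coe, Ideal.mem_span_singleton']
    refine ⟨⟨(g : L) / x, Algebra.subset_adjoin ⟨g, hg, rfl⟩⟩, Subtype.ext ?_⟩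
    show (g : L) / x * x = g
    exact div_mul_cancel₀ _ hx0
  have hxu : ¬ IsUnit x' := by
    intro hu
    obtain ⟨u, hu⟩ := hu.exists_right_inv
    have h1 : (x : L) * (u : L) = 1 := congrArg Subtype.val hu
    have h2 : V.valuation (u : L) ≤ 1 := (V.valuation_le_one_iff _).mpr (hSV _ u.2)
    have h3 : V.valuation (x : L) * V.valuation (u : L) = 1 := by
      rw [← map_mul, h1, map_one]
    have h4 : V.valuation (x : L) * V.valuation (u : L) < 1 :=
      (mul_le_of_le_one_right' h2).trans_lt hx1
    exact h4.ne h3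
  have hspan : Ideal.span {x'} ≠ ⊤ := by
    rwa [Ne, Ideal.span_singleton_eq_top]
  obtain ⟨⟨q, hq⟩⟩ := Ideal.nonempty_minimalPrimes hspan
  have hqp : q.IsPrime := hq.1.1
  have : (Ideal.span {x'}).IsPrincipal := ⟨⟨x', rfl⟩⟩
  have hheight : q.height ≤ 1 := Ideal.height_le_one_of_isPrincipal_of_mem_minimalPrimes _ q hq
  have hRR' : R ≤ LocalSubring.ofPrime S.toSubring q :=
    le_ofPrime_of_map_le R _ hS q (hmap.trans hq.1.2)
  refine ⟨.ofPrime S.toSubring q, hRR', ?_, ?_, maximalIdeal_ne_bot_of_le hRR' hR⟩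
  · exact IsLocalization.isNoetherianRing q.primeCompl _ inferInstance
  · rw [Ring.krullDimLE_iff, IsLocalization.AtPrime.ringKrullDim_eq_height q]
    exact_mod_cast hheight

/-- **EGA II 7.1.7**, in the language of local subrings: a Noetherian local subring `R` of `L`,
not a field, such that `L` is finitely generated as a field over `R`, is dominated by a discrete
valuation ring of `L`. -/
theorem exists_dvr_ge (R : LocalSubring L) [IsNoetherianRing R.toSubring]
    (hR : maximalIdeal R.toSubring ≠ ⊥) (s : Finset L)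
    (hs : Subfield.closure ((R.toSubring : Set L) ∪ s) = ⊤) :
    ∃ V : ValuationSubring L, IsDiscreteValuationRing V ∧ R ≤ V.toLocalSubring := by
  obtain ⟨R₁, h1, hN1, hs1⟩ := exists_ge_forall_mem_or_inv_mem R s
  have hR₁ : maximalIdeal R₁.toSubring ≠ ⊥ := maximalIdeal_ne_bot_of_le h1 hR
  obtain ⟨R₂, h2, hN2, hdim, hR₂⟩ := exists_ge_krullDimLE_one R₁ hR₁
  have h12 : R ≤ R₂ := h1.trans h2
  have hfrac : IsFractionRing R₂.toSubring L :=
    isFractionRing_of_closure R₂.toSubring R.toSubring s
      (fun x hx => LocalSubring.toSubring_mono h12 hx)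
      (fun t ht => (hs1 t ht).imp (fun h => LocalSubring.toSubring_mono h2 h)
        (fun h => LocalSubring.toSubring_mono h2 h)) hs
  obtain ⟨V, hV⟩ := R₂.exists_le_valuationSubring
  refine ⟨V, ?_, h12.trans hV⟩
  obtain ⟨a₀, ha₀m, ha₀⟩ := Submodule.exists_mem_ne_zero_of_ne_bot hR₂
  exact isDiscreteValuationRing_of_le (R := R₂.toSubring) V
    (fun r => LocalSubring.toSubring_mono hV r.2) a₀ ha₀ (val_lt_one_of_le hV a₀.2 ha₀m)

/-- **EGA II 7.1.7** for a ring homomorphism from a Noetherian local ring to a field `L` whose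
image is not a field and over which `L` is a finitely generated field. -/
theorem exists_dvr_of_ringHom {A : Type*} [CommRing A] [IsNoetherianRing A] [IsLocalRing A]
    (φ : A →+* L) (hφ : ∃ a ∈ maximalIdeal A, φ a ≠ 0) (s : Finset L)
    (hs : Subfield.closure (Set.range φ ∪ s) = ⊤) :
    ∃ V : ValuationSubring L, IsDiscreteValuationRing V ∧ (∀ a, φ a ∈ V) ∧
      ∀ a ∈ maximalIdeal A, V.valuation (φ a) < 1 := by
  let R : LocalSubring L := LocalSubring.range φ
  have hmemR : ∀ a, φ a ∈ R.toSubring := fun a => ⟨a, rfl⟩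
  let ψ : A →+* R.toSubring := φ.codRestrict R.toSubring hmemR
  have hψsurj : Function.Surjective ψ := by
    rintro ⟨x, hx⟩
    have hx' : x ∈ φ.range := hx
    obtain ⟨a, rfl⟩ := hx'
    exact ⟨a, rfl⟩
  have hloc : IsLocalHom ψ := .of_surjective _ hψsurj
  have hN : IsNoetherianRing R.toSubring := isNoetherianRing_of_surjective A _ ψ hψsurj
  have hmem : ∀ a ∈ maximalIdeal A,
      (⟨φ a, hmemR a⟩ : R.toSubring) ∈ maximalIdeal R.toSubring := by
    intro a ha
    rw [mem_maximalIdeal, mem_nonunits_iff] at ha ⊢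
    exact fun hu => ha (hloc.map_nonunit a hu)
  obtain ⟨a₀, ha₀m, ha₀⟩ := hφ
  have hR : maximalIdeal R.toSubring ≠ ⊥ := by
    intro hbot
    have := hmem a₀ ha₀m
    rw [hbot, Submodule.mem_bot] at this
    exact ha₀ (congrArg (Subtype.val : R.toSubring → L) this)
  have hs' : Subfield.closure ((R.toSubring : Set L) ∪ s) = ⊤ := hs
  obtain ⟨V, hV, hle⟩ := exists_dvr_ge R hR s hs'
  exact ⟨V, hV, fun a => LocalSubring.toSubring_mono hle (hmemR a),
    fun a ha => val_lt_one_of_le hle (hmemR a) (hmem a ha)⟩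

lemma noeth_adjoin' {A : Type*} [CommRing A] [IsNoetherianRing A] [Algebra A L] (T : Set L)
    (hT : T.Finite) : IsNoetherianRing (Algebra.adjoin A T).toSubring := by
  have := Algebra.FiniteType.adjoin_of_finite (R := A) hT
  exact Algebra.FiniteType.isNoetherianRing A (Algebra.adjoin A T)

lemma mem_maximalIdeal_ofPrime (S : Subring L) (P : Ideal S) [P.IsPrime] (z : S) (hz : z ∈ P) :
    (⟨z, LocalSubring.le_ofPrime S P z.2⟩ : (LocalSubring.ofPrime S P).toSubring) ∈
      maximalIdeal (LocalSubring.ofPrime S P).toSubring :=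
  (IsLocalization.AtPrime.to_map_mem_maximal_iff (LocalSubring.ofPrime S P).toSubring P z).mpr hz

/-- A Noetherian subring `S` of `L` over which `L` is a finitely generated field, with a nonzero
prime `n`: there is a discrete valuation ring of `L` containing `S` whose maximal ideal
contains `n`. -/
theorem exists_dvr_of_subring (S : Subring L) [IsNoetherianRing S] (n : Ideal S) [n.IsPrime]
    (hn : n ≠ ⊥) (s : Finset L) (hs : Subfield.closure ((S : Set L) ∪ s) = ⊤) :
    ∃ V : ValuationSubring L, IsDiscreteValuationRing V ∧ S ≤ V.toSubring ∧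
      ∀ z : S, z ∈ n → V.valuation (z : L) < 1 := by
  let R₀ := LocalSubring.ofPrime S n
  have hN : IsNoetherianRing R₀.toSubring :=
    IsLocalization.isNoetherianRing n.primeCompl _ inferInstance
  obtain ⟨z₀, hz₀n, hz₀⟩ := Submodule.exists_mem_ne_zero_of_ne_bot hn
  have hR₀ : maximalIdeal R₀.toSubring ≠ ⊥ := by
    intro hbot
    have := mem_maximalIdeal_ofPrime S n z₀ hz₀n
    rw [hbot, Submodule.mem_bot] at this
    exact hz₀ (Subtype.ext (congrArg (Subtype.val : R₀.toSubring → L) this))
  have hs' : Subfield.closure ((R₀.toSubring : Set L) ∪ s) = ⊤ := by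
    rw [_root_.eq_top_iff, ← hs]
    exact Subfield.closure_mono (Set.union_subset_union_left _
      (SetLike.coe_subset_coe.mpr (LocalSubring.le_ofPrime S n)))
  obtain ⟨V, hV, hle⟩ := exists_dvr_ge R₀ hR₀ s hs'
  refine ⟨V, hV, (LocalSubring.le_ofPrime S n).trans (LocalSubring.toSubring_mono hle),
    fun z hz => ?_⟩
  exact val_lt_one_of_le hle _ (mem_maximalIdeal_ofPrime S n z hz)

theorem closure_eq_top_of_adjoin_eq_top {A K : Type*} [CommRing A] [Field K] [Algebra A K]
    [IsFractionRing A K] [Algebra K L] [Algebra A L] [IsScalarTower A K L] (s : Set L)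
    (hs : IntermediateField.adjoin K s = ⊤) (T : Set L)
    (hT : Set.range (algebraMap A L) ⊆ T) :
    Subfield.closure (T ∪ s) = ⊤ := by
  rw [_root_.eq_top_iff]
  have h1 : (IntermediateField.adjoin K s).toSubfield ≤ Subfield.closure (T ∪ s) := by
    apply IntermediateField.adjoin_le_subfield
    · rintro _ ⟨k, rfl⟩
      obtain ⟨a, b, hb, rfl⟩ := IsFractionRing.div_surjective (A := A) k
      rw [map_div₀, ← IsScalarTower.algebraMap_apply, ← IsScalarTower.algebraMap_apply]
      exact div_mem (Subfield.subset_closure (Or.inl (hT ⟨a, rfl⟩)))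
        (Subfield.subset_closure (Or.inl (hT ⟨b, rfl⟩)))
    · exact fun x hx => Subfield.subset_closure (Or.inr hx)
  intro x _
  have hx : x ∈ (IntermediateField.adjoin K s).toSubfield := by
    rw [hs, IntermediateField.top_toSubfield]; exact Subfield.mem_top x
  exact h1 hx

end Groth.Agent.H73.KA
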