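import Groth.Agent.H73.PtFunCore
import Groth.Prelude.Def_W4c1hilbchowincPtFun

/-!
# Pointwise functions on `Spec A`: translation to ring theory (helper73)
-/

set_option autoImplicit false
universe u

open CategoryTheory AlgebraicGeometry W4c1hilbchowinc

namespace Groth.Agent.H73.PtFunSpec

variable (A : Type u) [CommRing A]

/-- The evaluation map `A → κ(y)` at a point of `Spec A`. -/
noncomputable def ev (y : ↥(Spec (CommRingCat.of A))) :
    A →+* (Spec (CommRingCat.of A)).residueField y :=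
  ((Spec (CommRingCat.of A)).Γevaluation y).hom.comp (Scheme.ΓSpecIso (CommRingCat.of A)).inv.hom

variable {A}

theorem ev_eq_zero_iff (y : ↥(Spec (CommRingCat.of A))) (c : A) :
    ev A y c = 0 ↔ c ∈ PrimeSpectrum.asIdeal y := by
  change (Spec (CommRingCat.of A)).evaluation ⊤ y trivial
    ((Scheme.ΓSpecIso (CommRingCat.of A)).inv c) = 0 ↔ _
  rw [Scheme.evaluation_eq_zero_iff_notMem_basicOpen, basicOpen_eq_of_affine]
  exact (PrimeSpectrum.mem_basicOpen c y).not.trans not_not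

theorem ev_ΓSpecIso_hom (y : ↥(Spec (CommRingCat.of A))) (σ : Γ(Spec (CommRingCat.of A), ⊤)) :
    ev A y ((Scheme.ΓSpecIso (CommRingCat.of A)).hom σ) =
      (Spec (CommRingCat.of A)).Γevaluation y σ := by
  change (Spec (CommRingCat.of A)).Γevaluation y
    (((Scheme.ΓSpecIso (CommRingCat.of A)).hom ≫ (Scheme.ΓSpecIso (CommRingCat.of A)).inv) σ) = _
  rw [Iso.hom_inv_id]
  rfl

theorem ofSection_inv (a : A) (y : ↥(Spec (CommRingCat.of A))) :
    PtFun.ofSection (Spec (CommRingCat.of A)) ((Scheme.ΓSpecIso (CommRingCat.of A)).inv a) y =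
      ev A y a := rfl

/-- Every element of the residue field is a fraction of evaluations. -/
theorem exists_ev_mul_eq (y : ↥(Spec (CommRingCat.of A)))
    (z : (Spec (CommRingCat.of A)).residueField y) :
    ∃ b s : A, s ∉ PrimeSpectrum.asIdeal y ∧ z * ev A y s = ev A y b := by
  obtain ⟨w, rfl⟩ := (Spec (CommRingCat.of A)).residue_surjective y z
  have hU : IsAffineOpen (⊤ : (Spec (CommRingCat.of A)).Opens) := isAffineOpen_top _
  letI := (Spec (CommRingCat.of A)).presheaf.algebra_section_stalk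
    (⟨y, trivial⟩ : ↥(⊤ : (Spec (CommRingCat.of A)).Opens))
  haveI hloc := hU.isLocalization_stalk ⟨y, trivial⟩
  obtain ⟨⟨b', s'⟩, hbs⟩ := IsLocalization.surj (hU.primeIdealOf ⟨y, trivial⟩).asIdeal.primeCompl w
  have hunit : IsUnit (algebraMap Γ(Spec (CommRingCat.of A), ⊤)
      ((Spec (CommRingCat.of A)).presheaf.stalk y) s') :=
    IsLocalization.map_units _ s'
  refine ⟨(Scheme.ΓSpecIso (CommRingCat.of A)).hom b',
    (Scheme.ΓSpecIso (CommRingCat.of A)).hom (s' : Γ(Spec (CommRingCat.of A), ⊤)), ?_, ?_⟩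
  · rw [← ev_eq_zero_iff, ev_ΓSpecIso_hom]
    have h1 : IsUnit ((Spec (CommRingCat.of A)).residue y
        (algebraMap Γ(Spec (CommRingCat.of A), ⊤)
          ((Spec (CommRingCat.of A)).presheaf.stalk y) s')) := hunit.map _
    exact h1.ne_zero
  · rw [ev_ΓSpecIso_hom, ev_ΓSpecIso_hom]
    have := congrArg ((Spec (CommRingCat.of A)).residue y) hbs
    rw [map_mul] at this
    exact this

/-- Naturality of the evaluation maps. -/
theorem residueFieldMap_ev {R : Type u} [CommRing R] (ψ : A →+* R)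
    (x : ↥(Spec (CommRingCat.of R))) (c : A) :
    (Spec.map (CommRingCat.ofHom ψ)).residueFieldMap x
      (ev A ((Spec.map (CommRingCat.ofHom ψ)) x) c) = ev R x (ψ c) := by
  change (Spec.map (CommRingCat.ofHom ψ)).residueFieldMap x
    ((Spec (CommRingCat.of A)).Γevaluation ((Spec.map (CommRingCat.ofHom ψ)) x)
      ((Scheme.ΓSpecIso (CommRingCat.of A)).inv c)) = _
  rw [Scheme.Γevaluation_naturality_apply]
  change (Spec (CommRingCat.of R)).Γevaluation x
    (((Scheme.ΓSpecIso (CommRingCat.of A)).inv ≫ (Spec.map (CommRingCat.ofHom ψ)).appTop) c) = _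
  rw [← Scheme.ΓSpecIso_inv_naturality]
  rfl

/-- The relation "`b/s` represents the value of `f` at `y`". -/
def Rel (f : PtFun (Spec (CommRingCat.of A))) (y : PrimeSpectrum A) (b s : A) : Prop :=
  f y * ev A y s = ev A y b

theorem rel_R1 (f : PtFun (Spec (CommRingCat.of A))) (p : PrimeSpectrum A) :
    ∃ b s, s ∉ p.asIdeal ∧ Rel f p b s :=
  exists_ev_mul_eq p (f p)

theorem rel_R2 (f : PtFun (Spec (CommRingCat.of A))) (p : PrimeSpectrum A) (b s b' s' : A)
    (h : Rel f p b s) (h' : Rel f p b' s') : b * s' - b' * s ∈ p.asIdeal := by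
  rw [← ev_eq_zero_iff (A := A) p, map_sub, map_mul, map_mul, ← h, ← h']
  ring

theorem rel_R3 (f : PtFun (Spec (CommRingCat.of A))) (hf : f.VariesAlongDVR)
    (R : Type u) [CommRing R] [IsDomain R] [IsDiscreteValuationRing R] (ψ : A →+* R) :
    ∃ r : R, ∀ (x : PrimeSpectrum R) (b s : A), Rel f (PrimeSpectrum.comap ψ x) b s →
      s ∉ (PrimeSpectrum.comap ψ x).asIdeal → r * ψ s - ψ b ∈ x.asIdeal := by
  obtain ⟨σ, hσ⟩ := hf R (Spec.map (CommRingCat.ofHom ψ))
  refine ⟨(Scheme.ΓSpecIso (CommRingCat.of R)).hom σ, fun x b s hrel _ => ?_⟩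
  have h1 : (Spec (CommRingCat.of R)).Γevaluation x σ =
      (Spec.map (CommRingCat.ofHom ψ)).residueFieldMap x
        (f ((Spec.map (CommRingCat.ofHom ψ)) x)) := congrFun hσ x
  have h2 : f ((Spec.map (CommRingCat.ofHom ψ)) x) *
      ev A ((Spec.map (CommRingCat.ofHom ψ)) x) s =
      ev A ((Spec.map (CommRingCat.ofHom ψ)) x) b := hrel
  have h3 := congrArg ((Spec.map (CommRingCat.ofHom ψ)).residueFieldMap x) h2
  rw [map_mul, residueFieldMap_ev, residueFieldMap_ev, ← h1, ← ev_ΓSpecIso_hom] at h3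
  rw [← ev_eq_zero_iff (A := R) x, map_sub, map_mul, h3, sub_self]

/-- Uniqueness of a section with given values, on a reduced affine scheme. -/
theorem ofSection_injective [IsReduced A] (a₁ a₂ : Γ(Spec (CommRingCat.of A), ⊤))
    (h : PtFun.ofSection (Spec (CommRingCat.of A)) a₁ =
      PtFun.ofSection (Spec (CommRingCat.of A)) a₂) : a₁ = a₂ := by
  have h1 : ∀ y : ↥(Spec (CommRingCat.of A)),
      ev A y ((Scheme.ΓSpecIso (CommRingCat.of A)).hom (a₁ - a₂)) = 0 := by
    intro y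
    rw [ev_ΓSpecIso_hom, map_sub, sub_eq_zero]
    exact congrFun h y
  have h2 : IsNilpotent ((Scheme.ΓSpecIso (CommRingCat.of A)).hom (a₁ - a₂)) := by
    rw [nilpotent_iff_mem_prime]
    intro J hJ
    exact (ev_eq_zero_iff (A := A) ⟨J, hJ⟩ _).mp (h1 ⟨J, hJ⟩)
  have h3 : (Scheme.ΓSpecIso (CommRingCat.of A)).hom (a₁ - a₂) = 0 := h2.eq_zero
  have h4 : a₁ - a₂ = 0 := by
    have := congrArg (Scheme.ΓSpecIso (CommRingCat.of A)).inv h3
    rwa [map_zero, Iso.hom_inv_id_apply] at this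
  exact sub_eq_zero.mp h4

/-- **S13110**. -/
theorem existsUnique_section [IsReduced A] [IsNoetherianRing A] [IsIntegrallyClosed A]
    (f : PtFun (Spec (CommRingCat.of A))) (hf : f.VariesAlongDVR) :
    ∃! a : Γ(Spec (CommRingCat.of A), ⊤), PtFun.ofSection (Spec (CommRingCat.of A)) a = f := by
  obtain ⟨a, ha⟩ := Groth.Agent.H73.PtFunCore.exists_section_of_rel (Rel f) (rel_R1 f)
    (fun p b s b' s' h h' _ _ => rel_R2 f p b s b' s' h h') (rel_R3 f hf)
  refine ⟨(Scheme.ΓSpecIso (CommRingCat.of A)).inv a, ?_, ?_⟩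
  · funext y
    rw [ofSection_inv]
    obtain ⟨b, s, hs, hrel⟩ := exists_ev_mul_eq y (f y)
    have h1 := ha y b s hrel hs
    rw [← ev_eq_zero_iff (A := A) y, map_sub, map_mul, sub_eq_zero] at h1
    have hs0 : ev A y s ≠ 0 := fun h => hs ((ev_eq_zero_iff y s).mp h)
    exact mul_right_cancel₀ hs0 (h1.trans hrel.symm)
  · intro a' ha'
    apply ofSection_injective
    rw [ha']
    funext y
    rw [ofSection_inv]
    obtain ⟨b, s, hs, hrel⟩ := exists_ev_mul_eq y (f y)
    have h1 := ha y b s hrel hs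
    rw [← ev_eq_zero_iff (A := A) y, map_sub, map_mul, sub_eq_zero] at h1
    have hs0 : ev A y s ≠ 0 := fun h => hs ((ev_eq_zero_iff y s).mp h)
    exact (mul_right_cancel₀ hs0 (h1.trans hrel.symm)).symm

end Groth.Agent.H73.PtFunSpec
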