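import Groth.Agent.H73.DVRInter

/-!
# Algebraic core for pointwise functions varying algebraically along DVRs (helper73)
-/

set_option autoImplicit false
universe u

namespace Groth.Agent.H73.PtFunCore

open IsLocalRing Algebra Groth.Agent.H73.KA

/-- In a reduced ring an element outside all minimal primes is a non-zero-divisor. -/
theorem mem_nonZeroDivisors_of_forall_notMem_minimalPrimes {A : Type*} [CommRing A] [IsReduced A]
    (s : A) (hs : ∀ q ∈ minimalPrimes A, s ∉ q) : s ∈ nonZeroDivisors A := by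
  rw [mem_nonZeroDivisors_iff_right]
  intro z hz
  have hz' : z ∈ sInf (minimalPrimes A) := by
    rw [Ideal.mem_sInf]
    intro q hq
    have : z * s ∈ q := by rw [hz]; exact q.zero_mem
    exact (hq.1.1.mem_or_mem this).resolve_right (hs q hq)
  have hrad : sInf (minimalPrimes A) = (⊥ : Ideal A) := by
    change sInf ((⊥ : Ideal A).minimalPrimes) = ⊥
    rw [Ideal.sInf_minimalPrimes]
    exact nilradical_eq_zero A
  rwa [hrad, Ideal.mem_bot] at hz'

/-- An element of a field `K` which is not integral over a Noetherian ring `A` with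
`Frac (im A) = K` is missed by some discrete valuation ring of `K` containing the image of `A`. -/
theorem exists_dvr_notMem_of_not_isIntegral {A K : Type*} [CommRing A] [IsNoetherianRing A]
    [Field K] [Algebra A K] (hK : Subfield.closure (Set.range (algebraMap A K)) = ⊤)
    (z : K) (hz : ¬ IsIntegral A z) :
    ∃ V : ValuationSubring K, IsDiscreteValuationRing V ∧ (∀ a, algebraMap A K a ∈ V) ∧ z ∉ V := by
  have hz0 : z ≠ 0 := by
    rintro rfl
    exact hz isIntegral_zero
  let S := Algebra.adjoin A {z⁻¹}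
  let y' : S := ⟨z⁻¹, Algebra.subset_adjoin rfl⟩
  have hJ : Ideal.span {y'} ≠ ⊤ := by
    intro htop
    rw [Ideal.span_singleton_eq_top] at htop
    obtain ⟨w, hw⟩ := htop.exists_right_inv
    have hwz : (w : K) = z := by
      have h1 : z⁻¹ * (w : K) = 1 := congrArg Subtype.val hw
      field_simp at h1
      exact h1
    apply hz
    have hzS : z ∈ S := hwz ▸ w.2
    have hint : IsIntegral S z := isIntegral_algebraMap (x := (⟨z, hzS⟩ : S))
    exact isIntegral_of_isIntegral_adjoin_of_mul_eq_one z z⁻¹ (inv_mul_cancel₀ hz0) hint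
  obtain ⟨n, hn, hle⟩ := Ideal.exists_le_maximal _ hJ
  have hyn : y' ∈ n := hle (Ideal.mem_span_singleton_self y')
  have hN : IsNoetherianRing S.toSubring := noeth_adjoin' {z⁻¹} (Set.finite_singleton _)
  let n' : Ideal S.toSubring := n
  have hn' : n'.IsPrime := hn.isPrime
  have hn0 : n' ≠ ⊥ := by
    intro hbot
    have h1 : y' ∈ n' := hyn
    rw [hbot, Submodule.mem_bot] at h1
    exact inv_ne_zero hz0 (congrArg Subtype.val h1)
  have hcl : Subfield.closure ((S.toSubring : Set K) ∪ ((∅ : Finset K) : Set K)) = ⊤ := by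
    rw [_root_.eq_top_iff, ← hK]
    refine Subfield.closure_mono ?_
    rintro _ ⟨a, rfl⟩
    exact Or.inl (S.algebraMap_mem a)
  obtain ⟨V, hV, hSV, hlt⟩ := exists_dvr_of_subring S.toSubring n' hn0 ∅ hcl
  refine ⟨V, hV, fun a => hSV (S.algebraMap_mem a), ?_⟩
  intro hzV
  have h1 : V.valuation z ≤ 1 := (V.valuation_le_one_iff z).mpr hzV
  have h2 : V.valuation z⁻¹ < 1 := hlt y' hyn
  have h3 : V.valuation z * V.valuation z⁻¹ = 1 := by
    rw [← map_mul, mul_inv_cancel₀ hz0, map_one]
  have h4 : V.valuation z * V.valuation z⁻¹ < 1 :=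
    (mul_le_of_le_one_left' h1).trans_lt h2
  exact h4.ne h3

/-- A discrete valuation ring of `K` through which `A → K` factors, centred exactly at the prime
`p` of `A`. -/
theorem exists_dvr_centred {A K : Type*} [CommRing A] [IsNoetherianRing A] [Field K]
    (ι : A →+* K) (hK : Subfield.closure (Set.range ι) = ⊤) (p : Ideal A) [hp : p.IsPrime]
    (hker : RingHom.ker ι ≤ p) (hne : ∃ a ∈ p, ι a ≠ 0) :
    ∃ V : ValuationSubring K, IsDiscreteValuationRing V ∧ (∀ a, ι a ∈ V) ∧
      ∀ a, (V.valuation (ι a) < 1 ↔ a ∈ p) := by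
  have hunits : ∀ y : p.primeCompl, IsUnit (ι y) := by
    rintro ⟨y, hy⟩
    refine IsUnit.mk0 _ ?_
    intro h0
    exact hy (hker h0)
  let φ : Localization.AtPrime p →+* K := IsLocalization.lift hunits
  have hφ : ∀ a, φ (algebraMap A _ a) = ι a := fun a => IsLocalization.lift_eq hunits a
  have hφne : ∃ a ∈ maximalIdeal (Localization.AtPrime p), φ a ≠ 0 := by
    obtain ⟨a, hap, ha⟩ := hne
    refine ⟨algebraMap A _ a, ?_, by rwa [hφ]⟩
    exact (IsLocalization.AtPrime.to_map_mem_maximal_iff _ p a).mpr hap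
  have hcl : Subfield.closure (Set.range φ ∪ ((∅ : Finset K) : Set K)) = ⊤ := by
    rw [_root_.eq_top_iff, ← hK]
    refine Subfield.closure_mono ?_
    rintro _ ⟨a, rfl⟩
    exact Or.inl ⟨algebraMap A _ a, hφ a⟩
  obtain ⟨V, hV, hmem, hlt⟩ := exists_dvr_of_ringHom φ hφne ∅ hcl
  refine ⟨V, hV, fun a => hφ a ▸ hmem _, fun a => ⟨fun h => ?_, fun h => ?_⟩⟩
  · by_contra hap
    have hu : IsUnit (algebraMap A (Localization.AtPrime p) a) :=
      IsLocalization.map_units _ (⟨a, hap⟩ : p.primeCompl)
    obtain ⟨w, hw⟩ := hu.exists_right_inv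
    have h1 : ι a * φ w = 1 := by rw [← hφ, ← map_mul, hw, map_one]
    have h2 : V.valuation (φ w) ≤ 1 := (V.valuation_le_one_iff _).mpr (hmem w)
    have h3 : V.valuation (ι a) * V.valuation (φ w) = 1 := by rw [← map_mul, h1, map_one]
    have h4 : V.valuation (ι a) * V.valuation (φ w) < 1 :=
      (mul_le_of_le_one_right' h2).trans_lt h
    exact h4.ne h3
  · rw [← hφ]
    exact hlt _ ((IsLocalization.AtPrime.to_map_mem_maximal_iff _ p a).mpr h)

section Core

variable {A : Type u} [CommRing A]

/-- The map from `A` to the fraction field of `A ⧸ q`. -/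
noncomputable def toFrac (q : Ideal A) [q.IsPrime] : A →+* FractionRing (A ⧸ q) :=
  (algebraMap (A ⧸ q) (FractionRing (A ⧸ q))).comp (Ideal.Quotient.mk q)

theorem toFrac_eq_zero_iff (q : Ideal A) [q.IsPrime] (a : A) : toFrac q a = 0 ↔ a ∈ q := by
  change algebraMap (A ⧸ q) (FractionRing (A ⧸ q)) (Ideal.Quotient.mk q a) = 0 ↔ _
  rw [map_eq_zero_iff _ (IsFractionRing.injective (A ⧸ q) (FractionRing (A ⧸ q))),
    Ideal.Quotient.eq_zero_iff_mem]

theorem closure_range_toFrac (q : Ideal A) [q.IsPrime] :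
    Subfield.closure (Set.range (toFrac q)) = ⊤ := by
  rw [_root_.eq_top_iff]
  intro k _
  obtain ⟨a, b, _, rfl⟩ := IsFractionRing.div_surjective (A := A ⧸ q) k
  obtain ⟨a, rfl⟩ := Ideal.Quotient.mk_surjective a
  obtain ⟨b, rfl⟩ := Ideal.Quotient.mk_surjective b
  exact div_mem (Subfield.subset_closure ⟨a, rfl⟩) (Subfield.subset_closure ⟨b, rfl⟩)

variable (Rel : PrimeSpectrum A → A → A → Prop)

/-- The generic point computation for a DVR of `Frac (A ⧸ q)` containing the image of `A`. -/
theorem exists_generic_eq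
    (R3 : ∀ (R : Type u) [CommRing R] [IsDomain R] [IsDiscreteValuationRing R] (ψ : A →+* R),
      ∃ r : R, ∀ (x : PrimeSpectrum R) (b s : A), Rel (PrimeSpectrum.comap ψ x) b s →
        s ∉ (PrimeSpectrum.comap ψ x).asIdeal → r * ψ s - ψ b ∈ x.asIdeal)
    (q : Ideal A) [hq : q.IsPrime] (V : ValuationSubring (FractionRing (A ⧸ q)))
    (hVd : IsDiscreteValuationRing V) (hV : ∀ a, toFrac q a ∈ V) :
    ∃ r : V, (∀ b s, Rel ⟨q, hq⟩ b s → s ∉ q → (r : FractionRing (A ⧸ q)) * toFrac q s = toFrac q b) ∧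
      ∀ (x : PrimeSpectrum V) (b s : A),
        Rel (PrimeSpectrum.comap ((toFrac q).codRestrict V.toSubring hV) x) b s →
        s ∉ (PrimeSpectrum.comap ((toFrac q).codRestrict V.toSubring hV) x).asIdeal →
        r * ((toFrac q).codRestrict V.toSubring hV) s - ((toFrac q).codRestrict V.toSubring hV) b ∈
          x.asIdeal := by
  obtain ⟨r, hr⟩ := R3 V ((toFrac q).codRestrict V.toSubring hV)
  refine ⟨r, fun b s hrel hs => ?_, hr⟩
  let x₁ : PrimeSpectrum V := ⟨⊥, Ideal.isPrime_bot⟩
  have hx₁ : PrimeSpectrum.comap ((toFrac q).codRestrict V.toSubring hV) x₁ = ⟨q, hq⟩ := by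
    apply PrimeSpectrum.ext
    ext a
    change ((toFrac q).codRestrict V.toSubring hV) a ∈ (⊥ : Ideal V) ↔ a ∈ q
    rw [Ideal.mem_bot, ← toFrac_eq_zero_iff q a]
    constructor
    · intro h
      exact congrArg Subtype.val h
    · intro h
      exact Subtype.ext h
  have h1 := hr x₁ b s (hx₁ ▸ hrel) (by rw [hx₁]; exact hs)
  have h2 : r * ((toFrac q).codRestrict V.toSubring hV) s -
      ((toFrac q).codRestrict V.toSubring hV) b = 0 := h1
  have h3 := congrArg (Subtype.val : V → FractionRing (A ⧸ q)) h2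
  exact sub_eq_zero.mp h3

theorem exists_section_of_rel [IsReduced A] [IsNoetherianRing A] [IsIntegrallyClosed A]
    (R1 : ∀ p, ∃ b s, s ∉ p.asIdeal ∧ Rel p b s)
    (R2 : ∀ p b s b' s', Rel p b s → Rel p b' s' → s ∉ p.asIdeal → s' ∉ p.asIdeal →
      b * s' - b' * s ∈ p.asIdeal)
    (R3 : ∀ (R : Type u) [CommRing R] [IsDomain R] [IsDiscreteValuationRing R] (ψ : A →+* R),
      ∃ r : R, ∀ (x : PrimeSpectrum R) (b s : A), Rel (PrimeSpectrum.comap ψ x) b s →
        s ∉ (PrimeSpectrum.comap ψ x).asIdeal → r * ψ s - ψ b ∈ x.asIdeal) :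
    ∃ a : A, ∀ p b s, Rel p b s → s ∉ p.asIdeal → a * s - b ∈ p.asIdeal := by
  classical
  have hfin : (minimalPrimes A).Finite := minimalPrimes.finite_of_isNoetherianRing A
  -- choice of fractions at the minimal primes
  have hch : ∀ q : Ideal A, ∃ b s, ∀ hq : q ∈ minimalPrimes A,
      s ∉ q ∧ Rel ⟨q, hq.1.1⟩ b s := by
    intro q
    by_cases hq : q ∈ minimalPrimes A
    · obtain ⟨b, s, hs, hrel⟩ := R1 ⟨q, hq.1.1⟩
      exact ⟨b, s, fun _ => ⟨hs, hrel⟩⟩
    · exact ⟨0, 0, fun h => absurd h hq⟩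
  choose bq sq hbs using hch
  -- idempotent-like elements
  have he : ∀ q : Ideal A, ∃ e, ∀ _ : q ∈ minimalPrimes A,
      e ∉ q ∧ ∀ q' ∈ minimalPrimes A, q' ≠ q → e ∈ q' := by
    intro q
    by_cases hq : q ∈ minimalPrimes A
    · have hprime : q.IsPrime := hq.1.1
      have hnle : ¬ (∏ q' ∈ hfin.toFinset.erase q, q') ≤ q := by
        intro hle
        obtain ⟨q', hq', hq'le⟩ := (Ideal.IsPrime.prod_le hprime).mp hle
        rw [Finset.mem_erase, Set.Finite.mem_toFinset] at hq'
        exact hq'.1 (le_antisymm hq'le (hq.2 ⟨hq'.2.1.1, bot_le⟩ hq'le))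
      obtain ⟨e, he1, he2⟩ := SetLike.not_le_iff_exists.mp hnle
      refine ⟨e, fun _ => ⟨he2, fun q' hq' hne => ?_⟩⟩
      have hmem : q' ∈ hfin.toFinset.erase q := by
        rw [Finset.mem_erase, Set.Finite.mem_toFinset]
        exact ⟨hne, hq'⟩
      exact (Ideal.prod_le_inf.trans (Finset.inf_le hmem)) he1
    · exact ⟨0, fun h => absurd h hq⟩
  choose eq heq using he
  let s : A := ∑ q ∈ hfin.toFinset, eq q * sq q
  let b : A := ∑ q ∈ hfin.toFinset, eq q * bq q
  have hs_q : ∀ q ∈ minimalPrimes A, s ∉ q := by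
    intro q hq hsq
    have hprime : q.IsPrime := hq.1.1
    have hmem : q ∈ hfin.toFinset := hfin.mem_toFinset.mpr hq
    have hsplit : s = eq q * sq q + ∑ q' ∈ hfin.toFinset.erase q, eq q' * sq q' :=
      (Finset.add_sum_erase _ _ hmem).symm
    have hrest : ∑ q' ∈ hfin.toFinset.erase q, eq q' * sq q' ∈ q := by
      refine Ideal.sum_mem _ fun q' hq' => ?_
      rw [Finset.mem_erase, Set.Finite.mem_toFinset] at hq'
      exact Ideal.mul_mem_right _ _ ((heq q' hq'.2).2 q hq (Ne.symm hq'.1))
    have h1 : eq q * sq q ∈ q := by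
      have := sub_mem hsq hrest
      rwa [hsplit, add_sub_cancel_right] at this
    rcases hprime.mem_or_mem h1 with h | h
    · exact (heq q hq).1 h
    · exact (hbs q hq).1 h
  have hb_q : ∀ q ∈ minimalPrimes A, b * sq q - bq q * s ∈ q := by
    intro q hq
    have hmem : q ∈ hfin.toFinset := hfin.mem_toFinset.mpr hq
    have h1 : b * sq q - bq q * s =
        ∑ q' ∈ hfin.toFinset, eq q' * (bq q' * sq q - bq q * sq q') := by
      simp only [b, s, Finset.sum_mul, Finset.mul_sum, ← Finset.sum_sub_distrib]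
      refine Finset.sum_congr rfl fun q' _ => ?_
      ring
    rw [h1]
    refine Ideal.sum_mem _ fun q' hq' => ?_
    by_cases hqq : q' = q
    · subst hqq
      have : bq q' * sq q' - bq q' * sq q' = 0 := sub_self _
      rw [this, mul_zero]
      exact Ideal.zero_mem _
    · rw [Set.Finite.mem_toFinset] at hq'
      exact Ideal.mul_mem_right _ _ ((heq q' hq').2 q hq (Ne.symm hqq))
  have hs_nzd : s ∈ nonZeroDivisors A :=
    mem_nonZeroDivisors_of_forall_notMem_minimalPrimes s hs_q
  -- integrality at each minimal prime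
  have hint : ∀ q : Ideal A, ∃ P : Polynomial A, P.Monic ∧ ∀ hq : q ∈ minimalPrimes A,
      haveI : q.IsPrime := hq.1.1
      Polynomial.eval₂ (toFrac q) (toFrac q (bq q) / toFrac q (sq q)) P = 0 := by
    intro q
    by_cases hq : q ∈ minimalPrimes A
    · haveI hprime : q.IsPrime := hq.1.1
      letI : Algebra A (FractionRing (A ⧸ q)) := (toFrac q).toAlgebra
      by_cases hi : IsIntegral A (toFrac q (bq q) / toFrac q (sq q))
      · obtain ⟨P, hP, hPe⟩ := hi
        exact ⟨P, hP, fun _ => hPe⟩
      · exfalso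
        obtain ⟨V, hVd, hVmem, hnot⟩ := exists_dvr_notMem_of_not_isIntegral
          (closure_range_toFrac q) _ hi
        obtain ⟨r, hr, -⟩ := exists_generic_eq Rel R3 q V hVd hVmem
        have h1 := hr (bq q) (sq q) (hbs q hq).2 (hbs q hq).1
        have hs0 : toFrac q (sq q) ≠ 0 := fun h => (hbs q hq).1 ((toFrac_eq_zero_iff q _).mp h)
        apply hnot
        have : toFrac q (bq q) / toFrac q (sq q) = (r : FractionRing (A ⧸ q)) := by
          rw [div_eq_iff hs0]
          exact h1.symm
        rw [this]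
        exact r.2
    · exact ⟨1, Polynomial.monic_one, fun h => absurd h hq⟩
  choose Pq hPq_monic hPq using hint
  let P : Polynomial A := ∏ q ∈ hfin.toFinset, Pq q
  have hP_monic : P.Monic := Polynomial.monic_prod_of_monic _ _ fun q _ => hPq_monic q
  let t : FractionRing A := IsLocalization.mk' (FractionRing A) b ⟨s, hs_nzd⟩
  have ht : IsIntegral A t := by
    refine ⟨P, hP_monic, ?_⟩
    -- write the value as a fraction and test it at the minimal primes
    obtain ⟨c, dd, hcd⟩ := IsLocalization.exists_mk'_eq (nonZeroDivisors A)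
      (Polynomial.eval₂ (algebraMap A (FractionRing A)) t P)
    obtain ⟨d, hd⟩ := dd
    have hc : c = 0 := by
      have hc' : c ∈ sInf (minimalPrimes A) := by
        rw [Ideal.mem_sInf]
        intro q hq
        haveI hprime : q.IsPrime := hq.1.1
        have hunits : ∀ y : nonZeroDivisors A, IsUnit (toFrac q y) := by
          rintro ⟨y, hy⟩
          refine IsUnit.mk0 _ fun h0 => ?_
          exact Set.disjoint_left.mp (Ideal.disjoint_nonZeroDivisors_of_mem_minimalPrimes hq)
            ((toFrac_eq_zero_iff q y).mp h0) hy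
        let θ : FractionRing A →+* FractionRing (A ⧸ q) := IsLocalization.lift hunits
        have hθ : ∀ a, θ (algebraMap A _ a) = toFrac q a := fun a => IsLocalization.lift_eq hunits a
        have hθcomp : θ.comp (algebraMap A (FractionRing A)) = toFrac q := RingHom.ext hθ
        have hθt : θ t = toFrac q (bq q) / toFrac q (sq q) := by
          have hs0 : toFrac q (sq q) ≠ 0 := fun h => (hbs q hq).1 ((toFrac_eq_zero_iff q _).mp h)
          have hs0' : toFrac q s ≠ 0 := fun h => hs_q q hq ((toFrac_eq_zero_iff q _).mp h)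
          have h1 : θ t * toFrac q s = toFrac q b := by
            rw [← hθ s, ← map_mul]
            change θ (IsLocalization.mk' (FractionRing A) b ⟨s, hs_nzd⟩ *
              algebraMap A (FractionRing A) ((⟨s, hs_nzd⟩ : nonZeroDivisors A) : A)) = _
            rw [IsLocalization.mk'_spec, hθ]
          have h2 : toFrac q b * toFrac q (sq q) = toFrac q (bq q) * toFrac q s := by
            rw [← map_mul, ← map_mul, ← sub_eq_zero, ← map_sub, toFrac_eq_zero_iff]
            exact hb_q q hq
          rw [eq_div_iff hs0]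
          apply mul_right_cancel₀ hs0'
          rw [mul_assoc, mul_comm (toFrac q (sq q)), ← mul_assoc, h1, h2]
        have h3 : θ (Polynomial.eval₂ (algebraMap A (FractionRing A)) t P) = 0 := by
          rw [Polynomial.hom_eval₂, hθcomp, hθt]
          change Polynomial.eval₂ (toFrac q) _ (∏ q' ∈ hfin.toFinset, Pq q') = 0
          rw [Polynomial.eval₂_finset_prod]
          exact Finset.prod_eq_zero (hfin.mem_toFinset.mpr hq) (hPq q hq)
        rw [← hcd] at h3
        have h4 : θ (IsLocalization.mk' (FractionRing A) c ⟨d, hd⟩) * toFrac q d = toFrac q c := by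
          rw [← hθ d, ← map_mul]
          change θ (IsLocalization.mk' (FractionRing A) c ⟨d, hd⟩ *
            algebraMap A (FractionRing A) ((⟨d, hd⟩ : nonZeroDivisors A) : A)) = _
          rw [IsLocalization.mk'_spec, hθ]
        rw [h3, zero_mul] at h4
        exact (toFrac_eq_zero_iff q c).mp h4.symm
      have hrad : sInf (minimalPrimes A) = (⊥ : Ideal A) := by
        change sInf ((⊥ : Ideal A).minimalPrimes) = ⊥
        rw [Ideal.sInf_minimalPrimes]
        exact nilradical_eq_zero A
      rwa [hrad, Ideal.mem_bot] at hc'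
    rw [← hcd, hc, IsLocalization.mk'_zero]
  obtain ⟨a, ha⟩ := IsIntegrallyClosed.isIntegral_iff.mp ht
  have has : a * s = b := by
    have h1 : algebraMap A (FractionRing A) a * algebraMap A (FractionRing A) s =
        algebraMap A (FractionRing A) b := by
      rw [ha]
      exact IsLocalization.mk'_spec (FractionRing A) b ⟨s, hs_nzd⟩
    rw [← map_mul] at h1
    exact IsLocalization.injective (FractionRing A) le_rfl h1
  refine ⟨a, fun p b' s' hrel hs' => ?_⟩
  obtain ⟨q, hq, hqp⟩ := Ideal.exists_minimalPrimes_le (bot_le : (⊥ : Ideal A) ≤ p.asIdeal)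
  haveI hprime : q.IsPrime := hq.1.1
  by_cases hpq : p.asIdeal = q
  · obtain rfl : p = ⟨q, hprime⟩ := PrimeSpectrum.ext hpq
    have h1 := R2 ⟨q, hprime⟩ (bq q) (sq q) b' s' (hbs q hq).2 hrel (hbs q hq).1 hs'
    have h2 : (a * s' - b') * (s * sq q) ∈ q := by
      have : (a * s' - b') * (s * sq q) = s' * (b * sq q - bq q * s) + s * (bq q * s' - b' * sq q) := by
        rw [← has]
        ring
      rw [this]
      exact Ideal.add_mem _ (Ideal.mul_mem_left _ _ (hb_q q hq)) (Ideal.mul_mem_left _ _ h1)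
    rcases hprime.mem_or_mem h2 with h | h
    · exact h
    · rcases hprime.mem_or_mem h with h | h
      · exact absurd h (hs_q q hq)
      · exact absurd h (hbs q hq).1
  · have hne : ∃ a₀ ∈ p.asIdeal, toFrac q a₀ ≠ 0 := by
      obtain ⟨a₀, ha₀p, ha₀q⟩ := SetLike.not_le_iff_exists.mp
        (fun hle : p.asIdeal ≤ q => hpq (le_antisymm hle hqp))
      exact ⟨a₀, ha₀p, fun h => ha₀q ((toFrac_eq_zero_iff q a₀).mp h)⟩
    have hker : RingHom.ker (toFrac q) ≤ p.asIdeal := by
      intro z hz
      exact hqp ((toFrac_eq_zero_iff q z).mp hz)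
    obtain ⟨V, hVd, hVmem, hVlt⟩ := exists_dvr_centred (toFrac q) (closure_range_toFrac q)
      p.asIdeal hker hne
    obtain ⟨r, hr1, hr2⟩ := exists_generic_eq Rel R3 q V hVd hVmem
    have h1 := hr1 (bq q) (sq q) (hbs q hq).2 (hbs q hq).1
    haveI := hVd
    let x₀ : PrimeSpectrum V := ⟨maximalIdeal V, inferInstance⟩
    have hx₀ : PrimeSpectrum.comap ((toFrac q).codRestrict V.toSubring hVmem) x₀ = p := by
      apply PrimeSpectrum.ext
      ext z
      change ((toFrac q).codRestrict V.toSubring hVmem) z ∈ maximalIdeal V ↔ z ∈ p.asIdeal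
      rw [← hVlt z]
      exact V.valuation_lt_one_iff _
    have h2 := hr2 x₀ b' s' (hx₀ ▸ hrel) (by rw [hx₀]; exact hs')
    -- `ψ a = r`
    have hs0 : toFrac q (sq q) ≠ 0 := fun h => (hbs q hq).1 ((toFrac_eq_zero_iff q _).mp h)
    have hs0' : toFrac q s ≠ 0 := fun h => hs_q q hq ((toFrac_eq_zero_iff q _).mp h)
    have h3 : toFrac q b * toFrac q (sq q) = toFrac q (bq q) * toFrac q s := by
      rw [← map_mul, ← map_mul, ← sub_eq_zero, ← map_sub, toFrac_eq_zero_iff]
      exact hb_q q hq
    have h4 : toFrac q a = (r : FractionRing (A ⧸ q)) := by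
      apply mul_right_cancel₀ hs0
      apply mul_right_cancel₀ hs0'
      rw [h1, mul_comm (toFrac q a * toFrac q (sq q)), ← mul_assoc, ← map_mul, mul_comm s, has,
        h3]
    have h5 : ((toFrac q).codRestrict V.toSubring hVmem) (a * s' - b') ∈ maximalIdeal V := by
      have : ((toFrac q).codRestrict V.toSubring hVmem) (a * s' - b') =
          r * ((toFrac q).codRestrict V.toSubring hVmem) s' -
            ((toFrac q).codRestrict V.toSubring hVmem) b' := by
        rw [map_sub, map_mul]
        congr 2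
        exact Subtype.ext h4
      rw [this]
      exact h2
    have h6 : a * s' - b' ∈ (PrimeSpectrum.comap ((toFrac q).codRestrict V.toSubring hVmem)
        x₀).asIdeal := h5
    rwa [hx₀] at h6

end Core

end Groth.Agent.H73.PtFunCore
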