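import Mathlib

set_option autoImplicit false

universe u

open CategoryTheory CategoryTheory.Limits AlgebraicGeometry

namespace Groth.Agent.H73.CL_ETLOC

/-- Local structure of an étale morphism on stalks: the stalk map is flat, the maximal ideal of the source stalk
is generated by that of the target stalk, and Noetherianity passes up. -/
theorem etale_stalkMap_facts {U X : Scheme.{u}} (α : U ⟶ X) [Etale α] (u : U) :
    (α.stalkMap u).hom.Flat ∧
      (IsLocalRing.maximalIdeal (X.presheaf.stalk (α u))).map (α.stalkMap u).hom =
        IsLocalRing.maximalIdeal (U.presheaf.stalk u) ∧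
      (IsNoetherianRing (X.presheaf.stalk (α u)) → IsNoetherianRing (U.presheaf.stalk u)) := by
  have hflat : (α.stalkMap u).hom.Flat := AlgebraicGeometry.Flat.stalkMap α u
  algebraize [(α.stalkMap u).hom]
  have : IsLocalHom (algebraMap (X.presheaf.stalk (α u)) (U.presheaf.stalk u)) :=
    inferInstanceAs <| IsLocalHom (α.stalkMap u).hom
  have : Algebra.EssFiniteType (X.presheaf.stalk (α u)) (U.presheaf.stalk u) := by
    rw [← RingHom.essFiniteType_algebraMap, RingHom.algebraMap_toAlgebra]
    exact LocallyOfFiniteType.stalkMap α u
  have : Algebra.FormallyUnramified (X.presheaf.stalk (α u)) (U.presheaf.stalk u) := by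
    rw [← RingHom.formallyUnramified_algebraMap, RingHom.algebraMap_toAlgebra]
    exact AlgebraicGeometry.FormallyUnramified.stalkMap α u
  refine ⟨hflat, ?_, fun hN => ?_⟩
  · exact Algebra.FormallyUnramified.map_maximalIdeal
      (R := X.presheaf.stalk (α u)) (S := U.presheaf.stalk u)
  · exact Algebra.EssFiniteType.isNoetherianRing (X.presheaf.stalk (α u)) (U.presheaf.stalk u)

end Groth.Agent.H73.CL_ETLOC
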