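import Mathlib
import Groth.Agent.H73.CL_ETLOC

set_option autoImplicit false

universe u

open CategoryTheory CategoryTheory.Limits AlgebraicGeometry

namespace Groth.Agent.H73.CL_VF

/-- The stalk of `Spec k` (`k` a field) at any point is a field. -/
theorem isField_stalk_Spec_field {k : Type u} [Field k] (x : Spec (CommRingCat.of k)) :
    IsField ((Spec (CommRingCat.of k)).presheaf.stalk x) := by
  let p : PrimeSpectrum k := x
  have hloc : IsLocalization.AtPrime ((Spec.structureSheaf k).presheaf.stalk p) p.asIdeal :=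
    inferInstance
  have hle : p.asIdeal.primeCompl ≤ IsUnit.submonoid k := by
    intro a ha
    have ha0 : a ≠ 0 := fun h => ha (h ▸ p.asIdeal.zero_mem)
    exact ha0.isUnit
  have e : k ≃ₐ[k] ((Spec.structureSheaf k).presheaf.stalk p) :=
    IsLocalization.atUnits k p.asIdeal.primeCompl hle
  exact MulEquiv.isField (Field.toIsField k) e.symm.toMulEquiv

theorem isField_stalk_of_etale {k : Type u} [Field k] {V : Scheme.{u}}
    (β : V ⟶ Spec (CommRingCat.of k)) [Etale β] (v : V) : IsField (V.presheaf.stalk v) := by
  have h1 := (Groth.Agent.H73.CL_ETLOC.etale_stalkMap_facts β v).2.1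
  have h2 : IsLocalRing.maximalIdeal ((Spec (CommRingCat.of k)).presheaf.stalk (β v)) = ⊥ :=
    (IsLocalRing.isField_iff_maximalIdeal_eq).mp (isField_stalk_Spec_field (β v))
  rw [h2, Ideal.map_bot] at h1
  exact (IsLocalRing.isField_iff_maximalIdeal_eq).mpr h1.symm

end Groth.Agent.H73.CL_VF
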