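import Mathlib

set_option autoImplicit false

universe u

open CategoryTheory CategoryTheory.Limits AlgebraicGeometry

namespace Groth.Agent.H73.NS_CL

/-- In a Jacobson space every point of a finite closed subset is a closed point. -/
theorem isClosed_singleton_of_finite_isClosed {T : Type u} [TopologicalSpace T] [JacobsonSpace T]
    (Z : Set T) (hZ : IsClosed Z) (hfin : Z.Finite) (x : T) (hx : x ∈ Z) :
    IsClosed ({x} : Set T) := by
  set C : Set T := closure {x} with hC
  have hCZ : C ⊆ Z := (IsClosed.closure_subset_iff hZ).2 (Set.singleton_subset_iff.2 hx)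
  have hCfin : C.Finite := hfin.subset hCZ
  have hCcl : IsClosed C := isClosed_closure
  have hD : (C ∩ closedPoints T).Finite := hCfin.subset Set.inter_subset_left
  have hDcl : IsClosed (C ∩ closedPoints T) := by
    have : C ∩ closedPoints T = ⋃ y ∈ C ∩ closedPoints T, ({y} : Set T) := by
      ext z; simp
    rw [this]
    exact hD.isClosed_biUnion (fun y hy => hy.2)
  have h1 : closure (C ∩ closedPoints T) = C := closure_inter_closedPoints hCcl
  rw [hDcl.closure_eq] at h1
  have hxC : x ∈ C := subset_closure rfl
  rw [← h1] at hxC
  exact hxC.2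

end Groth.Agent.H73.NS_CL
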