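import Mathlib
import Groth.Prelude

set_option autoImplicit false

universe u

open CategoryTheory CategoryTheory.Limits AlgebraicGeometry

namespace Groth.Agent.H73.NS_F2

/-- Over a base change `X' = X ×_k Ω` of a scheme locally of finite type over a field `k`, the fibre of
`X' ⟶ X` over a closed point is finite. -/
theorem finite_preimage_of_isClosed {k Ω : Type u} [Field k] [Field Ω] {X X' : Scheme.{u}}
    (p : X ⟶ Spec (CommRingCat.of k)) [LocallyOfFiniteType p]
    (t' : Spec (CommRingCat.of Ω) ⟶ Spec (CommRingCat.of k))
    (q : X' ⟶ Spec (CommRingCat.of Ω)) (ι : X' ⟶ X) (sq : IsPullback ι q p t') (x : X)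
    (hx : IsClosed ({x} : Set X)) : (ι.base ⁻¹' {x}).Finite := by
  let j := X.fromSpecResidueField x
  have hj : IsClosedImmersion j := isClosed_singleton_iff_isClosedImmersion.mp hx
  have hJac : JacobsonSpace (Spec (CommRingCat.of k)) := inferInstance
  have hfin : IsFinite (j ≫ p) :=
    (isFinite_iff_locallyOfFiniteType_of_jacobsonSpace (f := j ≫ p)).mpr inferInstance
  have sq1 : IsPullback (pullback.snd ι j) (pullback.fst ι j) j ι :=
    (IsPullback.of_hasPullback ι j).flip
  have sq2 : IsPullback (pullback.snd ι j) (pullback.fst ι j ≫ q) (j ≫ p) t' :=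
    sq1.paste_vert sq
  have hfin' : IsFinite (pullback.fst ι j ≫ q) :=
    MorphismProperty.of_isPullback (P := @IsFinite) sq2 hfin
  have hΩ : Finite (Spec (CommRingCat.of Ω)) := by
    change Finite (PrimeSpectrum Ω)
    infer_instance
  have hP : (Set.univ : Set ↥(pullback ι j)).Finite := by
    have := (pullback.fst ι j ≫ q).finite_preimage (s := Set.univ) Set.finite_univ
    simpa using this
  have hPfin : Finite ↥(pullback ι j) := Set.finite_univ_iff.mp hP
  have hrange : Set.range (pullback.fst ι j) = ι ⁻¹' {x} := by
    rw [Scheme.Pullback.range_fst, Scheme.range_fromSpecResidueField]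
  have : (ι ⁻¹' {x} : Set X').Finite := by
    rw [← hrange]
    exact Set.finite_range _
  exact this

end Groth.Agent.H73.NS_F2
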