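import Groth.Agent.H73.KALength

/-!
# Krull–Akizuki for subalgebras of the fraction field

Let `R` be a Noetherian domain of dimension `≤ 1` with fraction field `L` and `B` an `R`-subalgebra
of `L`.  Then `B ⧸ (a)` has finite length over `R` for `0 ≠ a ∈ R`, and `B` is Noetherian.
For the integral closure we get a Dedekind domain with finite fibres and finite residue field
extensions over `R`.
-/

set_option autoImplicit false

namespace Groth.Agent.H73.KA

open Module

variable {R L : Type*} [CommRing R] [IsDomain R] [Field L] [Algebra R L] [IsFractionRing R L]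

/-- The chain bound for arbitrary chains of submodules between `a • B` and `B`. -/
theorem chain_bound' [IsNoetherianRing R]
    (hfin : ∀ J : Ideal R, J ≠ ⊥ → Module.length R (R ⧸ J) ≠ ⊤)
    (B : Submodule R L) (a : R) (ha : a ≠ 0) (n : ℕ) (N : Fin (n + 1) → Submodule R L)
    (hN : StrictAnti N) (hN0 : N 0 ≤ B) (haB : ∀ b ∈ B, a • b ∈ N (Fin.last n)) :
    (n : ℕ∞) ≤ Module.length R (R ⧸ Ideal.span {a}) := by
  have hwit : ∀ i : Fin n, ∃ x, x ∈ N i.castSucc ∧ x ∉ N i.succ := fun i =>
    SetLike.exists_of_lt (hN (Fin.castSucc_lt_succ (i := i)))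
  choose x hx1 hx2 using hwit
  let F : Submodule R L := Submodule.span R (Set.range x)
  have hFfg : F.FG := Submodule.fg_span (Set.finite_range x)
  have hFB : F ≤ B := by
    rw [Submodule.span_le]
    rintro _ ⟨i, rfl⟩
    exact hN0 (hN.antitone (Fin.zero_le _) (hx1 i))
  let aF : Submodule R L := Submodule.map (LinearMap.lsmul R L a) F
  have haF : ∀ j, aF ≤ N j := by
    intro j y hy
    obtain ⟨z, hz, rfl⟩ := Submodule.mem_map.mp hy
    exact hN.antitone (Fin.le_last j) (haB z (hFB hz))
  have haFF : aF ≤ F := by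
    intro y hy
    obtain ⟨z, hz, rfl⟩ := Submodule.mem_map.mp hy
    exact F.smul_mem a hz
  let M : Fin (n + 1) → Submodule R L := fun j => (N j ⊓ F) ⊔ aF
  have hMN : ∀ j, M j ≤ N j := fun j => sup_le inf_le_left (haF j)
  have hMF : ∀ j, M j ≤ F := fun j => sup_le inf_le_right haFF
  have hM : StrictAnti M := by
    rw [Fin.strictAnti_iff_succ_lt]
    intro i
    refine lt_of_le_of_ne (sup_le_sup_right (inf_le_inf_right _
      (hN.antitone (Fin.castSucc_lt_succ (i := i)).le)) _) ?_
    intro heq
    have h1 : x i ∈ M i.castSucc :=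
      Submodule.mem_sup_left ⟨hx1 i, Submodule.subset_span (Set.mem_range_self i)⟩
    rw [← heq] at h1
    exact hx2 i (hMN _ h1)
  have hnoeth : IsNoetherian R F := isNoetherian_of_fg_of_noetherian F hFfg
  have hM0fg : (M 0).FG := isNoetherian_submodule.mp hnoeth (M 0) (hMF 0)
  refine chain_bound hfin a ha n M hM hM0fg ?_
  intro y hy
  exact Submodule.mem_sup_right (Submodule.mem_map.mpr ⟨y, hMF 0 hy, rfl⟩)

variable (B : Subalgebra R L)

/-- `B ⧸ (a)` has finite length as an `R`-module. -/
theorem length_quotient_span_ne_top [IsNoetherianRing R] [Ring.KrullDimLE 1 R]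
    (a : R) (ha : a ≠ 0) :
    Module.length R (B ⧸ Ideal.span {algebraMap R B a}) ≠ ⊤ := by
  have hfin : ∀ J : Ideal R, J ≠ ⊥ → Module.length R (R ⧸ J) ≠ ⊤ :=
    fun J hJ => length_quotient_ne_top J hJ
  have hbound : Module.length R (R ⧸ Ideal.span {a}) ≠ ⊤ :=
    hfin _ (by rw [Ne, Ideal.span_singleton_eq_bot]; exact ha)
  set I : Ideal B := Ideal.span {algebraMap R B a} with hI
  let mk : B →ₗ[R] (B ⧸ I) := (Ideal.Quotient.mkₐ R I).toLinearMap
  have hmk : Function.Surjective mk := Ideal.Quotient.mk_surjective
  let Φ : Submodule R (B ⧸ I) → Submodule R L := fun S =>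
    (S.comap mk).map B.val.toLinearMap
  have hΦ : StrictMono Φ := by
    intro S T hST
    have h1 : S.comap mk < T.comap mk :=
      (Submodule.comap_strictMono_of_surjective hmk) hST
    exact (Submodule.map_strictMono_of_injective Subtype.val_injective) h1
  suffices h : Module.length R (B ⧸ I) ≤ Module.length R (R ⧸ Ideal.span {a}) from
    ne_top_of_le_ne_top hbound h
  rw [← WithBot.coe_le_coe, Module.coe_length, Order.krullDim, iSup_le_iff]
  intro p
  refine WithBot.coe_le_coe.mpr ?_
  let N : Fin (p.length + 1) → Submodule R L := fun i => Φ (p i.rev)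
  have hN : StrictAnti N := fun i j hij => hΦ (p.strictMono (Fin.rev_lt_rev.mpr hij))
  refine chain_bound' hfin (Subalgebra.toSubmodule B) a ha p.length N hN ?_ ?_
  · intro y hy
    obtain ⟨z, -, rfl⟩ := Submodule.mem_map.mp hy
    exact z.2
  · intro b hb
    refine Submodule.mem_map.mpr ⟨a • (⟨b, hb⟩ : B), ?_, rfl⟩
    rw [Submodule.mem_comap]
    have : mk (a • (⟨b, hb⟩ : B)) = 0 := by
      change Ideal.Quotient.mk I (a • (⟨b, hb⟩ : B)) = 0
      rw [Ideal.Quotient.eq_zero_iff_mem, Algebra.smul_def]
      exact Ideal.mul_mem_right _ _ (Ideal.subset_span rfl)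
    rw [this]
    exact Submodule.zero_mem _

section Consequences

variable [IsNoetherianRing R] [Ring.KrullDimLE 1 R]

theorem isNoetherian_quotient_span (a : R) (ha : a ≠ 0) :
    IsNoetherian R (B ⧸ Ideal.span {algebraMap R B a}) :=
  (isFiniteLength_iff_isNoetherian_isArtinian.mp
    (Module.length_ne_top_iff.mp (length_quotient_span_ne_top B a ha))).1

theorem isArtinian_quotient_span (a : R) (ha : a ≠ 0) :
    IsArtinian R (B ⧸ Ideal.span {algebraMap R B a}) :=
  (isFiniteLength_iff_isNoetherian_isArtinian.mp
    (Module.length_ne_top_iff.mp (length_quotient_span_ne_top B a ha))).2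

/-- Every nonzero ideal of `B` contains a nonzero element of `R`. -/
theorem exists_ne_zero_mem_of_ne_bot (J : Ideal B) (hJ : J ≠ ⊥) :
    ∃ a : R, a ≠ 0 ∧ algebraMap R B a ∈ J := by
  obtain ⟨b, hbJ, hb0⟩ := Submodule.exists_mem_ne_zero_of_ne_bot hJ
  obtain ⟨⟨r, s⟩, hrs⟩ := IsLocalization.surj (nonZeroDivisors R) (b : L)
  have hs0 : (s : R) ≠ 0 := nonZeroDivisors.ne_zero s.2
  refine ⟨r, ?_, ?_⟩
  · rintro rfl
    rw [map_zero, mul_eq_zero] at hrs
    rcases hrs with h | h
    · exact hb0 (Subtype.ext h)
    · exact hs0 ((map_eq_zero_iff _ (IsFractionRing.injective R L)).mp h)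
  · have : algebraMap R B r = b * algebraMap R B s := by
      apply Subtype.ext
      exact hrs.symm
    rw [this]
    exact Ideal.mul_mem_right _ _ hbJ

/-- **Krull–Akizuki**: `B` is Noetherian. -/
theorem isNoetherianRing : IsNoetherianRing B := by
  refine ⟨fun J => ?_⟩
  by_cases hJ : J = ⊥
  · rw [hJ]; exact Submodule.fg_bot
  obtain ⟨a, ha, haJ⟩ := exists_ne_zero_mem_of_ne_bot B J hJ
  set I : Ideal B := Ideal.span {algebraMap R B a} with hI
  have hIJ : I ≤ J := by
    rw [hI, Ideal.span_le, Set.singleton_subset_iff]; exact haJ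
  have h1 : IsNoetherian R (B ⧸ I) := isNoetherian_quotient_span B a ha
  have h2 : IsNoetherian B (B ⧸ I) := isNoetherian_of_tower R h1
  refine Submodule.fg_of_fg_map_of_fg_inf_ker (Submodule.mkQ I) (h2.noetherian _) ?_
  rw [Submodule.ker_mkQ, inf_eq_right.mpr hIJ]
  exact ⟨{algebraMap R B a}, by simp [hI]⟩

/-- The primes of `B` containing a given nonzero element of `R` are finite in number. -/
theorem finite_primes_of_mem (a : R) (ha : a ≠ 0) :
    {P : PrimeSpectrum B | algebraMap R B a ∈ P.asIdeal}.Finite := by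
  set I : Ideal B := Ideal.span {algebraMap R B a} with hI
  have h1 : IsArtinian R (B ⧸ I) := isArtinian_quotient_span B a ha
  have h2 : IsArtinianRing (B ⧸ I) := isArtinian_of_tower R h1
  have h3 : Finite (PrimeSpectrum (B ⧸ I)) := inferInstance
  have h4 : {P : PrimeSpectrum B | algebraMap R B a ∈ P.asIdeal} =
      Set.range (PrimeSpectrum.comap (Ideal.Quotient.mk I)) := by
    rw [range_comap_of_surjective _ _ Ideal.Quotient.mk_surjective, Ideal.mk_ker]
    ext P
    simp only [Set.mem_ofPred_eq, PrimeSpectrum.mem_zeroLocus, hI]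
    rw [SetLike.coe_subset_coe, Ideal.span_le, Set.singleton_subset_iff]
    rfl
  rw [h4]
  exact Set.finite_range _

/-- Quotients of `B` by primes containing a nonzero element of `R` are finite over `R`. -/
theorem finite_quotient_of_mem (a : R) (ha : a ≠ 0) (P : Ideal B) (haP : algebraMap R B a ∈ P) :
    Module.Finite R (B ⧸ P) := by
  set I : Ideal B := Ideal.span {algebraMap R B a} with hI
  have hIP : I ≤ P := by
    rw [hI, Ideal.span_le, Set.singleton_subset_iff]; exact haP
  have h1 : IsNoetherian R (B ⧸ I) := isNoetherian_quotient_span B a ha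
  have h2 : Module.Finite R (B ⧸ I) := inferInstance
  exact Module.Finite.of_surjective (Ideal.Quotient.factorₐ R hIP).toLinearMap
    (Ideal.Quotient.factor_surjective hIP)

end Consequences

section IntegralClosure

variable [IsNoetherianRing R] [Ring.KrullDimLE 1 R]

/-- The integral closure of a one-dimensional Noetherian domain in its fraction field is a
Dedekind domain. -/
theorem isDedekindDomain_integralClosure : IsDedekindDomain (integralClosure R L) := by
  have h1 : IsNoetherianRing (integralClosure R L) := isNoetherianRing _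
  have h2 : Ring.DimensionLEOne R := ⟨fun hne hp => hp.isMaximal_of_ne_bot hne⟩
  have h3 : Ring.DimensionLEOne (integralClosure R L) := inferInstance
  have h4 : IsIntegrallyClosed (integralClosure R L) :=
    IsIntegrallyClosed.of_isIntegrallyClosedIn (integralClosure R L) L
  exact { toIsDomain := inferInstance, toIsNoetherian := h1, toDimensionLEOne := h3,
          toIsIntegralClosure := (isIntegrallyClosed_iff_isIntegralClosure _).mp h4 }

/-- Finiteness of the fibres of `Spec (integralClosure R L) → Spec R`. -/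
theorem finite_fibre_integralClosure (p : Ideal R) [p.IsPrime] :
    {P : PrimeSpectrum (integralClosure R L) |
      P.asIdeal.comap (algebraMap R (integralClosure R L)) = p}.Finite := by
  by_cases hp : p = ⊥
  · refine Set.Finite.subset (Set.finite_singleton (⊥ : PrimeSpectrum (integralClosure R L))) ?_
    intro P hP
    rw [Set.mem_singleton_iff]
    apply PrimeSpectrum.ext
    change P.asIdeal = ⊥
    rw [Set.mem_ofPred_eq, hp] at hP
    exact Ideal.eq_bot_of_comap_eq_bot hP
  · obtain ⟨a, hap, ha0⟩ := Submodule.exists_mem_ne_zero_of_ne_bot hp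
    refine Set.Finite.subset (finite_primes_of_mem (integralClosure R L) a ha0) ?_
    intro P hP
    rw [Set.mem_ofPred_eq] at hP ⊢
    have : a ∈ P.asIdeal.comap (algebraMap R (integralClosure R L)) := by rw [hP]; exact hap
    exact this

end IntegralClosure

end Groth.Agent.H73.KA
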