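import Mathlib
import Groth.Prelude.Def_DefoConn
import Groth.Prelude.Def_DefoSh2
import Groth.Agent.H18.TensorGen
import Groth.Agent.H18.SecTw

set_option autoImplicit false

universe u

open CategoryTheory CategoryTheory.Limits AlgebraicGeometry TopologicalSpace Opposite TensorProduct

namespace Groth.Agent.H73.DefoConnQ1

set_option backward.isDefEq.respectTransparency false in
/-- Two morphisms out of a tensor product of `O_X`-modules that agree on all pure tensors `m ⊗ n` (over all opens)
are equal. -/
theorem tensorMod_hom_ext {X : Scheme.{u}} {M N P : X.Modules} (f g : CohB1.tensorMod M N ⟶ P)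
    (h : ∀ (U : X.Opens) (m : Γ(M, U)) (n : Γ(N, U)),
      f.app U (SecTwist.tmul M N U m n) = g.app U (SecTwist.tmul M N U m n)) : f = g := by
  let adj := PresheafOfModules.sheafificationAdjunction.{u, u, u, u}
    (J := Opens.grothendieckTopology X) (𝟙 X.ringCatSheaf.obj)
  apply (adj.homEquiv (CohB1.tensorPre M N : X.PresheafOfModules) P).injective
  rw [Adjunction.homEquiv_unit, Adjunction.homEquiv_unit]
  ext U z
  induction U using Opposite.rec with | _ U => ?_
  induction z using TensorProduct.induction_on with
  | zero => simp
  | tmul m n => exact h U m n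
  | add x y hx hy => rw [map_add, map_add, hx, hy]

/-- Tensoring multiplication by a global function with the identity is multiplication by that function. -/
theorem tensorMap_smulModΓ {X : Scheme.{u}} (M N : X.Modules) (r : Coh.Γtop X) :
    KoszTw.tensorMap (Formal.smulModΓ M r) (𝟙 N) = Formal.smulModΓ (CohB1.tensorMod M N) r := by
  apply tensorMod_hom_ext
  intro U m n
  rw [KoszTw.tensorMap_tmul]
  exact Groth.Agent.H18.SecTw.tmul_smul_left M N U (Coh.resTop X (op U) r) m n

end Groth.Agent.H73.DefoConnQ1
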