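import Mathlib
import Groth.Prelude.Def_DefoConn
import Groth.Prelude.Def_DefoSh2

set_option autoImplicit false

universe u

open CategoryTheory CategoryTheory.Limits AlgebraicGeometry TopologicalSpace Opposite

namespace Groth.Agent.H73.DefoConnQ2

/-- A derivation relative to `f : X ⟶ Y` kills the restriction to `U` of any function pulled back from a global
function of `Y`. -/
theorem der_pullback_global {X Y : Scheme.{u}} (f : X ⟶ Y) (Ω' : X.Modules) (δ : OmegaSh.Der f Ω')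
    (U : X.Opens) (a : Γ(Y, ⊤)) :
    δ.app U (X.presheaf.map (homOfLE (le_top : U ≤ f ⁻¹ᵁ ⊤)).op (f.app ⊤ a)) = 0 := by
  have h0 : δ.d (X := op (f ⁻¹ᵁ ⊤)) (f.app ⊤ a) = 0 := δ.d_app (X := op ⊤) a
  have h1 := δ.d_map (X := op (f ⁻¹ᵁ ⊤)) (Y := op U) (homOfLE (le_top : U ≤ f ⁻¹ᵁ ⊤)).op (f.app ⊤ a)
  rw [h0, map_zero] at h1
  exact h1

theorem der_const {k : Type u} [Field k] {X : Scheme.{u}} [X.Over (Spec (CommRingCat.of k))]
    (Ω' : X.Modules) (δ : OmegaSh.Der (X ↘ Spec (CommRingCat.of k)) Ω') (U : X.Opens) (c : k) :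
    δ.app U (Coh.resTop X (op U) (Coh.toGlobal (X ↘ Spec (CommRingCat.of k)) c)) = 0 :=
  der_pullback_global (X ↘ Spec (CommRingCat.of k)) Ω' δ U
    ((Scheme.ΓSpecIso (CommRingCat.of k)).inv.hom c)

end Groth.Agent.H73.DefoConnQ2
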