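import Mathlib
import Groth.Prelude.Def_DefoSh2

set_option autoImplicit false

universe u

open CategoryTheory CategoryTheory.Limits AlgebraicGeometry TopologicalSpace Opposite

namespace Groth.Agent.H73.DefoLocP4

set_option backward.isDefEq.respectTransparency false in
/-- The restriction to `U` of multiplication by the global function `r` on `M` is multiplication, on every open
`V` of `U`, by the section `r|_V` for the `Γ(U, V)`-module structure of `Γ(M|_U, V)`. -/
theorem restrict_smulModΓ_app {X : Scheme.{u}} (M : X.Modules) (U : X.Opens) (r : Coh.Γtop X)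
    (V : (↑U : Scheme.{u}).Opens) (m : Γ(M.restrict U.ι, V)) :
    Scheme.Modules.Hom.app ((Scheme.Modules.restrictFunctor U.ι).map (Formal.smulModΓ M r)) V m =
      ((U.ι.appIso V).hom (show Γ(X, U.ι ''ᵁ V) from Coh.resTop X (op (U.ι ''ᵁ V)) r) :
        Γ((↑U : Scheme.{u}), V)) • m := by
  set ρ : Γ(X, U.ι ''ᵁ V) := (show Γ(X, U.ι ''ᵁ V) from Coh.resTop X (op (U.ι ''ᵁ V)) r) with hρ
  have h : (U.ι.appIso V).inv ((U.ι.appIso V).hom ρ) = ρ := by
    rw [← CommRingCat.comp_apply, Iso.hom_inv_id]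
    rfl
  change (ρ • (show Γ(M, U.ι ''ᵁ V) from m) : Γ(M, U.ι ''ᵁ V)) =
    ((U.ι.appIso V).inv ((U.ι.appIso V).hom ρ) • (show Γ(M, U.ι ''ᵁ V) from m) : Γ(M, U.ι ''ᵁ V))
  rw [h]

theorem smulModΓ_restrict_comm {X : Scheme.{u}} (M N : X.Modules) (U : X.Opens)
    (τ : M.restrict U.ι ⟶ N.restrict U.ι) (r : Coh.Γtop X) :
    (Scheme.Modules.restrictFunctor U.ι).map (Formal.smulModΓ M r) ≫ τ =
      τ ≫ (Scheme.Modules.restrictFunctor U.ι).map (Formal.smulModΓ N r) := by
  ext V m
  change Scheme.Modules.Hom.app τ V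
      (Scheme.Modules.Hom.app ((Scheme.Modules.restrictFunctor U.ι).map (Formal.smulModΓ M r)) V m) =
    Scheme.Modules.Hom.app ((Scheme.Modules.restrictFunctor U.ι).map (Formal.smulModΓ N r)) V
      (Scheme.Modules.Hom.app τ V m)
  rw [restrict_smulModΓ_app, restrict_smulModΓ_app, Scheme.Modules.Hom.app_smul]

end Groth.Agent.H73.DefoLocP4
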