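import Mathlib

set_option autoImplicit false
universe u

namespace Groth.Agent.H73.PS_G7

theorem lt_add_one_of_lt (j : ℕ) (y : WithBot ℕ∞) (h : y < ((j : ℕ) : WithBot ℕ∞)) :
    y + 1 < ((j + 1 : ℕ) : WithBot ℕ∞) := by
  induction y using WithBot.recBotCoe with
  | bot => rw [WithBot.bot_add]; exact WithBot.bot_lt_coe _
  | coe y =>
    induction y using ENat.recTopCoe with
    | top =>
      exfalso
      have h' : ((⊤ : ℕ∞) : WithBot ℕ∞) < (((j : ℕ) : ℕ∞) : WithBot ℕ∞) := h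
      rw [WithBot.coe_lt_coe] at h'
      exact absurd h' (not_lt_of_ge le_top)
    | coe m =>
      have h' : m < j := by exact_mod_cast h
      have : m + 1 < j + 1 := by omega
      exact_mod_cast this

theorem connectedInDim_of_le_dim {U T : Type u} [TopologicalSpace U] [TopologicalSpace T]
    (ι : U → T) (hι : Topology.IsOpenEmbedding ι) (pt : T) (hpt : Set.range ι = {pt}ᶜ)
    (j : ℕ)
    (h : ∀ Z' : Set T, IsClosed Z' → ¬ IsConnected Z'ᶜ →
      ((j + 1 : ℕ) : WithBot ℕ∞) ≤ topologicalKrullDim ↥Z')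
    (hG1 : ∀ Z : Set U, IsClosed Z → IsClosed (ι '' Z ∪ {pt}))
    (hG3 : ∀ Z : Set U, IsClosed Z → Z.Nonempty →
      topologicalKrullDim ↥(ι '' Z ∪ {pt}) ≤ topologicalKrullDim ↥Z + 1)
    (Z : Set U) (hZ : IsClosed Z) (hdim : topologicalKrullDim ↥Z < (j : WithBot ℕ∞)) :
    IsConnected Zᶜ := by
  have hcl := hG1 Z hZ
  have hlt : topologicalKrullDim ↥(ι '' Z ∪ {pt}) < ((j + 1 : ℕ) : WithBot ℕ∞) := by
    rcases Set.eq_empty_or_nonempty Z with hZe | hZne
    · subst hZe
      rw [Set.image_empty, Set.empty_union]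
      have : topologicalKrullDim ↥({pt} : Set T) ≤ 0 :=
        topologicalKrullDim_zero_of_discreteTopology _
      refine lt_of_le_of_lt this ?_
      exact_mod_cast Nat.succ_pos j
    · exact lt_of_le_of_lt (hG3 Z hZ hZne) (lt_add_one_of_lt j _ hdim)
  have hconn : IsConnected (ι '' Z ∪ {pt})ᶜ := by
    by_contra hnc
    exact absurd (h _ hcl hnc) (not_le_of_gt hlt)
  have himg : (ι '' Z ∪ {pt})ᶜ = ι '' Zᶜ := by
    ext x
    simp only [Set.mem_compl_iff, Set.mem_union, Set.mem_singleton_iff, not_or, Set.mem_image]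
    constructor
    · rintro ⟨hx1, hx2⟩
      have hxr : x ∈ Set.range ι := by rw [hpt]; exact hx2
      obtain ⟨y, rfl⟩ := hxr
      exact ⟨y, fun hy => hx1 ⟨y, hy, rfl⟩, rfl⟩
    · rintro ⟨y, hy, rfl⟩
      refine ⟨?_, ?_⟩
      · rintro ⟨y', hy', hyy'⟩
        exact hy (hι.injective hyy' ▸ hy')
      · have : ι y ∈ Set.range ι := ⟨y, rfl⟩
        rw [hpt] at this
        exact this
  rw [himg] at hconn
  exact ⟨(Set.image_nonempty.mp hconn.nonempty), hι.isInducing.isPreconnected_image.mp hconn.isPreconnected⟩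

end Groth.Agent.H73.PS_G7
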