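import Mathlib

set_option autoImplicit false

universe u

open CategoryTheory CategoryTheory.Limits HomologicalComplex CochainComplex

namespace Groth.Agent.H73.BD_PRES

variable {A : Type u} [CommRing A]

theorem exists_presentation_ses [IsNoetherianRing A] (N : Type u) [AddCommGroup N] [Module A N]
    [Module.Finite A N] (t : ℤ) :
    ∃ (r : ℕ) (N' : Type u) (_ : AddCommGroup N') (_ : Module A N') (_ : Module.Finite A N')
      (i : ModuleCat.of A N' ⟶ ModuleCat.of A (Fin r → A))
      (p : ModuleCat.of A (Fin r → A) ⟶ ModuleCat.of A N) (w : i ≫ p = 0),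
      (ShortComplex.mk
        ((HomologicalComplex.single (ModuleCat.{u} A) (ComplexShape.up ℤ) t).map i)
        ((HomologicalComplex.single (ModuleCat.{u} A) (ComplexShape.up ℤ) t).map p)
        (by rw [← Functor.map_comp, w, Functor.map_zero])).ShortExact := by
  obtain ⟨r, f, hf⟩ := Module.Finite.exists_fin' A N
  let K : Submodule A (Fin r → A) := LinearMap.ker f
  have hKfin : Module.Finite A K := inferInstance
  let i : ModuleCat.of A K ⟶ ModuleCat.of A (Fin r → A) := ModuleCat.ofHom K.subtype
  let p : ModuleCat.of A (Fin r → A) ⟶ ModuleCat.of A N := ModuleCat.ofHom f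
  have w : i ≫ p = 0 := by
    ext x
    exact x.2
  let S : ShortComplex (ModuleCat.{u} A) := ShortComplex.mk i p w
  have hS : S.ShortExact := by
    have hex : S.Exact := by
      rw [ShortComplex.moduleCat_exact_iff]
      intro x hx
      exact ⟨⟨x, hx⟩, rfl⟩
    have : Mono S.f := (ModuleCat.mono_iff_injective _).2 (Submodule.injective_subtype K)
    have : Epi S.g := (ModuleCat.epi_iff_surjective _).2 hf
    exact ShortComplex.ShortExact.mk hex
  refine ⟨r, K, inferInstance, inferInstance, hKfin, i, p, w, ?_⟩
  exact hS.map_of_exact (HomologicalComplex.single (ModuleCat.{u} A) (ComplexShape.up ℤ) t)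

end Groth.Agent.H73.BD_PRES
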