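import Mathlib
import Groth.Prelude.Def_RefHull
import Groth.Prelude.Def_CohB1
import Groth.Agent.H17.HomSh

/-!
# Global sections of the sheaf Hom are the morphisms (squad piece (HFC) for S12261)

`homOfSection` and its lemmas are copied from `Groth/Agent/H17/HomExtend.lean` (helper17), to keep the import cone
small.
-/

set_option autoImplicit false

universe u

open CategoryTheory CategoryTheory.Limits AlgebraicGeometry TopologicalSpace Opposite

namespace Groth.Agent.H73.LocHilbHfin_HFC

open Groth.Agent.H17.HomSh

variable {X : Scheme.{u}} (F G : X.Modules)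

/-- restriction of a global section of the sheaf Hom to an open. -/
noncomputable def resTop (g : Γ(RefHull.homSh F G, ⊤)) (V : X.Opens) :
    Γ(RefHull.homSh F G, V) :=
  (RefHull.homSh F G).presheaf.map (homOfLE (le_top : V ≤ ⊤)).op g

omit F G in
theorem memTop (y : X) : y ∈ (⊤ : X.Opens) := trivial

theorem resTop_apply (g : Γ(RefHull.homSh F G, ⊤)) (V : X.Opens) (y : V) :
    (resTop F G g V).1 y = g.1 ⟨y.1, memTop y.1⟩ := rfl

/-- the action of a global section of the sheaf Hom on sections over `V`. -/
noncomputable def secFun (g : Γ(RefHull.homSh F G, ⊤)) (V : X.Opens) : Γ(F, V) →+ Γ(G, V) where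
  toFun m := fwd F G (le_refl V) (resTop F G g V) m
  map_zero' := fwd_zero F G (le_refl V) (resTop F G g V)
  map_add' := fwd_add F G (le_refl V) (resTop F G g V)

theorem germ_secFun (g : Γ(RefHull.homSh F G, ⊤)) (V : X.Opens) (m : Γ(F, V)) (y : X)
    (hy : y ∈ V) :
    G.presheaf.germ V y hy (secFun F G g V m) = g.1 ⟨y, memTop y⟩ (F.presheaf.germ V y hy m) := by
  show G.presheaf.germ V y hy (fwd F G (le_refl V) (resTop F G g V) m) = _
  rw [germ_fwd]
  rfl

/-- the morphism of modules defined by a global section of the sheaf Hom. -/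
noncomputable def homOfSection (g : Γ(RefHull.homSh F G, ⊤)) : F ⟶ G :=
  ⟨PresheafOfModules.homMk
    { app := fun V => AddCommGrpCat.ofHom (secFun F G g V.unop)
      naturality := fun {U V} i => by
        ext s
        refine section_ext_germ G _ _ (fun y => ?_)
        change G.presheaf.germ V.unop y.1 y.2
            (secFun F G g V.unop (F.presheaf.map i s)) =
          G.presheaf.germ V.unop y.1 y.2 (G.presheaf.map i (secFun F G g U.unop s))
        have h1 := germ_secFun F G g V.unop (F.presheaf.map i s) y.1 y.2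
        have h2 := germ_secFun F G g U.unop s y.1 (leOfHom i.unop y.2)
        have h3 := TopCat.Presheaf.germ_res_apply' G.presheaf i y.1 y.2 (secFun F G g U.unop s)
        have h4 := TopCat.Presheaf.germ_res_apply' F.presheaf i y.1 y.2 s
        exact h1.trans ((congrArg _ h4).trans (h2.symm.trans h3.symm)) }
    (fun U r s => (fwdₗ F G U.unop (resTop F G g U.unop)).map_smul r s)⟩

theorem homOfSection_app (g : Γ(RefHull.homSh F G, ⊤)) (V : X.Opens) (m : Γ(F, V)) :
    (homOfSection F G g).app V m = secFun F G g V m := rfl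

theorem stalkMapₗ_homOfSection (g : Γ(RefHull.homSh F G, ⊤)) (y : X) :
    RefHull.stalkMapₗ (homOfSection F G g) y = g.1 ⟨y, memTop y⟩ := by
  refine LinearMap.ext fun t => ?_
  obtain ⟨V, hyV, m, rfl⟩ := TopCat.Presheaf.exists_germ_eq F.presheaf t
  rw [RefHull.stalkMapₗ_germ, homOfSection_app, germ_secFun]

theorem resTop_add (g g' : Γ(RefHull.homSh F G, ⊤)) (V : X.Opens) :
    resTop F G (g + g') V = resTop F G g V + resTop F G g' V :=
  map_add _ g g'

theorem resTop_smul (r : Γ(X, ⊤)) (g : Γ(RefHull.homSh F G, ⊤)) (V : X.Opens) :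
    resTop F G (r • g) V =
      (X.presheaf.map (homOfLE (le_top : V ≤ ⊤)).op r) • resTop F G g V :=
  Scheme.Modules.map_smul (RefHull.homSh F G) (homOfLE (le_top : V ≤ ⊤)) r g

theorem homOfSection_add (g g' : Γ(RefHull.homSh F G, ⊤)) :
    homOfSection F G (g + g') = homOfSection F G g + homOfSection F G g' := by
  ext V m
  change secFun F G (g + g') V m = secFun F G g V m + secFun F G g' V m
  change fwd F G (le_refl V) (resTop F G (g + g') V) m = _
  rw [resTop_add, fwd_add_left]
  rfl

theorem homOfSection_smul_app (r : Γ(X, ⊤)) (g : Γ(RefHull.homSh F G, ⊤)) (U : X.Opens)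
    (m : Γ(F, U)) :
    (homOfSection F G (r • g)).app U m =
      (X.presheaf.map (homOfLE (le_top : U ≤ ⊤)).op r) • (homOfSection F G g).app U m := by
  change fwd F G (le_refl U) (resTop F G (r • g) U) m = _
  rw [resTop_smul, fwd_smul_left]
  rfl

theorem homOfSection_ofHom (φ : F ⟶ G) : homOfSection F G (RefHull.ofHom φ ⊤) = φ := by
  ext V m
  change secFun F G (RefHull.ofHom φ ⊤) V m = φ.app V m
  refine section_ext_germ G _ _ (fun y => ?_)
  rw [germ_secFun, RefHull.ofHom_apply, RefHull.stalkMapₗ_germ]

theorem ofHom_homOfSection (g : Γ(RefHull.homSh F G, ⊤)) :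
    RefHull.ofHom (homOfSection F G g) ⊤ = g := by
  apply Subtype.ext
  funext y
  rw [RefHull.ofHom_apply, stalkMapₗ_homOfSection]

/-- (HFC) global sections of the sheaf Hom are the morphisms, compatibly with multiplication by global
functions. -/
theorem HFC {X : Scheme.{u}} (F G : X.Modules) :
    ∃ e : Γ(RefHull.homSh F G, ⊤) ≃+ (F ⟶ G),
      ∀ (r : Γ(X, ⊤)) (g : Γ(RefHull.homSh F G, ⊤)) (U : X.Opens) (m : Γ(F, U)),
        (e (r • g)).app U m = (X.presheaf.map (homOfLE (le_top : U ≤ ⊤)).op r) • (e g).app U m := by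
  refine ⟨{ toFun := homOfSection F G
            invFun := fun φ => RefHull.ofHom φ ⊤
            left_inv := ofHom_homOfSection F G
            right_inv := homOfSection_ofHom F G
            map_add' := homOfSection_add F G }, ?_⟩
  intro r g U m
  exact homOfSection_smul_app F G r g U m

end Groth.Agent.H73.LocHilbHfin_HFC
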