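import Groth.Agent.H73.DVRExists

/-!
# Discrete valuation rings through a specialization (EGA II 7.1.9)
-/

set_option autoImplicit false

universe u

namespace Groth.Agent.H73.KA

open AlgebraicGeometry CategoryTheory IsLocalRing

/-- A field essentially of finite type over (the image of) a ring is finitely generated as a
field over it. -/
theorem exists_finset_closure_eq_top_of_essFiniteType {R L : Type*} [CommRing R] [Field L]
    (φ : R →+* L) (h : φ.EssFiniteType) :
    ∃ s : Finset L, Subfield.closure (Set.range φ ∪ s) = ⊤ := by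
  let _ := φ.toAlgebra
  have h' : Algebra.EssFiniteType R L := h
  obtain ⟨σ, hσ⟩ := (Algebra.essFiniteType_iff R L).mp h'
  refine ⟨σ, ?_⟩
  have hle : ∀ z ∈ Algebra.adjoin R (σ : Set L), z ∈ Subfield.closure (Set.range φ ∪ σ) := by
    intro z hz
    induction hz using Algebra.adjoin_induction with
    | mem z hz => exact Subfield.subset_closure (Or.inr hz)
    | algebraMap r => exact Subfield.subset_closure (Or.inl ⟨r, rfl⟩)
    | add a b _ _ ha hb => exact add_mem ha hb
    | mul a b _ _ ha hb => exact mul_mem ha hb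
  rw [_root_.eq_top_iff]
  intro x _
  obtain ⟨t, ht, htu, hxt⟩ := hσ x
  have ht0 : t ≠ 0 := htu.ne_zero
  have : x = x * t / t := by rw [mul_div_cancel_right₀ _ ht0]
  rw [this]
  exact div_mem (hle _ hxt) (hle _ ht)

/-- The specialization map on stalks of a scheme is essentially of finite type (it is a
localization). -/
theorem essFiniteType_stalkSpecializes {Y : Scheme.{u}} {y y' : Y} (h : y ⤳ y') :
    (Y.presheaf.stalkSpecializes h).hom.EssFiniteType := by
  obtain ⟨_, ⟨V₀, hV₀, rfl⟩, hy'V, -⟩ :=
    Y.isBasis_affineOpens.exists_subset_of_mem_open (Set.mem_univ y') isOpen_univ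
  have hyV : y ∈ V₀ := h.mem_open V₀.2 hy'V
  have h1 : (Y.presheaf.germ V₀ y hyV).hom.EssFiniteType := by
    let _ := Y.presheaf.algebra_section_stalk ⟨y, hyV⟩
    have := hV₀.isLocalization_stalk ⟨y, hyV⟩
    exact RingHom.essFiniteType_algebraMap.mpr
      (Algebra.EssFiniteType.of_isLocalization _ (hV₀.primeIdealOf ⟨y, hyV⟩).asIdeal.primeCompl)
  have h2 : (Y.presheaf.stalkSpecializes h).hom.comp (Y.presheaf.germ V₀ y' hy'V).hom =
      (Y.presheaf.germ V₀ y hyV).hom := by
    rw [← CommRingCat.hom_comp, TopCat.Presheaf.germ_stalkSpecializes]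
  exact RingHom.EssFiniteType.of_comp (Y.presheaf.germ V₀ y' hy'V).hom (h2 ▸ h1)

/-- **EGA II 7.1.9.** -/
theorem exists_dvr_through_specialization {X Y : Scheme.{u}} [IsLocallyNoetherian Y]
    (p : X ⟶ Y) [LocallyOfFiniteType p] (x : X) (y' : Y) (hsp : p.base x ⤳ y')
    (hne : y' ≠ p.base x) :
    ∃ (A : ValuationSubring (X.residueField x)) (h : Spec (CommRingCat.of A) ⟶ Y),
      IsDiscreteValuationRing A ∧ h.base (IsLocalRing.closedPoint A) = y' ∧
      Spec.map (CommRingCat.ofHom A.subtype) ≫ h = X.fromSpecResidueField x ≫ p := by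
  let φc : Y.presheaf.stalk y' ⟶ X.residueField x :=
    Y.presheaf.stalkSpecializes hsp ≫ Y.residue (p.base x) ≫ p.residueFieldMap x
  let φ : Y.presheaf.stalk y' →+* X.residueField x := φc.hom
  have hkey : Spec.map φc ≫ Y.fromSpecStalk y' = X.fromSpecResidueField x ≫ p := by
    simp only [φc, Spec.map_comp, Category.assoc]
    rw [Scheme.SpecMap_stalkSpecializes_fromSpecStalk]
    exact Scheme.Hom.SpecMap_residueFieldMap_fromSpecResidueField p x
  have hess : φ.EssFiniteType := by
    have h1 := essFiniteType_stalkSpecializes hsp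
    have h2 : (Y.residue (p.base x)).hom.EssFiniteType :=
      (RingHom.FiniteType.of_surjective _ (Y.residue_surjective _)).essFiniteType
    have h3 : (p.residueFieldMap x).hom.EssFiniteType :=
      RingHom.EssFiniteType.residueFieldMap (LocallyOfFiniteType.stalkMap p x)
    exact (h1.comp h2).comp h3
  have hφ : ∃ a ∈ maximalIdeal (Y.presheaf.stalk y'), φ a ≠ 0 := by
    by_contra hcon
    push Not at hcon
    have hloc : IsLocalHom φ := ⟨fun a ha => by
      by_contra hna
      have hm : a ∈ maximalIdeal (Y.presheaf.stalk y') := hna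
      rw [hcon a hm] at ha
      exact not_isUnit_zero ha⟩
    apply hne
    have h1 := congrArg (fun f => f.base (closedPoint (X.residueField x))) hkey
    simp only [Scheme.Hom.comp_base, TopCat.comp_app] at h1
    rw [Scheme.fromSpecResidueField_apply] at h1
    rw [← h1]
    have h2 : (Spec.map φc).base (closedPoint (X.residueField x)) =
        closedPoint (Y.presheaf.stalk y') := comap_closedPoint φ
    rw [h2]
    exact Scheme.fromSpecStalk_closedPoint.symm
  obtain ⟨s, hs⟩ := exists_finset_closure_eq_top_of_essFiniteType φ hess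
  obtain ⟨V, hV, hφV, hdom⟩ := exists_dvr_of_ringHom φ hφ s hs
  let ψ : Y.presheaf.stalk y' →+* V := φ.codRestrict V hφV
  have hψloc : IsLocalHom ψ := ⟨fun a ha => by
    by_contra hna
    have hm : a ∈ maximalIdeal (Y.presheaf.stalk y') := hna
    have h1 := hdom a hm
    have h2 : V.valuation ((ψ a : V) : X.residueField x) = 1 := (V.valuation_eq_one_iff _).mp ha
    exact h1.ne h2⟩
  refine ⟨V, Spec.map (CommRingCat.ofHom ψ) ≫ Y.fromSpecStalk y', hV, ?_, ?_⟩
  · simp only [Scheme.Hom.comp_base, TopCat.comp_app]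
    have h2 : (Spec.map (CommRingCat.ofHom ψ)).base (closedPoint V) =
        closedPoint (Y.presheaf.stalk y') := comap_closedPoint ψ
    rw [h2]
    exact Scheme.fromSpecStalk_closedPoint
  · rw [← Category.assoc, ← Spec.map_comp]
    have h3 : CommRingCat.ofHom ψ ≫ CommRingCat.ofHom V.subtype = φc :=
      CommRingCat.hom_ext (RingHom.ext fun a => rfl)
    rw [h3]
    exact hkey

end Groth.Agent.H73.KA
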