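import Mathlib

set_option autoImplicit false

universe u v w

open CategoryTheory CategoryTheory.Limits AlgebraicGeometry Opposite

namespace Groth.Agent.H73.UM_P2

/-- The forgetful functor from `Λ`-modules to abelian groups is a left adjoint (its right adjoint is coextension of
scalars along `ℤ → Λ`). -/
theorem isLeftAdjoint_forget₂ (Λ : Type v) [CommRing Λ] :
    (forget₂ (ModuleCat.{v} Λ) AddCommGrpCat.{v}).IsLeftAdjoint := by
  let F : ModuleCat.{v} Λ ⥤ AddCommGrpCat.{v} :=
    ModuleCat.restrictScalars.{v} (Int.castRingHom Λ) ⋙ forget₂ (ModuleCat.{v} ℤ) AddCommGrpCat.{v}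
  have hF : F.IsLeftAdjoint := inferInstance
  have e : F ≅ forget₂ (ModuleCat.{v} Λ) AddCommGrpCat.{v} :=
    NatIso.ofComponents (fun M => Iso.refl _) (by intros; rfl)
  exact Functor.isLeftAdjoint_of_iso e

end Groth.Agent.H73.UM_P2
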