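import Mathlib

set_option autoImplicit false

universe u v w

open CategoryTheory CategoryTheory.Limits AlgebraicGeometry Opposite

namespace Groth.Agent.H73.UM_P5

/-- A morphism between the underlying abelian sheaves of two sheaves of `Λ`-modules that commutes with all the
scalar multiplications lifts to a morphism of sheaves of `Λ`-modules. -/
theorem exists_lift_of_comm {C : Type u} [Category.{w} C] (J : GrothendieckTopology C) (Λ : Type v)
    [CommRing Λ] [J.HasSheafCompose (forget₂ (ModuleCat.{v} Λ) AddCommGrpCat.{v})]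
    {F' F : Sheaf J (ModuleCat.{v} Λ)}
    (h : (sheafCompose J (forget₂ (ModuleCat.{v} Λ) AddCommGrpCat.{v})).obj F' ⟶
      (sheafCompose J (forget₂ (ModuleCat.{v} Λ) AddCommGrpCat.{v})).obj F)
    (hcomm : ∀ a : Λ,
      (sheafCompose J (forget₂ (ModuleCat.{v} Λ) AddCommGrpCat.{v})).map (a • 𝟙 F') ≫ h =
        h ≫ (sheafCompose J (forget₂ (ModuleCat.{v} Λ) AddCommGrpCat.{v})).map (a • 𝟙 F)) :
    ∃ g : F' ⟶ F, (sheafCompose J (forget₂ (ModuleCat.{v} Λ) AddCommGrpCat.{v})).map g = h := by
  have hsm : ∀ (U : Cᵒᵖ) (a : Λ) (x : F'.obj.obj U),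
      ((h.hom.app U).hom (a • x) : F.obj.obj U) =
        a • (show F.obj.obj U from (h.hom.app U).hom x) := by
    intro U a x
    have := congrArg (fun φ => (φ.hom.app U).hom x) (hcomm a)
    exact this
  let app : ∀ U : Cᵒᵖ, F'.obj.obj U ⟶ F.obj.obj U := fun U =>
    ModuleCat.ofHom
      { toFun := fun x => (show F.obj.obj U from (h.hom.app U).hom x)
        map_add' := fun x y => map_add (h.hom.app U).hom x y
        map_smul' := fun a x => hsm U a x }
  have hnat : ∀ ⦃U V : Cᵒᵖ⦄ (f : U ⟶ V), F'.obj.map f ≫ app V = app U ≫ F.obj.map f := by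
    intro U V f
    ext x
    have := congrArg (fun φ => φ.hom x) (h.hom.naturality f)
    exact this
  refine ⟨⟨{ app := app, naturality := hnat }⟩, ?_⟩
  ext U x
  rfl

end Groth.Agent.H73.UM_P5
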