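import Mathlib
import Groth.Prelude.Def_Red2

/-!
# (GP) every unit of `Γ(T, ⊤)` is the coordinate of a point of `𝔾_m`
-/

set_option autoImplicit false
universe u
open CategoryTheory CategoryTheory.Limits AlgebraicGeometry

noncomputable section

namespace Groth.Agent.H73.GmH1_GP

/-- the ring of `𝔾_m` over `ℤ` -/
abbrev ZT : Type u := MonoidAlgebra (ULift.{u} ℤ) (Multiplicative ℤ)

/-- the ring hom `ℤ[T, T⁻¹] → R` sending the coordinate to the unit `t`. -/
def gmLift {R : Type u} [CommRing R] (t : Rˣ) : ZT.{u} →+* R :=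
  MonoidAlgebra.liftNCRingHom ((Int.castRingHom R).comp (ULift.ringEquiv (R := ℤ)).toRingHom)
    ((Units.coeHom R).comp (zpowersHom Rˣ t)) (fun _ _ => Commute.all _ _)

theorem gmLift_coord {R : Type u} [CommRing R] (t : Rˣ) :
    gmLift t (MonoidAlgebra.single (Multiplicative.ofAdd (1 : ℤ)) 1) = t := by
  rw [gmLift, MonoidAlgebra.liftNCRingHom_single]
  simp

theorem specMap_appTop_ΓSpecIso_inv {R S : CommRingCat.{u}} (φ : R ⟶ S) (r : R) :
    (Spec.map φ).appTop ((Scheme.ΓSpecIso R).inv r) = (Scheme.ΓSpecIso S).inv (φ r) := by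
  have := congrArg (fun k => k r) (congrArg (fun k => (ConcreteCategory.hom k : R → _))
    (Scheme.ΓSpecIso_inv_naturality φ))
  exact this.symm

variable {S : Scheme.{u}} {T : Over S}

/-- the point of `𝔾_m` with coordinate the unit `t`. -/
def gmPt (t : Γ(T.left, ⊤)ˣ) : T ⟶ Red.Gm S :=
  Over.homMk (pullback.lift (T.left.toSpecΓ ≫ Spec.map (CommRingCat.ofHom (gmLift t))) T.hom
    (specULiftZIsTerminal.hom_ext _ _)) (pullback.lift_snd _ _ _)

theorem gmFn_gmPt (t : Γ(T.left, ⊤)ˣ) : Red.gmFn (gmPt (S := S) t) = t := by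
  have h1 : (gmPt (S := S) t).left ≫ pullback.fst _ _ =
      T.left.toSpecΓ ≫ Spec.map (CommRingCat.ofHom (gmLift t)) := pullback.lift_fst _ _ _
  have h2 : Red.gmFn (gmPt (S := S) t) =
      (T.left.toSpecΓ ≫ Spec.map (CommRingCat.ofHom (gmLift t))).appTop Red.gmCoord :=
    congrArg (fun f : T.left ⟶ Spec (CommRingCat.of ZT.{u}) => f.appTop Red.gmCoord) h1
  rw [h2, Scheme.Hom.comp_appTop]
  change T.left.toSpecΓ.appTop ((Spec.map (CommRingCat.ofHom (gmLift t))).appTop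
    ((Scheme.ΓSpecIso (CommRingCat.of ZT.{u})).inv
      (MonoidAlgebra.single (Multiplicative.ofAdd (1 : ℤ)) 1))) = t
  rw [specMap_appTop_ΓSpecIso_inv, Scheme.toSpecΓ_appTop]
  have h3 := Iso.inv_hom_id_apply (C := CommRingCat) (Scheme.ΓSpecIso Γ(T.left, ⊤))
    ((CommRingCat.ofHom (gmLift t)) (MonoidAlgebra.single (Multiplicative.ofAdd (1 : ℤ)) 1))
  exact h3.trans (gmLift_coord t)

theorem exists_gm_of_unit {S : Scheme.{u}} {T : Over S} (t : Γ(T.left, ⊤)) (ht : IsUnit t) :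
    ∃ x : T ⟶ Red.Gm S, Red.gmFn x = t :=
  ⟨gmPt ht.unit, (gmFn_gmPt ht.unit).trans ht.unit_spec⟩

end Groth.Agent.H73.GmH1_GP
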