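import Mathlib
import Groth.Prelude.Def_NonAbH2

/-!
# (E) sections on an open neighbourhood of every point give Zariski-local triviality
-/

set_option autoImplicit false
universe u
open CategoryTheory CategoryTheory.Limits AlgebraicGeometry

namespace Groth.Agent.H73.GmH1_E

theorem zariski_of_local {S : Scheme.{u}} (X : Over S)
    (h : ∀ s : S, ∃ (V : Scheme.{u}) (j : V ⟶ S), IsOpenImmersion j ∧ s ∈ Set.range j.base ∧
      NonAbH1.HasSectionOver X j) :
    NonAbH1.IsLocallyTrivialFor Scheme.zariskiPrecoverage X := by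
  choose V j hj hs hsec using h
  let 𝒰 : S.OpenCover := {
    I₀ := S, X := V, f := j,
    mem₀ := by
      rw [Scheme.presieve₀_mem_precoverage_iff]
      exact ⟨fun s => ⟨s, hs s⟩, hj⟩ }
  refine ⟨𝒰.presieve₀, 𝒰.mem₀, ?_⟩
  intro S' f hf
  obtain ⟨i⟩ := hf
  exact hsec i

end Groth.Agent.H73.GmH1_E
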