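import Mathlib

/-!
# Extensions of flat modules are flat; finiteness of `N ⊗[A] P` over a bigger ring
-/

set_option autoImplicit false

namespace Groth.Agent.H73

open TensorProduct

/-- In a short exact sequence `0 → M → N → P → 0` with `M` and `P` flat, `N` is flat. -/
theorem flat_of_exact {R M N P : Type*} [CommRing R] [AddCommGroup M] [AddCommGroup N]
    [AddCommGroup P] [Module R M] [Module R N] [Module R P]
    (g : M →ₗ[R] N) (f : N →ₗ[R] P) (hg : Function.Injective g) (hf : Function.Surjective f)
    (H : Function.Exact g f) [Module.Flat R M] [Module.Flat R P] : Module.Flat R N := by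
  rw [Module.Flat.iff_rTensor_injective']
  intro I
  rw [injective_iff_map_eq_zero]
  intro x hx
  have h1 : (f.lTensor I) x = 0 := by
    apply Module.Flat.rTensor_preserves_injective_linearMap (M := P) I.subtype
      Subtype.val_injective
    rw [map_zero, ← LinearMap.comp_apply, LinearMap.rTensor_comp_lTensor,
      ← LinearMap.lTensor_comp_rTensor, LinearMap.comp_apply, hx, map_zero]
  have hex := lTensor_exact I H hf
  obtain ⟨y, rfl⟩ := (hex x).mp h1
  have h2 : (I.subtype.rTensor M) y = 0 := by
    apply LinearMap.lTensor_injective_of_exact_of_flat f hf g hg H R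
    rw [map_zero, ← LinearMap.comp_apply, LinearMap.lTensor_comp_rTensor,
      ← LinearMap.rTensor_comp_lTensor, LinearMap.comp_apply, hx]
  have hy : y = 0 :=
    Module.Flat.rTensor_preserves_injective_linearMap (M := M) I.subtype
      Subtype.val_injective (by rw [h2, map_zero])
  rw [hy, map_zero]

/-- If `N` is finite over `B` and `P` is finite over `A`, then `N ⊗[A] P` is finite over `B`. -/
theorem finite_tensor_left (A B N P : Type*) [CommRing A] [CommRing B] [Algebra A B]
    [AddCommGroup N] [Module A N] [Module B N] [IsScalarTower A B N]
    [AddCommGroup P] [Module A P] [Module.Finite B N] [Module.Finite A P] :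
    Module.Finite B (N ⊗[A] P) := by
  classical
  obtain ⟨k, π, hπ⟩ := Module.Finite.exists_fin' A P
  have h1 : Module.Finite B (N ⊗[A] (Fin k → A)) :=
    Module.Finite.equiv (TensorProduct.piScalarRight A B N (Fin k)).symm
  exact Module.Finite.of_surjective (TensorProduct.AlgebraTensorModule.lTensor B N π)
    (LinearMap.lTensor_surjective N hπ)

end Groth.Agent.H73
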