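import Groth.Agent.H52.SL.Defs

/-!
# (P3) for helper52's S10259 squad: splitting off the diagonal of an étale map of affine schemes
-/

set_option autoImplicit false
universe u
open CategoryTheory CategoryTheory.Limits AlgebraicGeometry Opposite
open Groth.Agent.H52.SL

namespace Groth.Agent.H73.SL_P3

theorem exists_rest {T' T : Scheme.{u}} [IsAffine T'] [IsAffine T] (e : T' ⟶ T) [Etale e] (n : ℕ)
    (h : LiftsLE e (n + 1)) :
    ∃ (Tr : Scheme.{u}) (q0 q1 : Tr ⟶ T'), IsAffine Tr ∧ Etale q1 ∧ q0 ≫ e = q1 ≫ e ∧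
      LiftsLE q1 n ∧
      ∀ (K : Type u) [Field K] (a b : Spec (CommRingCat.of K) ⟶ T'), a ≫ e = b ≫ e →
        a = b ∨ ∃ c : Spec (CommRingCat.of K) ⟶ Tr, c ≫ q0 = a ∧ c ≫ q1 = b := by
  classical
  let Δ : T' ⟶ pullback e e := pullback.diagonal e
  have hΔo : IsOpenImmersion Δ := inferInstance
  have hΔc : IsClosedImmersion Δ := inferInstance
  have hcl : IsClosed (Set.range Δ) := Δ.isClosedEmbedding.isClosed_range
  have hop : IsOpen (Set.range Δ) := Δ.isOpenEmbedding.isOpen_range
  let U : (pullback e e).Opens := ⟨(Set.range Δ)ᶜ, hcl.isOpen_compl⟩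
  have hUι : IsClosedImmersion U.ι := by
    apply IsClosedImmersion.of_isPreimmersion
    rw [Scheme.Opens.range_ι]
    exact hop.isClosed_compl
  have hUaff : IsAffine (U : Scheme.{u}) := isAffine_of_isAffineHom U.ι
  let q0 : (U : Scheme.{u}) ⟶ T' := U.ι ≫ pullback.fst e e
  let q1 : (U : Scheme.{u}) ⟶ T' := U.ι ≫ pullback.snd e e
  have hq : q0 ≫ e = q1 ≫ e := by
    simp only [q0, q1, Category.assoc, pullback.condition]
  -- key: a point with equal projections lies on the diagonal
  have hdiag : ∀ {Q : Scheme.{u}} (c : Q ⟶ pullback e e),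
      c ≫ pullback.fst e e = c ≫ pullback.snd e e → c = (c ≫ pullback.fst e e) ≫ Δ := by
    intro Q c hc
    apply pullback.hom_ext
    · simp [Δ]
    · simp [Δ, hc]
  refine ⟨U, q0, q1, hUaff, inferInstance, hq, ?_, ?_⟩
  · intro Ω _ ω'
    have hL := h Ω (ω' ≫ e)
    set L : Set (Spec (CommRingCat.of Ω) ⟶ T') := {τ | τ ≫ e = ω' ≫ e} with hLdef
    have hω' : ω' ∈ L := rfl
    have h1 : (L \ {ω'}).encard + 1 = L.encard := Set.encard_sdiff_singleton_add_one hω'
    have h2 : (L \ {ω'}).encard ≤ n := by
      have : (L \ {ω'}).encard + 1 ≤ (n : ℕ∞) + 1 := by rw [h1]; exact_mod_cast hL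
      exact (ENat.add_le_add_iff_right ENat.one_ne_top).mp this
    refine le_trans (Set.encard_le_encard_of_injOn (f := fun σ => σ ≫ q0) ?_ ?_) h2
    · intro σ hσ
      have hσ' : σ ≫ q1 = ω' := hσ
      refine ⟨?_, ?_⟩
      · change (σ ≫ q0) ≫ e = ω' ≫ e
        rw [Category.assoc, hq, ← Category.assoc, hσ']
      · intro heq
        have heq' : σ ≫ q0 = ω' := heq
        have hc : (σ ≫ U.ι) ≫ pullback.fst e e = (σ ≫ U.ι) ≫ pullback.snd e e := by
          rw [Category.assoc, Category.assoc]
          exact heq'.trans hσ'.symm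
        have hfac := hdiag (σ ≫ U.ι) hc
        -- a point of U in the range of Δ
        let z : Spec (CommRingCat.of Ω) := default
        have hz : (σ ≫ U.ι) z ∈ (Set.range Δ)ᶜ := by
          rw [Scheme.Hom.comp_apply]
          exact (σ z).2
        apply hz
        rw [hfac, Scheme.Hom.comp_apply]
        exact ⟨_, rfl⟩
    · intro σ hσ σ' hσ' heq
      have hσ1 : σ ≫ q1 = ω' := hσ
      have hσ'1 : σ' ≫ q1 = ω' := hσ'
      have heq' : σ ≫ q0 = σ' ≫ q0 := heq
      rw [← cancel_mono U.ι]
      apply pullback.hom_ext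
      · simpa only [Category.assoc] using heq'
      · simpa only [Category.assoc] using hσ1.trans hσ'1.symm
  · intro K _ a b hab
    let c₀ : Spec (CommRingCat.of K) ⟶ pullback e e := pullback.lift a b hab
    let z : Spec (CommRingCat.of K) := default
    by_cases hz : c₀ z ∈ Set.range Δ
    · left
      have hsub : Set.range c₀ ⊆ Set.range Δ := by
        rintro _ ⟨w, rfl⟩
        rw [Subsingleton.elim w z]
        exact hz
      let l := IsOpenImmersion.lift Δ c₀ hsub
      have hl : l ≫ Δ = c₀ := IsOpenImmersion.lift_fac _ _ _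
      have ha : a = l := by
        have h1 : (l ≫ Δ) ≫ pullback.fst e e = c₀ ≫ pullback.fst e e := by rw [hl]
        rw [Category.assoc, pullback.diagonal_fst, Category.comp_id, pullback.lift_fst] at h1
        exact h1.symm
      have hb : b = l := by
        have h1 : (l ≫ Δ) ≫ pullback.snd e e = c₀ ≫ pullback.snd e e := by rw [hl]
        rw [Category.assoc, pullback.diagonal_snd, Category.comp_id, pullback.lift_snd] at h1
        exact h1.symm
      rw [ha, hb]
    · right
      have hsub : Set.range c₀ ⊆ Set.range U.ι := by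
        rw [Scheme.Opens.range_ι]
        rintro _ ⟨w, rfl⟩
        rw [Subsingleton.elim w z]
        exact hz
      let c := IsOpenImmersion.lift U.ι c₀ hsub
      have hc : c ≫ U.ι = c₀ := IsOpenImmersion.lift_fac _ _ _
      refine ⟨c, ?_, ?_⟩
      · change c ≫ U.ι ≫ pullback.fst e e = a
        rw [← Category.assoc, hc]
        exact pullback.lift_fst _ _ _
      · change c ≫ U.ι ≫ pullback.snd e e = b
        rw [← Category.assoc, hc]
        exact pullback.lift_snd _ _ _

end Groth.Agent.H73.SL_P3
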