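import Mathlib.AlgebraicGeometry.ValuativeCriterion
import Mathlib.AlgebraicGeometry.AffineSpace
import Mathlib.AlgebraicGeometry.Morphisms.QuasiCompact

/-!
# `𝔸ⁿ`-closed quasi-compact morphisms satisfy the existence part of the valuative criterion

If `f : X ⟶ Y` is quasi-compact and for every `n` the base change of `f` to `𝔸ⁿ_Y` is a closed map,
then `f` satisfies the existence part of the valuative criterion (hence is universally closed).
No limit argument is needed.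
-/

set_option autoImplicit false
universe u
open CategoryTheory CategoryTheory.Limits AlgebraicGeometry TopologicalSpace

namespace Groth.Agent.H73.AnClosed

variable {X Y : Scheme.{u}}

/-- For `g : Spec A ⟶ X` whose image lies in the open `U`, the induced ring map `Γ(X, U) ⟶ A`. -/
noncomputable def toAff {A : CommRingCat.{u}} (g : Spec A ⟶ X) (U : X.Opens) (h : g ⁻¹ᵁ U = ⊤) :
    Γ(X, U) ⟶ A :=
  g.appLE U ⊤ (by rw [h]) ≫ (Scheme.ΓSpecIso A).hom

lemma toAff_congr {A : CommRingCat.{u}} {g g' : Spec A ⟶ X} (e : g = g') (U : X.Opens)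
    (h : g ⁻¹ᵁ U = ⊤) (h' : g' ⁻¹ᵁ U = ⊤) : toAff g U h = toAff g' U h' := by
  subst e; rfl

lemma SpecMap_toAff_fromSpec {A : CommRingCat.{u}} (g : Spec A ⟶ X) {U : X.Opens}
    (hU : IsAffineOpen U) (h : g ⁻¹ᵁ U = ⊤) : Spec.map (toAff g U h) ≫ hU.fromSpec = g := by
  rw [toAff, Spec.map_comp, Category.assoc,
    IsAffineOpen.SpecMap_appLE_fromSpec g hU (isAffineOpen_top _),
    IsAffineOpen.fromSpec_top, Scheme.isoSpec_Spec_inv, ← Spec.map_comp_assoc, Iso.inv_hom_id,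
    Spec.map_id, Category.id_comp]

lemma toAff_comp_right {A : CommRingCat.{u}} {Z : Scheme.{u}} (g : Spec A ⟶ X) (p : X ⟶ Z)
    (U : Z.Opens) (h : (g ≫ p) ⁻¹ᵁ U = ⊤) :
    p.app U ≫ toAff g (p ⁻¹ᵁ U) h = toAff (g ≫ p) U h := by
  rw [toAff, toAff, Scheme.Hom.app_eq_appLE, Scheme.Hom.appLE_comp_appLE_assoc]

lemma map_toAff {A : CommRingCat.{u}} (g : Spec A ⟶ X) {U V : X.Opens} (hUV : V ≤ U)
    (hV : g ⁻¹ᵁ V = ⊤) (hU : g ⁻¹ᵁ U = ⊤) :
    X.presheaf.map (homOfLE hUV).op ≫ toAff g V hV = toAff g U hU := by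
  rw [toAff, toAff, Scheme.Hom.map_appLE_assoc]

lemma toAff_top {A : CommRingCat.{u}} (g : Spec A ⟶ X) :
    toAff g ⊤ rfl = g.appTop ≫ (Scheme.ΓSpecIso A).hom := by
  rw [toAff]
  congr 1

lemma toAff_comp_left {A B : CommRingCat.{u}} (α : A ⟶ B) (g : Spec A ⟶ X) (U : X.Opens)
    (h : g ⁻¹ᵁ U = ⊤) (h' : (Spec.map α ≫ g) ⁻¹ᵁ U = ⊤) :
    toAff (Spec.map α ≫ g) U h' = toAff g U h ≫ α := by
  have h1 : (Spec.map α ≫ g).appLE U ⊤ (by rw [h']) =
      g.appLE U ⊤ (by rw [h]) ≫ (Spec.map α).appLE ⊤ ⊤ le_top := by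
    rw [Scheme.Hom.appLE_comp_appLE]
  have h2 : (Spec.map α).appLE ⊤ ⊤ le_top = (Spec.map α).appTop := by
    simp [Scheme.Hom.appLE]
  rw [toAff, toAff, h1, h2, Category.assoc, Category.assoc, Scheme.ΓSpecIso_naturality]

lemma not_mem_basicOpen_of_toAff_eq_zero {A : CommRingCat.{u}} (g : Spec A ⟶ X) {V : X.Opens}
    (hV : g ⁻¹ᵁ V = ⊤) (s : Γ(X, V)) (hs : toAff g V hV s = 0) (pt : Spec A) :
    g.base pt ∉ X.basicOpen s := by
  intro hmem
  have h1 : pt ∈ (Spec A).basicOpen (g.appLE V ⊤ (by rw [hV]) s) := by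
    rw [Scheme.basicOpen_appLE]
    exact ⟨trivial, hmem⟩
  have h0 : g.appLE V ⊤ (by rw [hV]) s = 0 := by
    have hinj : Function.Injective (Scheme.ΓSpecIso A).hom :=
      (ConcreteCategory.bijective_of_isIso (Scheme.ΓSpecIso A).hom).1
    apply hinj
    rw [map_zero]
    exact hs
  rw [h0, Scheme.basicOpen_zero] at h1
  exact h1

lemma mem_basicOpen_mul_sub_one {P : Scheme.{u}} {V : P.Opens} (a : Γ(P, V)) (c : Γ(P, ⊤)) (z : P)
    (hzV : z ∈ V) (hzc : z ∉ P.basicOpen c) :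
    z ∈ P.basicOpen (a * P.presheaf.map (homOfLE (le_top : V ≤ ⊤)).op c - 1) := by
  rw [Scheme.mem_basicOpen _ _ z hzV, map_sub, map_mul, map_one]
  rw [Scheme.mem_basicOpen_top] at hzc
  have h1 : P.presheaf.germ V z hzV (P.presheaf.map (homOfLE (le_top : V ≤ ⊤)).op c) =
      P.presheaf.germ ⊤ z trivial c := TopCat.Presheaf.germ_res_apply _ _ _ _ _
  rw [h1]
  have h2 : P.presheaf.germ V z hzV a * P.presheaf.germ ⊤ z trivial c ∈
      nonunits (P.presheaf.stalk z) := by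
    rw [← IsLocalRing.mem_maximalIdeal]
    exact Ideal.mul_mem_left _ _ ((IsLocalRing.mem_maximalIdeal _).mpr hzc)
  have h3 := IsLocalRing.isUnit_one_sub_self_of_mem_nonunits _ h2
  have h4 := h3.neg
  rwa [neg_sub] at h4

open AffineSpace in
/-- Core lemma: if the base change of `f` to `𝔸ⁿ_Y` is closed and, for a valuative square, we are
given opens `U j` around the image of the generic point together with sections `b j` whose values
in `K` are not in `R`, then the image of the generic point has a specialization over the image of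
the closed point that avoids every `U j`. -/
theorem exists_specialization_of_closed
    (f : X ⟶ Y) {R K : Type u} [CommRing R] [IsDomain R] [ValuationRing R] [Field K] [Algebra R K]
    [IsFractionRing R K]
    (i₁ : Spec (.of K) ⟶ X) (i₂ : Spec (.of R) ⟶ Y)
    (w : i₁ ≫ f = Spec.map (CommRingCat.ofHom (algebraMap R K)) ≫ i₂)
    (n : ℕ) (H : IsClosedMap (pullback.snd f (𝔸(ULift.{u} (Fin n); Y) ↘ Y)).base)
    (U : ULift.{u} (Fin n) → X.Opens) (hU : ∀ j, i₁ ⁻¹ᵁ (U j) = ⊤)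
    (b : ∀ j, Γ(X, U j))
    (hb : ∀ j, (toAff i₁ (U j) (hU j)).hom (b j) ∉ Set.range (algebraMap R K)) :
    ∃ x : X, i₁.base (IsLocalRing.closedPoint K) ⤳ x ∧
      f.base x = i₂.base (IsLocalRing.closedPoint R) ∧ ∀ j, x ∉ U j := by
  -- the inverses `t j ∈ 𝔪_R` of the values of `b j`
  have ht : ∀ j, ∃ t : R, algebraMap R K t * (toAff i₁ (U j) (hU j)).hom (b j) = 1 ∧
      t ∈ IsLocalRing.maximalIdeal R := by
    intro j
    set y := (toAff i₁ (U j) (hU j)).hom (b j) with hy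
    have hy0 : y ≠ 0 := by
      intro h0
      exact hb j ⟨0, by rw [map_zero, ← hy, h0]⟩
    rcases ValuationRing.isInteger_or_isInteger R y with ⟨r, hr⟩ | ⟨t, ht⟩
    · exact absurd ⟨r, hr⟩ (hb j)
    · refine ⟨t, ?_, ?_⟩
      · rw [ht, inv_mul_cancel₀ hy0]
      · rw [IsLocalRing.mem_maximalIdeal, mem_nonunits_iff]
        intro hu
        obtain ⟨s, hs⟩ := hu.exists_right_inv
        apply hb j
        refine ⟨s, ?_⟩
        have : algebraMap R K t * algebraMap R K s = 1 := by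
          rw [← map_mul, hs, map_one]
        rw [ht] at this
        have h2 := congrArg (fun e => y * e) this
        simp only [mul_one] at h2
        rw [← mul_assoc, mul_inv_cancel₀ hy0, one_mul] at h2
        exact h2
  choose t ht1 ht2 using ht
  let v : ULift.{u} (Fin n) → Γ(Spec (CommRingCat.of R), ⊤) :=
    fun j => (Scheme.ΓSpecIso (CommRingCat.of R)).inv (t j)
  let u : Spec (CommRingCat.of R) ⟶ 𝔸(ULift.{u} (Fin n); Y) := homOfVector i₂ v
  have hu : u ≫ 𝔸(ULift.{u} (Fin n); Y) ↘ Y = i₂ := homOfVector_over _ _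
  let q : Spec (CommRingCat.of K) ⟶ pullback f (𝔸(ULift.{u} (Fin n); Y) ↘ Y) :=
    pullback.lift i₁ (Spec.map (CommRingCat.ofHom (algebraMap R K)) ≫ u)
      (by rw [Category.assoc, hu, w])
  have hq1 : q ≫ pullback.fst _ _ = i₁ := pullback.lift_fst _ _ _
  have hq2 : q ≫ pullback.snd _ _ = Spec.map (CommRingCat.ofHom (algebraMap R K)) ≫ u :=
    pullback.lift_snd _ _ _
  let pt : Spec (CommRingCat.of K) := IsLocalRing.closedPoint K
  let c₀ : Spec (CommRingCat.of R) := IsLocalRing.closedPoint R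
  have hξ2 : (pullback.snd f (𝔸(ULift.{u} (Fin n); Y) ↘ Y)).base (q.base pt) =
      u.base ((Spec.map (CommRingCat.ofHom (algebraMap R K))).base pt) := by
    rw [← Scheme.Hom.comp_apply, hq2, Scheme.Hom.comp_apply]
  have hsp : (pullback.snd f (𝔸(ULift.{u} (Fin n); Y) ↘ Y)).base (q.base pt) ⤳ u.base c₀ := by
    rw [hξ2]
    exact (IsLocalRing.specializes_closedPoint (R := R) _).map u.continuous
  obtain ⟨z, hξz, hz⟩ := H.specializingMap hsp
  have hξz' : q.base pt ⤳ z := hξz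
  refine ⟨(pullback.fst f (𝔸(ULift.{u} (Fin n); Y) ↘ Y)).base z, ?_, ?_, ?_⟩
  · have := hξz'.map (pullback.fst f (𝔸(ULift.{u} (Fin n); Y) ↘ Y)).continuous
    rwa [← Scheme.Hom.comp_apply, hq1] at this
  · rw [← Scheme.Hom.comp_apply, pullback.condition, Scheme.Hom.comp_apply, hz,
      ← Scheme.Hom.comp_apply, hu]
  · intro j hx
    let V : (pullback f (𝔸(ULift.{u} (Fin n); Y) ↘ Y)).Opens :=
      (pullback.fst f (𝔸(ULift.{u} (Fin n); Y) ↘ Y)) ⁻¹ᵁ (U j)
    have hzV : z ∈ V := hx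
    let c : Γ(pullback f (𝔸(ULift.{u} (Fin n); Y) ↘ Y), ⊤) :=
      (pullback.snd f (𝔸(ULift.{u} (Fin n); Y) ↘ Y)).appTop (coord Y j)
    have hzc : z ∉ (pullback f (𝔸(ULift.{u} (Fin n); Y) ↘ Y)).basicOpen c := by
      intro hmem
      have h1 : z ∈ (pullback.snd f (𝔸(ULift.{u} (Fin n); Y) ↘ Y)) ⁻¹ᵁ
          (𝔸(ULift.{u} (Fin n); Y).basicOpen (coord Y j)) := by
        rw [Scheme.preimage_basicOpen_top]; exact hmem
      have h2 : u.base c₀ ∈ 𝔸(ULift.{u} (Fin n); Y).basicOpen (coord Y j) := by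
        rw [← hz]; exact h1
      have h3 : c₀ ∈ u ⁻¹ᵁ (𝔸(ULift.{u} (Fin n); Y).basicOpen (coord Y j)) := h2
      rw [Scheme.preimage_basicOpen_top, homOfVector_appTop_coord] at h3
      have h4 : c₀ ∈ (Spec (CommRingCat.of R)).basicOpen
          ((Scheme.ΓSpecIso (CommRingCat.of R)).inv (t j)) := h3
      rw [basicOpen_eq_of_affine] at h4
      exact h4 (ht2 j)
    let a : Γ(pullback f (𝔸(ULift.{u} (Fin n); Y) ↘ Y), V) :=
      (pullback.fst f (𝔸(ULift.{u} (Fin n); Y) ↘ Y)).app (U j) (b j)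
    have hzh := mem_basicOpen_mul_sub_one a c z hzV hzc
    have hξh := hξz'.mem_open (Scheme.basicOpen _ _).2 hzh
    have hqV : q ⁻¹ᵁ V = ⊤ := by
      have : (q ≫ pullback.fst _ _) ⁻¹ᵁ (U j) = ⊤ := by rw [hq1]; exact hU j
      exact this
    refine not_mem_basicOpen_of_toAff_eq_zero q hqV _ ?_ pt hξh
    rw [map_sub, map_mul, map_one]
    have e1 : (toAff q V hqV).hom a = (toAff i₁ (U j) (hU j)).hom (b j) := by
      have := toAff_comp_right q (pullback.fst f (𝔸(ULift.{u} (Fin n); Y) ↘ Y)) (U j) hqV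
      rw [toAff_congr hq1 (U j) hqV (hU j)] at this
      exact congrArg (fun φ => φ.hom (b j)) this
    have e2 : (toAff q V hqV).hom
        ((pullback f (𝔸(ULift.{u} (Fin n); Y) ↘ Y)).presheaf.map
          (homOfLE (le_top : V ≤ ⊤)).op c) = algebraMap R K (t j) := by
      have h1 := map_toAff q (le_top : V ≤ ⊤) hqV rfl
      have h2 : (toAff q V hqV).hom
          ((pullback f (𝔸(ULift.{u} (Fin n); Y) ↘ Y)).presheaf.map
            (homOfLE (le_top : V ≤ ⊤)).op c) = (toAff q ⊤ rfl).hom c :=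
        congrArg (fun φ => φ.hom c) h1
      rw [h2, toAff_top]
      change (Scheme.ΓSpecIso _).hom (q.appTop ((pullback.snd f _).appTop (coord Y j))) = _
      have h3 : q.appTop ((pullback.snd f (𝔸(ULift.{u} (Fin n); Y) ↘ Y)).appTop (coord Y j)) =
          (Spec.map (CommRingCat.ofHom (algebraMap R K))).appTop (u.appTop (coord Y j)) := by
        have := congrArg (fun g => g.appTop (coord Y j)) hq2
        simpa using this
      rw [h3, homOfVector_appTop_coord]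
      have h4 := Scheme.ΓSpecIso_naturality (CommRingCat.ofHom (algebraMap R K))
      have h5 := congrArg (fun φ => φ.hom (v j)) h4
      simp only [CommRingCat.hom_comp, RingHom.coe_comp, Function.comp_apply] at h5
      rw [h5]
      simp [v]
    rw [e1, e2, mul_comm, ht1 j, sub_self]

lemma preimage_eq_top_of_closedPoint_mem {R : Type u} [CommRing R] [IsLocalRing R]
    (g : Spec (CommRingCat.of R) ⟶ Y) (W : Y.Opens) (h : g.base (IsLocalRing.closedPoint R) ∈ W) :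
    g ⁻¹ᵁ W = ⊤ := by
  ext x
  simp only [Opens.coe_top, Set.mem_univ, iff_true]
  exact ((IsLocalRing.specializes_closedPoint (R := R) x).map g.continuous).mem_open W.2 h

lemma eq_of_comp_eq_of_affine {R K : Type u} [CommRing R] [CommRing K] (α : R →+* K)
    (hα : Function.Injective α) (g₁ g₂ : Spec (CommRingCat.of R) ⟶ Y) {W : Y.Opens}
    (hW : IsAffineOpen W) (h₁ : g₁ ⁻¹ᵁ W = ⊤) (h₂ : g₂ ⁻¹ᵁ W = ⊤)
    (h : Spec.map (CommRingCat.ofHom α) ≫ g₁ = Spec.map (CommRingCat.ofHom α) ≫ g₂) :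
    g₁ = g₂ := by
  rw [← SpecMap_toAff_fromSpec g₁ hW h₁, ← SpecMap_toAff_fromSpec g₂ hW h₂]
  have h1' : (Spec.map (CommRingCat.ofHom α) ≫ g₁) ⁻¹ᵁ W = ⊤ := by
    change (Spec.map (CommRingCat.ofHom α)) ⁻¹ᵁ (g₁ ⁻¹ᵁ W) = ⊤
    rw [h₁]; rfl
  have h2' : (Spec.map (CommRingCat.ofHom α) ≫ g₂) ⁻¹ᵁ W = ⊤ := by
    change (Spec.map (CommRingCat.ofHom α)) ⁻¹ᵁ (g₂ ⁻¹ᵁ W) = ⊤
    rw [h₂]; rfl
  have key : toAff g₁ W h₁ ≫ CommRingCat.ofHom α = toAff g₂ W h₂ ≫ CommRingCat.ofHom α := by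
    rw [← toAff_comp_left _ g₁ W h₁ h1', ← toAff_comp_left _ g₂ W h₂ h2']
    exact toAff_congr h W h1' h2'
  have : toAff g₁ W h₁ = toAff g₂ W h₂ := by
    ext x
    apply hα
    exact congrArg (fun φ => φ.hom x) key
  rw [this]

/-- A quasi-compact morphism all of whose base changes to the affine spaces `𝔸ⁿ_Y` are closed maps
satisfies the existence part of the valuative criterion. -/
theorem existence_of_affineSpace_closed (f : X ⟶ Y) [QuasiCompact f]
    (H : ∀ n : ℕ, IsClosedMap (pullback.snd f (𝔸(ULift.{u} (Fin n); Y) ↘ Y)).base) :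
    ValuativeCriterion.Existence f := by
  rintro ⟨R, K, i₁, i₂, ⟨w⟩⟩
  obtain ⟨W, hW, hs₀W, -⟩ := Opens.isBasis_iff_nbhd.mp Y.isBasis_affineOpens
    (Opens.mem_top (i₂.base (IsLocalRing.closedPoint R)))
  have hi₂W : i₂ ⁻¹ᵁ W = ⊤ := preimage_eq_top_of_closedPoint_mem i₂ W hs₀W
  have hcpt : IsCompact ((f ⁻¹ᵁ W : X.Opens) : Set X) :=
    f.isCompact_preimage (IsAffineOpen.isCompact hW)
  obtain ⟨𝒰, h𝒰fin, h𝒰⟩ := isCompact_iff_finite_and_eq_biUnion_affineOpens.mp hcpt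
  have hpre : ∀ U : X.Opens, i₁.base (IsLocalRing.closedPoint K) ∈ U → i₁ ⁻¹ᵁ U = ⊤ :=
    fun U hU => preimage_eq_top_of_closedPoint_mem i₁ U hU
  -- the main claim
  have claim : ∃ U : X.affineOpens, U ∈ 𝒰 ∧ ∃ hx : i₁.base (IsLocalRing.closedPoint K) ∈ U.1,
      ∀ b : Γ(X, U.1), (toAff i₁ U.1 (hpre U.1 hx)).hom b ∈ Set.range (algebraMap R K) := by
    by_contra hcon
    push Not at hcon
    let 𝒰' : Set X.affineOpens := {U | U ∈ 𝒰 ∧ i₁.base (IsLocalRing.closedPoint K) ∈ U.1}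
    have hfin' : 𝒰'.Finite := h𝒰fin.subset (fun U h => h.1)
    have : Finite 𝒰' := hfin'.to_subtype
    obtain ⟨n, ⟨e⟩⟩ := Finite.exists_equiv_fin 𝒰'
    let Uf : ULift.{u} (Fin n) → X.Opens := fun j => (e.symm j.down).1.1
    have hUf : ∀ j, i₁ ⁻¹ᵁ (Uf j) = ⊤ := fun j => hpre _ (e.symm j.down).2.2
    have hex : ∀ j, ∃ b : Γ(X, Uf j),
        (toAff i₁ (Uf j) (hUf j)).hom b ∉ Set.range (algebraMap R K) :=
      fun j => hcon (e.symm j.down).1 (e.symm j.down).2.1 (e.symm j.down).2.2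
    choose bf hbf using hex
    obtain ⟨x, hx₀x, hfx, hxU⟩ :=
      exists_specialization_of_closed f i₁ i₂ w n (H n) Uf hUf bf hbf
    have hxW : x ∈ f ⁻¹ᵁ W := by
      change f.base x ∈ W
      rw [hfx]; exact hs₀W
    rw [h𝒰] at hxW
    simp only [Opens.mem_iSup] at hxW
    obtain ⟨U, hU𝒰, hxU'⟩ := hxW
    have hx₀U : i₁.base (IsLocalRing.closedPoint K) ∈ U.1 := hx₀x.mem_open U.1.2 hxU'
    have hmem : U ∈ 𝒰' := ⟨hU𝒰, hx₀U⟩
    apply hxU ⟨e ⟨U, hmem⟩⟩
    change x ∈ (e.symm (e ⟨U, hmem⟩)).1.1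
    rw [Equiv.symm_apply_apply]
    exact hxU'
  obtain ⟨U, hU𝒰, hx, hall⟩ := claim
  -- construct the lift
  let φ : Γ(X, U.1) →+* K := (toAff i₁ U.1 (hpre U.1 hx)).hom
  have hinj : Function.Injective (algebraMap R K) := IsFractionRing.injective R K
  let e : R ≃+* (algebraMap R K).range :=
    RingEquiv.ofBijective (algebraMap R K).rangeRestrict
      ⟨fun a b hab => hinj (congrArg Subtype.val hab), (algebraMap R K).rangeRestrict_surjective⟩
  let ψ : Γ(X, U.1) →+* R := e.symm.toRingHom.comp (φ.codRestrict (algebraMap R K).range hall)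
  have hψ : ∀ b, algebraMap R K (ψ b) = φ b := by
    intro b
    have : (algebraMap R K).rangeRestrict (e.symm (φ.codRestrict (algebraMap R K).range hall b)) =
        φ.codRestrict (algebraMap R K).range hall b := e.apply_symm_apply _
    exact congrArg Subtype.val this
  have hψ' : CommRingCat.ofHom ψ ≫ CommRingCat.ofHom (algebraMap R K) =
      toAff i₁ U.1 (hpre U.1 hx) := by
    ext b
    exact hψ b
  let l : Spec (CommRingCat.of R) ⟶ X := Spec.map (CommRingCat.ofHom ψ) ≫ U.2.fromSpec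
  have hl1 : Spec.map (CommRingCat.ofHom (algebraMap R K)) ≫ l = i₁ := by
    rw [← Spec.map_comp_assoc, hψ', SpecMap_toAff_fromSpec]
  have hUW : U.1 ≤ f ⁻¹ᵁ W := by
    rw [h𝒰]
    exact le_iSup₂_of_le U hU𝒰 le_rfl
  have hlW : (l ≫ f) ⁻¹ᵁ W = ⊤ := by
    rw [_root_.eq_top_iff]
    intro p _
    apply hUW
    change (Spec.map (CommRingCat.ofHom ψ) ≫ U.2.fromSpec).base p ∈ (U.1 : Set X)
    rw [← U.2.range_fromSpec, Scheme.Hom.comp_apply]
    exact Set.mem_range_self _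
  have hl2 : l ≫ f = i₂ := by
    refine eq_of_comp_eq_of_affine (algebraMap R K) hinj (l ≫ f) i₂ hW hlW hi₂W ?_
    rw [← Category.assoc, hl1, w]
  exact ⟨⟨⟨l, hl1, hl2⟩⟩⟩

end Groth.Agent.H73.AnClosed
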