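import Mathlib

/-!
# Composite valuation rings

Given a local ring `A₁` mapping to a field `F`, and a valuation ring `RK` of a field `K` receiving
a local homomorphism from `A₁`, there are valuation rings `V ≤ V₁` of `F` such that `V₁` dominates
`A₁` and `V` induces `RK` on the residue field of `A₁`.
-/

set_option autoImplicit false

namespace Groth.Agent.H73.CompositeVal

open IsLocalRing

variable {F : Type*} [Field F]

lemma residue_eq_zero_of_val_lt (V₁ : ValuationSubring F) {v : F} (hv : v ∈ V₁)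
    (h : V₁.valuation v < 1) : residue V₁ ⟨v, hv⟩ = 0 :=
  (residue_eq_zero_iff _).mpr ((V₁.valuation_lt_one_iff ⟨v, hv⟩).mpr h)

/-- The preimage in `V₁` of a valuation subring of the residue field of `V₁`. -/
noncomputable def comp (V₁ : ValuationSubring F)
    (V₂ : ValuationSubring (ResidueField V₁)) : ValuationSubring F where
  toSubring := (V₂.toSubring.comap (residue V₁)).map V₁.subtype
  mem_or_inv_mem' := by
    intro v
    rcases lt_trichotomy (V₁.valuation v) 1 with h | h | h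
    · left
      have hv : v ∈ V₁ := (V₁.valuation_le_one_iff v).mp h.le
      refine ⟨⟨v, hv⟩, ?_, rfl⟩
      change residue V₁ ⟨v, hv⟩ ∈ V₂
      rw [residue_eq_zero_of_val_lt V₁ hv h]
      exact zero_mem _
    · have hv : v ∈ V₁ := (V₁.valuation_le_one_iff v).mp h.le
      have hv' : v⁻¹ ∈ V₁ := (V₁.valuation_le_one_iff _).mp (by rw [map_inv₀, h, inv_one])
      have hv0 : v ≠ 0 := by
        rintro rfl
        rw [map_zero] at h
        exact zero_ne_one h
      have hprod : residue V₁ ⟨v, hv⟩ * residue V₁ ⟨v⁻¹, hv'⟩ = 1 := by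
        rw [← map_mul]
        have : (⟨v, hv⟩ : V₁) * ⟨v⁻¹, hv'⟩ = 1 := Subtype.ext (mul_inv_cancel₀ hv0)
        rw [this, map_one]
      rcases V₂.mem_or_inv_mem (residue V₁ ⟨v, hv⟩) with h2 | h2
      · left
        exact ⟨⟨v, hv⟩, h2, rfl⟩
      · right
        refine ⟨⟨v⁻¹, hv'⟩, ?_, rfl⟩
        change residue V₁ ⟨v⁻¹, hv'⟩ ∈ V₂
        rw [eq_inv_of_mul_eq_one_right hprod]
        exact h2
    · right
      have h' : V₁.valuation v⁻¹ < 1 := by
        rw [map_inv₀]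
        exact inv_lt_one_of_one_lt₀ h
      have hv : v⁻¹ ∈ V₁ := (V₁.valuation_le_one_iff _).mp h'.le
      refine ⟨⟨v⁻¹, hv⟩, ?_, rfl⟩
      change residue V₁ ⟨v⁻¹, hv⟩ ∈ V₂
      rw [residue_eq_zero_of_val_lt V₁ hv h']
      exact zero_mem _

lemma mem_comp_iff (V₁ : ValuationSubring F) (V₂ : ValuationSubring (ResidueField V₁)) (v : F) :
    v ∈ comp V₁ V₂ ↔ ∃ hv : v ∈ V₁, residue V₁ ⟨v, hv⟩ ∈ V₂ := by
  constructor
  · rintro ⟨w, hw, rfl⟩
    exact ⟨w.2, hw⟩
  · rintro ⟨hv, h⟩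
    exact ⟨⟨v, hv⟩, h, rfl⟩

lemma comp_le (V₁ : ValuationSubring F) (V₂ : ValuationSubring (ResidueField V₁)) :
    comp V₁ V₂ ≤ V₁ := fun v hv => ((mem_comp_iff V₁ V₂ v).mp hv).1

/-- An element of `V₁` whose residue has `V₂`-valuation `< 1` has `comp`-valuation `< 1`. -/
lemma valuation_comp_lt_one (V₁ : ValuationSubring F) (V₂ : ValuationSubring (ResidueField V₁))
    {v : F} (hv : v ∈ V₁) (h : V₂.valuation (residue V₁ ⟨v, hv⟩) < 1) :
    (comp V₁ V₂).valuation v < 1 := by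
  by_contra hcon
  rw [not_lt] at hcon
  have hv0 : v ≠ 0 := by
    rintro rfl
    rw [map_zero] at hcon
    exact not_le.mpr zero_lt_one hcon
  have hinv : v⁻¹ ∈ comp V₁ V₂ := by
    rw [← ValuationSubring.valuation_le_one_iff, map_inv₀]
    exact inv_le_one_of_one_le₀ hcon
  obtain ⟨hv', h2⟩ := (mem_comp_iff V₁ V₂ _).mp hinv
  have hprod : residue V₁ ⟨v, hv⟩ * residue V₁ ⟨v⁻¹, hv'⟩ = 1 := by
    rw [← map_mul]
    have : (⟨v, hv⟩ : V₁) * ⟨v⁻¹, hv'⟩ = 1 := Subtype.ext (mul_inv_cancel₀ hv0)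
    rw [this, map_one]
  have h3 : V₂.valuation (residue V₁ ⟨v⁻¹, hv'⟩) ≤ 1 := (V₂.valuation_le_one_iff _).mpr h2
  have h4 := congrArg V₂.valuation hprod
  rw [map_mul, map_one] at h4
  have h5 : V₂.valuation (residue V₁ ⟨v, hv⟩) * V₂.valuation (residue V₁ ⟨v⁻¹, hv'⟩) < 1 :=
    mul_lt_one_of_nonneg_of_lt_one_left zero_le' h h3
  exact h5.ne h4

/-- **Composite valuation rings.** -/
theorem exists_composite {A₁ K : Type*} [CommRing A₁] [IsLocalRing A₁] [Field K]
    (α : A₁ →+* F) (ψ : A₁ →+* K) [IsLocalHom ψ] (RK : ValuationSubring K) :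
    ∃ V₁ V : ValuationSubring F, V ≤ V₁ ∧
      (∃ h : ∀ a, α a ∈ V₁, IsLocalHom (α.codRestrict V₁.toSubring h)) ∧
      (∀ a, ψ a ∈ RK → α a ∈ V) ∧
      (∀ a, RK.valuation (ψ a) < 1 → V.valuation (α a) < 1) ∧
      (∀ a, α a ∈ V → ψ a ∈ RK) := by
  obtain ⟨V₁, h₁, hloc₁⟩ := IsLocalRing.exists_factor_valuationRing α
  let j₁ : A₁ →+* V₁ := α.codRestrict V₁.toSubring h₁
  haveI : IsLocalHom j₁ := hloc₁
  let ι : ResidueField A₁ →+* ResidueField V₁ := ResidueField.map j₁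
  let ψbar : ResidueField A₁ →+* K := ResidueField.lift ψ
  let R₁ : ValuationSubring (ResidueField A₁) := RK.comap ψbar
  obtain ⟨V₂, h₂, hloc₂⟩ := IsLocalRing.exists_factor_valuationRing (ι.comp R₁.subtype)
  have hres : ∀ a, residue V₁ ⟨α a, h₁ a⟩ = ι (residue A₁ a) := fun a =>
    (ResidueField.map_residue j₁ a).symm
  have hψbar : ∀ a, ψbar (residue A₁ a) = ψ a := fun a => ResidueField.lift_residue_apply ψ a
  have hmemR₁ : ∀ a, ψ a ∈ RK → residue A₁ a ∈ R₁ := fun a ha => by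
    change ψbar (residue A₁ a) ∈ RK
    rwa [hψbar]
  have hii : ∀ a, RK.valuation (ψ a) < 1 → (comp V₁ V₂).valuation (α a) < 1 := by
    intro a ha
    have haR : ψ a ∈ RK := (RK.valuation_le_one_iff _).mp ha.le
    let r : R₁ := ⟨residue A₁ a, hmemR₁ a haR⟩
    have hr : ¬ IsUnit r := by
      rintro ⟨u, hu⟩
      have h1 : (r : ResidueField A₁) * ((u⁻¹ : R₁ˣ) : R₁).1 = 1 := by
        rw [← hu]
        exact congrArg Subtype.val u.mul_inv
      have h2 := congrArg ψbar h1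
      rw [map_mul, map_one, hψbar] at h2
      have h3 : RK.valuation (ψbar ((u⁻¹ : R₁ˣ) : R₁).1) ≤ 1 :=
        (RK.valuation_le_one_iff _).mpr ((u⁻¹ : R₁ˣ) : R₁).2
      have h4 := congrArg RK.valuation h2
      rw [map_mul, map_one] at h4
      exact (mul_lt_one_of_nonneg_of_lt_one_left zero_le' ha h3).ne h4
    have hr2 : ¬ IsUnit ((ι.comp R₁.subtype).codRestrict V₂.toSubring h₂ r) := fun hu =>
      hr (hloc₂.map_nonunit r hu)
    have hr3 : (⟨ι (residue A₁ a), h₂ r⟩ : V₂) ∈ maximalIdeal V₂ := (mem_maximalIdeal _).mpr hr2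
    have hr4 : V₂.valuation (ι (residue A₁ a)) < 1 := (V₂.valuation_lt_one_iff _).mp hr3
    exact valuation_comp_lt_one V₁ V₂ (h₁ a) (by rw [hres]; exact hr4)
  refine ⟨V₁, comp V₁ V₂, comp_le _ _, ⟨h₁, hloc₁⟩, ?_, hii, ?_⟩
  · intro a ha
    refine (mem_comp_iff V₁ V₂ _).mpr ⟨h₁ a, ?_⟩
    rw [hres]
    exact h₂ ⟨residue A₁ a, hmemR₁ a ha⟩
  · intro a ha
    by_contra hcon
    have hval : 1 < RK.valuation (ψ a) := by
      rw [← not_le]
      exact fun h => hcon ((RK.valuation_le_one_iff _).mp h)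
    have hψ0 : ψ a ≠ 0 := by
      intro h0
      rw [h0, map_zero] at hval
      exact not_lt.mpr zero_le' hval
    have hunit : IsUnit a := IsLocalHom.map_nonunit a (isUnit_iff_ne_zero.mpr hψ0)
    obtain ⟨u, rfl⟩ := hunit
    have hinv : ψ ((u⁻¹ : A₁ˣ) : A₁) = (ψ (u : A₁))⁻¹ := by
      have : ψ (u : A₁) * ψ ((u⁻¹ : A₁ˣ) : A₁) = 1 := by
        rw [← map_mul, u.mul_inv, map_one]
      exact eq_inv_of_mul_eq_one_right this
    have h1 : RK.valuation (ψ ((u⁻¹ : A₁ˣ) : A₁)) < 1 := by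
      rw [hinv, map_inv₀]
      exact inv_lt_one_of_one_lt₀ hval
    have h2 := hii _ h1
    have h3 : (comp V₁ V₂).valuation (α (u : A₁)) ≤ 1 :=
      ((comp V₁ V₂).valuation_le_one_iff _).mpr ha
    have h4 : α (u : A₁) * α ((u⁻¹ : A₁ˣ) : A₁) = 1 := by
      rw [← map_mul, u.mul_inv, map_one]
    have h5 := congrArg (comp V₁ V₂).valuation h4
    rw [map_mul, map_one] at h5
    have h6 : (comp V₁ V₂).valuation (α (u : A₁)) *
        (comp V₁ V₂).valuation (α ((u⁻¹ : A₁ˣ) : A₁)) < 1 := by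
      rw [mul_comm]
      exact mul_lt_one_of_nonneg_of_lt_one_left zero_le' h2 h3
    exact h6.ne h5

end Groth.Agent.H73.CompositeVal
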