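import Mathlib
import Groth.Agent.H73.CompositeVal

/-!
# Properness from valuation rings of the function field

If `f : X ⟶ Y` is a dominant morphism of integral separated schemes such that every valuation
ring of `K(X)` dominating a local ring of `Y` dominates a local ring of `X`, then `f` satisfies
the existence part of the valuative criterion.
-/

set_option autoImplicit false
universe u
open CategoryTheory CategoryTheory.Limits AlgebraicGeometry IsLocalRing

namespace Groth.Agent.H73.ValProper

open CompositeVal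

variable {X Y : Scheme.{u}}

/-- The valuation subring of the fraction field of a valuation ring. -/
noncomputable def rangeVS (R K : Type*) [CommRing R] [IsDomain R] [ValuationRing R] [Field K]
    [Algebra R K] [IsFractionRing R K] : ValuationSubring K :=
  ⟨(algebraMap R K).range, ValuationRing.isInteger_or_isInteger R⟩

lemma mem_rangeVS {R K : Type*} [CommRing R] [IsDomain R] [ValuationRing R] [Field K]
    [Algebra R K] [IsFractionRing R K] (v : K) :
    v ∈ rangeVS R K ↔ ∃ r, algebraMap R K r = v := Iff.rfl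

lemma valuation_rangeVS_lt_one {R K : Type*} [CommRing R] [IsDomain R] [ValuationRing R] [Field K]
    [Algebra R K] [IsFractionRing R K] (r : R) (hr : r ∈ maximalIdeal R) :
    (rangeVS R K).valuation (algebraMap R K r) < 1 := by
  by_contra hcon
  rw [not_lt] at hcon
  have hr0 : algebraMap R K r ≠ 0 := by
    intro h0
    rw [h0, map_zero] at hcon
    exact not_le.mpr zero_lt_one hcon
  have hinv : (algebraMap R K r)⁻¹ ∈ rangeVS R K := by
    rw [← ValuationSubring.valuation_le_one_iff, map_inv₀]
    exact inv_le_one_of_one_le₀ hcon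
  obtain ⟨t, ht⟩ := hinv
  have h1 : algebraMap R K (r * t) = 1 := by
    rw [map_mul, ht, mul_inv_cancel₀ hr0]
  have h2 : r * t = 1 := IsFractionRing.injective R K (by rw [h1, map_one])
  exact (mem_maximalIdeal _).mp hr (IsUnit.of_mul_eq_one _ h2)

lemma isDominant_SpecMap_of_injective {R S : CommRingCat.{u}} (φ : R ⟶ S)
    (h : Function.Injective φ.hom) : IsDominant (Spec.map φ) := by
  refine ⟨?_⟩
  have := (PrimeSpectrum.denseRange_comap_iff_ker_le_nilRadical (f := φ.hom)).mpr
    (by rw [(RingHom.injective_iff_ker_eq_bot _).mp h]; exact bot_le)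
  exact this

theorem existence [IsIntegral X] [IsIntegral Y] [X.IsSeparated] [Y.IsSeparated] (f : X ⟶ Y)
    (h : ∀ (R : ValuationSubring X.functionField) (y : Y) (hy : f.base (genericPoint X) ⤳ y),
        ((∀ a : Y.presheaf.stalk y, (Y.presheaf.stalkSpecializes hy ≫ f.stalkMap (genericPoint X)).hom a ∈ R) ∧
          ∀ a ∈ IsLocalRing.maximalIdeal (Y.presheaf.stalk y),
            R.valuation ((Y.presheaf.stalkSpecializes hy ≫ f.stalkMap (genericPoint X)).hom a) < 1) →
        ∃ x : X, (∀ a : X.presheaf.stalk x, algebraMap (X.presheaf.stalk x) X.functionField a ∈ R) ∧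
          ∀ a ∈ IsLocalRing.maximalIdeal (X.presheaf.stalk x), R.valuation (algebraMap (X.presheaf.stalk x) X.functionField a) < 1) :
    ValuativeCriterion.Existence f := by
  intro S
  let ρ : S.R →+* S.K := algebraMap S.R S.K
  have hρ : Function.Injective ρ := IsFractionRing.injective S.R S.K
  let x₁ : X := S.i₁ (closedPoint S.K)
  let y₀ : Y := S.i₂ (closedPoint S.R)
  let ψ₁ : X.presheaf.stalk x₁ ⟶ CommRingCat.of S.K := Scheme.stalkClosedPointTo S.i₁
  let ψ₂ : Y.presheaf.stalk y₀ ⟶ CommRingCat.of S.R := Scheme.stalkClosedPointTo S.i₂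
  have hspec : f x₁ ⤳ y₀ := by
    have h1 : f x₁ = S.i₂ (Spec.map (CommRingCat.ofHom ρ) (closedPoint S.K : Spec (.of S.K))) := by
      change (S.i₁ ≫ f) _ = (Spec.map (CommRingCat.ofHom ρ) ≫ S.i₂) _
      rw [S.commSq.w]
    rw [h1]
    exact (specializes_closedPoint (R := S.R) _).map S.i₂.continuous
  have hC1 : (Y.presheaf.stalkSpecializes hspec ≫ f.stalkMap x₁) ≫ ψ₁ = ψ₂ ≫ CommRingCat.ofHom ρ := by
    apply Spec.map_injective
    rw [← cancel_mono (Y.fromSpecStalk y₀)]
    simp only [Spec.map_comp, Category.assoc]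
    rw [Scheme.SpecMap_stalkSpecializes_fromSpecStalk, Scheme.SpecMap_stalkMap_fromSpecStalk, 
      Scheme.Spec_stalkClosedPointTo_fromSpecStalk_assoc, Scheme.Spec_stalkClosedPointTo_fromSpecStalk]
    exact S.commSq.w
  have hξ₁ : genericPoint X ⤳ x₁ := (genericPoint_spec X).specializes trivial
  have hy : f (genericPoint X) ⤳ y₀ := (hξ₁.map f.continuous).trans hspec
  have hC2 : Y.presheaf.stalkSpecializes hy ≫ f.stalkMap (genericPoint X) =
      (Y.presheaf.stalkSpecializes hspec ≫ f.stalkMap x₁) ≫ X.presheaf.stalkSpecializes hξ₁ := by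
    rw [Category.assoc, ← Scheme.Hom.stalkSpecializes_stalkMap, ← Category.assoc,
      TopCat.Presheaf.stalkSpecializes_comp]
  let α : X.presheaf.stalk x₁ →+* X.functionField := (X.presheaf.stalkSpecializes hξ₁).hom
  haveI : IsLocalHom ψ₁.hom := Scheme.isLocalHom_stalkClosedPointTo S.i₁
  obtain ⟨V₁, V, hVV₁, ⟨hα₁, hloc₁⟩, hi, hii, hiii⟩ :=
    exists_composite α ψ₁.hom (rangeVS S.R S.K)
  have key : ∀ a, (Y.presheaf.stalkSpecializes hy ≫ f.stalkMap (genericPoint X)).hom a =
      α ((Y.presheaf.stalkSpecializes hspec ≫ f.stalkMap x₁).hom a) := by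
    intro a; rw [hC2]; rfl
  have key2 : ∀ a, ψ₁.hom ((Y.presheaf.stalkSpecializes hspec ≫ f.stalkMap x₁).hom a) =
      ρ (ψ₂.hom a) := by
    intro a
    exact congrArg (fun g => g.hom a) hC1
  have hdom : (∀ a : Y.presheaf.stalk y₀,
      (Y.presheaf.stalkSpecializes hy ≫ f.stalkMap (genericPoint X)).hom a ∈ V) ∧
      ∀ a ∈ IsLocalRing.maximalIdeal (Y.presheaf.stalk y₀),
        V.valuation ((Y.presheaf.stalkSpecializes hy ≫ f.stalkMap (genericPoint X)).hom a) < 1 := by
    constructor
    · intro a
      rw [key]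
      apply hi
      rw [key2]
      exact ⟨_, rfl⟩
    · intro a ha
      rw [key]
      apply hii
      rw [key2]
      apply valuation_rangeVS_lt_one
      haveI : IsLocalHom ψ₂.hom := Scheme.isLocalHom_stalkClosedPointTo S.i₂
      exact (mem_maximalIdeal _).mpr
        (fun hu => (mem_maximalIdeal _).mp ha (isUnit_of_map_unit ψ₂.hom a hu))
  obtain ⟨x, hx1, hx2⟩ := h V y₀ hy hdom
  have hξx : genericPoint X ⤳ x := (genericPoint_spec X).specializes trivial
  let αx : X.presheaf.stalk x →+* X.functionField := (X.presheaf.stalkSpecializes hξx).hom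
  let j₁ : X.presheaf.stalk x₁ →+* V₁ := α.codRestrict V₁.toSubring hα₁
  let jx : X.presheaf.stalk x →+* V₁ := αx.codRestrict V₁.toSubring (fun a => hVV₁ (hx1 a))
  let g₁ : Spec (.of V₁) ⟶ X := Spec.map (CommRingCat.ofHom j₁) ≫ X.fromSpecStalk x₁
  let g₂ : Spec (.of V₁) ⟶ X := Spec.map (CommRingCat.ofHom jx) ≫ X.fromSpecStalk x
  let ι : Spec (.of X.functionField) ⟶ Spec (.of V₁) := Spec.map (CommRingCat.ofHom V₁.subtype)
  haveI : IsDominant ι := isDominant_SpecMap_of_injective _ Subtype.val_injective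
  have hg : g₁ = g₂ := by
    apply ext_of_isDominant ι
    have e1 : ι ≫ g₁ = X.fromSpecStalk (genericPoint X) := by
      rw [← Scheme.SpecMap_stalkSpecializes_fromSpecStalk hξ₁]
      simp only [ι, g₁, ← Category.assoc, ← Spec.map_comp]
      rfl
    have e2 : ι ≫ g₂ = X.fromSpecStalk (genericPoint X) := by
      rw [← Scheme.SpecMap_stalkSpecializes_fromSpecStalk hξx]
      simp only [ι, g₂, ← Category.assoc, ← Spec.map_comp]
      rfl
    rw [e1, e2]
  have hx₁x : x₁ ⤳ x := by
    have e1 : g₁ (closedPoint V₁) = x₁ := by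
      change (X.fromSpecStalk x₁) (Spec.map (CommRingCat.ofHom j₁) (closedPoint V₁)) = x₁
      rw [show Spec.map (CommRingCat.ofHom j₁) (closedPoint V₁) = closedPoint _ from
        comap_closedPoint j₁]
      exact Scheme.fromSpecStalk_closedPoint
    have e2 : g₂ (closedPoint V₁) ∈ Set.range (X.fromSpecStalk x) := ⟨_, rfl⟩
    rw [Scheme.range_fromSpecStalk] at e2
    rw [← hg, e1] at e2
    exact e2
  let sp : X.presheaf.stalk x ⟶ X.presheaf.stalk x₁ := X.presheaf.stalkSpecializes hx₁x
  have hsp : ∀ a, α (sp.hom a) = αx a := by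
    intro a
    change (sp ≫ X.presheaf.stalkSpecializes hξ₁).hom a = _
    rw [TopCat.Presheaf.stalkSpecializes_comp]
  have hmem : ∀ a, (ψ₁.hom.comp sp.hom) a ∈ ρ.range :=
    fun a => hiii _ (by rw [hsp]; exact hx1 a)
  let e : S.R ≃+* ρ.range := RingEquiv.ofBijective ρ.rangeRestrict
    ⟨fun a b hab => hρ (congrArg Subtype.val hab), ρ.rangeRestrict_surjective⟩
  let lam : X.presheaf.stalk x →+* S.R :=
    e.symm.toRingHom.comp ((ψ₁.hom.comp sp.hom).codRestrict ρ.range hmem)
  have hlam : ∀ a, ρ (lam a) = ψ₁.hom (sp.hom a) := by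
    intro a
    have : e (lam a) = ⟨_, hmem a⟩ := e.apply_symm_apply _
    exact congrArg Subtype.val this
  let l : Spec (.of S.R) ⟶ X := Spec.map (CommRingCat.ofHom lam) ≫ X.fromSpecStalk x
  have hl₁ : Spec.map (CommRingCat.ofHom ρ) ≫ l = S.i₁ := by
    have : CommRingCat.ofHom lam ≫ CommRingCat.ofHom ρ = sp ≫ ψ₁ := by
      ext a; exact hlam a
    rw [← Category.assoc, ← Spec.map_comp, this, Spec.map_comp, Category.assoc,
      Scheme.SpecMap_stalkSpecializes_fromSpecStalk, Scheme.Spec_stalkClosedPointTo_fromSpecStalk]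
  have hl₂ : l ≫ f = S.i₂ := by
    haveI : IsDominant (Spec.map (CommRingCat.ofHom ρ)) := isDominant_SpecMap_of_injective _ hρ
    apply ext_of_isDominant (Spec.map (CommRingCat.ofHom ρ))
    rw [← Category.assoc, hl₁]
    exact S.commSq.w
  exact ⟨⟨⟨l, hl₁, hl₂⟩⟩⟩

/-- The version with the hypothesis only for valuation rings `≠ ⊤`. -/
theorem isProper [IsIntegral X] [IsIntegral Y] [X.IsSeparated] [Y.IsSeparated] (f : X ⟶ Y)
    [LocallyOfFiniteType f] [QuasiCompact f]
    (h : ∀ (R : ValuationSubring X.functionField), R ≠ ⊤ →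
      ∀ (y : Y) (hy : f.base (genericPoint X) ⤳ y),
        ((∀ a : Y.presheaf.stalk y,
          (Y.presheaf.stalkSpecializes hy ≫ f.stalkMap (genericPoint X)).hom a ∈ R) ∧
          ∀ a ∈ IsLocalRing.maximalIdeal (Y.presheaf.stalk y),
            R.valuation
              ((Y.presheaf.stalkSpecializes hy ≫ f.stalkMap (genericPoint X)).hom a) < 1) →
        ∃ x : X, (∀ a : X.presheaf.stalk x,
          algebraMap (X.presheaf.stalk x) X.functionField a ∈ R) ∧
          ∀ a ∈ IsLocalRing.maximalIdeal (X.presheaf.stalk x),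
            R.valuation (algebraMap (X.presheaf.stalk x) X.functionField a) < 1) :
    IsProper f := by
  have hex : ValuativeCriterion.Existence f := by
    apply existence
    intro R y hy hdom
    by_cases hR : R = ⊤
    · subst hR
      refine ⟨genericPoint X, fun a => trivial, fun a ha => ?_⟩
      have ha0 : a = 0 := by
        by_contra hne
        have hu : IsUnit (show X.functionField from a) := isUnit_iff_ne_zero.mpr hne
        exact (mem_maximalIdeal _).mp ha hu
      rw [ha0, map_zero, map_zero]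
      exact zero_lt_one
    · exact h R hR y hy hdom
  haveI : UniversallyClosed f := UniversallyClosed.of_valuativeCriterion f hex
  exact {}

end Groth.Agent.H73.ValProper
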