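import Mathlib
import Groth.Agent.H47.SmoothNormal

/-!
# Schemes smooth over a field are normal
-/

set_option autoImplicit false
universe u
open CategoryTheory CategoryTheory.Limits AlgebraicGeometry TopologicalSpace

namespace Groth.Agent.H73.SmoothNormalScheme

/-- A scheme smooth over a field is normal. -/
theorem isNormal_of_smooth_field (k : Type u) [Field k] {Y : Scheme.{u}}
    (g : Y ⟶ Spec (CommRingCat.of k)) [Smooth g] (y : Y) :
    IsDomain (Y.presheaf.stalk y) ∧ IsIntegrallyClosed (Y.presheaf.stalk y) := by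
  obtain ⟨⟨U, hU⟩, hyU⟩ : ∃ U : Y.affineOpens, y ∈ (U : Y.Opens) := by
    have := Y.isBasis_affineOpens.exists_subset_of_mem_open (Set.mem_univ y) isOpen_univ
    obtain ⟨_, ⟨U, hU, rfl⟩, hy, -⟩ := this
    exact ⟨⟨U, hU⟩, hy⟩
  have hV : IsAffineOpen (⊤ : (Spec (CommRingCat.of k)).Opens) := isAffineOpen_top _
  have hUV : U ≤ g ⁻¹ᵁ ⊤ := le_top
  letI := (g.appLE ⊤ U hUV).hom.toAlgebra
  haveI : Algebra.Smooth Γ(Spec (CommRingCat.of k), ⊤) Γ(Y, U) := g.smooth_appLE hV hU hUV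
  let e : Γ(Spec (CommRingCat.of k), ⊤) ≃+* k :=
    (Scheme.ΓSpecIso (CommRingCat.of k)).commRingCatIsoToRingEquiv
  haveI : IsDomain Γ(Spec (CommRingCat.of k), ⊤) := e.toMulEquiv.isDomain k
  haveI : IsIntegrallyClosed Γ(Spec (CommRingCat.of k), ⊤) := IsIntegrallyClosed.of_equiv e.symm
  letI : Algebra Γ(Y, U) (Y.presheaf.stalk y) := Y.presheaf.algebra_section_stalk ⟨y, hyU⟩
  haveI : IsLocalization.AtPrime (Y.presheaf.stalk y) (hU.primeIdealOf ⟨y, hyU⟩).asIdeal :=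
    hU.isLocalization_stalk ⟨y, hyU⟩
  letI : Algebra Γ(Spec (CommRingCat.of k), ⊤) (Y.presheaf.stalk y) :=
    ((algebraMap Γ(Y, U) (Y.presheaf.stalk y)).comp
      (algebraMap Γ(Spec (CommRingCat.of k), ⊤) Γ(Y, U))).toAlgebra
  haveI : IsScalarTower Γ(Spec (CommRingCat.of k), ⊤) Γ(Y, U) (Y.presheaf.stalk y) :=
    IsScalarTower.of_algebraMap_eq (fun _ => rfl)
  exact Groth.Agent.H47.EtaleNormal.isDomain_isIntegrallyClosed_atPrime_of_smooth
    Γ(Spec (CommRingCat.of k), ⊤) Γ(Y, U) (hU.primeIdealOf ⟨y, hyU⟩).asIdeal (Y.presheaf.stalk y)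

end Groth.Agent.H73.SmoothNormalScheme
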