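import Mathlib
import Groth.Prelude.Def_EtBCD
import Groth.Agent.H67.SecDesc.Defs

set_option autoImplicit false

universe u

open CategoryTheory CategoryTheory.Limits AlgebraicGeometry Opposite
open Groth.Agent.H67.SecDesc

namespace Groth.Agent.H73.SecDesc_L0

theorem theta_transpose {A B : Scheme.{u}} (f : A ⟶ B) (F : EtDesc.Sh B) (M : EtDesc.Sh A)
    (φ : F ⟶ (EtDesc.pushSh f).obj M) (s : EtDesc.sect F (EtCoh.top B)) :
    theta f M (φ.hom.app (op (EtCoh.top B)) s) =
      (((EtDesc.adjSh f).homEquiv F M).symm φ).hom.app (op (EtCoh.top A))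
        (EtDesc.secPull f F s) := by
  set ψ := ((EtDesc.adjSh f).homEquiv F M).symm φ with hψ
  have hφ : φ = (EtDesc.adjSh f).unit.app F ≫ (EtDesc.pushSh f).map ψ := by
    have h1 : (EtDesc.adjSh f).homEquiv F M ψ = φ := by rw [hψ, Equiv.apply_symm_apply]
    rw [← h1]
    exact (EtDesc.adjSh f).homEquiv_unit F M ψ
  have e1 : φ.hom.app (op (EtCoh.top B)) s =
      ψ.hom.app (op ((EtCoh.bc f).obj (EtCoh.top B)))
        (((EtDesc.adjSh f).unit.app F).hom.app (op (EtCoh.top B)) s) := by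
    conv_lhs => rw [hφ]
    rfl
  unfold theta EtDesc.secPull
  rw [e1]
  exact (NatTrans.naturality_apply ψ.hom (EtCore.bcTopIso f).inv.op _).symm

end Groth.Agent.H73.SecDesc_L0
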