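import Groth.Prelude.Def_AgPol
import Groth.Prelude.Def_BlowUp2
import Mathlib

/-!
# (AB-3a) for helper79's S16247 squad: the points of a closed subscheme `D` of a group scheme `E`
form a subgroup over every `T' → T` iff three closed conditions hold.
-/

set_option autoImplicit false
universe u
open CategoryTheory CategoryTheory.Limits AlgebraicGeometry MonoidalCategory
  CartesianMonoidalCategory MonObj GrpObj

namespace Groth.Agent.H73.AB_3a

theorem le_ker_iff_factors {X Y : Scheme.{u}} (I : Y.IdealSheafData) (g : X ⟶ Y) :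
    I ≤ g.ker ↔ ∃ v : X ⟶ I.subscheme, v ≫ I.subschemeι = g := by
  constructor
  · intro h
    exact ⟨IsClosedImmersion.lift I.subschemeι g
      (by rw [Scheme.IdealSheafData.ker_subschemeι]; exact h), IsClosedImmersion.lift_fac _ _ _⟩
  · rintro ⟨v, rfl⟩
    have := Scheme.Hom.le_ker_comp v I.subschemeι
    rwa [Scheme.IdealSheafData.ker_subschemeι] at this

variable {S : Scheme.{u}} (E : Over S) [GrpObj E]

theorem one_left {T' : Scheme.{u}} (t : T' ⟶ S) :
    (1 : Over.mk t ⟶ E).left = t ≫ η[E].left := rfl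

theorem inv_left {T' : Scheme.{u}} (t : T' ⟶ S) (x : Over.mk t ⟶ E) :
    (x⁻¹).left = x.left ≫ ι[E].left := rfl

theorem mul_left {T' : Scheme.{u}} (t : T' ⟶ S) (x y : Over.mk t ⟶ E) :
    (x * y).left = pullback.lift x.left y.left ((Over.w x).trans (Over.w y).symm) ≫ μ[E].left :=
  rfl

theorem subgroup_iff {S : Scheme.{u}} (E : Over S) [GrpObj E] (𝓓 : E.left.IdealSheafData)
    {T : Scheme.{u}} (g : T ⟶ S) :
    (∀ (T' : Scheme.{u}) (a : T' ⟶ T), ∃ H : Subgroup (Over.mk (a ≫ g) ⟶ E),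
      (H : Set (Over.mk (a ≫ g) ⟶ E)) =
        {x | ∃ d : T' ⟶ 𝓓.subscheme, d ≫ 𝓓.subschemeι = x.left}) ↔
    𝓓 ≤ (g ≫ η[E].left).ker ∧
    𝓓 ≤ (pullback.fst (𝓓.subschemeι ≫ E.hom) g ≫ 𝓓.subschemeι ≫ ι[E].left).ker ∧
    𝓓 ≤ (pullback.fst (pullback.fst (𝓓.subschemeι ≫ E.hom) (𝓓.subschemeι ≫ E.hom) ≫
          𝓓.subschemeι ≫ E.hom) g ≫
        pullback.map (𝓓.subschemeι ≫ E.hom) (𝓓.subschemeι ≫ E.hom) E.hom E.hom 𝓓.subschemeι
          𝓓.subschemeι (𝟙 S) (by simp) (by simp) ≫ μ[E].left).ker := by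
  set i := 𝓓.subschemeι with hi
  set π := i ≫ E.hom with hπ
  constructor
  · intro h
    refine ⟨?_, ?_, ?_⟩
    · -- unit
      obtain ⟨H, hH⟩ := h T (𝟙 T)
      have h1 : (1 : Over.mk (𝟙 T ≫ g) ⟶ E) ∈ (H : Set (Over.mk (𝟙 T ≫ g) ⟶ E)) := H.one_mem
      rw [hH] at h1
      obtain ⟨d, hd⟩ := h1
      rw [one_left, Category.id_comp] at hd
      exact (le_ker_iff_factors 𝓓 _).mpr ⟨d, hd⟩
    · -- inverse
      obtain ⟨H, hH⟩ := h (pullback π g) (pullback.snd π g)
      let x : Over.mk (pullback.snd π g ≫ g) ⟶ E := Over.homMk (pullback.fst π g ≫ i) (by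
        show (pullback.fst π g ≫ i) ≫ E.hom = pullback.snd π g ≫ g
        rw [Category.assoc]
        exact pullback.condition)
      have hx : x ∈ (H : Set (Over.mk (pullback.snd π g ≫ g) ⟶ E)) := by
        rw [hH]
        exact ⟨pullback.fst π g, rfl⟩
      have hx' : x⁻¹ ∈ (H : Set (Over.mk (pullback.snd π g ≫ g) ⟶ E)) := H.inv_mem hx
      rw [hH] at hx'
      obtain ⟨d, hd⟩ := hx'
      rw [inv_left] at hd
      refine (le_ker_iff_factors 𝓓 _).mpr ⟨d, ?_⟩
      rw [hd]
      show (pullback.fst π g ≫ i) ≫ ι[E].left = _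
      rw [Category.assoc]
    · -- product
      obtain ⟨H, hH⟩ := h (pullback (pullback.fst π π ≫ π) g) (pullback.snd (pullback.fst π π ≫ π) g)
      let a := pullback.snd (pullback.fst π π ≫ π) g
      let p := pullback.fst (pullback.fst π π ≫ π) g
      have hpa : p ≫ pullback.fst π π ≫ π = a ≫ g := pullback.condition
      let x : Over.mk (a ≫ g) ⟶ E := Over.homMk (p ≫ pullback.fst π π ≫ i) (by
        show (p ≫ pullback.fst π π ≫ i) ≫ E.hom = a ≫ g
        rw [← hpa, Category.assoc, Category.assoc])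
      let y : Over.mk (a ≫ g) ⟶ E := Over.homMk (p ≫ pullback.snd π π ≫ i) (by
        show (p ≫ pullback.snd π π ≫ i) ≫ E.hom = a ≫ g
        rw [← hpa, Category.assoc, Category.assoc]
        congr 1
        exact pullback.condition.symm)
      have hx : x ∈ (H : Set (Over.mk (a ≫ g) ⟶ E)) := by
        rw [hH]; exact ⟨p ≫ pullback.fst π π, by rw [Category.assoc]; rfl⟩
      have hy : y ∈ (H : Set (Over.mk (a ≫ g) ⟶ E)) := by
        rw [hH]; exact ⟨p ≫ pullback.snd π π, by rw [Category.assoc]; rfl⟩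
      have hxy : x * y ∈ (H : Set (Over.mk (a ≫ g) ⟶ E)) := H.mul_mem hx hy
      rw [hH] at hxy
      obtain ⟨d, hd⟩ := hxy
      rw [mul_left] at hd
      refine (le_ker_iff_factors 𝓓 _).mpr ⟨d, ?_⟩
      rw [hd]
      have hlift : pullback.lift x.left y.left ((Over.w x).trans (Over.w y).symm) =
          p ≫ pullback.map (i ≫ E.hom) (i ≫ E.hom) E.hom E.hom i i (𝟙 S) (by simp) (by simp) := by
        apply pullback.hom_ext
        · rw [pullback.lift_fst, Category.assoc, pullback.lift_fst]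
          rfl
        · rw [pullback.lift_snd, Category.assoc, pullback.lift_snd]
          rfl
      exact (congrArg (fun k => k ≫ μ[E].left) hlift).trans (Category.assoc _ _ _)
  · rintro ⟨h1, h2, h3⟩ T' a
    obtain ⟨v1, hv1⟩ := (le_ker_iff_factors 𝓓 _).mp h1
    obtain ⟨v2, hv2⟩ := (le_ker_iff_factors 𝓓 _).mp h2
    obtain ⟨v3, hv3⟩ := (le_ker_iff_factors 𝓓 _).mp h3
    have hw : ∀ (x : Over.mk (a ≫ g) ⟶ E) (d : T' ⟶ 𝓓.subscheme), d ≫ i = x.left →
        d ≫ π = a ≫ g := by
      intro x d hd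
      rw [hπ, ← Category.assoc, hd]
      exact Over.w x
    refine ⟨{ carrier := {x | ∃ d : T' ⟶ 𝓓.subscheme, d ≫ i = x.left}
              mul_mem' := ?_
              one_mem' := ?_
              inv_mem' := ?_ }, rfl⟩
    · rintro x y ⟨dx, hdx⟩ ⟨dy, hdy⟩
      have e1 := hw x dx hdx
      have e2 := hw y dy hdy
      let l₀ : T' ⟶ pullback π π := pullback.lift dx dy (e1.trans e2.symm)
      let l : T' ⟶ pullback (pullback.fst π π ≫ π) g := pullback.lift l₀ a (by
        rw [← Category.assoc, pullback.lift_fst, e1])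
      refine ⟨l ≫ v3, ?_⟩
      rw [Category.assoc, hv3, mul_left, ← Category.assoc, ← Category.assoc, pullback.lift_fst]
      congr 1
      apply pullback.hom_ext
      · rw [Category.assoc, pullback.lift_fst, pullback.lift_fst, ← Category.assoc,
          pullback.lift_fst, hdx]
      · rw [Category.assoc, pullback.lift_snd, pullback.lift_snd, ← Category.assoc,
          pullback.lift_snd, hdy]
    · refine ⟨a ≫ v1, ?_⟩
      rw [Category.assoc, hv1, one_left, Category.assoc]
    · rintro x ⟨d, hd⟩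
      have e1 := hw x d hd
      let l : T' ⟶ pullback π g := pullback.lift d a e1
      refine ⟨l ≫ v2, ?_⟩
      rw [Category.assoc, hv2, inv_left, ← Category.assoc, pullback.lift_fst, ← Category.assoc, hd]

end Groth.Agent.H73.AB_3a
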