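import Mathlib
import Groth.Prelude

set_option autoImplicit false

universe u

open CategoryTheory CategoryTheory.Limits AlgebraicGeometry

namespace Groth.Agent.H73.BC_A2

/-- Universal property of the affine blow-up algebra `A[I/a]`: a ring hom `ψ : A → D` with `ψ a` a non-zero-divisor
dividing `ψ x` for all `x ∈ I` extends uniquely to `A[I/a]`. -/
theorem A2 (A : Type u) [CommRing A] (I : Ideal A) (a : A) {D : Type u} [CommRing D] (ψ : A →+* D)
    (hnzd : ψ a ∈ nonZeroDivisors D) (hdiv : ∀ x ∈ I, ∃ y : D, ψ a * y = ψ x) :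
    ∃! ρ : ↥(BlowUp.affineAlgebra A I a) →+* D,
      ρ.comp (algebraMap A ↥(BlowUp.affineAlgebra A I a)) = ψ := by
  classical
  set C := BlowUp.affineAlgebra A I a with hC
  -- the localization of `D` at `ψ a`
  let D' := Localization.Away (ψ a)
  let f : D →+* D' := algebraMap D D'
  have hf : Function.Injective f := by
    refine IsLocalization.injective (M := Submonoid.powers (ψ a)) D' ?_
    exact Submonoid.powers_le.mpr hnzd
  have hunit : IsUnit ((f.comp ψ) a) := IsLocalization.Away.algebraMap_isUnit (ψ a)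
  let ℓ : Localization.Away a →+* D' := IsLocalization.Away.lift a hunit
  have hℓ : ∀ r : A, ℓ (algebraMap A (Localization.Away a) r) = f (ψ r) := fun r => by
    simpa using IsLocalization.Away.lift_eq a hunit r
  -- the image of `C` lands in the range of `f`
  have hrange : ∀ c : Localization.Away a, c ∈ C → ℓ c ∈ f.range := by
    intro c hc
    rw [hC, BlowUp.affineAlgebra] at hc
    induction hc using Algebra.adjoin_induction with
    | mem q hq =>
      obtain ⟨x, hx, rfl⟩ := hq
      obtain ⟨y, hy⟩ := hdiv x hx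
      refine ⟨y, ?_⟩
      have h1 : ℓ (IsLocalization.mk' (Localization.Away a) x ⟨a, Submonoid.mem_powers a⟩) *
          ℓ (algebraMap A (Localization.Away a) a) = ℓ (algebraMap A (Localization.Away a) x) := by
        rw [← map_mul]
        congr 1
        exact IsLocalization.mk'_spec (Localization.Away a) x ⟨a, Submonoid.mem_powers a⟩
      rw [hℓ, hℓ, ← hy, map_mul, mul_comm] at h1
      exact (hunit.mul_left_cancel h1).symm
    | algebraMap r => exact ⟨ψ r, (hℓ r).symm⟩
    | add x y _ _ hx hy => rw [map_add]; exact add_mem hx hy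
    | mul x y _ _ hx hy => rw [map_mul]; exact mul_mem hx hy
  let e : D ≃+* f.range := RingEquiv.ofBijective f.rangeRestrict
    ⟨fun x y h => hf (by simpa using congrArg Subtype.val h), f.rangeRestrict_surjective⟩
  let ρ₀ : C →+* f.range := (ℓ.comp C.val.toRingHom).codRestrict f.range (fun c => hrange c.1 c.2)
  let ρ : C →+* D := e.symm.toRingHom.comp ρ₀
  have hρ : ∀ c : C, f (ρ c) = ℓ c.1 := by
    intro c
    have h1 : e (ρ c) = ρ₀ c := by simp [ρ]
    have h2 : ((e (ρ c) : f.range) : D') = f (ρ c) := rfl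
    rw [← h2, h1]
    rfl
  have key : ∀ ρ₁ ρ₂ : C →+* D, ρ₁.comp (algebraMap A C) = ψ → ρ₂.comp (algebraMap A C) = ψ →
      ρ₁ = ρ₂ := by
    intro ρ₁ ρ₂ h₁ h₂
    ext c
    obtain ⟨⟨r, s⟩, hrs⟩ := IsLocalization.surj (Submonoid.powers a) (c : Localization.Away a)
    obtain ⟨n, hn⟩ := s.2
    have hc : c * algebraMap A C (a ^ n) = algebraMap A C r := by
      apply Subtype.ext
      have h3 : ((algebraMap A C (a ^ n) : C) : Localization.Away a)
          = algebraMap A (Localization.Away a) (a ^ n) := rfl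
      have h4 : ((algebraMap A C r : C) : Localization.Away a)
          = algebraMap A (Localization.Away a) r := rfl
      rw [MulMemClass.coe_mul, h3, h4]
      have h5 : a ^ n = (s : A) := hn
      rw [h5]
      exact hrs
    have e₁ : ρ₁ c * ψ (a ^ n) = ψ r := by
      rw [← h₁]; simp only [RingHom.comp_apply]; rw [← map_mul, hc]
    have e₂ : ρ₂ c * ψ (a ^ n) = ψ r := by
      rw [← h₂]; simp only [RingHom.comp_apply]; rw [← map_mul, hc]
    have hn' : ψ (a ^ n) ∈ nonZeroDivisors D := by
      rw [map_pow]; exact pow_mem hnzd n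
    have h6 : (ρ₁ c - ρ₂ c) * ψ (a ^ n) = 0 := by rw [sub_mul, e₁, e₂, sub_self]
    exact sub_eq_zero.mp ((mem_nonZeroDivisors_iff_right.mp hn') _ h6)
  refine ⟨ρ, ?_, fun ρ₁ h₁ => ?_⟩
  · ext r
    apply hf
    simp only [RingHom.comp_apply]
    rw [hρ]
    exact hℓ r
  · refine key ρ₁ ρ h₁ ?_
    ext r
    apply hf
    simp only [RingHom.comp_apply]
    rw [hρ]
    exact hℓ r

end Groth.Agent.H73.BC_A2
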