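import Mathlib

/-!
# Maximal ideals of a localized integral extension

Abstract setting: `R → R'` integral, `A = R_p` for a prime `p`, `A' = S⁻¹R'` with `S` the image
of `R ∖ p`.  Then maximal ideals of `A'` correspond to primes of `R'` over `p`, and the residue
fields are those of the local rings of `R'`.
-/

set_option autoImplicit false
set_option linter.unusedSectionVars false
set_option linter.unusedVariables false
universe u

namespace Groth.Agent.H73.BranchLoc

open IsLocalRing

section Abstract

lemma algebraMap_eq_map {R R' : Type*} (A A' : Type*) [CommRing R] [CommRing R'] [CommRing A] [CommRing A']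
    [Algebra R R'] [Algebra R A] [Algebra R' A'] [Algebra A A'] [Algebra R A']
    [IsScalarTower R R' A'] [IsScalarTower R A A']
    (p : Ideal R) [p.IsPrime] [IsLocalRing A] [IsLocalization.AtPrime A p]
    [IsLocalization (Algebra.algebraMapSubmonoid R' p.primeCompl) A']
    [Algebra.IsIntegral R R'] : algebraMap A A' =
    IsLocalization.map (M := p.primeCompl) (T := Algebra.algebraMapSubmonoid R' p.primeCompl) A'
      (algebraMap R R')
      (show _ ≤ (Algebra.algebraMapSubmonoid R' p.primeCompl).comap _ from
        p.primeCompl.le_comap_map) := by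
  apply IsLocalization.ringHom_ext p.primeCompl
  rw [IsLocalization.map_comp, ← IsScalarTower.algebraMap_eq, ← IsScalarTower.algebraMap_eq]

lemma isIntegral {R R' : Type*} (A A' : Type*) [CommRing R] [CommRing R'] [CommRing A] [CommRing A']
    [Algebra R R'] [Algebra R A] [Algebra R' A'] [Algebra A A'] [Algebra R A']
    [IsScalarTower R R' A'] [IsScalarTower R A A']
    (p : Ideal R) [p.IsPrime] [IsLocalRing A] [IsLocalization.AtPrime A p]
    [IsLocalization (Algebra.algebraMapSubmonoid R' p.primeCompl) A']
    [Algebra.IsIntegral R R'] : Algebra.IsIntegral A A' := by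
  rw [← algebraMap_isIntegral_iff, algebraMap_eq_map (R' := R') A A' p]
  exact isIntegral_localization

lemma comap_comap_eq {R R' : Type*} (A A' : Type*) [CommRing R] [CommRing R'] [CommRing A] [CommRing A']
    [Algebra R R'] [Algebra R A] [Algebra R' A'] [Algebra A A'] [Algebra R A']
    [IsScalarTower R R' A'] [IsScalarTower R A A']
    (p : Ideal R) [p.IsPrime] [IsLocalRing A] [IsLocalization.AtPrime A p]
    [IsLocalization (Algebra.algebraMapSubmonoid R' p.primeCompl) A']
    [Algebra.IsIntegral R R'] (I : Ideal A') :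
    (I.comap (algebraMap R' A')).comap (algebraMap R R') =
      (I.comap (algebraMap A A')).comap (algebraMap R A) := by
  rw [Ideal.comap_comap, Ideal.comap_comap, ← IsScalarTower.algebraMap_eq,
    ← IsScalarTower.algebraMap_eq]

lemma comap_eq {R R' : Type*} (A A' : Type*) [CommRing R] [CommRing R'] [CommRing A] [CommRing A']
    [Algebra R R'] [Algebra R A] [Algebra R' A'] [Algebra A A'] [Algebra R A']
    [IsScalarTower R R' A'] [IsScalarTower R A A']
    (p : Ideal R) [p.IsPrime] [IsLocalRing A] [IsLocalization.AtPrime A p]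
    [IsLocalization (Algebra.algebraMapSubmonoid R' p.primeCompl) A']
    [Algebra.IsIntegral R R'] (m' : Ideal A') [m'.IsMaximal] :
    (m'.comap (algebraMap R' A')).comap (algebraMap R R') = p := by
  rw [comap_comap_eq (R' := R') A A' p]
  haveI := isIntegral (R' := R') A A' p
  have h1 : (m'.comap (algebraMap A A')).IsMaximal :=
    Ideal.isMaximal_comap_of_isIntegral_of_isMaximal m'
  rw [IsLocalRing.eq_maximalIdeal h1]
  exact IsLocalization.AtPrime.under_maximalIdeal A p

lemma disjoint_of_comap_eq {R R' : Type*} [CommRing R] [CommRing R'] [Algebra R R']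
    (p : Ideal R) [p.IsPrime] (P : Ideal R') (hP : P.comap (algebraMap R R') = p) :
    Disjoint (Algebra.algebraMapSubmonoid R' p.primeCompl : Set R') (P : Set R') := by
  rw [Set.disjoint_left]
  rintro _ ⟨r, hr, rfl⟩ hmem
  apply hr
  rw [← hP]
  exact hmem

lemma isMaximal_map {R R' : Type*} (A A' : Type*) [CommRing R] [CommRing R'] [CommRing A] [CommRing A']
    [Algebra R R'] [Algebra R A] [Algebra R' A'] [Algebra A A'] [Algebra R A']
    [IsScalarTower R R' A'] [IsScalarTower R A A']
    (p : Ideal R) [p.IsPrime] [IsLocalRing A] [IsLocalization.AtPrime A p]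
    [IsLocalization (Algebra.algebraMapSubmonoid R' p.primeCompl) A']
    [Algebra.IsIntegral R R'] (P : Ideal R') [P.IsPrime] (hP : P.comap (algebraMap R R') = p) :
    (P.map (algebraMap R' A')).IsMaximal := by
  have hd := disjoint_of_comap_eq p P hP
  haveI : (P.map (algebraMap R' A')).IsPrime :=
    IsLocalization.isPrime_of_isPrime_disjoint _ A' P inferInstance hd
  have hc : (P.map (algebraMap R' A')).comap (algebraMap R' A') = P :=
    IsLocalization.under_map_of_isPrime_disjoint _ A' inferInstance hd
  haveI := isIntegral (R' := R') A A' p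
  apply Ideal.isMaximal_of_isIntegral_of_isMaximal_comap (R := A)
  have h2 := comap_comap_eq (R' := R') A A' p (P.map (algebraMap R' A'))
  rw [hc, hP] at h2
  have h3 := IsLocalization.map_under p.primeCompl A
    ((P.map (algebraMap R' A')).comap (algebraMap A A'))
  rw [Ideal.under, ← h2, IsLocalization.AtPrime.map_eq_maximalIdeal] at h3
  rw [← h3]
  exact IsLocalRing.maximalIdeal.isMaximal A

/-- Maximal ideals of `A'` correspond to primes of `R'` over `p`. -/
noncomputable def maxEquiv {R R' : Type*} (A A' : Type*) [CommRing R] [CommRing R'] [CommRing A] [CommRing A']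
    [Algebra R R'] [Algebra R A] [Algebra R' A'] [Algebra A A'] [Algebra R A']
    [IsScalarTower R R' A'] [IsScalarTower R A A']
    (p : Ideal R) [p.IsPrime] [IsLocalRing A] [IsLocalization.AtPrime A p]
    [IsLocalization (Algebra.algebraMapSubmonoid R' p.primeCompl) A']
    [Algebra.IsIntegral R R'] :
    MaximalSpectrum A' ≃ {P : PrimeSpectrum R' // P.asIdeal.comap (algebraMap R R') = p} where
  toFun m' := ⟨⟨m'.asIdeal.comap (algebraMap R' A'),
    haveI := m'.isMaximal.isPrime; Ideal.comap_isPrime _ _⟩,
    haveI := m'.isMaximal; comap_eq A A' p m'.asIdeal⟩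
  invFun P := ⟨P.1.asIdeal.map (algebraMap R' A'), isMaximal_map A A' p P.1.asIdeal P.2⟩
  left_inv m' := MaximalSpectrum.ext
    (IsLocalization.map_under (Algebra.algebraMapSubmonoid R' p.primeCompl) A' m'.asIdeal)
  right_inv P := Subtype.ext (PrimeSpectrum.ext
    (IsLocalization.under_map_of_isPrime_disjoint _ A' P.1.2
      (disjoint_of_comap_eq p P.1.asIdeal P.2)))

end Abstract

section Residue

/-- The canonical map from the semilocal ring `A'` to the local ring of `R'` at `P`. -/
noncomputable def Ψ {R R' : Type*} (A A' : Type*) [CommRing R] [CommRing R'] [CommRing A] [CommRing A']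
    [Algebra R R'] [Algebra R A] [Algebra R' A'] [Algebra A A'] [Algebra R A']
    [IsScalarTower R R' A'] [IsScalarTower R A A']
    (p : Ideal R) [p.IsPrime] [IsLocalRing A] [IsLocalization.AtPrime A p]
    [IsLocalization (Algebra.algebraMapSubmonoid R' p.primeCompl) A']
    [Algebra.IsIntegral R R']
    {B : Type*} [CommRing B] [IsLocalRing B] [Algebra R' B] (P : Ideal R') [P.IsPrime]
    [IsLocalization.AtPrime B P] (hP : P.comap (algebraMap R R') = p) : A' →+* B :=
  IsLocalization.lift (M := Algebra.algebraMapSubmonoid R' p.primeCompl) (g := algebraMap R' B)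
    (fun s => IsLocalization.map_units B
      (⟨s.1, fun h => (Set.disjoint_left.mp (disjoint_of_comap_eq p P hP)) s.2 h⟩ : P.primeCompl))

lemma Ψ_algebraMap {R R' : Type*} (A A' : Type*) [CommRing R] [CommRing R'] [CommRing A] [CommRing A']
    [Algebra R R'] [Algebra R A] [Algebra R' A'] [Algebra A A'] [Algebra R A']
    [IsScalarTower R R' A'] [IsScalarTower R A A']
    (p : Ideal R) [p.IsPrime] [IsLocalRing A] [IsLocalization.AtPrime A p]
    [IsLocalization (Algebra.algebraMapSubmonoid R' p.primeCompl) A']
    [Algebra.IsIntegral R R']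
    {B : Type*} [CommRing B] [IsLocalRing B] [Algebra R' B] (P : Ideal R') [P.IsPrime]
    [IsLocalization.AtPrime B P] (hP : P.comap (algebraMap R R') = p) (c : R') :
    Ψ A A' p P hP (B := B) (algebraMap R' A' c) = algebraMap R' B c :=
  IsLocalization.lift_eq _ c

lemma Ψ_comp {R R' : Type*} (A A' : Type*) [CommRing R] [CommRing R'] [CommRing A] [CommRing A']
    [Algebra R R'] [Algebra R A] [Algebra R' A'] [Algebra A A'] [Algebra R A']
    [IsScalarTower R R' A'] [IsScalarTower R A A']
    (p : Ideal R) [p.IsPrime] [IsLocalRing A] [IsLocalization.AtPrime A p]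
    [IsLocalization (Algebra.algebraMapSubmonoid R' p.primeCompl) A']
    [Algebra.IsIntegral R R']
    {B : Type*} [CommRing B] [IsLocalRing B] [Algebra R' B] (P : Ideal R') [P.IsPrime]
    [IsLocalization.AtPrime B P] (hP : P.comap (algebraMap R R') = p) :
    (Ψ A A' p P hP (B := B)).comp (algebraMap R' A') = algebraMap R' B :=
  RingHom.ext (Ψ_algebraMap A A' p P hP)

lemma Ψ_comp_algebraMap {R R' : Type*} (A A' : Type*) [CommRing R] [CommRing R'] [CommRing A] [CommRing A']
    [Algebra R R'] [Algebra R A] [Algebra R' A'] [Algebra A A'] [Algebra R A']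
    [IsScalarTower R R' A'] [IsScalarTower R A A']
    (p : Ideal R) [p.IsPrime] [IsLocalRing A] [IsLocalization.AtPrime A p]
    [IsLocalization (Algebra.algebraMapSubmonoid R' p.primeCompl) A']
    [Algebra.IsIntegral R R']
    {B : Type*} [CommRing B] [IsLocalRing B] [Algebra R' B] (P : Ideal R') [P.IsPrime]
    [IsLocalization.AtPrime B P] (hP : P.comap (algebraMap R R') = p) (φ : A →+* B)
    (hφ : φ.comp (algebraMap R A) = (algebraMap R' B).comp (algebraMap R R')) :
    (Ψ A A' p P hP (B := B)).comp (algebraMap A A') = φ := by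
  apply IsLocalization.ringHom_ext p.primeCompl
  ext r
  have h := congrFun (congrArg DFunLike.coe hφ) r
  simp only [RingHom.comp_apply] at h ⊢
  rw [← IsScalarTower.algebraMap_apply R A A', IsScalarTower.algebraMap_apply R R' A',
    Ψ_algebraMap, h]

lemma comap_Ψ {R R' : Type*} (A A' : Type*) [CommRing R] [CommRing R'] [CommRing A] [CommRing A']
    [Algebra R R'] [Algebra R A] [Algebra R' A'] [Algebra A A'] [Algebra R A']
    [IsScalarTower R R' A'] [IsScalarTower R A A']
    (p : Ideal R) [p.IsPrime] [IsLocalRing A] [IsLocalization.AtPrime A p]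
    [IsLocalization (Algebra.algebraMapSubmonoid R' p.primeCompl) A']
    [Algebra.IsIntegral R R']
    {B : Type*} [CommRing B] [IsLocalRing B] [Algebra R' B] (P : Ideal R') [P.IsPrime]
    [IsLocalization.AtPrime B P] (hP : P.comap (algebraMap R R') = p) :
    (maximalIdeal B).comap (Ψ A A' p P hP (B := B)) = P.map (algebraMap R' A') := by
  have h1 : ((maximalIdeal B).comap (Ψ A A' p P hP (B := B))).comap (algebraMap R' A') = P := by
    rw [Ideal.comap_comap, Ψ_comp]
    exact IsLocalization.AtPrime.under_maximalIdeal B P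
  rw [← IsLocalization.map_under (Algebra.algebraMapSubmonoid R' p.primeCompl) A'
    ((maximalIdeal B).comap (Ψ A A' p P hP (B := B))), Ideal.under, h1]

/-- The induced map on residue fields. -/
noncomputable def θ {R R' : Type*} (A A' : Type*) [CommRing R] [CommRing R'] [CommRing A] [CommRing A']
    [Algebra R R'] [Algebra R A] [Algebra R' A'] [Algebra A A'] [Algebra R A']
    [IsScalarTower R R' A'] [IsScalarTower R A A']
    (p : Ideal R) [p.IsPrime] [IsLocalRing A] [IsLocalization.AtPrime A p]
    [IsLocalization (Algebra.algebraMapSubmonoid R' p.primeCompl) A']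
    [Algebra.IsIntegral R R']
    {B : Type*} [CommRing B] [IsLocalRing B] [Algebra R' B] (P : Ideal R') [P.IsPrime]
    [IsLocalization.AtPrime B P] (hP : P.comap (algebraMap R R') = p) : A' ⧸ P.map (algebraMap R' A') →+* ResidueField B :=
  Ideal.Quotient.lift _ ((residue B).comp (Ψ A A' p P hP (B := B))) (fun a ha => by
    rw [← comap_Ψ A A' p P hP (B := B)] at ha
    exact (residue_eq_zero_iff _).mpr ha)

lemma θ_mk {R R' : Type*} (A A' : Type*) [CommRing R] [CommRing R'] [CommRing A] [CommRing A']
    [Algebra R R'] [Algebra R A] [Algebra R' A'] [Algebra A A'] [Algebra R A']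
    [IsScalarTower R R' A'] [IsScalarTower R A A']
    (p : Ideal R) [p.IsPrime] [IsLocalRing A] [IsLocalization.AtPrime A p]
    [IsLocalization (Algebra.algebraMapSubmonoid R' p.primeCompl) A']
    [Algebra.IsIntegral R R']
    {B : Type*} [CommRing B] [IsLocalRing B] [Algebra R' B] (P : Ideal R') [P.IsPrime]
    [IsLocalization.AtPrime B P] (hP : P.comap (algebraMap R R') = p) (a : A') :
    θ A A' p P hP (B := B) (Ideal.Quotient.mk _ a) = residue B (Ψ A A' p P hP (B := B) a) :=
  rfl

lemma θ_comp {R R' : Type*} (A A' : Type*) [CommRing R] [CommRing R'] [CommRing A] [CommRing A']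
    [Algebra R R'] [Algebra R A] [Algebra R' A'] [Algebra A A'] [Algebra R A']
    [IsScalarTower R R' A'] [IsScalarTower R A A']
    (p : Ideal R) [p.IsPrime] [IsLocalRing A] [IsLocalization.AtPrime A p]
    [IsLocalization (Algebra.algebraMapSubmonoid R' p.primeCompl) A']
    [Algebra.IsIntegral R R']
    {B : Type*} [CommRing B] [IsLocalRing B] [Algebra R' B] (P : Ideal R') [P.IsPrime]
    [IsLocalization.AtPrime B P] (hP : P.comap (algebraMap R R') = p) (φ : A →+* B)
    (hφ : φ.comp (algebraMap R A) = (algebraMap R' B).comp (algebraMap R R')) (a : A) :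
    θ A A' p P hP (B := B) (Ideal.Quotient.mk _ (algebraMap A A' a)) = residue B (φ a) := by
  rw [θ_mk]
  congr 1
  exact congrFun (congrArg DFunLike.coe (Ψ_comp_algebraMap A A' p P hP φ hφ)) a

lemma θ_bijective {R R' : Type*} (A A' : Type*) [CommRing R] [CommRing R'] [CommRing A] [CommRing A']
    [Algebra R R'] [Algebra R A] [Algebra R' A'] [Algebra A A'] [Algebra R A']
    [IsScalarTower R R' A'] [IsScalarTower R A A']
    (p : Ideal R) [p.IsPrime] [IsLocalRing A] [IsLocalization.AtPrime A p]
    [IsLocalization (Algebra.algebraMapSubmonoid R' p.primeCompl) A']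
    [Algebra.IsIntegral R R']
    {B : Type*} [CommRing B] [IsLocalRing B] [Algebra R' B] (P : Ideal R') [P.IsPrime]
    [IsLocalization.AtPrime B P] (hP : P.comap (algebraMap R R') = p) : Function.Bijective (θ A A' p P hP (B := B)) := by
  haveI hmax : (P.map (algebraMap R' A')).IsMaximal := isMaximal_map A A' p P hP
  constructor
  · apply RingHom.lift_injective_of_ker_le_ideal
    intro a ha
    rw [RingHom.mem_ker, RingHom.comp_apply, residue_eq_zero_iff] at ha
    rw [← comap_Ψ A A' p P hP (B := B)]
    exact ha
  · intro y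
    obtain ⟨b, rfl⟩ := residue_surjective y
    obtain ⟨a, s, rfl⟩ := IsLocalization.exists_mk'_eq P.primeCompl b
    have hs : (Ideal.Quotient.mk (P.map (algebraMap R' A'))) (algebraMap R' A' s.1) ≠ 0 := by
      rw [Ne, Ideal.Quotient.eq_zero_iff_mem]
      intro hmem
      have hc : (P.map (algebraMap R' A')).comap (algebraMap R' A') = P :=
        IsLocalization.under_map_of_isPrime_disjoint _ A' inferInstance
          (disjoint_of_comap_eq p P hP)
      have : s.1 ∈ (P.map (algebraMap R' A')).comap (algebraMap R' A') := hmem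
      rw [hc] at this
      exact s.2 this
    obtain ⟨tb, ht⟩ := Ideal.Quotient.exists_inv hs
    obtain ⟨t, rfl⟩ := Ideal.Quotient.mk_surjective tb
    refine ⟨Ideal.Quotient.mk _ (algebraMap R' A' a * t), ?_⟩
    have h1 := congrArg (θ A A' p P hP (B := B)) ht
    rw [← map_mul, θ_mk, map_one, map_mul, Ψ_algebraMap, map_mul] at h1
    rw [θ_mk, map_mul, Ψ_algebraMap, map_mul]
    have h2 : algebraMap R' B a = IsLocalization.mk' B a s * algebraMap R' B s.1 :=
      (IsLocalization.mk'_spec B a s).symm
    rw [h2, map_mul, mul_assoc, h1, mul_one]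

end Residue

section Count

open scoped ENNReal in
/-- Cardinality of a sigma type as a sum in `ℕ∞`. -/
theorem enat_card_sigma {ι : Type*} (β : ι → Type*) :
    ENat.card (Σ i, β i) = ∑' i, ENat.card (β i) := by
  rw [← ENat.toENNReal_inj]
  have hemb : Topology.IsClosedEmbedding (ENat.toENNRealRingHom : ℕ∞ → ℝ≥0∞) :=
    ENat.isClosedEmbedding_toENNReal
  have h2 : ((∑' i, ENat.card (β i) : ℕ∞) : ℝ≥0∞) = ∑' i, ((ENat.card (β i) : ℕ∞) : ℝ≥0∞) :=
    hemb.map_tsum (fun i => ENat.card (β i))
  rw [h2, ← ENNReal.tsum_one]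
  rw [ENNReal.tsum_sigma (f := fun (i : ι) (_ : β i) => (1 : ℝ≥0∞))]
  congr 1
  ext i
  exact ENNReal.tsum_one

/-- Counting embeddings through a ring isomorphism onto a field. -/
theorem card_emb_eq {A E L Ω : Type*} [CommRing A] [IsLocalRing A] [CommRing E] [Field L]
    [Field Ω] [IsAlgClosed Ω]
    [Algebra (ResidueField A) Ω] [Algebra (ResidueField A) L]
    [Algebra.IsAlgebraic (ResidueField A) L]
    (ιE : A →+* E) (θ : E ≃+* L)
    (hθ : ∀ a, θ (ιE a) = algebraMap (ResidueField A) L (residue A a)) :
    ENat.card {σ : E →+* Ω // σ.comp ιE = (algebraMap (ResidueField A) Ω).comp (residue A)} =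
      ENat.card (Field.Emb (ResidueField A) L) := by
  rw [ENat.card_congr (Field.embEquivOfIsAlgClosed (ResidueField A) L Ω)]
  apply ENat.card_congr
  refine
    { toFun := fun σ =>
        { toRingHom := σ.1.comp (θ.symm : L →+* E)
          commutes' := ?_ }
      invFun := fun τ => ⟨(τ : L →+* Ω).comp (θ : E →+* L), ?_⟩
      left_inv := ?_
      right_inv := ?_ }
  · intro c
    obtain ⟨a, rfl⟩ := residue_surjective c
    have h1 := congrFun (congrArg DFunLike.coe σ.2) a
    simp only [RingHom.comp_apply] at h1
    change σ.1 (θ.symm (algebraMap (ResidueField A) L (residue A a))) = _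
    rw [← hθ a, RingEquiv.symm_apply_apply, h1]
  · ext a
    simp only [RingHom.comp_apply, RingHom.coe_coe]
    rw [hθ a]
    exact τ.commutes _
  · intro σ
    apply Subtype.ext
    ext e
    change σ.1 (θ.symm (θ e)) = σ.1 e
    rw [RingEquiv.symm_apply_apply]
  · intro τ
    ext l
    change τ (θ (θ.symm l)) = τ l
    rw [RingEquiv.apply_symm_apply]

end Count

end Groth.Agent.H73.BranchLoc
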