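import Groth.Prelude.Def_Brnch
import Groth.Agent.H73.BranchLoc

/-!
# Branches of a localization of a domain via a chart of the normalization
-/

set_option autoImplicit false
set_option linter.unusedSectionVars false
set_option linter.unusedVariables false
universe u

namespace Groth.Agent.H73.BranchNorm

open IsLocalRing Groth.Agent.H73.BranchLoc

/-- `normRed A` is the localization of the integral closure `R'` of `R` in `K`. -/
theorem exists_isLocalization {R R' K A : Type u} [CommRing R] [CommRing R'] [Field K]
    [CommRing A] [IsDomain A]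
    [Algebra R K] [Algebra R R'] [Algebra R' K] [IsScalarTower R R' K] [IsIntegralClosure R' R K]
    [Algebra R A] [Algebra A K] [IsScalarTower R A K] [IsFractionRing A K]
    (p : Ideal R) [p.IsPrime] [IsLocalization.AtPrime A p] :
    ∃ j : R' →+* CAlg2.normRed A,
      j.comp (algebraMap R R') =
        ((algebraMap (CAlg2.red A) (CAlg2.normRed A)).comp
          (Ideal.Quotient.mk (nilradical A))).comp (algebraMap R A) ∧
      @IsLocalization R' _ (Algebra.algebraMapSubmonoid R' p.primeCompl) (CAlg2.normRed A) _
        j.toAlgebra := by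
  classical
  let q : A →+* CAlg2.red A := Ideal.Quotient.mk (nilradical A)
  have hnil : nilradical A = ⊥ := nilradical_eq_zero A
  have hq_inj : Function.Injective q :=
    (RingHom.injective_iff_ker_eq_bot q).mpr (by rw [Ideal.mk_ker, hnil])
  have hq_surj : Function.Surjective q := Ideal.Quotient.mk_surjective
  haveI : (nilradical A).IsPrime := by rw [hnil]; exact Ideal.isPrime_bot
  haveI : IsDomain (CAlg2.red A) := Ideal.Quotient.isDomain _
  let F := FractionRing (CAlg2.red A)
  have hAF : algebraMap A F = (algebraMap (CAlg2.red A) F).comp q :=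
    IsScalarTower.algebraMap_eq A (CAlg2.red A) F
  haveI : FaithfulSMul A F := (faithfulSMul_iff_algebraMap_injective A F).mpr (by
    rw [hAF]
    exact (IsFractionRing.injective (CAlg2.red A) F).comp hq_inj)
  haveI : IsFractionRing A F := IsFractionRing.of_field A F (by
    intro z
    obtain ⟨a, b, hb, rfl⟩ := IsFractionRing.div_surjective (A := CAlg2.red A) z
    obtain ⟨a', rfl⟩ := hq_surj a
    obtain ⟨b', rfl⟩ := hq_surj b
    refine ⟨a', b', ?_⟩
    rw [hAF]
    rfl)
  let σ : K ≃ₐ[A] F := IsLocalization.algEquiv (nonZeroDivisors A) K F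
  let ιF : R' →+* F := (σ : K →+* F).comp (algebraMap R' K)
  have hι : ∀ r : R, ιF (algebraMap R R' r) = algebraMap A F (algebraMap R A r) := by
    intro r
    change σ (algebraMap R' K (algebraMap R R' r)) = _
    rw [← IsScalarTower.algebraMap_apply R R' K, IsScalarTower.algebraMap_apply R A K]
    exact σ.commutes _
  have hιinj : Function.Injective ιF :=
    σ.injective.comp (IsIntegralClosure.algebraMap_injective R' R K)
  have hint : ∀ c : R', ιF c ∈ integralClosure (CAlg2.red A) F := by
    intro c
    have hc : IsIntegral R c := IsIntegralClosure.isIntegral R K c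
    refine IsIntegral.map_of_comp_eq (q.comp (algebraMap R A)) ιF ?_ hc
    ext r
    exact (hι r).symm
  let j : R' →+* CAlg2.normRed A := ιF.codRestrict (integralClosure (CAlg2.red A) F) hint
  have hj : ∀ c, ((j c : CAlg2.normRed A) : F) = ιF c := fun c => rfl
  have hcompat : j.comp (algebraMap R R') =
      ((algebraMap (CAlg2.red A) (CAlg2.normRed A)).comp
        (Ideal.Quotient.mk (nilradical A))).comp (algebraMap R A) := by
    ext r
    refine (hι r).trans ?_
    rw [hAF]
    rfl
  refine ⟨j, hcompat, ?_⟩
  letI : Algebra R' (CAlg2.normRed A) := j.toAlgebra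
  rw [isLocalization_iff]
  refine ⟨?_, ?_, ?_⟩
  · rintro ⟨_, r, hr, rfl⟩
    have h1 : IsUnit (algebraMap R A r) := IsLocalization.map_units A (⟨r, hr⟩ : p.primeCompl)
    have h2 := congrFun (congrArg DFunLike.coe hcompat) r
    change j (algebraMap R R' r) = _ at h2
    change IsUnit (j (algebraMap R R' r))
    rw [h2]
    exact h1.map ((algebraMap (CAlg2.red A) (CAlg2.normRed A)).comp
      (Ideal.Quotient.mk (nilradical A)))
  · intro z
    haveI : Algebra.IsIntegral A (CAlg2.red A) :=
      Algebra.isIntegral_of_surjective hq_surj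
    have hz : IsIntegral A (z : F) := isIntegral_trans (A := CAlg2.red A) _ z.2
    obtain ⟨⟨m, hm⟩, hmz⟩ :=
      IsIntegral.exists_multiple_integral_of_isLocalization p.primeCompl (z : F) hz
    have hw : IsIntegral R (σ.symm ((⟨m, hm⟩ : p.primeCompl) • (z : F))) := by
      refine IsIntegral.map_of_comp_eq (RingHom.id R) (σ.symm : F →+* K) ?_ hmz
      ext r
      change algebraMap R K r = σ.symm (algebraMap A F (algebraMap R A r))
      rw [σ.symm.commutes, ← IsScalarTower.algebraMap_apply]
    obtain ⟨c, hc⟩ := (IsIntegralClosure.isIntegral_iff (A := R')).mp hw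
    refine ⟨(c, ⟨algebraMap R R' m, m, hm, rfl⟩), ?_⟩
    apply Subtype.ext
    change (z : F) * ιF (algebraMap R R' m) = ιF c
    have h3 : ιF c = (⟨m, hm⟩ : p.primeCompl) • (z : F) := by
      change σ (algebraMap R' K c) = _
      rw [hc, AlgEquiv.apply_symm_apply]
    rw [h3, hι, Submonoid.smul_def, Algebra.smul_def, mul_comm]
    rfl
  · intro a b hab
    refine ⟨1, ?_⟩
    have : ιF a = ιF b := congrArg Subtype.val hab
    rw [hιinj this]

/-- The ring-level comparison: maximal ideals of `normRed A` are the primes of the chart `R'`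
over `p`, with the expected count of embeddings of residue fields. -/
theorem ring_main {R R' K A : Type u} [CommRing R] [CommRing R'] [Field K]
    [CommRing A] [IsDomain A] [IsLocalRing A]
    [Algebra R K] [Algebra R R'] [Algebra R' K] [IsScalarTower R R' K] [IsIntegralClosure R' R K]
    [Algebra R A] [Algebra A K] [IsScalarTower R A K] [IsFractionRing A K]
    (p : Ideal R) [p.IsPrime] [IsLocalization.AtPrime A p] :
    ∃ e : {P : PrimeSpectrum R' // P.asIdeal.comap (algebraMap R R') = p} ≃
        MaximalSpectrum (CAlg2.normRed A),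
      ∀ (P : PrimeSpectrum R') (hP : P.asIdeal.comap (algebraMap R R') = p)
        (B : Type u) [CommRing B] [IsLocalRing B] [Algebra R' B]
        [IsLocalization.AtPrime B P.asIdeal]
        (φ : A →+* B) [IsLocalHom φ]
        (hφ : φ.comp (algebraMap R A) = (algebraMap R' B).comp (algebraMap R R')),
        ENat.card (Brnch.Emb A (e ⟨P, hP⟩)) =
          (letI := (ResidueField.map φ).toAlgebra
           ENat.card (Field.Emb (ResidueField A) (ResidueField B))) := by
  classical
  obtain ⟨j, hj, hloc⟩ := exists_isLocalization (R := R) (R' := R') (K := K) (A := A) p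
  letI : Algebra R' (CAlg2.normRed A) := j.toAlgebra
  haveI : IsScalarTower R R' (CAlg2.normRed A) := IsScalarTower.of_algebraMap_eq' (by
    rw [IsScalarTower.algebraMap_eq R A (CAlg2.normRed A)]
    exact hj.symm)
  haveI : Algebra.IsIntegral R R' := IsIntegralClosure.isIntegral_algebra R K
  refine ⟨(maxEquiv A (CAlg2.normRed A) p).symm, ?_⟩
  intro P hP B _ _ _ _ φ _ hφ
  letI := (ResidueField.map φ).toAlgebra
  haveI hmax : (P.asIdeal.map (algebraMap R' (CAlg2.normRed A))).IsMaximal :=
    isMaximal_map A (CAlg2.normRed A) p P.asIdeal hP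
  let θ := BranchLoc.θ A (CAlg2.normRed A) p P.asIdeal hP (B := B)
  have hθb : Function.Bijective θ := θ_bijective A (CAlg2.normRed A) p P.asIdeal hP (B := B)
  let θe : (CAlg2.normRed A ⧸ P.asIdeal.map (algebraMap R' (CAlg2.normRed A))) ≃+*
      ResidueField B := RingEquiv.ofBijective θ hθb
  have hθ : ∀ a, θe (Brnch.toResidue A ((maxEquiv A (CAlg2.normRed A) p).symm ⟨P, hP⟩) a) =
      algebraMap (ResidueField A) (ResidueField B) (residue A a) := by
    intro a
    exact θ_comp A (CAlg2.normRed A) p P.asIdeal hP φ hφ a
  haveI : Algebra.IsIntegral A (CAlg2.normRed A) := isIntegral (R' := R') A (CAlg2.normRed A) p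
  haveI : Algebra.IsAlgebraic (ResidueField A) (ResidueField B) := by
    refine ⟨fun l => ?_⟩
    obtain ⟨n, rfl⟩ := θe.surjective l
    obtain ⟨n, rfl⟩ := Ideal.Quotient.mk_surjective n
    have hn : IsIntegral A n := Algebra.IsIntegral.isIntegral n
    apply IsIntegral.isAlgebraic
    refine IsIntegral.map_of_comp_eq (residue A)
      (θe.toRingHom.comp (Ideal.Quotient.mk _)) ?_ hn
    ext a
    exact (hθ a).symm
  exact card_emb_eq (A := A) (Ω := AlgebraicClosure (ResidueField A))
    (Brnch.toResidue A ((maxEquiv A (CAlg2.normRed A) p).symm ⟨P, hP⟩)) θe hθ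

end Groth.Agent.H73.BranchNorm
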