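import Mathlib.RingTheory.ZariskisMainTheorem
import Mathlib.RingTheory.RingHom.QuasiFinite
import Mathlib.RingTheory.IntegralClosure.IntegrallyClosed

/-!
# A consequence of Zariski's main theorem over a normal local domain

If `B` is a finite type `A`-algebra, quasi-finite at a prime `P₀`, `𝒪` is a normal local domain
which is the localization of `A` at `P₀ ∩ A`, and `φ : B → Frac 𝒪` is an `A`-algebra map whose
kernel is contained in `P₀`, then `φ` takes values in `𝒪`.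
-/

set_option autoImplicit false

namespace Groth.Agent.H73.ZMT

theorem zmt_normal {A B 𝒪 K : Type*} [CommRing A] [CommRing B] [CommRing 𝒪] [IsDomain 𝒪]
    [IsLocalRing 𝒪] [IsIntegrallyClosed 𝒪] [Field K] [Algebra 𝒪 K] [IsFractionRing 𝒪 K]
    (f : A →+* B) (hf : f.FiniteType) (P₀ : Ideal B) [P₀.IsPrime] (hqf : f.QuasiFiniteAt P₀)
    (ρ : A →+* 𝒪) (hL1 : ∀ t : 𝒪, ∃ a s : A, IsUnit (ρ s) ∧ t * ρ s = ρ a)
    (hL2 : ∀ s, IsUnit (ρ s) → f s ∉ P₀) (hL3 : ∀ a, ¬ IsUnit (ρ a) → f a ∈ P₀)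
    (φ : B →+* K) (hφ : φ.comp f = (algebraMap 𝒪 K).comp ρ) (hker : ∀ b, φ b = 0 → b ∈ P₀) :
    ∀ b, φ b ∈ Set.range (algebraMap 𝒪 K) := by
  algebraize [f]
  have hqf' : Algebra.QuasiFiniteAt A P₀ := hqf
  obtain ⟨r, hr, hrint, hall⟩ :=
    Algebra.zariskisMainProperty_iff.mp (Algebra.ZariskisMainProperty.of_finiteType (R := A) P₀)
  have hint : ∀ b : B, IsIntegral A b → φ b ∈ Set.range (algebraMap 𝒪 K) := by
    intro b hb
    have h1 : (φ.comp f).IsIntegralElem (φ b) := by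
      obtain ⟨p, hp, hpb⟩ := hb
      refine ⟨p, hp, ?_⟩
      have : Polynomial.eval₂ (φ.comp f) (φ b) p = φ (Polynomial.eval₂ f b p) :=
        (Polynomial.hom_eval₂ p f φ b).symm
      rw [this]
      have hpb' : Polynomial.eval₂ f b p = 0 := hpb
      rw [hpb', map_zero]
    rw [hφ] at h1
    have h2 : IsIntegral 𝒪 (φ b) := RingHom.IsIntegralElem.of_comp h1
    exact IsIntegrallyClosed.isIntegral_iff.mp h2
  obtain ⟨t, ht⟩ := hint r hrint
  have hφf : ∀ a, φ (f a) = algebraMap 𝒪 K (ρ a) := fun a => RingHom.congr_fun hφ a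
  have htu : IsUnit t := by
    by_contra hnu
    obtain ⟨a, s, hs, hts⟩ := hL1 t
    have ha : ¬ IsUnit (ρ a) := by
      rw [← hts]
      intro h
      exact hnu (isUnit_of_mul_isUnit_left h)
    have h1 : φ (f s * r - f a) = 0 := by
      rw [map_sub, map_mul, ← ht, hφf, hφf, ← map_mul, mul_comm, hts, sub_self]
    have h2 := hker _ h1
    have h3 : f s * r ∈ P₀ := by
      have := P₀.add_mem h2 (hL3 a ha)
      simpa using this
    rcases Ideal.IsPrime.mem_or_mem ‹_› h3 with h | h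
    · exact hL2 s hs h
    · exact hr h
  intro b
  obtain ⟨m, hm⟩ := hall b
  obtain ⟨c, hc⟩ := hint _ hm
  refine ⟨((htu.unit⁻¹ ^ m : 𝒪ˣ) : 𝒪) * c, ?_⟩
  rw [map_mul, hc, map_mul φ, map_pow φ, ← ht, ← map_pow, ← mul_assoc, ← map_mul]
  have : ((htu.unit⁻¹ ^ m : 𝒪ˣ) : 𝒪) * t ^ m = 1 := by
    have h1 : (t ^ m : 𝒪) = ((htu.unit ^ m : 𝒪ˣ) : 𝒪) := by simp
    rw [h1, ← Units.val_mul, ← mul_pow, inv_mul_cancel, one_pow, Units.val_one]
  rw [this, map_one, one_mul]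

end Groth.Agent.H73.ZMT
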