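import Groth.Agent.H73.NormzBasic
import Groth.Agent.H73.RatExtQF

/-!
# The normalization of an integral locally Noetherian scheme of dimension one
-/

set_option autoImplicit false
universe u
open CategoryTheory CategoryTheory.Limits AlgebraicGeometry TopologicalSpace

namespace Groth.Agent.H73.Normz

section Setup

variable (X : Scheme.{u}) [IsIntegral X]

/-- The canonical morphism from the generic point, with the function field seen as a type. -/
noncomputable abbrev gen : Spec (CommRingCat.of (X.functionField : Type u)) ⟶ X :=
  X.fromSpecStalk (genericPoint X)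

lemma gen_closedPoint :
    (gen X).base (IsLocalRing.closedPoint (X.functionField : Type u)) = genericPoint X :=
  Scheme.fromSpecStalk_closedPoint

variable {X}

lemma chartρ_gen {U : X.Opens} [Nonempty U]
    (hη : (gen X).base (IsLocalRing.closedPoint (X.functionField : Type u)) ∈ U)
    [QuasiCompact (gen X)] [QuasiSeparated (gen X)] :
    chartρ (gen X) hη = (X.germToFunctionField U).hom := by
  rw [chartρ_eq_germ_stalkClosedPointTo]
  have := Scheme.stalkClosedPointTo_fromSpecStalk (X := X) (genericPoint X)
  change (X.presheaf.germ U _ hη ≫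
    Scheme.stalkClosedPointTo (X.fromSpecStalk (genericPoint X))).hom = _
  rw [this, TopCat.Presheaf.stalkCongr_hom, TopCat.Presheaf.germ_stalkSpecializes]

end Setup

section Dim1

variable {X : Scheme.{u}} [IsIntegral X] [IsLocallyNoetherian X]

omit [IsIntegral X] [IsLocallyNoetherian X] in
lemma krullDimLE_one_of_affine (hdim : topologicalKrullDim X ≤ 1) {U : X.Opens}
    (hU : IsAffineOpen U) : Ring.KrullDimLE 1 Γ(X, U) := by
  rw [Ring.krullDimLE_iff, ← PrimeSpectrum.topologicalKrullDim_eq_ringKrullDim]
  exact (hU.fromSpec.isOpenEmbedding.isInducing.topologicalKrullDim_le).trans hdim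

variable [QuasiCompact (gen X)] [QuasiSeparated (gen X)]

/-- The chart of the normalization of a one-dimensional integral Noetherian scheme. -/
theorem chart_facts (hdim : topologicalKrullDim X ≤ 1) {U : X.Opens} (hU : IsAffineOpen U)
    (hη : (gen X).base (IsLocalRing.closedPoint (X.functionField : Type u)) ∈ U) :
    IsDedekindDomain Γ((gen X).normalization, (gen X).fromNormalization ⁻¹ᵁ U) ∧
    (∀ p : Ideal Γ(X, U), p.IsPrime →
      {P : PrimeSpectrum Γ((gen X).normalization, (gen X).fromNormalization ⁻¹ᵁ U) |
        P.asIdeal.comap ((gen X).fromNormalization.app U).hom = p}.Finite) ∧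
    (∀ P : Ideal Γ((gen X).normalization, (gen X).fromNormalization ⁻¹ᵁ U), P.IsPrime → P ≠ ⊥ →
      ((Ideal.Quotient.mk P).comp ((gen X).fromNormalization.app U).hom).Finite) := by
  have hne : Nonempty U := ⟨⟨_, hη⟩⟩
  letI := ((gen X).fromNormalization.app U).hom.toAlgebra
  letI := (chartι (gen X) hη).toAlgebra
  have h := chart_isIntegralClosure (gen X) hU hη
  rw [chartρ_gen hη] at h
  obtain ⟨h1, h2⟩ := h
  have hfr := functionField_isFractionRing_of_isAffineOpen X U hU
  have hnoeth := IsLocallyNoetherian.component_noetherian ⟨U, hU⟩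
  have hkd := krullDimLE_one_of_affine hdim hU
  have hdom : IsDomain Γ(X, U) := inferInstance
  exact ⟨ICC.isDedekindDomain Γ(X, U) _ (X.functionField : Type u),
    fun p hp => ICC.finite_fibre Γ(X, U) _ (X.functionField : Type u) p,
    fun P hP hne => ICC.finite_quotient Γ(X, U) _ (X.functionField : Type u) P hne⟩

/-- The fibres of the normalization are finite. -/
theorem finite_fibre (hdim : topologicalKrullDim X ≤ 1) (x : X) :
    Finite {x' : (gen X).normalization // (gen X).fromNormalization.base x' = x} := by
  obtain ⟨U, hU, hxU, hη⟩ := exists_affine_nhd (gen X) (gen_closedPoint X) x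
  have hV : IsAffineOpen ((gen X).fromNormalization ⁻¹ᵁ U) := hU.preimage _
  obtain ⟨-, hfib, -⟩ := chart_facts hdim hU hη
  have hfin := hfib (hU.primeIdealOf ⟨x, hxU⟩).asIdeal inferInstance
  have hFin : Finite {P : PrimeSpectrum Γ((gen X).normalization, (gen X).fromNormalization ⁻¹ᵁ U) |
        P.asIdeal.comap ((gen X).fromNormalization.app U).hom =
          (hU.primeIdealOf ⟨x, hxU⟩).asIdeal} := hfin.to_subtype
  have hmem : ∀ x' : {x' : (gen X).normalization // (gen X).fromNormalization.base x' = x},
      x'.1 ∈ (gen X).fromNormalization ⁻¹ᵁ U := by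
    intro x'
    change (gen X).fromNormalization.base x'.1 ∈ U
    rw [x'.2]; exact hxU
  have hcomap : ∀ x' : {x' : (gen X).normalization // (gen X).fromNormalization.base x' = x},
      (hV.primeIdealOf ⟨x'.1, hmem x'⟩).asIdeal.comap ((gen X).fromNormalization.app U).hom =
        (hU.primeIdealOf ⟨x, hxU⟩).asIdeal := by
    intro x'
    have h3 := IsAffineOpen.comap_primeIdealOf_appLE U hU ((gen X).fromNormalization ⁻¹ᵁ U) hV
      le_rfl (hmem x')
    have h4 : hU.primeIdealOf ⟨(gen X).fromNormalization.base x'.1, hmem x'⟩ =
        hU.primeIdealOf ⟨x, hxU⟩ := by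
      congr 1
      exact Subtype.ext x'.2
    have happ : ((gen X).fromNormalization.app U).hom =
        ((gen X).fromNormalization.appLE U ((gen X).fromNormalization ⁻¹ᵁ U) le_rfl).hom := by
      rw [Scheme.Hom.app_eq_appLE]
    rw [← h4, ← h3, happ]
    rfl
  let F : {x' : (gen X).normalization // (gen X).fromNormalization.base x' = x} →
      {P : PrimeSpectrum Γ((gen X).normalization, (gen X).fromNormalization ⁻¹ᵁ U) |
        P.asIdeal.comap ((gen X).fromNormalization.app U).hom =
          (hU.primeIdealOf ⟨x, hxU⟩).asIdeal} :=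
    fun x' => ⟨hV.primeIdealOf ⟨x'.1, hmem x'⟩, hcomap x'⟩
  refine Finite.of_injective F ?_
  intro a b hab
  have h1 : hV.primeIdealOf ⟨a.1, hmem a⟩ = hV.primeIdealOf ⟨b.1, hmem b⟩ :=
    congrArg Subtype.val hab
  have h2 := congrArg hV.fromSpec.base h1
  rw [hV.fromSpec_primeIdealOf, hV.fromSpec_primeIdealOf] at h2
  exact Subtype.ext h2

/-- The normalization is locally Noetherian. -/
theorem isLocallyNoetherian_normalization (hdim : topologicalKrullDim X ≤ 1) :
    IsLocallyNoetherian (gen X).normalization := by
  let S : {U : X.affineOpens // genericPoint X ∈ U.1} → (gen X).normalization.affineOpens :=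
    fun U => ⟨(gen X).fromNormalization ⁻¹ᵁ U.1.1, U.1.2.preimage _⟩
  refine isLocallyNoetherian_of_affine_cover (S := S) ?_ ?_
  · rw [_root_.eq_top_iff]
    intro x' _
    obtain ⟨U, hU, hxU, hη⟩ := exists_affine_nhd (gen X) (gen_closedPoint X)
      ((gen X).fromNormalization.base x')
    rw [gen_closedPoint] at hη
    exact Opens.mem_iSup.mpr ⟨⟨⟨U, hU⟩, hη⟩, hxU⟩
  · intro U
    have hη : (gen X).base (IsLocalRing.closedPoint (X.functionField : Type u)) ∈ U.1.1 := by
      rw [gen_closedPoint]; exact U.2
    obtain ⟨hD, -, -⟩ := chart_facts hdim U.1.2 hη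
    exact hD.toIsNoetherian

/-- The residue field extensions of the normalization are finite. -/
theorem finite_residueFieldMap (hdim : topologicalKrullDim X ≤ 1)
    (x' : (gen X).normalization) :
    ((gen X).fromNormalization.residueFieldMap x').hom.Finite := by
  obtain ⟨U, hU, hxU, hη⟩ := exists_affine_nhd (gen X) (gen_closedPoint X)
    ((gen X).fromNormalization.base x')
  have hV : IsAffineOpen ((gen X).fromNormalization ⁻¹ᵁ U) := hU.preimage _
  have hx'V : x' ∈ (gen X).fromNormalization ⁻¹ᵁ U := hxU
  by_cases hP : (hV.primeIdealOf ⟨x', hx'V⟩).asIdeal = ⊥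
  · -- `x'` is the generic point
    have hz : (gen X).fromNormalization.base (genericPoint (gen X).normalization) =
        genericPoint X := fromNormalization_genericPoint (gen X) (gen_closedPoint X)
    have hzV : genericPoint (gen X).normalization ∈ (gen X).fromNormalization ⁻¹ᵁ U := by
      change (gen X).fromNormalization.base (genericPoint (gen X).normalization) ∈ U
      rw [hz, ← gen_closedPoint X]; exact hη
    have hbot := primeIdealOf_eq_bot (gen X) (gen_closedPoint X) hU hη _ hzV hz
    have h1 : hV.primeIdealOf ⟨x', hx'V⟩ = hV.primeIdealOf ⟨_, hzV⟩ :=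
      PrimeSpectrum.ext (hP.trans hbot.symm)
    have h2 := congrArg hV.fromSpec.base h1
    rw [hV.fromSpec_primeIdealOf, hV.fromSpec_primeIdealOf] at h2
    have h3 : x' = genericPoint (gen X).normalization := h2
    subst h3
    exact RingHom.Finite.of_surjective _ (residueFieldMap_genericPoint_bijective (gen X)
      ((X.fromSpecStalk (genericPoint X)).stalkMap_surjective _)).2
  · obtain ⟨hD, -, hquot⟩ := chart_facts hdim hU hη
    have hfin := hquot (hV.primeIdealOf ⟨x', hx'V⟩).asIdeal inferInstance hP
    have hmax : (hV.primeIdealOf ⟨x', hx'V⟩).asIdeal.IsMaximal :=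
      Ideal.IsPrime.isMaximal inferInstance hP
    let f : Γ(X, U) →+* X.residueField ((gen X).fromNormalization.base x') :=
      (X.presheaf.germ U _ hxU ≫ X.residue _).hom
    let ψ : Γ((gen X).normalization, (gen X).fromNormalization ⁻¹ᵁ U) →+*
        (gen X).normalization.residueField x' :=
      ((gen X).normalization.presheaf.germ _ x' hx'V ≫ (gen X).normalization.residue x').hom
    have hnat : ((gen X).fromNormalization.residueFieldMap x').hom.comp f =
        ψ.comp ((gen X).fromNormalization.app U).hom := by
      have e1 := Scheme.residue_residueFieldMap (gen X).fromNormalization x'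
      have e2 := Scheme.Hom.germ_stalkMap (gen X).fromNormalization U x' hxU
      have e3 : (X.presheaf.germ U _ hxU ≫ X.residue _) ≫
          (gen X).fromNormalization.residueFieldMap x' =
          (gen X).fromNormalization.app U ≫
            ((gen X).normalization.presheaf.germ _ x' hx'V ≫
              (gen X).normalization.residue x') := by
        rw [Category.assoc, e1, ← Category.assoc, e2, Category.assoc]
      exact congrArg CommRingCat.Hom.hom e3
    apply RingHom.Finite.of_comp_finite (f := f)
    rw [hnat]
    have hker : ∀ c ∈ (hV.primeIdealOf ⟨x', hx'V⟩).asIdeal, ψ c = 0 := by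
      intro c hc
      have := (RatExt.mem_primeIdealOf_iff hV hx'V c).mp hc
      exact (IsLocalRing.residue_eq_zero_iff _).mpr this
    let ψbar : Γ((gen X).normalization, (gen X).fromNormalization ⁻¹ᵁ U) ⧸
        (hV.primeIdealOf ⟨x', hx'V⟩).asIdeal →+* (gen X).normalization.residueField x' :=
      Ideal.Quotient.lift _ ψ hker
    have hψ : ψ = ψbar.comp (Ideal.Quotient.mk _) := by
      ext c
      exact (Ideal.Quotient.lift_mk _ ψ hker).symm
    have hsurj : Function.Surjective ψbar := by
      intro t
      obtain ⟨t₀, rfl⟩ := IsLocalRing.residue_surjective t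
      let _ := (gen X).normalization.presheaf.algebra_section_stalk
        (⟨x', hx'V⟩ : ↥((gen X).fromNormalization ⁻¹ᵁ U))
      have hloc := hV.isLocalization_stalk ⟨x', hx'V⟩
      obtain ⟨⟨c, s⟩, hts⟩ := IsLocalization.surj
        (hV.primeIdealOf ⟨x', hx'V⟩).asIdeal.primeCompl t₀
      obtain ⟨s', i, hi, hsi⟩ := hmax.exists_inv s.2
      refine ⟨Ideal.Quotient.mk _ (c * s'), ?_⟩
      change ψbar (Ideal.Quotient.mk _ (c * s')) = IsLocalRing.residue _ t₀
      rw [Ideal.Quotient.lift_mk]
      change IsLocalRing.residue _ (((gen X).normalization.presheaf.germ _ x' hx'V).hom (c * s')) =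
        IsLocalRing.residue _ t₀
      have hts' : t₀ * ((gen X).normalization.presheaf.germ _ x' hx'V).hom s.1 =
          ((gen X).normalization.presheaf.germ _ x' hx'V).hom c := hts
      have hi' : IsLocalRing.residue _
          (((gen X).normalization.presheaf.germ _ x' hx'V).hom i) = 0 := hker i hi
      have h1 : ((gen X).normalization.presheaf.germ _ x' hx'V).hom (c * s') =
          t₀ * (1 - ((gen X).normalization.presheaf.germ _ x' hx'V).hom i) := by
        have : s' * s.1 = 1 - i := by rw [← hsi]; ring
        rw [map_mul, ← hts', mul_assoc, ← map_mul, mul_comm s.1 s', this, map_sub, map_one]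
      rw [h1, map_mul, map_sub, map_one, hi', sub_zero, mul_one]
    rw [hψ, RingHom.comp_assoc]
    exact (RingHom.Finite.of_surjective ψbar hsurj).comp hfin

/-- The local rings of the normalization are fields or discrete valuation rings. -/
theorem stalk_isField_or_dvr (hdim : topologicalKrullDim X ≤ 1)
    (x' : (gen X).normalization) :
    IsField ((gen X).normalization.presheaf.stalk x') ∨
      ∃ _ : IsDomain ((gen X).normalization.presheaf.stalk x'),
        IsDiscreteValuationRing ((gen X).normalization.presheaf.stalk x') := by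
  obtain ⟨U, hU, hxU, hη⟩ := exists_affine_nhd (gen X) (gen_closedPoint X)
    ((gen X).fromNormalization.base x')
  have hV : IsAffineOpen ((gen X).fromNormalization ⁻¹ᵁ U) := hU.preimage _
  have hx'V : x' ∈ (gen X).fromNormalization ⁻¹ᵁ U := hxU
  obtain ⟨hD, -, -⟩ := chart_facts hdim hU hη
  obtain ⟨hdom, -⟩ := stalk_isDomain_isIntegrallyClosed (gen X) (gen_closedPoint X) x'
  let _ := (gen X).normalization.presheaf.algebra_section_stalk
    (⟨x', hx'V⟩ : ↥((gen X).fromNormalization ⁻¹ᵁ U))
  have hloc := hV.isLocalization_stalk ⟨x', hx'V⟩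
  by_cases hP : (hV.primeIdealOf ⟨x', hx'V⟩).asIdeal = ⊥
  · left
    have hfr : IsFractionRing Γ((gen X).normalization, (gen X).fromNormalization ⁻¹ᵁ U)
        ((gen X).normalization.presheaf.stalk x') := by
      delta IsFractionRing
      convert hloc using 1
      ext c
      rw [mem_nonZeroDivisors_iff_ne_zero, Ideal.mem_primeCompl_iff, hP, Ideal.mem_bot]
    exact @Field.toIsField _ (IsFractionRing.toField
      Γ((gen X).normalization, (gen X).fromNormalization ⁻¹ᵁ U))
  · right
    exact ⟨hdom, IsLocalization.AtPrime.isDiscreteValuationRing_of_dedekind_domain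
      Γ((gen X).normalization, (gen X).fromNormalization ⁻¹ᵁ U) hP _⟩

/-- Sections of the normalization over nonempty affine opens are Dedekind domains. -/
theorem isDedekindDomain_of_isAffineOpen (hdim : topologicalKrullDim X ≤ 1)
    {W : (gen X).normalization.Opens} (hW : IsAffineOpen W)
    (hne : (W : Set (gen X).normalization).Nonempty) :
    IsDedekindDomain Γ((gen X).normalization, W) := by
  have hneW : Nonempty W := hne.to_subtype
  have hdom : IsDomain Γ((gen X).normalization, W) := inferInstance
  have hLN := isLocallyNoetherian_normalization (X := X) hdim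
  have hnoeth : IsNoetherianRing Γ((gen X).normalization, W) :=
    IsLocallyNoetherian.component_noetherian ⟨W, hW⟩
  have : IsDedekindDomainDvr Γ((gen X).normalization, W) :=
    { toIsNoetherian := hnoeth
      is_dvr_at_nonzero_prime := by
        intro Q hQ hQp
        have hy' : hW.fromSpec.base ⟨Q, hQp⟩ ∈ W := by
          change hW.fromSpec.base ⟨Q, hQp⟩ ∈ (W : Set (gen X).normalization)
          rw [← hW.range_fromSpec]
          exact Set.mem_range_self _
        let _ := TopCat.Presheaf.algebra_section_stalk (gen X).normalization.presheaf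
          (⟨hW.fromSpec.base ⟨Q, hQp⟩, hy'⟩ : ↥W)
        have hlocW : IsLocalization.AtPrime
            ((gen X).normalization.presheaf.stalk (hW.fromSpec.base ⟨Q, hQp⟩)) Q :=
          hW.isLocalization_stalk' ⟨Q, hQp⟩ hy'
        have hnf := IsLocalization.AtPrime.not_isField Γ((gen X).normalization, W) hQ
          ((gen X).normalization.presheaf.stalk (hW.fromSpec.base ⟨Q, hQp⟩))
        rcases stalk_isField_or_dvr hdim (hW.fromSpec.base ⟨Q, hQp⟩) with hf | ⟨hd, hdvr⟩
        · exact absurd hf hnf
        · let e : Localization.AtPrime Q ≃ₐ[Γ((gen X).normalization, W)]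
              (gen X).normalization.presheaf.stalk (hW.fromSpec.base ⟨Q, hQp⟩) :=
            IsLocalization.algEquiv Q.primeCompl _ _
          exact IsDiscreteValuationRing.RingEquivClass.isDiscreteValuationRing e.symm }
  infer_instance

end Dim1

end Groth.Agent.H73.Normz
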