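import Groth.Agent.H73.BranchNorm
import Groth.Agent.H73.NormzDim1
import Groth.Agent.H70.LocDomain
import Groth.Agent.H70.UnramUnibranchIrr

/-!
# Branches of an integral scheme at a point and the fibre of the normalization
-/

set_option autoImplicit false
universe u
open CategoryTheory CategoryTheory.Limits AlgebraicGeometry TopologicalSpace

namespace Groth.Agent.H73.BranchScheme

open Groth.Agent.H73.Normz Groth.Agent.H73.BranchNorm Groth.Agent.H70.LocDomain
  Groth.Agent.H70.UnramUnibranchScheme

variable (X : Scheme.{u}) [IsIntegral X] [QuasiCompact (gen X)] [QuasiSeparated (gen X)]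

theorem exists_equiv (x : X) :
    ∃ e : {x' : (gen X).normalization // (gen X).fromNormalization.base x' = x} ≃
        MaximalSpectrum (CAlg2.normRed (X.presheaf.stalk x)),
      ∀ (x' : (gen X).normalization) (h : (gen X).fromNormalization.base x' = x),
        ENat.card (Brnch.Emb (X.presheaf.stalk x) (e ⟨x', h⟩)) =
          (letI := ((gen X).fromNormalization.residueFieldMap x').hom.toAlgebra
           ENat.card (Field.Emb (X.residueField ((gen X).fromNormalization.base x'))
             ((gen X).normalization.residueField x'))) := by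
  obtain ⟨U, hU, hxU, hη⟩ := exists_affine_nhd (gen X) (gen_closedPoint X) x
  have : Nonempty U := ⟨⟨x, hxU⟩⟩
  have hV : IsAffineOpen ((gen X).fromNormalization ⁻¹ᵁ U) := hU.preimage _
  letI := ((gen X).fromNormalization.app U).hom.toAlgebra
  letI := (chartι (gen X) hη).toAlgebra
  have h := chart_isIntegralClosure (gen X) hU hη
  rw [chartρ_gen hη] at h
  obtain ⟨h1, h2⟩ := h
  letI := X.presheaf.algebra_section_stalk (⟨x, hxU⟩ : U)
  haveI hlocA : IsLocalization.AtPrime (X.presheaf.stalk x)
      (hU.primeIdealOf ⟨x, hxU⟩).asIdeal := hU.isLocalization_stalk ⟨x, hxU⟩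
  haveI : IsScalarTower Γ(X, U) (X.presheaf.stalk x) X.functionField :=
    functionField_isScalarTower X U ⟨x, hxU⟩
  obtain ⟨e, he⟩ := ring_main (R := Γ(X, U))
    (R' := Γ((gen X).normalization, (gen X).fromNormalization ⁻¹ᵁ U))
    (K := X.functionField) (A := X.presheaf.stalk x) (hU.primeIdealOf ⟨x, hxU⟩).asIdeal
  have hcomap : ∀ (y : (gen X).normalization) (hy : y ∈ (gen X).fromNormalization ⁻¹ᵁ U),
      (hV.primeIdealOf ⟨y, hy⟩).asIdeal.comap
        (algebraMap Γ(X, U) Γ((gen X).normalization, (gen X).fromNormalization ⁻¹ᵁ U)) =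
      (hU.primeIdealOf ⟨(gen X).fromNormalization.base y, hy⟩).asIdeal := by
    intro y hy
    have h3 := IsAffineOpen.comap_primeIdealOf_appLE U hU _ hV le_rfl hy
    rw [← Scheme.Hom.app_eq_appLE] at h3
    exact congrArg PrimeSpectrum.asIdeal h3
  let e₂ : {x' : (gen X).normalization // (gen X).fromNormalization.base x' = x} ≃
      {P : PrimeSpectrum Γ((gen X).normalization, (gen X).fromNormalization ⁻¹ᵁ U) //
        P.asIdeal.comap (algebraMap Γ(X, U) _) = (hU.primeIdealOf ⟨x, hxU⟩).asIdeal} :=
    { toFun := fun x' => ⟨hV.primeIdealOf ⟨x'.1,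
          (show (gen X).fromNormalization.base x'.1 ∈ U from x'.2.symm ▸ hxU)⟩, by
        refine (hcomap _ _).trans ?_
        congr 2
        exact Subtype.ext x'.2⟩
      invFun := fun P => ⟨hV.fromSpec P.1, by
        have hmem := fromSpec_mem hV P.1
        have e := primeIdealOf_fromSpec hV P.1 hmem
        have h4 := hcomap _ hmem
        rw [e, P.2] at h4
        have h5 : hU.primeIdealOf ⟨x, hxU⟩ =
            hU.primeIdealOf ⟨(gen X).fromNormalization.base (hV.fromSpec P.1), hmem⟩ :=
          PrimeSpectrum.ext h4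
        exact (congrArg Subtype.val (primeIdealOf_injective hU h5)).symm⟩
      left_inv := fun x' => Subtype.ext (hV.fromSpec_primeIdealOf ⟨x'.1, _⟩)
      right_inv := fun P => Subtype.ext (primeIdealOf_fromSpec hV P.1 (fromSpec_mem hV P.1)) }
  refine ⟨e₂.trans e, ?_⟩
  intro x' h
  subst h
  letI := (gen X).normalization.presheaf.algebra_section_stalk
    (⟨x', hxU⟩ : ↥((gen X).fromNormalization ⁻¹ᵁ U))
  haveI := hV.isLocalization_stalk ⟨x', hxU⟩
  refine he (hV.primeIdealOf ⟨x', hxU⟩) _ ((gen X).normalization.presheaf.stalk x')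
    ((gen X).fromNormalization.stalkMap x').hom ?_
  have h6 := Scheme.Hom.germ_stalkMap (gen X).fromNormalization U x' hxU
  exact congrArg CommRingCat.Hom.hom h6

end Groth.Agent.H73.BranchScheme
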