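import Mathlib
import Groth.Prelude.Def_Wider
import Groth.Agent.H55.CE.Defs
import Groth.Agent.H58.LCLes

set_option autoImplicit false

universe u

open Groth.Agent.H55.CE

namespace Groth.Agent.H73.CE_C0

/-- localization at a submonoid all of whose elements are `1` changes nothing. -/
theorem bijective_mkLinearMap_of_forall_eq_one {R : Type u} [CommRing R] (S : Submonoid R)
    (hS : ∀ s ∈ S, s = 1) (M : Type u) [AddCommGroup M] [Module R M] :
    Function.Bijective (LocalizedModule.mkLinearMap S M) := by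
  constructor
  · intro m m' h
    rw [LocalizedModule.mkLinearMap_apply, LocalizedModule.mkLinearMap_apply,
      LocalizedModule.mk_eq] at h
    obtain ⟨u, hu⟩ := h
    have h1 : (u : R) = 1 := hS u u.2
    simpa [Submonoid.smul_def, h1] using hu
  · intro y
    induction y using LocalizedModule.induction_on with
    | h m s =>
      refine ⟨m, ?_⟩
      rw [LocalizedModule.mkLinearMap_apply]
      have : s = 1 := Subtype.ext (hS s s.2)
      rw [this]

/-- (C0) the base case: no elements. -/
theorem C0 (R : Type u) [CommRing R] [IsNoetherianRing R] (x : Fin 0 → R) (M : Type u)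
    [AddCommGroup M] [Module R M] :
    Nonempty (LocCoh.H (Ideal.span (Set.range x)) 0 M ≃ₗ[R] cechTop x M) := by
  -- (1) `H^0_I(M) ≃ M` for `I = ⊥`
  obtain ⟨Ψ, -, hinj, hrange⟩ :=
    Groth.Agent.H58.LC.exists_H0 (Ideal.span (Set.range x)) (ModuleCat.of R M)
  have hI : Ideal.span (Set.range x) = ⊥ := by
    rw [Ideal.span_eq_bot]
    rintro _ ⟨i, -⟩
    exact i.elim0
  have htop : DRing.torsionSub (Ideal.span (Set.range x)) (ModuleCat.of R M) = ⊤ := by
    rw [eq_top_iff]
    intro m _
    refine ⟨1, fun a ha => ?_⟩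
    rw [pow_one, hI, Ideal.mem_bot] at ha
    rw [ha, zero_smul]
  have hsurj : Function.Surjective Ψ := by
    rw [← LinearMap.range_eq_top, hrange, htop]
  let e1 : LocCoh.H (Ideal.span (Set.range x)) 0 M ≃ₗ[R] M :=
    LinearEquiv.ofBijective Ψ ⟨hinj, hsurj⟩
  -- (2) `M ≃ M_t` for `t = 1`
  have hprod : (∏ i, x i) = 1 := Fin.prod_univ_zero x
  have hS : ∀ s ∈ Submonoid.powers (∏ i, x i), s = 1 := by
    rintro s ⟨n, rfl⟩
    rw [hprod]
    exact one_pow n
  let e2 : M ≃ₗ[R] LocalizedModule (Submonoid.powers (∏ i, x i)) M :=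
    LinearEquiv.ofBijective (LocalizedModule.mkLinearMap _ M)
      (bijective_mkLinearMap_of_forall_eq_one _ hS M)
  -- (3) the Čech submodule is zero
  have hbot : cechSub x M = ⊥ := by
    unfold cechSub
    rw [Submodule.span_eq_bot]
    rintro y ⟨i, -⟩
    exact i.elim0
  let e3 : cechTop x M ≃ₗ[R] LocalizedModule (Submonoid.powers (∏ i, x i)) M :=
    Submodule.quotEquivOfEqBot _ hbot
  exact ⟨e1.trans (e2.trans e3.symm)⟩

end Groth.Agent.H73.CE_C0
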