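import Mathlib
import Groth.Agent.H73.CompositeVal

/-!
# A valuation ring through a chain of two specializations

For points `e ⤳ x' ⤳ x` of a scheme there is a valuation ring `V` of the residue field of `e` and a
morphism `Spec V ⟶ X` which restricts to the canonical morphism on `Spec κ(e)`, maps the closed
point to `x` and hits `x'`.
-/

set_option autoImplicit false
universe u

namespace Groth.Agent.H73.ChainVal

open AlgebraicGeometry CategoryTheory IsLocalRing

variable {X : Scheme.{u}}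

theorem exists_valuationSubring_chain {e x' x : X} (h₁ : e ⤳ x') (h₂ : x' ⤳ x) :
    ∃ (V : ValuationSubring (X.residueField e)) (h : Spec (CommRingCat.of V) ⟶ X),
      Spec.map (CommRingCat.ofHom V.subtype) ≫ h = X.fromSpecResidueField e ∧
      h (closedPoint V) = x ∧ ∃ q, h q = x' := by
  let α' : X.presheaf.stalk x' ⟶ X.residueField e :=
    X.presheaf.stalkSpecializes h₁ ≫ X.residue e
  obtain ⟨V₁, hV₁, hloc₁⟩ := exists_factor_valuationRing α'.hom
  let j₁ : X.presheaf.stalk x' →+* V₁ := α'.hom.codRestrict V₁.toSubring hV₁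
  haveI : IsLocalHom j₁ := hloc₁
  let β : X.presheaf.stalk x →+* ResidueField V₁ :=
    (residue V₁).comp (j₁.comp (X.presheaf.stalkSpecializes h₂).hom)
  obtain ⟨V₂, hV₂, hloc₂⟩ := exists_factor_valuationRing β
  let V : ValuationSubring (X.residueField e) := CompositeVal.comp V₁ V₂
  let α : X.presheaf.stalk x →+* X.residueField e :=
    α'.hom.comp (X.presheaf.stalkSpecializes h₂).hom
  have hαV : ∀ a, α a ∈ V := fun a =>
    (CompositeVal.mem_comp_iff V₁ V₂ _).mpr ⟨hV₁ _, hV₂ a⟩
  let φ : X.presheaf.stalk x →+* V := α.codRestrict V.toSubring hαV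
  have hφloc : IsLocalHom φ := by
    constructor
    intro a ha
    by_contra hna
    have h1 : ¬ IsUnit (β.codRestrict V₂.toSubring hV₂ a) := fun hu => hna (hloc₂.map_nonunit a hu)
    have h2 : (⟨β a, hV₂ a⟩ : V₂) ∈ maximalIdeal V₂ := (mem_maximalIdeal _).mpr h1
    have h3 : V₂.valuation (β a) < 1 := (V₂.valuation_lt_one_iff _).mp h2
    have h4 : V.valuation (α a) < 1 := CompositeVal.valuation_comp_lt_one V₁ V₂ (hV₁ _) h3
    have h5 : (φ a) ∈ maximalIdeal V := (V.valuation_lt_one_iff _).mpr h4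
    exact ((mem_maximalIdeal _).mp h5) ha
  let h : Spec (CommRingCat.of V) ⟶ X := Spec.map (CommRingCat.ofHom φ) ≫ X.fromSpecStalk x
  refine ⟨V, h, ?_, ?_, ?_⟩
  · show Spec.map (CommRingCat.ofHom V.subtype) ≫ Spec.map (CommRingCat.ofHom φ) ≫
      X.fromSpecStalk x = _
    rw [← Spec.map_comp_assoc]
    have e1 : CommRingCat.ofHom φ ≫ CommRingCat.ofHom V.subtype =
        X.presheaf.stalkSpecializes h₂ ≫ X.presheaf.stalkSpecializes h₁ ≫ X.residue e := by
      ext a
      rfl
    rw [e1, Spec.map_comp_assoc, Spec.map_comp_assoc,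
      Scheme.SpecMap_stalkSpecializes_fromSpecStalk, Scheme.SpecMap_stalkSpecializes_fromSpecStalk]
    rfl
  · let cV : ↥(Spec (CommRingCat.of V)) := closedPoint V
    show (Spec.map (CommRingCat.ofHom φ) ≫ X.fromSpecStalk x) cV = x
    rw [Scheme.Hom.comp_apply]
    have h3 : Spec.map (CommRingCat.ofHom φ) cV = closedPoint (X.presheaf.stalk x) :=
      IsLocalRing.comap_closedPoint (S := V) φ
    rw [h3]
    exact Scheme.fromSpecStalk_closedPoint
  · let ι : V →+* V₁ := Subring.inclusion (CompositeVal.comp_le V₁ V₂)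
    let c₁ : ↥(Spec (CommRingCat.of V₁)) := closedPoint V₁
    refine ⟨Spec.map (CommRingCat.ofHom ι) c₁, ?_⟩
    rw [← Scheme.Hom.comp_apply]
    show (Spec.map (CommRingCat.ofHom ι) ≫ Spec.map (CommRingCat.ofHom φ) ≫
      X.fromSpecStalk x) c₁ = x'
    rw [← Spec.map_comp_assoc]
    obtain ⟨ψ, hψ⟩ : ∃ ψ : X.presheaf.stalk x' ⟶ CommRingCat.of V₁, ψ = CommRingCat.ofHom j₁ :=
      ⟨_, rfl⟩
    have e2 : CommRingCat.ofHom φ ≫ CommRingCat.ofHom ι =
        X.presheaf.stalkSpecializes h₂ ≫ ψ := by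
      rw [hψ]
      ext a
      rfl
    have h3 : Spec.map ψ c₁ = closedPoint (X.presheaf.stalk x') := by
      rw [hψ]
      exact IsLocalRing.comap_closedPoint (S := V₁) j₁
    rw [e2, Spec.map_comp_assoc, Scheme.SpecMap_stalkSpecializes_fromSpecStalk,
      Scheme.Hom.comp_apply, h3]
    exact Scheme.fromSpecStalk_closedPoint

end Groth.Agent.H73.ChainVal
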