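import Mathlib.AlgebraicGeometry.Morphisms.QuasiCompact
import Mathlib.AlgebraicGeometry.Restrict
import Mathlib.Topology.LocalAtTarget

set_option autoImplicit false
universe u

open CategoryTheory CategoryTheory.Limits AlgebraicGeometry TopologicalSpace

namespace Groth.Agent.H73

/-- The image of a closed set under a quasi-compact morphism to an affine scheme is closed as soon
as it is stable under specialization. -/
theorem isClosed_image_of_stableUnderSpecialization_Spec {X : Scheme.{u}} {S : CommRingCat.{u}}
    (f : X ⟶ Spec S) [QuasiCompact f] (Z : Set X) (hZ : IsClosed Z)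
    (H : StableUnderSpecialization (f '' Z)) : IsClosed (f '' Z) := by
  obtain ⟨R, g, hg⟩ := compactSpace_iff_exists.mp (QuasiCompact.compactSpace_of_compactSpace f)
  obtain ⟨φ, hφ⟩ := Spec.map_surjective (g ≫ f)
  have h1 : f '' Z = (Spec.map φ) '' (g ⁻¹' Z) := by
    rw [hφ, Scheme.Hom.comp_base, TopCat.coe_comp, Set.image_comp, Set.image_preimage_eq _ hg]
  rw [h1] at H ⊢
  exact PrimeSpectrum.isClosed_image_of_stableUnderSpecialization φ.hom (g ⁻¹' Z)
    (hZ.preimage g.continuous) H

/-- The image of a closed set under a quasi-compact morphism is closed as soon as it is stable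
under specialization. -/
theorem isClosed_image_of_stableUnderSpecialization {X Y : Scheme.{u}} (f : X ⟶ Y)
    [QuasiCompact f] (Z : Set X) (hZ : IsClosed Z)
    (H : StableUnderSpecialization (f '' Z)) : IsClosed (f '' Z) := by
  rw [TopologicalSpace.IsOpenCover.isClosed_iff_coe_preimage (iSup_affineOpens_eq_top Y)]
  intro U
  have e1 : (Subtype.val ⁻¹' (f '' Z) : Set ((U : Y.Opens) : Set Y)) =
      (f ∣_ U.1) '' (Subtype.val ⁻¹' Z) := by
    rw [morphismRestrict_base]
    exact (Set.image_restrictPreimage (t := ((U : Y.Opens) : Set Y)) (f := f) (s := Z)).symm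
  have hst : StableUnderSpecialization ((f ∣_ U.1) '' (Subtype.val ⁻¹' Z)) := by
    rw [← e1]
    exact H.preimage continuous_subtype_val
  have h2 : IsClosed (((f ∣_ U.1) ≫ U.2.isoSpec.hom) '' (Subtype.val ⁻¹' Z)) := by
    apply isClosed_image_of_stableUnderSpecialization_Spec _ _
      (hZ.preimage continuous_subtype_val)
    rw [Scheme.Hom.comp_base, TopCat.coe_comp, Set.image_comp]
    exact (U.2.isoSpec.hom.homeomorph.isClosedMap.specializingMap).stableUnderSpecialization_image
      hst
  rw [Scheme.Hom.comp_base, TopCat.coe_comp, Set.image_comp] at h2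
  have h3 := (U.2.isoSpec.hom.homeomorph.isClosed_image).1 h2
  rw [← e1] at h3
  exact h3

end Groth.Agent.H73
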