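import Groth.Agent.H73.ClosureProperBase

/-!
# Properness of the closure of a set at a point, tested by sections over DVRs (EGA IV 15.7.10)
-/

set_option autoImplicit false
universe u
open CategoryTheory CategoryTheory.Limits AlgebraicGeometry IsLocalRing

namespace Groth.Agent.H73.ClosureProper

variable {X Y : Scheme.{u}}

/-- The valuative lifting property for squares whose upper point lies in the closure of `z`
and whose lower morphism lands in `U'`. -/
def LiftProp (f : X ⟶ Y) (z : X) (U' : Y.Opens) : Prop :=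
  ∀ S : ValuativeCommSq f, Set.range S.i₁ ⊆ closure {z} → Set.range S.i₂ ⊆ (U' : Set Y) →
    S.commSq.HasLift

theorem liftProp_of_not_specializes (f : X ⟶ Y) (z : X) (y : Y) (h : ¬ f.base z ⤳ y) :
    ∃ U' : Y.Opens, y ∈ U' ∧ LiftProp f z U' := by
  refine ⟨⟨(closure {f.base z})ᶜ, isClosed_closure.isOpen_compl⟩,
    fun hy => h (specializes_iff_mem_closure.mpr hy), ?_⟩
  intro S h1 h2
  exfalso
  have hx : S.i₁ (closedPoint S.K) ∈ closure {z} := h1 ⟨_, rfl⟩
  have hfx : f (S.i₁ (closedPoint S.K)) ∈ closure {f z} := by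
    have := image_closure_subset_closure_image f.continuous (Set.mem_image_of_mem _ hx)
    rw [Set.image_singleton] at this
    exact this
  have e : f (S.i₁ (closedPoint S.K)) =
      S.i₂ (Spec.map (CommRingCat.ofHom (algebraMap S.R S.K)) (closedPoint S.K)) :=
    congrArg (fun q : Spec (CommRingCat.of S.K) ⟶ Y => q (closedPoint S.K)) S.commSq.w
  have hmem : S.i₂ (Spec.map (CommRingCat.ofHom (algebraMap S.R S.K)) (closedPoint S.K)) ∈
      (closure {f.base z})ᶜ := h2 ⟨_, rfl⟩
  rw [← e] at hmem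
  exact hmem hfx

/-- From the section hypothesis: every discrete valuation ring of the function field of an
integral closed subscheme `W` of `X` (with generic point in `Z`) dominating a local ring of the
closed subscheme `V` of `Y` has a centre on `W`. -/
theorem exists_center_of_sections {W V : Scheme.{u}} [IsIntegral W] (f : X ⟶ Y) (j : W ⟶ X)
    (k : V ⟶ Y) [IsClosedImmersion j] [IsClosedImmersion k] (φ : W ⟶ V) (hφ : φ ≫ k = j ≫ f)
    (Z : Set X) (hZ : j (genericPoint W) ∈ Z) (yV : V)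
    (hξ : φ.base (genericPoint W) ⤳ yV) (y : Y) (hy : k yV = y)
    (H : ∀ (A' : Type u) [CommRing A'] [IsDomain A'] [IsDiscreteValuationRing A']
      (g : Spec (CommRingCat.of A') ⟶ Y),
        g.base (IsLocalRing.closedPoint A') = y →
        ∀ x' : ↥(pullback f g), (pullback.fst f g).base x' ∈ Z →
          (pullback.snd f g).base x' = genericPoint (Spec (CommRingCat.of A')) →
          Function.Bijective ((pullback.snd f g).residueFieldMap x').hom →
          ∃ s : Spec (CommRingCat.of A') ⟶ pullback f g,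
            s ≫ pullback.snd f g = 𝟙 _ ∧ x' ∈ Set.range s.base)
    (A : ValuationSubring W.functionField) (hA : IsDiscreteValuationRing A)
    (h1 : ∀ r : V.presheaf.stalk yV,
      (V.presheaf.stalkSpecializes hξ ≫ φ.stalkMap (genericPoint W)).hom r ∈ A)
    (h2 : ∀ r ∈ maximalIdeal (V.presheaf.stalk yV),
      A.valuation ((V.presheaf.stalkSpecializes hξ ≫ φ.stalkMap (genericPoint W)).hom r) < 1) :
    ∃ x : W, φ.base x = yV ∧
      (∀ r : W.presheaf.stalk x, algebraMap (W.presheaf.stalk x) W.functionField r ∈ A) ∧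
      (∀ r ∈ maximalIdeal (W.presheaf.stalk x),
        A.valuation (algebraMap (W.presheaf.stalk x) W.functionField r) < 1) := by
  obtain ⟨g₂, hg₂y, hg₂⟩ := exists_spec_of_dominating φ yV hξ A h1 h2
  obtain ⟨g, hg⟩ : ∃ g : Spec (CommRingCat.of A) ⟶ Y, g = g₂ ≫ k := ⟨_, rfl⟩
  have comm : (W.fromSpecStalk (genericPoint W) ≫ j) ≫ f =
      Spec.map (CommRingCat.ofHom (algebraMap A W.functionField)) ≫ g := by
    rw [hg, Category.assoc, ← hφ, ← Category.assoc, ← hg₂, Category.assoc]
  obtain ⟨t, ht1, ht2⟩ : ∃ t : Spec (CommRingCat.of W.functionField) ⟶ pullback f g,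
      t ≫ pullback.fst f g = W.fromSpecStalk (genericPoint W) ≫ j ∧
      t ≫ pullback.snd f g = Spec.map (CommRingCat.ofHom (algebraMap A W.functionField)) :=
    ⟨pullback.lift _ _ comm, pullback.lift_fst _ _ _, pullback.lift_snd _ _ _⟩
  haveI : IsDiscreteValuationRing A := hA
  have hgy : g.base (closedPoint A) = y := by
    rw [hg]
    change k (g₂ (closedPoint A)) = y
    rw [hg₂y, hy]
  haveI : IsPreimmersion (t ≫ pullback.snd f g) := by
    rw [ht2]
    exact IsPreimmersion.of_isLocalization (nonZeroDivisors A)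
  have hsurj := residueFieldMap_surjective_of_isPreimmersion_comp (pullback.snd f g) t
  have hfst : (pullback.fst f g).base (t (closedPoint W.functionField)) ∈ Z := by
    have : (pullback.fst f g).base (t (closedPoint W.functionField)) = j (genericPoint W) := by
      change (t ≫ pullback.fst f g) (closedPoint W.functionField) = _
      rw [ht1]
      change j (W.fromSpecStalk (genericPoint W) (closedPoint W.functionField)) = _
      rw [Scheme.fromSpecStalk_closedPoint]
    rw [this]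
    exact hZ
  have hsnd : (pullback.snd f g).base (t (closedPoint W.functionField)) =
      genericPoint (Spec (CommRingCat.of A)) := by
    change (t ≫ pullback.snd f g) (closedPoint W.functionField) = _
    rw [ht2]
    exact specMap_algebraMap_closedPoint A W.functionField
  obtain ⟨s, hs1, hs2⟩ := H A g hgy (t (closedPoint W.functionField)) hfst hsnd
    ⟨((pullback.snd f g).residueFieldMap _).hom.injective, hsurj⟩
  -- the generic fibre of `s` is `t`
  have hιs : Spec.map (CommRingCat.ofHom (algebraMap A W.functionField)) ≫ s = t := by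
    apply hom_ext_of_residueFieldMap_surjective (pullback.snd f g)
    · rw [Category.assoc, hs1, Category.comp_id, ht2]
    · obtain ⟨a₀, ha₀⟩ := hs2
      have e1 : (pullback.snd f g) (s a₀) = a₀ := by
        change (s ≫ pullback.snd f g) a₀ = a₀
        rw [hs1]
        rfl
      have e2 : (pullback.snd f g) (t (closedPoint W.functionField)) =
          Spec.map (CommRingCat.ofHom (algebraMap A W.functionField))
            (closedPoint W.functionField) := by
        change (t ≫ pullback.snd f g) _ = _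
        rw [ht2]
      have ha₀' : s a₀ = t (closedPoint W.functionField) := ha₀
      have h3 : a₀ = Spec.map (CommRingCat.ofHom (algebraMap A W.functionField))
          (closedPoint W.functionField) := by
        rw [← e1, ha₀', e2]
      change s (Spec.map (CommRingCat.ofHom (algebraMap A W.functionField))
        (closedPoint W.functionField)) = t (closedPoint W.functionField)
      rw [← h3, ha₀']
    · exact hsurj
  have hσf : (s ≫ pullback.fst f g) ≫ f = g := by
    rw [Category.assoc, pullback.condition, ← Category.assoc, hs1, Category.id_comp]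
  have hισ : Spec.map (CommRingCat.ofHom (algebraMap A W.functionField)) ≫
      (s ≫ pullback.fst f g) = W.fromSpecStalk (genericPoint W) ≫ j := by
    rw [← Category.assoc, hιs, ht1]
  have hrange : Set.range (s ≫ pullback.fst f g) ⊆ Set.range j := by
    rintro _ ⟨r, rfl⟩
    have hsp : genericPoint (Spec (CommRingCat.of A)) ⤳ r := genericPoint_specializes r
    have hsp2 := hsp.map (s ≫ pullback.fst f g).continuous
    have hη : (s ≫ pullback.fst f g) (genericPoint (Spec (CommRingCat.of A))) =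
        j (genericPoint W) := by
      rw [← specMap_algebraMap_closedPoint A W.functionField]
      change (Spec.map (CommRingCat.ofHom (algebraMap A W.functionField)) ≫
        (s ≫ pullback.fst f g)) (closedPoint W.functionField) = _
      rw [hισ]
      change j (W.fromSpecStalk (genericPoint W) (closedPoint W.functionField)) = _
      rw [Scheme.fromSpecStalk_closedPoint]
    rw [hη] at hsp2
    exact hsp2.mem_closed j.isClosedEmbedding.isClosed_range ⟨_, rfl⟩
  obtain ⟨σ', hσ'⟩ := exists_lift_of_isReduced (s ≫ pullback.fst f g) j hrange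
  have hισ' : Spec.map (CommRingCat.ofHom (algebraMap A W.functionField)) ≫ σ' =
      W.fromSpecStalk (genericPoint W) := by
    rw [← cancel_mono j, Category.assoc, hσ', hισ]
  obtain ⟨d1, d2⟩ := dominated_of_lift A σ' hισ'
  refine ⟨σ' (closedPoint A), ?_, d1, d2⟩
  apply k.isEmbedding.injective
  change (φ ≫ k) (σ' (closedPoint A)) = k yV
  rw [hφ]
  change f ((σ' ≫ j) (closedPoint A)) = k yV
  rw [hσ']
  change ((s ≫ pullback.fst f g) ≫ f) (closedPoint A) = k yV
  rw [hσf, hg]
  change k (g₂ (closedPoint A)) = k yV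
  rw [hg₂y]

/-- Properness of `φ : W ⟶ V` over an open of `V` gives the lifting property for `f` at `z`. -/
theorem liftProp_of_isProper {W V : Scheme.{u}} (f : X ⟶ Y) (j : W ⟶ X) (k : V ⟶ Y)
    [IsClosedImmersion j] [IsClosedImmersion k] (φ : W ⟶ V) (hφ : φ ≫ k = j ≫ f) (z : X)
    (hj : Set.range j = closure {z}) (hk : Set.range k = closure {f.base z})
    (UV : V.Opens) (hprop : IsProper (φ ∣_ UV)) (U' : Y.Opens) (hU' : k ⁻¹ᵁ U' = UV) :
    LiftProp f z U' := by
  intro S h1 h2
  obtain ⟨j₁, hj₁⟩ := exists_lift_of_isReduced S.i₁ j (hj ▸ h1)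
  have hr2 : Set.range S.i₂ ⊆ Set.range k := by
    rintro _ ⟨r, rfl⟩
    rw [hk]
    have hsp : genericPoint (Spec (CommRingCat.of S.R)) ⤳ r := genericPoint_specializes r
    have hsp2 := hsp.map S.i₂.continuous
    have hη : S.i₂ (genericPoint (Spec (CommRingCat.of S.R))) =
        f (S.i₁ (closedPoint S.K)) := by
      rw [← specMap_algebraMap_closedPoint S.R S.K]
      change (Spec.map (CommRingCat.ofHom (algebraMap S.R S.K)) ≫ S.i₂) (closedPoint S.K) =
        (S.i₁ ≫ f) (closedPoint S.K)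
      rw [S.commSq.w]
    rw [hη] at hsp2
    refine hsp2.mem_closed isClosed_closure ?_
    have hx : S.i₁ (closedPoint S.K) ∈ closure {z} := h1 ⟨_, rfl⟩
    have := image_closure_subset_closure_image f.continuous (Set.mem_image_of_mem _ hx)
    rw [Set.image_singleton] at this
    exact this
  obtain ⟨j₂, hj₂⟩ := exists_lift_of_isReduced S.i₂ k hr2
  have hr3 : Set.range j₂ ⊆ Set.range UV.ι := by
    rintro _ ⟨r, rfl⟩
    rw [Scheme.Opens.range_ι, ← hU']
    change k (j₂ r) ∈ U'
    have : k (j₂ r) = S.i₂ r := congrArg (fun q : Spec (CommRingCat.of S.R) ⟶ Y => q r) hj₂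
    rw [this]
    exact h2 ⟨r, rfl⟩
  have hr4 : Set.range j₁ ⊆ Set.range (φ ⁻¹ᵁ UV).ι := by
    rintro _ ⟨r, rfl⟩
    rw [Scheme.Opens.range_ι, ← hU']
    change k (φ (j₁ r)) ∈ U'
    have e : k (φ (j₁ r)) =
        S.i₂ (Spec.map (CommRingCat.ofHom (algebraMap S.R S.K)) r) := by
      change (j₁ ≫ φ ≫ k) r = (Spec.map (CommRingCat.ofHom (algebraMap S.R S.K)) ≫ S.i₂) r
      rw [hφ, ← Category.assoc, hj₁, S.commSq.w]
    rw [e]
    exact h2 ⟨_, rfl⟩
  have e₂ := IsOpenImmersion.lift_fac UV.ι j₂ hr3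
  have e₁ := IsOpenImmersion.lift_fac (φ ⁻¹ᵁ UV).ι j₁ hr4
  have hsq : j₁ ≫ φ = Spec.map (CommRingCat.ofHom (algebraMap S.R S.K)) ≫ j₂ := by
    rw [← cancel_mono k, Category.assoc, hφ, ← Category.assoc, hj₁, Category.assoc, hj₂]
    exact S.commSq.w
  let S' : ValuativeCommSq (φ ∣_ UV) :=
    { R := S.R
      K := S.K
      i₁ := IsOpenImmersion.lift (φ ⁻¹ᵁ UV).ι j₁ hr4
      i₂ := IsOpenImmersion.lift UV.ι j₂ hr3
      commSq := ⟨by
        rw [← cancel_mono UV.ι, Category.assoc, morphismRestrict_ι, ← Category.assoc, e₁,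
          Category.assoc, e₂]
        exact hsq⟩ }
  have hex : ValuativeCriterion.Existence (φ ∣_ UV) := by
    have h3 : (ValuativeCriterion.Existence ⊓ @QuasiCompact) (φ ∣_ UV) := by
      rw [← UniversallyClosed.eq_valuativeCriterion]
      infer_instance
    exact h3.1
  obtain ⟨⟨l', hl₁, hl₂⟩⟩ := hex S'
  have hl₁' : Spec.map (CommRingCat.ofHom (algebraMap S.R S.K)) ≫ l' =
      IsOpenImmersion.lift (φ ⁻¹ᵁ UV).ι j₁ hr4 := hl₁
  have hl₂' : l' ≫ (φ ∣_ UV) = IsOpenImmersion.lift UV.ι j₂ hr3 := hl₂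
  have a1 : (φ ⁻¹ᵁ UV).ι ≫ j ≫ f = (φ ∣_ UV) ≫ UV.ι ≫ k := by
    rw [← hφ, ← Category.assoc, ← morphismRestrict_ι, Category.assoc]
  refine ⟨⟨⟨l' ≫ (φ ⁻¹ᵁ UV).ι ≫ j, ?_, ?_⟩⟩⟩
  · rw [← Category.assoc, hl₁', ← Category.assoc, e₁, hj₁]
  · rw [Category.assoc, Category.assoc, a1, ← Category.assoc, hl₂', ← Category.assoc, e₂, hj₂]

/-- The lifting property at a point `z ∈ Z` with `f z ⤳ y`, from the section hypothesis. -/
theorem liftProp_of_specializes [IsNoetherian Y] (f : X ⟶ Y) [IsSeparated f]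
    [LocallyOfFiniteType f] [QuasiCompact f] (Z : Set X) (y : Y) (z : X) (hzZ : z ∈ Z)
    (hzy : f.base z ⤳ y)
    (H : ∀ (A' : Type u) [CommRing A'] [IsDomain A'] [IsDiscreteValuationRing A']
      (g : Spec (CommRingCat.of A') ⟶ Y),
        g.base (IsLocalRing.closedPoint A') = y →
        ∀ x' : ↥(pullback f g), (pullback.fst f g).base x' ∈ Z →
          (pullback.snd f g).base x' = genericPoint (Spec (CommRingCat.of A')) →
          Function.Bijective ((pullback.snd f g).residueFieldMap x').hom →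
          ∃ s : Spec (CommRingCat.of A') ⟶ pullback f g,
            s ≫ pullback.snd f g = 𝟙 _ ∧ x' ∈ Set.range s.base) :
    ∃ U' : Y.Opens, y ∈ U' ∧ LiftProp f z U' := by
  obtain ⟨φ, hφ⟩ := exists_fz f z
  haveI : IsSeparated (φ ≫ clι Y (f z)) := by rw [hφ]; infer_instance
  haveI : IsSeparated φ := IsSeparated.of_comp φ (clι Y (f z))
  haveI : LocallyOfFiniteType (φ ≫ clι Y (f z)) := by rw [hφ]; infer_instance
  haveI : LocallyOfFiniteType φ := locallyOfFiniteType_of_comp φ (clι Y (f z))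
  haveI : QuasiCompact (φ ≫ clι Y (f z)) := by rw [hφ]; infer_instance
  haveI : QuasiCompact φ := QuasiCompact.of_comp φ (clι Y (f z))
  haveI : IsLocallyNoetherian (clS Y (f z)) :=
    LocallyOfFiniteType.isLocallyNoetherian (clι Y (f z))
  have hgen : clι X z (genericPoint (clS X z)) = z := genericPoint_clι z
  obtain ⟨yV, hyV⟩ : y ∈ Set.range (clι Y (f z)) := by
    rw [range_clι]
    exact specializes_iff_mem_closure.mp hzy
  have hξ : φ.base (genericPoint (clS X z)) ⤳ yV := by
    rw [← (clι Y (f z)).isEmbedding.isInducing.specializes_iff]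
    have e : clι Y (f z) (φ (genericPoint (clS X z))) = f z := by
      change (φ ≫ clι Y (f z)) (genericPoint (clS X z)) = f z
      rw [hφ]
      change f (clι X z (genericPoint (clS X z))) = f z
      rw [hgen]
    change clι Y (f z) (φ (genericPoint (clS X z))) ⤳ clι Y (f z) yV
    rw [e, hyV]
    exact hzy
  obtain ⟨UV, hyUV, hprop⟩ := ProperNhd.exists_proper_nhd φ yV hξ
    (fun A hA h1 h2 => exists_center_of_sections f (clι X z) (clι Y (f z)) φ hφ Z
      (by rw [hgen]; exact hzZ) yV hξ y hyV H A hA h1 h2)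
  obtain ⟨U'set, hU'open, hU'eq⟩ :=
    (clι Y (f z)).isEmbedding.isInducing.isOpen_iff.mp UV.2
  refine ⟨⟨U'set, hU'open⟩, ?_, liftProp_of_isProper f (clι X z) (clι Y (f z)) φ hφ z
    (range_clι z) (range_clι (f z)) UV hprop ⟨U'set, hU'open⟩ ?_⟩
  · have : yV ∈ (clι Y (f z)) ⁻¹' U'set := by
      rw [hU'eq]
      exact hyUV
    rw [← hyV]
    exact this
  · apply TopologicalSpace.Opens.ext
    exact hU'eq

/-- Assembly: the lifting properties at the maximal points give properness of the reduced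
closed subscheme over `U`. -/
theorem isProper_of_liftProp (f : X ⟶ Y) [IsSeparated f] [LocallyOfFiniteType f]
    [QuasiCompact f] (C : Set X) (hCc : IsClosed C) (M : Set X)
    (hM : ∀ x ∈ C, ∃ z ∈ M, x ∈ closure {z}) (U : Y.Opens)
    (hL : ∀ z ∈ M, ∃ U' : Y.Opens, U ≤ U' ∧ LiftProp f z U')
    (hC : IsClosed ((f ⁻¹ᵁ U).ι.base ⁻¹' C)) :
    IsProper ((Scheme.IdealSheafData.vanishingIdeal
        (⟨(f ⁻¹ᵁ U).ι.base ⁻¹' C, hC⟩ : TopologicalSpace.Closeds ↥(f ⁻¹ᵁ U))).subschemeι ≫
      (f ∣_ U)) := by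
  obtain ⟨I, hI⟩ : ∃ I : (f ⁻¹ᵁ U : Scheme.{u}).IdealSheafData,
      I = Scheme.IdealSheafData.vanishingIdeal
        (⟨(f ⁻¹ᵁ U).ι.base ⁻¹' C, hC⟩ : TopologicalSpace.Closeds ↥(f ⁻¹ᵁ U)) := ⟨_, rfl⟩
  rw [← hI]
  haveI : IsReduced I.subscheme := by rw [hI]; infer_instance
  have hrI : Set.range I.subschemeι = (f ⁻¹ᵁ U).ι.base ⁻¹' C := by
    rw [hI, Scheme.IdealSheafData.range_subschemeι,
      Scheme.IdealSheafData.coe_support_vanishingIdeal]
    rfl
  have hex : ValuativeCriterion.Existence (I.subschemeι ≫ (f ∣_ U)) := by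
    intro S
    have hw := S.commSq.w
    let S₀ : ValuativeCommSq f :=
      { R := S.R
        K := S.K
        i₁ := S.i₁ ≫ I.subschemeι ≫ (f ⁻¹ᵁ U).ι
        i₂ := S.i₂ ≫ U.ι
        commSq := ⟨by
          rw [Category.assoc, Category.assoc, ← morphismRestrict_ι,
            ← Category.assoc I.subschemeι, ← Category.assoc S.i₁, hw, Category.assoc]⟩ }
    have hpt : (S.i₁ ≫ I.subschemeι ≫ (f ⁻¹ᵁ U).ι) (closedPoint S.K) ∈ C := by
      have : I.subschemeι (S.i₁ (closedPoint S.K)) ∈ Set.range I.subschemeι := ⟨_, rfl⟩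
      rw [hrI] at this
      exact this
    obtain ⟨z, hzM, hz⟩ := hM _ hpt
    obtain ⟨U', hUU', hLP⟩ := hL z hzM
    have hr1 : Set.range S₀.i₁ ⊆ closure {z} := by
      rintro _ ⟨r, rfl⟩
      have : r = closedPoint S.K := Subsingleton.elim _ _
      rw [this]
      exact hz
    have hr2 : Set.range S₀.i₂ ⊆ (U' : Set Y) := by
      rintro _ ⟨r, rfl⟩
      exact hUU' (S.i₂ r).2
    obtain ⟨⟨l, hl1, hl2⟩⟩ := hLP S₀ hr1 hr2
    have hl1' : Spec.map (CommRingCat.ofHom (algebraMap S.R S.K)) ≫ l =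
        S.i₁ ≫ I.subschemeι ≫ (f ⁻¹ᵁ U).ι := hl1
    have hl2' : l ≫ f = S.i₂ ≫ U.ι := hl2
    have hrl : Set.range l ⊆ Set.range (f ⁻¹ᵁ U).ι := by
      rintro _ ⟨r, rfl⟩
      rw [Scheme.Opens.range_ι]
      change (l ≫ f) r ∈ U
      rw [hl2']
      exact (S.i₂ r).2
    have el := IsOpenImmersion.lift_fac (f ⁻¹ᵁ U).ι l hrl
    have hrl1 : Set.range (IsOpenImmersion.lift (f ⁻¹ᵁ U).ι l hrl) ⊆
        Set.range I.subschemeι := by
      rintro _ ⟨r, rfl⟩
      rw [hrI]
      change (f ⁻¹ᵁ U).ι (IsOpenImmersion.lift (f ⁻¹ᵁ U).ι l hrl r) ∈ C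
      have e : (f ⁻¹ᵁ U).ι (IsOpenImmersion.lift (f ⁻¹ᵁ U).ι l hrl r) = l r :=
        congrArg (fun q : Spec (CommRingCat.of S.R) ⟶ X => q r) el
      rw [e]
      have hsp : genericPoint (Spec (CommRingCat.of S.R)) ⤳ r := genericPoint_specializes r
      have hsp2 := hsp.map l.continuous
      have hη : l (genericPoint (Spec (CommRingCat.of S.R))) =
          (S.i₁ ≫ I.subschemeι ≫ (f ⁻¹ᵁ U).ι) (closedPoint S.K) := by
        rw [← specMap_algebraMap_closedPoint S.R S.K]
        change (Spec.map (CommRingCat.ofHom (algebraMap S.R S.K)) ≫ l) (closedPoint S.K) = _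
        rw [hl1']
      rw [hη] at hsp2
      exact hsp2.mem_closed hCc hpt
    obtain ⟨l₂, hl₂⟩ := exists_lift_of_isReduced _ I.subschemeι hrl1
    refine ⟨⟨⟨l₂, ?_, ?_⟩⟩⟩
    · rw [← cancel_mono (I.subschemeι ≫ (f ⁻¹ᵁ U).ι), Category.assoc, ← Category.assoc l₂,
        hl₂, el]
      exact hl1'
    · rw [← cancel_mono U.ι, Category.assoc, Category.assoc, morphismRestrict_ι,
        ← Category.assoc l₂, hl₂, ← Category.assoc, el]
      exact hl2'
  haveI : UniversallyClosed (I.subschemeι ≫ (f ∣_ U)) :=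
    UniversallyClosed.of_valuativeCriterion _ hex
  exact {}

/-- **(⇒)** If the closure of `Z` is proper at `y`, points of the base change to a discrete
valuation ring which are rational over the generic point extend to sections. -/
theorem exists_section_of_isProper (f : X ⟶ Y) (Z : Set X) (y : Y)
    (U : Y.Opens) (hyU : y ∈ U) (hC : IsClosed ((f ⁻¹ᵁ U).ι.base ⁻¹' closure Z))
    (hP : IsProper ((Scheme.IdealSheafData.vanishingIdeal
        (⟨(f ⁻¹ᵁ U).ι.base ⁻¹' closure Z, hC⟩ : TopologicalSpace.Closeds ↥(f ⁻¹ᵁ U))).subschemeι ≫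
      (f ∣_ U)))
    (A' : Type u) [CommRing A'] [IsDomain A'] [IsDiscreteValuationRing A']
    (g : Spec (CommRingCat.of A') ⟶ Y) (hg : g.base (closedPoint A') = y)
    (x' : ↥(pullback f g)) (hx'Z : (pullback.fst f g).base x' ∈ Z)
    (hx'η : (pullback.snd f g).base x' = genericPoint (Spec (CommRingCat.of A')))
    (hb : Function.Bijective ((pullback.snd f g).residueFieldMap x').hom) :
    ∃ s : Spec (CommRingCat.of A') ⟶ pullback f g,
      s ≫ pullback.snd f g = 𝟙 _ ∧ x' ∈ Set.range s.base := by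
  obtain ⟨I, hI⟩ : ∃ I : (f ⁻¹ᵁ U : Scheme.{u}).IdealSheafData,
      I = Scheme.IdealSheafData.vanishingIdeal
        (⟨(f ⁻¹ᵁ U).ι.base ⁻¹' closure Z, hC⟩ : TopologicalSpace.Closeds ↥(f ⁻¹ᵁ U)) := ⟨_, rfl⟩
  rw [← hI] at hP
  haveI : IsReduced I.subscheme := by rw [hI]; infer_instance
  have hrI : Set.range I.subschemeι = (f ⁻¹ᵁ U).ι.base ⁻¹' closure Z := by
    rw [hI, Scheme.IdealSheafData.range_subschemeι,
      Scheme.IdealSheafData.coe_support_vanishingIdeal]
    rfl
  have hrg : Set.range g ⊆ Set.range U.ι := by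
    rintro _ ⟨a, rfl⟩
    rw [Scheme.Opens.range_ι]
    exact ((specializes_closedPoint a).map g.continuous).mem_open U.2 (hg ▸ hyU)
  have eg := IsOpenImmersion.lift_fac U.ι g hrg
  obtain ⟨ρ, hFR, hρ⟩ := exists_isFractionRing_residueField (pullback.snd f g) x' hx'η hb
  letI := ρ.toAlgebra
  haveI : IsFractionRing A' ((pullback f g).residueField x') := hFR
  have hr1 : Set.range ((pullback f g).fromSpecResidueField x' ≫ pullback.fst f g) ⊆
      Set.range (f ⁻¹ᵁ U).ι := by
    rintro _ ⟨r, rfl⟩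
    rw [Scheme.Opens.range_ι]
    change (((pullback f g).fromSpecResidueField x' ≫ pullback.fst f g) ≫ f) r ∈ U
    rw [Category.assoc, pullback.condition]
    have := hrg ⟨((pullback f g).fromSpecResidueField x' ≫ pullback.snd f g) r, rfl⟩
    rw [Scheme.Opens.range_ι] at this
    exact this
  have e1 := IsOpenImmersion.lift_fac (f ⁻¹ᵁ U).ι _ hr1
  have hr2 : Set.range (IsOpenImmersion.lift (f ⁻¹ᵁ U).ι _ hr1) ⊆ Set.range I.subschemeι := by
    rintro _ ⟨r, rfl⟩
    rw [hrI]
    change (f ⁻¹ᵁ U).ι (IsOpenImmersion.lift (f ⁻¹ᵁ U).ι _ hr1 r) ∈ closure Z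
    have e : (f ⁻¹ᵁ U).ι (IsOpenImmersion.lift (f ⁻¹ᵁ U).ι _ hr1 r) =
        ((pullback f g).fromSpecResidueField x' ≫ pullback.fst f g) r :=
      congrArg (fun q : Spec ((pullback f g).residueField x') ⟶ X => q r) e1
    rw [e]
    change (pullback.fst f g) ((pullback f g).fromSpecResidueField x' r) ∈ closure Z
    rw [Scheme.fromSpecResidueField_apply]
    exact subset_closure hx'Z
  obtain ⟨tW, htW⟩ := exists_lift_of_isReduced _ I.subschemeι hr2
  have a1 : tW ≫ I.subschemeι ≫ (f ⁻¹ᵁ U).ι =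
      (pullback f g).fromSpecResidueField x' ≫ pullback.fst f g := by
    rw [← Category.assoc, htW, e1]
  have hsq : tW ≫ I.subschemeι ≫ (f ∣_ U) =
      Spec.map (CommRingCat.ofHom ρ) ≫ IsOpenImmersion.lift U.ι g hrg := by
    rw [← cancel_mono U.ι]
    calc (tW ≫ I.subschemeι ≫ (f ∣_ U)) ≫ U.ι
        = (tW ≫ I.subschemeι ≫ (f ⁻¹ᵁ U).ι) ≫ f := by
          simp only [Category.assoc, morphismRestrict_ι]
      _ = ((pullback f g).fromSpecResidueField x' ≫ pullback.snd f g) ≫ g := by
          rw [a1, Category.assoc, pullback.condition, Category.assoc]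
      _ = (Spec.map (CommRingCat.ofHom ρ) ≫ IsOpenImmersion.lift U.ι g hrg) ≫ U.ι := by
          rw [Category.assoc (Spec.map (CommRingCat.ofHom ρ)), eg, hρ]
  let S : ValuativeCommSq (I.subschemeι ≫ (f ∣_ U)) :=
    { R := A'
      K := (pullback f g).residueField x'
      i₁ := tW
      i₂ := IsOpenImmersion.lift U.ι g hrg
      commSq := ⟨hsq⟩ }
  have hex : ValuativeCriterion.Existence (I.subschemeι ≫ (f ∣_ U)) := by
    have h3 : (ValuativeCriterion.Existence ⊓ @QuasiCompact) (I.subschemeι ≫ (f ∣_ U)) := by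
      rw [← UniversallyClosed.eq_valuativeCriterion]
      infer_instance
    exact h3.1
  obtain ⟨⟨l', hl₁, hl₂⟩⟩ := hex S
  have hl₁' : Spec.map (CommRingCat.ofHom ρ) ≫ l' = tW := hl₁
  have hl₂' : l' ≫ I.subschemeι ≫ (f ∣_ U) = IsOpenImmersion.lift U.ι g hrg := hl₂
  have hσf : (l' ≫ I.subschemeι ≫ (f ⁻¹ᵁ U).ι) ≫ f = g := by
    calc (l' ≫ I.subschemeι ≫ (f ⁻¹ᵁ U).ι) ≫ f
        = (l' ≫ I.subschemeι ≫ (f ∣_ U)) ≫ U.ι := by
          simp only [Category.assoc, morphismRestrict_ι]
      _ = g := by rw [hl₂', eg]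
  have hcomm : (l' ≫ I.subschemeι ≫ (f ⁻¹ᵁ U).ι) ≫ f = 𝟙 _ ≫ g := by
    rw [hσf, Category.id_comp]
  refine ⟨pullback.lift (l' ≫ I.subschemeι ≫ (f ⁻¹ᵁ U).ι) (𝟙 _) hcomm,
    pullback.lift_snd _ _ _, ?_⟩
  have ht : Spec.map (CommRingCat.ofHom ρ) ≫
      pullback.lift (l' ≫ I.subschemeι ≫ (f ⁻¹ᵁ U).ι) (𝟙 _) hcomm =
      (pullback f g).fromSpecResidueField x' := by
    apply pullback.hom_ext
    · rw [Category.assoc, pullback.lift_fst, ← Category.assoc, hl₁', a1]
    · rw [Category.assoc, pullback.lift_snd, Category.comp_id, hρ]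
  refine ⟨Spec.map (CommRingCat.ofHom ρ) (closedPoint _), ?_⟩
  change (Spec.map (CommRingCat.ofHom ρ) ≫
    pullback.lift (l' ≫ I.subschemeι ≫ (f ⁻¹ᵁ U).ι) (𝟙 _) hcomm) (closedPoint _) = x'
  rw [ht, Scheme.fromSpecResidueField_apply]

end Groth.Agent.H73.ClosureProper
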