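import Groth.Agent.H73.ClosureProper

/-!
# Variants of the closure-properness lemmas over a locally Noetherian base
-/

set_option autoImplicit false
universe u
open CategoryTheory CategoryTheory.Limits AlgebraicGeometry IsLocalRing

namespace Groth.Agent.H73.ClosureProper

variable {X Y : Scheme.{u}}

/-- The lifting property at a point `z ∈ Z` with `f z ⤳ y`, from the section hypothesis. -/
theorem liftProp_of_specializes' [IsLocallyNoetherian Y] (f : X ⟶ Y) [IsSeparated f]
    [LocallyOfFiniteType f] [QuasiCompact f] (Z : Set X) (y : Y) (z : X) (hzZ : z ∈ Z)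
    (hzy : f.base z ⤳ y)
    (H : ∀ (A' : Type u) [CommRing A'] [IsDomain A'] [IsDiscreteValuationRing A']
      (g : Spec (CommRingCat.of A') ⟶ Y),
        g.base (IsLocalRing.closedPoint A') = y →
        ∀ x' : ↥(pullback f g), (pullback.fst f g).base x' ∈ Z →
          (pullback.snd f g).base x' = genericPoint (Spec (CommRingCat.of A')) →
          Function.Bijective ((pullback.snd f g).residueFieldMap x').hom →
          ∃ s : Spec (CommRingCat.of A') ⟶ pullback f g,
            s ≫ pullback.snd f g = 𝟙 _ ∧ x' ∈ Set.range s.base) :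
    ∃ U' : Y.Opens, y ∈ U' ∧ LiftProp f z U' := by
  obtain ⟨φ, hφ⟩ := exists_fz f z
  haveI : IsSeparated (φ ≫ clι Y (f z)) := by rw [hφ]; infer_instance
  haveI : IsSeparated φ := IsSeparated.of_comp φ (clι Y (f z))
  haveI : LocallyOfFiniteType (φ ≫ clι Y (f z)) := by rw [hφ]; infer_instance
  haveI : LocallyOfFiniteType φ := locallyOfFiniteType_of_comp φ (clι Y (f z))
  haveI : QuasiCompact (φ ≫ clι Y (f z)) := by rw [hφ]; infer_instance
  haveI : QuasiCompact φ := QuasiCompact.of_comp φ (clι Y (f z))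
  haveI : IsLocallyNoetherian (clS Y (f z)) :=
    LocallyOfFiniteType.isLocallyNoetherian (clι Y (f z))
  have hgen : clι X z (genericPoint (clS X z)) = z := genericPoint_clι z
  obtain ⟨yV, hyV⟩ : y ∈ Set.range (clι Y (f z)) := by
    rw [range_clι]
    exact specializes_iff_mem_closure.mp hzy
  have hξ : φ.base (genericPoint (clS X z)) ⤳ yV := by
    rw [← (clι Y (f z)).isEmbedding.isInducing.specializes_iff]
    have e : clι Y (f z) (φ (genericPoint (clS X z))) = f z := by
      change (φ ≫ clι Y (f z)) (genericPoint (clS X z)) = f z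
      rw [hφ]
      change f (clι X z (genericPoint (clS X z))) = f z
      rw [hgen]
    change clι Y (f z) (φ (genericPoint (clS X z))) ⤳ clι Y (f z) yV
    rw [e, hyV]
    exact hzy
  obtain ⟨UV, hyUV, hprop⟩ := ProperNhd.exists_proper_nhd φ yV hξ
    (fun A hA h1 h2 => exists_center_of_sections f (clι X z) (clι Y (f z)) φ hφ Z
      (by rw [hgen]; exact hzZ) yV hξ y hyV H A hA h1 h2)
  obtain ⟨U'set, hU'open, hU'eq⟩ :=
    (clι Y (f z)).isEmbedding.isInducing.isOpen_iff.mp UV.2
  refine ⟨⟨U'set, hU'open⟩, ?_, liftProp_of_isProper f (clι X z) (clι Y (f z)) φ hφ z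
    (range_clι z) (range_clι (f z)) UV hprop ⟨U'set, hU'open⟩ ?_⟩
  · have : yV ∈ (clι Y (f z)) ⁻¹' U'set := by
      rw [hU'eq]
      exact hyUV
    rw [← hyV]
    exact this
  · apply TopologicalSpace.Opens.ext
    exact hU'eq

/-- Assembly: the lifting properties at the maximal points give properness of the reduced
closed subscheme over `U`. -/
theorem isProper_of_liftProp' (f : X ⟶ Y) [IsSeparated f] [LocallyOfFiniteType f]
    [QuasiCompact f] (C : Set X) (hCc : IsClosed C) (M : Set X)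
    (U : Y.Opens) (hM : ∀ x ∈ C, f.base x ∈ U → ∃ z ∈ M, x ∈ closure {z})
    (hL : ∀ z ∈ M, ∃ U' : Y.Opens, U ≤ U' ∧ LiftProp f z U')
    (hC : IsClosed ((f ⁻¹ᵁ U).ι.base ⁻¹' C)) :
    IsProper ((Scheme.IdealSheafData.vanishingIdeal
        (⟨(f ⁻¹ᵁ U).ι.base ⁻¹' C, hC⟩ : TopologicalSpace.Closeds ↥(f ⁻¹ᵁ U))).subschemeι ≫
      (f ∣_ U)) := by
  obtain ⟨I, hI⟩ : ∃ I : (f ⁻¹ᵁ U : Scheme.{u}).IdealSheafData,
      I = Scheme.IdealSheafData.vanishingIdeal
        (⟨(f ⁻¹ᵁ U).ι.base ⁻¹' C, hC⟩ : TopologicalSpace.Closeds ↥(f ⁻¹ᵁ U)) := ⟨_, rfl⟩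
  rw [← hI]
  haveI : IsReduced I.subscheme := by rw [hI]; infer_instance
  have hrI : Set.range I.subschemeι = (f ⁻¹ᵁ U).ι.base ⁻¹' C := by
    rw [hI, Scheme.IdealSheafData.range_subschemeι,
      Scheme.IdealSheafData.coe_support_vanishingIdeal]
    rfl
  have hex : ValuativeCriterion.Existence (I.subschemeι ≫ (f ∣_ U)) := by
    intro S
    have hw := S.commSq.w
    let S₀ : ValuativeCommSq f :=
      { R := S.R
        K := S.K
        i₁ := S.i₁ ≫ I.subschemeι ≫ (f ⁻¹ᵁ U).ι
        i₂ := S.i₂ ≫ U.ι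
        commSq := ⟨by
          rw [Category.assoc, Category.assoc, ← morphismRestrict_ι,
            ← Category.assoc I.subschemeι, ← Category.assoc S.i₁, hw, Category.assoc]⟩ }
    have hpt : (S.i₁ ≫ I.subschemeι ≫ (f ⁻¹ᵁ U).ι) (closedPoint S.K) ∈ C := by
      have : I.subschemeι (S.i₁ (closedPoint S.K)) ∈ Set.range I.subschemeι := ⟨_, rfl⟩
      rw [hrI] at this
      exact this
    obtain ⟨z, hzM, hz⟩ := hM _ hpt (I.subschemeι (S.i₁ (closedPoint S.K))).2
    obtain ⟨U', hUU', hLP⟩ := hL z hzM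
    have hr1 : Set.range S₀.i₁ ⊆ closure {z} := by
      rintro _ ⟨r, rfl⟩
      have : r = closedPoint S.K := Subsingleton.elim _ _
      rw [this]
      exact hz
    have hr2 : Set.range S₀.i₂ ⊆ (U' : Set Y) := by
      rintro _ ⟨r, rfl⟩
      exact hUU' (S.i₂ r).2
    obtain ⟨⟨l, hl1, hl2⟩⟩ := hLP S₀ hr1 hr2
    have hl1' : Spec.map (CommRingCat.ofHom (algebraMap S.R S.K)) ≫ l =
        S.i₁ ≫ I.subschemeι ≫ (f ⁻¹ᵁ U).ι := hl1
    have hl2' : l ≫ f = S.i₂ ≫ U.ι := hl2
    have hrl : Set.range l ⊆ Set.range (f ⁻¹ᵁ U).ι := by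
      rintro _ ⟨r, rfl⟩
      rw [Scheme.Opens.range_ι]
      change (l ≫ f) r ∈ U
      rw [hl2']
      exact (S.i₂ r).2
    have el := IsOpenImmersion.lift_fac (f ⁻¹ᵁ U).ι l hrl
    have hrl1 : Set.range (IsOpenImmersion.lift (f ⁻¹ᵁ U).ι l hrl) ⊆
        Set.range I.subschemeι := by
      rintro _ ⟨r, rfl⟩
      rw [hrI]
      change (f ⁻¹ᵁ U).ι (IsOpenImmersion.lift (f ⁻¹ᵁ U).ι l hrl r) ∈ C
      have e : (f ⁻¹ᵁ U).ι (IsOpenImmersion.lift (f ⁻¹ᵁ U).ι l hrl r) = l r :=
        congrArg (fun q : Spec (CommRingCat.of S.R) ⟶ X => q r) el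
      rw [e]
      have hsp : genericPoint (Spec (CommRingCat.of S.R)) ⤳ r := genericPoint_specializes r
      have hsp2 := hsp.map l.continuous
      have hη : l (genericPoint (Spec (CommRingCat.of S.R))) =
          (S.i₁ ≫ I.subschemeι ≫ (f ⁻¹ᵁ U).ι) (closedPoint S.K) := by
        rw [← specMap_algebraMap_closedPoint S.R S.K]
        change (Spec.map (CommRingCat.ofHom (algebraMap S.R S.K)) ≫ l) (closedPoint S.K) = _
        rw [hl1']
      rw [hη] at hsp2
      exact hsp2.mem_closed hCc hpt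
    obtain ⟨l₂, hl₂⟩ := exists_lift_of_isReduced _ I.subschemeι hrl1
    refine ⟨⟨⟨l₂, ?_, ?_⟩⟩⟩
    · rw [← cancel_mono (I.subschemeι ≫ (f ⁻¹ᵁ U).ι), Category.assoc, ← Category.assoc l₂,
        hl₂, el]
      exact hl1'
    · rw [← cancel_mono U.ι, Category.assoc, Category.assoc, morphismRestrict_ι,
        ← Category.assoc l₂, hl₂, ← Category.assoc, el]
      exact hl2'
  haveI : UniversallyClosed (I.subschemeι ≫ (f ∣_ U)) :=
    UniversallyClosed.of_valuativeCriterion _ hex
  exact {}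


/-- The "fraction field" form of the section hypothesis implies the "rational point" form. -/
theorem rhs_of_fractionRing (f : X ⟶ Y) (y : Y)
    (h : ∀ (A : Type u) [CommRing A] [IsDomain A] [IsDiscreteValuationRing A]
      (g : Spec (CommRingCat.of A) ⟶ Y), g.base (IsLocalRing.closedPoint A) = y →
      ∀ σ : Spec (CommRingCat.of (FractionRing A)) ⟶ pullback f g,
        σ ≫ pullback.snd f g = Spec.map (CommRingCat.ofHom (algebraMap A (FractionRing A))) →
        ∃ s : Spec (CommRingCat.of A) ⟶ pullback f g, s ≫ pullback.snd f g = 𝟙 _ ∧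
          Spec.map (CommRingCat.ofHom (algebraMap A (FractionRing A))) ≫ s = σ)
    (A' : Type u) [CommRing A'] [IsDomain A'] [IsDiscreteValuationRing A']
    (g : Spec (CommRingCat.of A') ⟶ Y) (hg : g.base (IsLocalRing.closedPoint A') = y)
    (x' : ↥(pullback f g)) (_hx'Z : (pullback.fst f g).base x' ∈ (Set.univ : Set X))
    (hx'η : (pullback.snd f g).base x' = genericPoint (Spec (CommRingCat.of A')))
    (hb : Function.Bijective ((pullback.snd f g).residueFieldMap x').hom) :
    ∃ s : Spec (CommRingCat.of A') ⟶ pullback f g,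
      s ≫ pullback.snd f g = 𝟙 _ ∧ x' ∈ Set.range s.base := by
  obtain ⟨ρ, hFR, hρ⟩ := exists_isFractionRing_residueField (pullback.snd f g) x' hx'η hb
  letI := ρ.toAlgebra
  haveI : IsFractionRing A' ((pullback f g).residueField x') := hFR
  let e : (pullback f g).residueField x' ≃ₐ[A'] FractionRing A' :=
    IsLocalization.algEquiv (nonZeroDivisors A') _ _
  let ψ : (pullback f g).residueField x' →+* FractionRing A' := e.toAlgHom.toRingHom
  have hψ : CommRingCat.ofHom ρ ≫ CommRingCat.ofHom ψ =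
      CommRingCat.ofHom (algebraMap A' (FractionRing A')) := by
    apply CommRingCat.hom_ext
    apply RingHom.ext
    intro a
    exact e.commutes a
  obtain ⟨s, hs1, hs2⟩ := h A' g hg
    (Spec.map (CommRingCat.ofHom ψ) ≫ (pullback f g).fromSpecResidueField x') (by
      rw [Category.assoc, ← hρ, ← Spec.map_comp, hψ])
  refine ⟨s, hs1, ⟨Spec.map (CommRingCat.ofHom (algebraMap A' (FractionRing A')))
    (closedPoint (FractionRing A')), ?_⟩⟩
  change (Spec.map (CommRingCat.ofHom (algebraMap A' (FractionRing A'))) ≫ s)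
    (closedPoint (FractionRing A')) = x'
  rw [hs2]
  change (pullback f g).fromSpecResidueField x' _ = x'
  rw [Scheme.fromSpecResidueField_apply]

end Groth.Agent.H73.ClosureProper
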