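import Groth.Agent.H73.ProperNhdMain
import Groth.Agent.H54.ReducedKer

/-!
# Reduced closed subschemes, lifting through them, and points with values in a field

Auxiliary material for EGA IV 15.7.10-type statements (properness of the closure of a set
at a point, tested by sections over discrete valuation rings).
-/

set_option autoImplicit false
universe u
open CategoryTheory CategoryTheory.Limits AlgebraicGeometry IsLocalRing

namespace Groth.Agent.H73.ClosureProper

/-- The reduced induced closed subscheme structure is reduced. -/
instance isReduced_vanishingIdeal_subscheme {X : Scheme.{u}} (C : TopologicalSpace.Closeds X) :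
    IsReduced (Scheme.IdealSheafData.vanishingIdeal C).subscheme := by
  have : ∀ U, IsReduced ((Scheme.IdealSheafData.vanishingIdeal C).subschemeCover.openCover.X U) := by
    intro U
    show IsReduced (Spec (CommRingCat.of
      (Γ(X, U.1) ⧸ (Scheme.IdealSheafData.vanishingIdeal C).ideal U)))
    have hrad : ((Scheme.IdealSheafData.vanishingIdeal C).ideal U).IsRadical := by
      rw [Scheme.IdealSheafData.vanishingIdeal_ideal]
      exact PrimeSpectrum.isRadical_vanishingIdeal _
    have : _root_.IsReduced (Γ(X, U.1) ⧸ (Scheme.IdealSheafData.vanishingIdeal C).ideal U) :=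
      (Ideal.isRadical_iff_quotient_reduced _).mp hrad
    infer_instance
  exact IsReduced.of_openCover _ (Scheme.IdealSheafData.vanishingIdeal C).subschemeCover.openCover

/-- A morphism from a reduced scheme whose set-theoretic image lies in (the image of) a closed
subscheme factors through that closed subscheme. -/
theorem exists_lift_of_isReduced {T X Z : Scheme.{u}} [IsReduced T] (g : T ⟶ X) (i : Z ⟶ X)
    [IsClosedImmersion i] (h : Set.range g ⊆ Set.range i) : ∃ l : T ⟶ Z, l ≫ i = g := by
  have hle : i.ker ≤ g.ker := by
    rw [Groth.Agent.H54.ker_eq_vanishingIdeal g,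
      ← Scheme.IdealSheafData.le_support_iff_le_vanishingIdeal, ← SetLike.coe_subset_coe,
      Scheme.Hom.support_ker]
    exact closure_mono h
  exact ⟨IsClosedImmersion.lift i g hle, IsClosedImmersion.lift_fac i g hle⟩

theorem irreducibleSpace_of_isEmbedding {A B : Type*} [TopologicalSpace A] [TopologicalSpace B]
    (g : A → B) (hg : Topology.IsEmbedding g) (h : IsIrreducible (Set.range g)) :
    IrreducibleSpace A := by
  haveI := Subtype.irreducibleSpace h
  let e := hg.toHomeomorph
  rw [irreducibleSpace_def]
  have h2 := (IrreducibleSpace.isIrreducible_univ (Set.range g)).image e.symm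
    e.symm.continuous.continuousOn
  rw [Set.image_univ, e.symm.surjective.range_eq] at h2
  exact h2

/-- The ideal sheaf of the reduced induced structure on the closure of a point. -/
noncomputable abbrev clI (X : Scheme.{u}) (z : X) : X.IdealSheafData :=
  Scheme.IdealSheafData.vanishingIdeal ⟨closure {z}, isClosed_closure⟩

/-- The closure of a point, as a reduced closed subscheme. -/
noncomputable abbrev clS (X : Scheme.{u}) (z : X) : Scheme.{u} := (clI X z).subscheme

/-- The closed immersion of the closure of a point. -/
noncomputable abbrev clι (X : Scheme.{u}) (z : X) : clS X z ⟶ X := (clI X z).subschemeι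

lemma range_clι {X : Scheme.{u}} (z : X) : Set.range (clι X z) = closure {z} := by
  rw [Scheme.IdealSheafData.range_subschemeι, Scheme.IdealSheafData.coe_support_vanishingIdeal]
  rfl

instance isIntegral_clS {X : Scheme.{u}} (z : X) : IsIntegral (clS X z) := by
  haveI : IrreducibleSpace (clS X z) :=
    irreducibleSpace_of_isEmbedding _ (clι X z).isEmbedding
      (by rw [range_clι]; exact isIrreducible_singleton.closure)
  exact isIntegral_of_irreducibleSpace_of_isReduced _

lemma genericPoint_clι {X : Scheme.{u}} (z : X) : clι X z (genericPoint (clS X z)) = z := by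
  have h1 : IsGenericPoint (clι X z (genericPoint (clS X z))) (closure {z}) := by
    have := (genericPoint_spec (clS X z)).image (clι X z).continuous
    rwa [Set.image_univ, range_clι, closure_closure] at this
  exact h1.eq isGenericPoint_closure

/-- The morphism induced between the closures of `z` and of `f z`. -/
lemma exists_fz {X Y : Scheme.{u}} (f : X ⟶ Y) (z : X) :
    ∃ φ : clS X z ⟶ clS Y (f z), φ ≫ clι Y (f z) = clι X z ≫ f := by
  apply exists_lift_of_isReduced
  rintro _ ⟨w, rfl⟩
  rw [range_clι]
  have hw : clι X z w ∈ closure {z} := by rw [← range_clι]; exact ⟨w, rfl⟩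
  have := image_closure_subset_closure_image f.continuous (Set.mem_image_of_mem _ hw)
  rw [Set.image_singleton] at this
  exact this

/-- A morphism from the spectrum of a field factors through the residue field of its image
point. -/
theorem exists_factor_residueField {K : Type u} [Field K] {X : Scheme.{u}}
    (v : Spec (CommRingCat.of K) ⟶ X) (x : X) (h : v (closedPoint K) = x) :
    ∃ φ : X.residueField x ⟶ CommRingCat.of K, Spec.map φ ≫ X.fromSpecResidueField x = v := by
  subst h
  exact ⟨_, Scheme.descResidueField_stalkClosedPointTo_fromSpecResidueField K X v⟩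

/-- Two field-valued points with the same image point and the same composite to `S` agree as
soon as the residue field extension at the image point is trivial. -/
theorem hom_ext_of_residueFieldMap_surjective {K : Type u} [Field K] {X S : Scheme.{u}}
    (p : X ⟶ S) (v w : Spec (CommRingCat.of K) ⟶ X) (hp : v ≫ p = w ≫ p)
    (hpt : v (closedPoint K) = w (closedPoint K))
    (hs : Function.Surjective (p.residueFieldMap (w (closedPoint K))).hom) : v = w := by
  generalize hx : w (closedPoint K) = x at hpt hs
  obtain ⟨φv, rfl⟩ := exists_factor_residueField v x hpt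
  obtain ⟨φw, rfl⟩ := exists_factor_residueField w x hx
  have key : Spec.map (p.residueFieldMap x ≫ φv) = Spec.map (p.residueFieldMap x ≫ φw) := by
    rw [← cancel_mono (S.fromSpecResidueField (p x))]
    simp only [Spec.map_comp, Category.assoc,
      Scheme.Hom.SpecMap_residueFieldMap_fromSpecResidueField]
    simpa only [Category.assoc] using hp
  have key2 := Spec.map_injective key
  have : φv = φw := by
    apply CommRingCat.hom_ext
    apply RingHom.ext
    intro c
    obtain ⟨d, rfl⟩ := hs c
    exact congrArg (fun ψ => ψ.hom d) key2
  rw [this]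

/-- If the composite `Spec K ⟶ X ⟶ S` is a preimmersion then `X ⟶ S` induces a surjection on
residue fields at the image point. -/
theorem residueFieldMap_surjective_of_isPreimmersion_comp {K : Type u} [Field K]
    {X S : Scheme.{u}} (p : X ⟶ S) (t : Spec (CommRingCat.of K) ⟶ X) [IsPreimmersion (t ≫ p)] :
    Function.Surjective (p.residueFieldMap (t (closedPoint K))).hom := by
  intro c
  have hD : Function.Surjective
      (Scheme.descResidueField (Scheme.stalkClosedPointTo (t ≫ p))).hom := by
    have h1 : Function.Surjective (Scheme.stalkClosedPointTo (t ≫ p)).hom := by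
      change Function.Surjective ((t ≫ p).stalkMap (closedPoint K) ≫
        (stalkClosedPointIso (CommRingCat.of K)).hom).hom
      exact (ConcreteCategory.bijective_of_isIso
        (stalkClosedPointIso (CommRingCat.of K)).hom).2.comp
        ((t ≫ p).stalkMap_surjective _)
    have h2 := Scheme.residue_descResidueField (Scheme.stalkClosedPointTo (t ≫ p))
    intro k
    obtain ⟨a, rfl⟩ := h1 k
    exact ⟨(S.residue _).hom a, congrArg (fun q => q.hom a) h2⟩
  obtain ⟨d, hd⟩ := hD ((Scheme.descResidueField (Scheme.stalkClosedPointTo t)).hom c)
  refine ⟨d, ?_⟩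
  have hcomp : (Scheme.descResidueField (Scheme.stalkClosedPointTo (t ≫ p))).hom d =
      (Scheme.descResidueField (Scheme.stalkClosedPointTo t)).hom
        ((p.residueFieldMap (t (closedPoint K))).hom d) :=
    congrArg (fun q => q.hom d) (Scheme.descResidueField_stalkClosedPointTo_comp p t)
  rw [hcomp] at hd
  exact (Scheme.descResidueField (Scheme.stalkClosedPointTo t)).hom.injective hd

/-- The generic point of the spectrum of a domain is the image of the point of the spectrum of
its fraction field. -/
lemma specMap_algebraMap_closedPoint (A K : Type u) [CommRing A] [IsDomain A] [Field K]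
    [Algebra A K] [IsFractionRing A K] :
    (Spec.map (CommRingCat.ofHom (algebraMap A K))) (closedPoint K) =
      genericPoint (Spec (CommRingCat.of A)) := by
  rw [genericPoint_eq_bot_of_affine]
  apply PrimeSpectrum.ext
  change Ideal.comap (algebraMap A K) (maximalIdeal K) = ⊥
  rw [IsLocalRing.maximalIdeal_eq_bot]
  exact Ideal.comap_bot_of_injective _ (IsFractionRing.injective A K)

/-- A valuation ring of the function field dominating a local ring of the base gives a
morphism from its spectrum to the base. -/
theorem exists_spec_of_dominating {X Y : Scheme.{u}} [IsIntegral X] (f : X ⟶ Y) (y : Y)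
    (hξ : f.base (genericPoint X) ⤳ y) (A : ValuationSubring X.functionField)
    (h1 : ∀ r : Y.presheaf.stalk y,
      (Y.presheaf.stalkSpecializes hξ ≫ f.stalkMap (genericPoint X)).hom r ∈ A)
    (h2 : ∀ r ∈ maximalIdeal (Y.presheaf.stalk y),
      A.valuation ((Y.presheaf.stalkSpecializes hξ ≫ f.stalkMap (genericPoint X)).hom r) < 1) :
    ∃ g₂ : Spec (CommRingCat.of A) ⟶ Y, g₂ (closedPoint A) = y ∧
      Spec.map (CommRingCat.ofHom (algebraMap A X.functionField)) ≫ g₂ =
        X.fromSpecStalk (genericPoint X) ≫ f := by
  let φy : Y.presheaf.stalk y ⟶ X.functionField :=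
    Y.presheaf.stalkSpecializes hξ ≫ f.stalkMap (genericPoint X)
  let jy : Y.presheaf.stalk y →+* A := φy.hom.codRestrict A h1
  haveI : IsLocalHom jy := ⟨fun a ha => by
    by_contra hna
    have hm : a ∈ maximalIdeal (Y.presheaf.stalk y) := hna
    have h3 := h2 a hm
    have h4 : A.valuation ((jy a : A) : X.functionField) = 1 := (A.valuation_eq_one_iff _).mp ha
    exact h3.ne h4⟩
  refine ⟨Spec.map (CommRingCat.ofHom jy) ≫ Y.fromSpecStalk y, ?_, ?_⟩
  · change (Y.fromSpecStalk y) (Spec.map (CommRingCat.ofHom jy) (closedPoint A)) = y
    rw [show Spec.map (CommRingCat.ofHom jy) (closedPoint A) = closedPoint _ from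
      comap_closedPoint jy]
    exact Scheme.fromSpecStalk_closedPoint
  · have e : CommRingCat.ofHom jy ≫ CommRingCat.ofHom (algebraMap A X.functionField) = φy :=
      CommRingCat.hom_ext (RingHom.ext fun a => rfl)
    rw [← Category.assoc, ← Spec.map_comp, e]
    simp only [φy, Spec.map_comp, Category.assoc]
    rw [Scheme.SpecMap_stalkSpecializes_fromSpecStalk, Scheme.SpecMap_stalkMap_fromSpecStalk]

/-- A morphism `Spec A ⟶ X` extending the generic point, for `A` a valuation ring of the
function field, exhibits its closed point's image as a centre of `A`. -/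
theorem dominated_of_lift {X : Scheme.{u}} [IsIntegral X] (A : ValuationSubring X.functionField)
    (l : Spec (CommRingCat.of A) ⟶ X)
    (hl : Spec.map (CommRingCat.ofHom (algebraMap A X.functionField)) ≫ l =
      X.fromSpecStalk (genericPoint X)) :
    (∀ r : X.presheaf.stalk (l (closedPoint A)),
      algebraMap (X.presheaf.stalk (l (closedPoint A))) X.functionField r ∈ A) ∧
    (∀ r ∈ maximalIdeal (X.presheaf.stalk (l (closedPoint A))),
      A.valuation (algebraMap (X.presheaf.stalk (l (closedPoint A))) X.functionField r) < 1) := by
  have hξx : genericPoint X ⤳ l (closedPoint A) := (genericPoint_spec X).specializes trivial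
  let ψ : X.presheaf.stalk (l (closedPoint A)) ⟶ CommRingCat.of A := Scheme.stalkClosedPointTo l
  haveI : IsLocalHom ψ.hom := Scheme.isLocalHom_stalkClosedPointTo l
  have hψ : ψ ≫ CommRingCat.ofHom (algebraMap A X.functionField) =
      X.presheaf.stalkSpecializes hξx := by
    apply Spec.map_injective
    rw [← cancel_mono (X.fromSpecStalk (l (closedPoint A)))]
    rw [Spec.map_comp, Category.assoc, Scheme.Spec_stalkClosedPointTo_fromSpecStalk,
      Scheme.SpecMap_stalkSpecializes_fromSpecStalk]
    exact hl
  have hval : ∀ r : X.presheaf.stalk (l (closedPoint A)),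
      algebraMap (X.presheaf.stalk (l (closedPoint A))) X.functionField r =
        ((ψ.hom r : A) : X.functionField) := by
    intro r
    have := congrArg (fun g => g.hom r) hψ
    exact this.symm
  refine ⟨fun r => ?_, fun r hr => ?_⟩
  · rw [hval]
    exact (ψ.hom r).2
  · rw [hval]
    rw [← A.valuation_lt_one_iff]
    exact (mem_maximalIdeal _).mpr
      (fun hu => (mem_maximalIdeal _).mp hr (isUnit_of_map_unit ψ.hom r hu))

/-- In a Noetherian sober space a closed set has finitely many maximal points, and every point
of it is a specialisation of one of them. -/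
theorem exists_finite_maximal_points {X : Type*} [TopologicalSpace X]
    [TopologicalSpace.NoetherianSpace X] [QuasiSober X] [T0Space X] (C : Set X)
    (hC : IsClosed C) :
    ∃ M : Set X, M.Finite ∧ M ⊆ C ∧ (∀ z ∈ M, ∀ z' ∈ C, z ∈ closure {z'} → z' = z) ∧
      ∀ x ∈ C, ∃ z ∈ M, x ∈ closure {z} := by
  haveI : QuasiSober C := hC.isClosedEmbedding_subtypeVal.quasiSober
  have hfin : (genericPoints C).Finite :=
    genericPoints.finite TopologicalSpace.NoetherianSpace.finite_irreducibleComponents
  refine ⟨Subtype.val '' genericPoints C, hfin.image _, ?_, ?_, ?_⟩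
  · rintro _ ⟨w, -, rfl⟩
    exact w.2
  · rintro _ ⟨w, hw, rfl⟩ z' hz' hzz'
    have hw' : closure {w} ∈ irreducibleComponents C := hw
    have h1 : w ∈ closure ({⟨z', hz'⟩} : Set C) := by
      rw [closure_subtype, Set.image_singleton]
      exact hzz'
    have h2 : closure ({w} : Set C) ≤ closure {⟨z', hz'⟩} :=
      closure_minimal (Set.singleton_subset_iff.mpr h1) isClosed_closure
    have h3 : closure ({⟨z', hz'⟩} : Set C) ≤ closure {w} :=
      hw'.2 isIrreducible_singleton.closure h2
    have h4 : (⟨z', hz'⟩ : C) ∈ closure ({w} : Set C) := h3 (subset_closure rfl)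
    have h5 : (⟨z', hz'⟩ : C) = w :=
      ((specializes_iff_mem_closure.mpr h1).antisymm (specializes_iff_mem_closure.mpr h4)).eq
    exact congrArg Subtype.val h5
  · intro x hx
    let c : irreducibleComponents C :=
      ⟨irreducibleComponent ⟨x, hx⟩, irreducibleComponent_mem_irreducibleComponents _⟩
    let w := genericPoints.ofComponent c
    refine ⟨w.1.1, ⟨w.1, w.2, rfl⟩, ?_⟩
    have hgen : IsGenericPoint w.1 c.1 := genericPoints.isGenericPoint_ofComponent c
    have hxw : (⟨x, hx⟩ : C) ∈ closure ({w.1} : Set C) := by
      rw [hgen.def]
      exact mem_irreducibleComponent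
    rw [closure_subtype, Set.image_singleton] at hxw
    exact hxw

/-- A point of `X'` lying over the generic point of the spectrum of a domain `R`, with trivial
residue field extension, has residue field a fraction field of `R`. -/
theorem exists_isFractionRing_residueField {R : Type u} [CommRing R] [IsDomain R]
    {X' : Scheme.{u}} (p : X' ⟶ Spec (CommRingCat.of R)) (x' : X')
    (hx' : p.base x' = genericPoint (Spec (CommRingCat.of R)))
    (hb : Function.Bijective (p.residueFieldMap x').hom) :
    ∃ ρ : R →+* X'.residueField x',
      (letI := ρ.toAlgebra; IsFractionRing R (X'.residueField x')) ∧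
      Spec.map (CommRingCat.ofHom ρ) = X'.fromSpecResidueField x' ≫ p := by
  letI : Algebra R (Spec (CommRingCat.of R)).functionField :=
    instAlgebraCarrierFunctionFieldSpec (CommRingCat.of R)
  haveI : IsFractionRing R (Spec (CommRingCat.of R)).functionField :=
    functionField_isFractionRing_of_affine (CommRingCat.of R)
  let e₀ : (Spec (CommRingCat.of R)).functionField ⟶ X'.residueField x' :=
    (Spec (CommRingCat.of R)).residue (genericPoint (Spec (CommRingCat.of R))) ≫
      ((Spec (CommRingCat.of R)).residueFieldCongr hx'.symm).hom ≫ p.residueFieldMap x'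
  have he₀ : Function.Bijective e₀.hom := by
    refine hb.comp (Function.Bijective.comp ?_ ?_)
    · exact ConcreteCategory.bijective_of_isIso
        ((Spec (CommRingCat.of R)).residueFieldCongr hx'.symm).hom
    · exact ⟨((Spec (CommRingCat.of R)).residue
        (genericPoint (Spec (CommRingCat.of R)))).hom.injective,
        (Spec (CommRingCat.of R)).residue_surjective _⟩
  let e : (Spec (CommRingCat.of R)).functionField ≃+* X'.residueField x' :=
    RingEquiv.ofBijective e₀.hom he₀
  let ρ : R →+* X'.residueField x' :=
    e₀.hom.comp (algebraMap R (Spec (CommRingCat.of R)).functionField)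
  refine ⟨ρ, ?_, ?_⟩
  · letI := ρ.toAlgebra
    exact IsLocalization.isLocalization_of_algEquiv (nonZeroDivisors R)
      (AlgEquiv.ofRingEquiv (f := e) (fun r => rfl))
  · have h1 : CommRingCat.ofHom ρ =
        CommRingCat.ofHom (algebraMap R (Spec (CommRingCat.of R)).functionField) ≫ e₀ := rfl
    have h2 : Spec.map (CommRingCat.ofHom
        (algebraMap R (Spec (CommRingCat.of R)).functionField)) =
        (Spec (CommRingCat.of R)).fromSpecStalk (genericPoint (Spec (CommRingCat.of R))) :=
      (Spec.fromSpecStalk_eq' _ _).symm
    rw [h1, Spec.map_comp, h2]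
    simp only [e₀, Spec.map_comp, Category.assoc]
    rw [← Scheme.Hom.SpecMap_residueFieldMap_fromSpecResidueField,
      ← Scheme.residueFieldCongr_fromSpecResidueField hx'.symm]
    rfl

end Groth.Agent.H73.ClosureProper
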