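import Groth.Agent.H73.RatExtVal

/-!
# Extending a rational section of a closed separated morphism through valuation-ring points
-/

set_option autoImplicit false
universe u
open CategoryTheory CategoryTheory.Limits AlgebraicGeometry TopologicalSpace

namespace Groth.Agent.H73.RatExt

open Groth.Agent.H73.AnClosed

/-- Let `f : X ⟶ Y` be separated, locally of finite type and closed as a map, `Y` locally
Noetherian, and `s` a section of `f` over a dense open `V`. Then `s` extends over a neighbourhood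
of every point `y` whose local ring is a valuation ring. -/
theorem exists_extension_at_of_isClosedMap {X Y : Scheme.{u}} [IsLocallyNoetherian Y]
    (f : X ⟶ Y) [IsSeparated f] [LocallyOfFiniteType f] (hcl : IsClosedMap f.base)
    (V : Y.Opens) (hV : Dense (V : Set Y)) (s : (V : Scheme.{u}) ⟶ X) (hs : s ≫ f = V.ι)
    (y : Y) [IsDomain (Y.presheaf.stalk y)] [ValuationRing (Y.presheaf.stalk y)] :
    ∃ (U' : Y.Opens) (hUU' : V ≤ U') (h' : (U' : Scheme.{u}) ⟶ X),
      y ∈ U' ∧ h' ≫ f = U'.ι ∧ Y.homOfLE hUU' ≫ h' = s := by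
  obtain ⟨p, ⟨hpV, -⟩, hpy⟩ := exists_specializes_of_mem_closure_inter_scheme (X := Y)
    (O := (V : Set Y)) (C := Set.univ) V.2 isClosed_univ (x := y)
    (by rw [Set.inter_univ, hV.closure_eq]; trivial)
  have hj : (jK y) ⁻¹ᵁ V = ⊤ := jK_preimage_eq_top_of_mem y hpy hpV
  have hrange : Set.range (jK y).base ⊆ Set.range V.ι.base := by
    rw [Scheme.Opens.range_ι]
    rintro _ ⟨t, rfl⟩
    have : t ∈ (jK y) ⁻¹ᵁ V := by rw [hj]; trivial
    exact this
  let ubK₀ : Spec (CommRingCat.of (FractionRing (Y.presheaf.stalk y))) ⟶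
      (V : Scheme.{u}) := IsOpenImmersion.lift V.ι (jK y) hrange
  have hubK₀ : ubK₀ ≫ V.ι = jK y := IsOpenImmersion.lift_fac _ _ _
  set pt := IsLocalRing.closedPoint (FractionRing (Y.presheaf.stalk y)) with hpt
  set ξ : X := (ubK₀ ≫ s).base pt with hξ
  have hfξ : f.base ξ = (jK y).base pt := by
    rw [hξ, ← Scheme.Hom.comp_apply, Category.assoc, hs, hubK₀]
  have hηy : (jK y).base pt ⤳ y := by
    have : (jK y).base pt ∈ Set.range (Y.fromSpecStalk y).base := by
      rw [jK, Scheme.Hom.comp_apply]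
      exact ⟨_, rfl⟩
    rw [Scheme.range_fromSpecStalk] at this
    exact this
  have hyim : y ∈ f.base '' closure {ξ} := by
    refine hηy.mem_closed (hcl _ isClosed_closure) ?_
    exact ⟨ξ, subset_closure rfl, hfξ⟩
  obtain ⟨x₀, hx₀, rfl⟩ := hyim
  refine exists_extension_of_valuationRing (q := f) hs (y₀ := x₀) hj ?_
  intro ubK hubK
  have : ubK = ubK₀ := by rw [← cancel_mono V.ι, hubK, hubK₀]
  rw [this]
  exact specializes_iff_mem_closure.mpr hx₀

end Groth.Agent.H73.RatExt
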