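import Groth.Agent.H73.NormzChart

/-!
# Basic properties of the normalization of an integral scheme in a field
-/

set_option autoImplicit false
universe u
open CategoryTheory CategoryTheory.Limits AlgebraicGeometry TopologicalSpace

namespace Groth.Agent.H73.Normz

variable {X : Scheme.{u}} [IsIntegral X] {K : Type u} [Field K]
  (g : Spec (CommRingCat.of K) ⟶ X) [QuasiCompact g] [QuasiSeparated g]

omit [QuasiCompact g] [QuasiSeparated g] in
/-- Every point of `X` has an affine open neighbourhood containing the image of `g`. -/
lemma exists_affine_nhd (hg : g.base (IsLocalRing.closedPoint K) = genericPoint X) (x : X) :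
    ∃ U : X.Opens, IsAffineOpen U ∧ x ∈ U ∧ g.base (IsLocalRing.closedPoint K) ∈ U := by
  obtain ⟨(U : X.Opens), hU, hxU, -⟩ :=
    Opens.isBasis_iff_nbhd.mp X.isBasis_affineOpens (Opens.mem_top x)
  refine ⟨U, hU, hxU, ?_⟩
  rw [hg]
  exact ((genericPoint_spec X).mem_open_set_iff U.2).mpr ⟨x, trivial, hxU⟩

/-- The chart ring is an integrally closed domain. -/
theorem chart_isDomain_isIntegrallyClosed {U : X.Opens} (hU : IsAffineOpen U)
    (hη : g.base (IsLocalRing.closedPoint K) ∈ U) :
    IsDomain Γ(g.normalization, g.fromNormalization ⁻¹ᵁ U) ∧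
      IsIntegrallyClosed Γ(g.normalization, g.fromNormalization ⁻¹ᵁ U) := by
  letI := (g.fromNormalization.app U).hom.toAlgebra
  letI := (chartρ g hη).toAlgebra
  letI := (chartι g hη).toAlgebra
  obtain ⟨h1, h2⟩ := chart_isIntegralClosure g hU hη
  exact ⟨ICC.isDomain Γ(X, U) _ K, ICC.isIntegrallyClosed Γ(X, U) _ K⟩

/-- The normalization is a normal scheme. -/
theorem stalk_isDomain_isIntegrallyClosed
    (hg : g.base (IsLocalRing.closedPoint K) = genericPoint X) (x' : g.normalization) :
    IsDomain (g.normalization.presheaf.stalk x') ∧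
      IsIntegrallyClosed (g.normalization.presheaf.stalk x') := by
  obtain ⟨U, hU, hxU, hη⟩ := exists_affine_nhd g hg (g.fromNormalization.base x')
  have hV : IsAffineOpen (g.fromNormalization ⁻¹ᵁ U) := hU.preimage g.fromNormalization
  obtain ⟨hdom, hic⟩ := chart_isDomain_isIntegrallyClosed g hU hη
  let _ := g.normalization.presheaf.algebra_section_stalk
    (⟨x', hxU⟩ : ↥(g.fromNormalization ⁻¹ᵁ U))
  have hloc := hV.isLocalization_stalk ⟨x', hxU⟩
  have hle : (hV.primeIdealOf ⟨x', hxU⟩).asIdeal.primeCompl ≤
      nonZeroDivisors Γ(g.normalization, g.fromNormalization ⁻¹ᵁ U) :=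
    Ideal.primeCompl_le_nonZeroDivisors _
  exact ⟨IsLocalization.isDomain_of_le_nonZeroDivisors _ hle,
    isIntegrallyClosed_of_isLocalization _ _ hle⟩

/-- The image of the point of `Spec K` is the generic point of the normalization. -/
theorem toNormalization_closedPoint :
    g.toNormalization.base (IsLocalRing.closedPoint K) = genericPoint g.normalization := by
  have hdom : DenseRange g.toNormalization.base := g.toNormalization.denseRange
  have hrange : Set.range g.toNormalization.base =
      {g.toNormalization.base (IsLocalRing.closedPoint K)} := by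
    ext t
    constructor
    · rintro ⟨s, rfl⟩
      have : s = IsLocalRing.closedPoint K := Subsingleton.elim _ _
      rw [this]; rfl
    · rintro rfl
      exact Set.mem_range_self _
  have hgen : IsGenericPoint (g.toNormalization.base (IsLocalRing.closedPoint K)) Set.univ := by
    rw [isGenericPoint_def, ← hrange]
    exact hdom.closure_range
  exact ((genericPoint_spec g.normalization).eq hgen).symm

theorem fromNormalization_genericPoint
    (hg : g.base (IsLocalRing.closedPoint K) = genericPoint X) :
    g.fromNormalization.base (genericPoint g.normalization) = genericPoint X := by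
  rw [← toNormalization_closedPoint g, ← Scheme.Hom.comp_apply,
    Scheme.Hom.toNormalization_fromNormalization, hg]

theorem fromNormalization_surjective
    (hg : g.base (IsLocalRing.closedPoint K) = genericPoint X) :
    Function.Surjective g.fromNormalization.base := by
  have hcl : IsClosed (Set.range g.fromNormalization.base) :=
    g.fromNormalization.isClosedMap.isClosed_range
  have hmem : genericPoint X ∈ Set.range g.fromNormalization.base :=
    ⟨_, fromNormalization_genericPoint g hg⟩
  intro x
  have h1 : closure {genericPoint X} ⊆ Set.range g.fromNormalization.base :=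
    hcl.closure_subset_iff.mpr (Set.singleton_subset_iff.mpr hmem)
  have h2 : closure {genericPoint X} = Set.univ := genericPoint_spec X
  rw [h2] at h1
  exact h1 (Set.mem_univ x)

/-- The fibre of the normalization over the generic point is the generic point. -/
theorem fibre_genericPoint (hg : g.base (IsLocalRing.closedPoint K) = genericPoint X) :
    g.fromNormalization.base ⁻¹' {genericPoint X} = {genericPoint g.normalization} := by
  have key : ∀ x' : g.normalization, g.fromNormalization.base x' = genericPoint X →
      ∀ y' : g.normalization, g.fromNormalization.base y' = genericPoint X → x' = y' := by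
    intro x' hx' y' hy'
    obtain ⟨U, hU, hxU, hη⟩ := exists_affine_nhd g hg (genericPoint X)
    have hV : IsAffineOpen (g.fromNormalization ⁻¹ᵁ U) := hU.preimage g.fromNormalization
    have hx'V : x' ∈ g.fromNormalization ⁻¹ᵁ U := by
      change g.fromNormalization.base x' ∈ U
      rw [hx']; exact hxU
    have hy'V : y' ∈ g.fromNormalization ⁻¹ᵁ U := by
      change g.fromNormalization.base y' ∈ U
      rw [hy']; exact hxU
    have hbot : ∀ (z' : g.normalization) (hz' : z' ∈ g.fromNormalization ⁻¹ᵁ U),
        g.fromNormalization.base z' = genericPoint X →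
        (hV.primeIdealOf ⟨z', hz'⟩).asIdeal = ⊥ := by
      intro z' hz' hz
      letI := (g.fromNormalization.app U).hom.toAlgebra
      letI := (chartρ g hη).toAlgebra
      letI := (chartι g hη).toAlgebra
      obtain ⟨h1, h2⟩ := chart_isIntegralClosure g hU hη
      have hR : IsDomain Γ(X, U) := by
        have : Nonempty U := ⟨⟨_, hxU⟩⟩
        infer_instance
      apply ICC.eq_bot_of_comap_eq_bot Γ(X, U) _ K
      have h3 := IsAffineOpen.comap_primeIdealOf_appLE U hU (g.fromNormalization ⁻¹ᵁ U) hV
        le_rfl hz'
      have h4 : hU.primeIdealOf ⟨g.fromNormalization.base z', hz'⟩ =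
          hU.primeIdealOf ⟨genericPoint X, hxU⟩ := by
        congr 1
        exact Subtype.ext hz
      have : Nonempty U := ⟨⟨_, hxU⟩⟩
      have h5 : (hU.primeIdealOf ⟨genericPoint X, hxU⟩).asIdeal = ⊥ := by
        rw [hU.primeIdealOf_genericPoint, genericPoint_eq_bot_of_affine]
        rfl
      have happ : (g.fromNormalization.app U).hom =
          (g.fromNormalization.appLE U (g.fromNormalization ⁻¹ᵁ U) le_rfl).hom := by
        rw [Scheme.Hom.app_eq_appLE]
      rw [← h5, ← h4, ← h3, RingHom.algebraMap_toAlgebra, happ]
      rfl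
    have h6 : hV.primeIdealOf ⟨x', hx'V⟩ = hV.primeIdealOf ⟨y', hy'V⟩ :=
      PrimeSpectrum.ext ((hbot x' hx'V hx').trans (hbot y' hy'V hy').symm)
    have h7 := congrArg hV.fromSpec.base h6
    rw [hV.fromSpec_primeIdealOf, hV.fromSpec_primeIdealOf] at h7
    exact h7
  ext x'
  constructor
  · intro hx'
    exact key x' hx' _ (fromNormalization_genericPoint g hg)
  · rintro rfl
    exact fromNormalization_genericPoint g hg

omit [IsIntegral X] [QuasiCompact g] [QuasiSeparated g] in
lemma residueFieldMap_surjective_of_stalkMap_surjective {Y Z : Scheme.{u}} (f : Y ⟶ Z) (y : Y)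
    (hs : Function.Surjective (f.stalkMap y)) :
    Function.Surjective (f.residueFieldMap y).hom := by
  intro t
  obtain ⟨t, rfl⟩ := IsLocalRing.residue_surjective t
  obtain ⟨s, rfl⟩ := hs t
  exact ⟨IsLocalRing.residue _ s, rfl⟩

/-- If `g` is surjective on the stalk at the point (e.g. the canonical morphism from the generic
point), the normalization induces a bijection of residue fields at the generic points. -/
theorem residueFieldMap_genericPoint_bijective
    (hs : Function.Surjective (g.stalkMap (IsLocalRing.closedPoint K))) :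
    Function.Bijective
      (g.fromNormalization.residueFieldMap (genericPoint g.normalization)).hom := by
  rw [← toNormalization_closedPoint g]
  have hs' : Function.Surjective
      ((g.toNormalization ≫ g.fromNormalization).stalkMap (IsLocalRing.closedPoint K)) := by
    rw [Scheme.Hom.toNormalization_fromNormalization]
    exact hs
  have h1 := residueFieldMap_surjective_of_stalkMap_surjective _ _ hs'
  rw [Scheme.residueFieldMap_comp] at h1
  refine ⟨RingHom.injective _, ?_⟩
  intro y
  obtain ⟨x, hx⟩ := h1 ((g.toNormalization.residueFieldMap (IsLocalRing.closedPoint K)).hom y)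
  refine ⟨x, ?_⟩
  exact (g.toNormalization.residueFieldMap (IsLocalRing.closedPoint K)).hom.injective hx

omit [IsIntegral X] in
lemma chartρ_eq_germ_stalkClosedPointTo {U : X.Opens}
    (hη : g.base (IsLocalRing.closedPoint K) ∈ U) :
    chartρ g hη = (X.presheaf.germ U _ hη ≫ Scheme.stalkClosedPointTo g).hom := by
  rw [Scheme.germ_stalkClosedPointTo]
  unfold chartρ secIso
  rfl

omit [IsIntegral X] in
lemma chartι_eq_germ_stalkClosedPointTo {U : X.Opens}
    (hη : g.base (IsLocalRing.closedPoint K) ∈ U)
    (hτ : g.toNormalization.base (IsLocalRing.closedPoint K) ∈ g.fromNormalization ⁻¹ᵁ U) :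
    chartι g hη = (g.normalization.presheaf.germ (g.fromNormalization ⁻¹ᵁ U) _ hτ ≫
      Scheme.stalkClosedPointTo g.toNormalization).hom := by
  rw [Scheme.germ_stalkClosedPointTo]
  unfold chartι secIso
  rw [Scheme.Hom.appLE]
  simp only [Iso.trans_inv, Iso.symm_inv, Functor.mapIso_inv, Iso.op_inv, eqToIso.inv,
    Iso.trans_hom, Functor.mapIso_hom, Iso.op_hom, eqToIso.hom, Category.assoc]
  congr 2

/-- The prime of the chart corresponding to a point over the generic point is zero. -/
theorem primeIdealOf_eq_bot (hg : g.base (IsLocalRing.closedPoint K) = genericPoint X)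
    {U : X.Opens} (hU : IsAffineOpen U) (hη : g.base (IsLocalRing.closedPoint K) ∈ U)
    (z' : g.normalization) (hz' : z' ∈ g.fromNormalization ⁻¹ᵁ U)
    (hz : g.fromNormalization.base z' = genericPoint X) :
    ((hU.preimage g.fromNormalization).primeIdealOf ⟨z', hz'⟩).asIdeal = ⊥ := by
  have hV : IsAffineOpen (g.fromNormalization ⁻¹ᵁ U) := hU.preimage g.fromNormalization
  have hxU : genericPoint X ∈ U := hg ▸ hη
  letI := (g.fromNormalization.app U).hom.toAlgebra
  letI := (chartρ g hη).toAlgebra
  letI := (chartι g hη).toAlgebra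
  obtain ⟨h1, h2⟩ := chart_isIntegralClosure g hU hη
  have hR : IsDomain Γ(X, U) := by
    have : Nonempty U := ⟨⟨_, hxU⟩⟩
    infer_instance
  apply ICC.eq_bot_of_comap_eq_bot Γ(X, U) _ K
  have h3 := IsAffineOpen.comap_primeIdealOf_appLE U hU (g.fromNormalization ⁻¹ᵁ U) hV
    le_rfl hz'
  have h4 : hU.primeIdealOf ⟨g.fromNormalization.base z', hz'⟩ =
      hU.primeIdealOf ⟨genericPoint X, hxU⟩ := by
    congr 1
    exact Subtype.ext hz
  have : Nonempty U := ⟨⟨_, hxU⟩⟩
  have h5 : (hU.primeIdealOf ⟨genericPoint X, hxU⟩).asIdeal = ⊥ := by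
    rw [hU.primeIdealOf_genericPoint, genericPoint_eq_bot_of_affine]
    rfl
  have happ : (g.fromNormalization.app U).hom =
      (g.fromNormalization.appLE U (g.fromNormalization ⁻¹ᵁ U) le_rfl).hom := by
    rw [Scheme.Hom.app_eq_appLE]
  rw [← h5, ← h4, ← h3, RingHom.algebraMap_toAlgebra, happ]
  rfl

end Groth.Agent.H73.Normz
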