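import Groth.Agent.H73.ProjLine
import Groth.Agent.H73.NormzBasic
import Groth.Prelude.Def_Coh
import Groth.Prelude.Def_Curv2

/-!
# Points of integral schemes with values in a field: function field maps
-/

set_option autoImplicit false
universe u
open CategoryTheory CategoryTheory.Limits AlgebraicGeometry TopologicalSpace

namespace Groth.Agent.H73.CompleteCurve

section General

variable {X : Scheme.{u}} {K : Type u} [Field K] (g : Spec (CommRingCat.of K) ⟶ X)

/-- Value of the local map of a point on a global section. -/
lemma stalkClosedPointTo_germ_top (s : Γ(X, ⊤)) :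
    (Scheme.stalkClosedPointTo g).hom
      ((X.presheaf.germ ⊤ (g.base (IsLocalRing.closedPoint K)) trivial).hom s) =
      (Scheme.ΓSpecIso (CommRingCat.of K)).hom.hom (g.appTop.hom s) := by
  have h := Scheme.germ_stalkClosedPointTo g ⊤ trivial
  have h2 := congrArg (fun f => f.hom s) h
  simp only [CommRingCat.hom_comp, RingHom.coe_comp, Function.comp_apply] at h2
  rw [h2]
  simp
  rfl

/-- Compatibility with a base field. -/
lemma stalkClosedPointTo_toGlobal {k : Type u} [Field k] [Algebra k K]
    (p : X ⟶ Spec (CommRingCat.of k))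
    (hp : g ≫ p = Spec.map (CommRingCat.ofHom (algebraMap k K))) (c : k) :
    (Scheme.stalkClosedPointTo g).hom
      ((X.presheaf.germ ⊤ (g.base (IsLocalRing.closedPoint K)) trivial).hom
        (Coh.toGlobal p c)) = algebraMap k K c := by
  rw [stalkClosedPointTo_germ_top]
  unfold Coh.toGlobal
  change (Scheme.ΓSpecIso (CommRingCat.of K)).hom.hom (g.appTop.hom (p.appTop.hom
    ((Scheme.ΓSpecIso (CommRingCat.of k)).inv.hom c))) = _
  have h1 : g.appTop.hom (p.appTop.hom ((Scheme.ΓSpecIso (CommRingCat.of k)).inv.hom c)) =
      (g ≫ p).appTop.hom ((Scheme.ΓSpecIso (CommRingCat.of k)).inv.hom c) := by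
    simp
  rw [h1, hp]
  have h2 := Scheme.ΓSpecIso_naturality (CommRingCat.ofHom (algebraMap k K))
  have h3 := congrArg (fun f => f.hom ((Scheme.ΓSpecIso (CommRingCat.of k)).inv.hom c)) h2
  simp only [CommRingCat.hom_comp, RingHom.coe_comp, Function.comp_apply] at h3
  rw [h3]
  simp

variable [IsIntegral X] (h : g.base (IsLocalRing.closedPoint K) = genericPoint X)

/-- The map from the function field to `K` induced by a `K`-point at the generic point. -/
noncomputable def phiOf : X.functionField →+* K :=
  (Scheme.stalkClosedPointTo g).hom.comp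
    (X.presheaf.stalkSpecializes (specializes_of_eq h)).hom

lemma eq_specMap_phiOf :
    g = Spec.map (CommRingCat.ofHom (phiOf g h)) ≫ X.fromSpecStalk (genericPoint X) := by
  have h1 : CommRingCat.ofHom (phiOf g h) =
      X.presheaf.stalkSpecializes (specializes_of_eq h) ≫ Scheme.stalkClosedPointTo g := rfl
  rw [h1, Spec.map_comp, Category.assoc, Scheme.SpecMap_stalkSpecializes_fromSpecStalk,
    Scheme.Spec_stalkClosedPointTo_fromSpecStalk]

lemma phiOf_germ_top (s : Γ(X, ⊤)) :
    phiOf g h ((X.presheaf.germ ⊤ (genericPoint X) trivial).hom s) =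
      (Scheme.stalkClosedPointTo g).hom
        ((X.presheaf.germ ⊤ (g.base (IsLocalRing.closedPoint K)) trivial).hom s) := by
  unfold phiOf
  simp only [RingHom.coe_comp, Function.comp_apply]
  congr 1
  exact congrArg (fun f => f.hom s)
    (TopCat.Presheaf.germ_stalkSpecializes X.presheaf (U := ⊤) (y := genericPoint X) trivial
      (specializes_of_eq h))

lemma phiOf_germ (U : X.Opens) (hU : genericPoint X ∈ U) (s : Γ(X, U)) :
    phiOf g h ((X.presheaf.germ U (genericPoint X) hU).hom s) =
      (Scheme.stalkClosedPointTo g).hom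
        ((X.presheaf.germ U (g.base (IsLocalRing.closedPoint K)) (h ▸ hU)).hom s) := by
  unfold phiOf
  simp only [RingHom.coe_comp, Function.comp_apply]
  congr 1
  exact congrArg (fun f => f.hom s)
    (TopCat.Presheaf.germ_stalkSpecializes X.presheaf (U := U) (y := genericPoint X) hU
      (specializes_of_eq h))

lemma exists_phiOf_eq (b : X.presheaf.stalk (g.base (IsLocalRing.closedPoint K))) :
    ∃ b' : X.functionField, phiOf g h b' = (Scheme.stalkClosedPointTo g).hom b := by
  refine ⟨(X.presheaf.stalkSpecializes (specializes_of_eq h.symm)).hom b, ?_⟩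
  unfold phiOf
  simp only [RingHom.coe_comp, Function.comp_apply]
  congr 1
  have h1 : X.presheaf.stalkSpecializes (specializes_of_eq h.symm) ≫
      X.presheaf.stalkSpecializes (specializes_of_eq h) = 𝟙 _ := by
    rw [TopCat.Presheaf.stalkSpecializes_comp]
    exact TopCat.Presheaf.stalkSpecializes_refl _ _
  exact congrArg (fun f => f.hom b) h1

end General

section Field

theorem finite_of_trdeg_one (k F K : Type u) [Field k] [Field F] [Field K] [Algebra k K]
    [Algebra k F] [Algebra F K] [IsScalarTower k F K]
    (hfg : (⊤ : IntermediateField k K).FG) (htr : Algebra.trdeg k K = 1) (τ : K)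
    (hτ : Transcendental k τ) (hmem : τ ∈ Set.range (algebraMap F K)) :
    Module.Finite F K := by
  have hv : IsTranscendenceBasis k (fun _ : PUnit.{u+1} => τ) :=
    AlgebraicIndependent.isTranscendenceBasis_of_trdeg_le_of_finite
      (algebraicIndependent_unique_type_iff.mpr hτ) (by rw [htr]; simp)
  have halg : Algebra.IsAlgebraic F K := hv.isAlgebraic_iff.mpr fun _ => by
    obtain ⟨f, rfl⟩ := hmem
    exact isAlgebraic_algebraMap f
  obtain ⟨S, hS⟩ := hfg
  have htop : IntermediateField.adjoin F (S : Set K) = ⊤ := by
    rw [← IntermediateField.restrictScalars_eq_top_iff (K := k), _root_.eq_top_iff, ← hS]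
    exact IntermediateField.adjoin_le_iff.mpr (IntermediateField.subset_adjoin F _)
  have hfd : FiniteDimensional F (IntermediateField.adjoin F (S : Set K)) :=
    IntermediateField.finiteDimensional_adjoin fun x _ => (halg.isAlgebraic x).isIntegral
  rw [htop] at hfd
  exact Module.Finite.equiv (IntermediateField.topEquiv (F := F) (E := K)).toLinearEquiv

end Field

end Groth.Agent.H73.CompleteCurve
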