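import Mathlib.AlgebraicGeometry.Noetherian
import Mathlib.AlgebraicGeometry.Properties
import Mathlib.AlgebraicGeometry.FunctionField
import Mathlib.AlgebraicGeometry.Morphisms.Finite
import Mathlib.AlgebraicGeometry.Morphisms.FiniteType
import Mathlib.Topology.JacobsonSpace

/-!
# Points of an irreducible one-dimensional scheme
-/

set_option autoImplicit false
universe u
open CategoryTheory CategoryTheory.Limits AlgebraicGeometry TopologicalSpace

namespace Groth.Agent.H73.Curve

variable {X : Scheme.{u}}

/-- The generic point of an irreducible scheme has a zero-dimensional local ring. -/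
theorem ringKrullDim_stalk_genericPoint [IrreducibleSpace X] :
    ringKrullDim (X.presheaf.stalk (genericPoint X)) = 0 := by
  rw [ringKrullDim_stalk_eq_coheight]
  have : Order.coheight (genericPoint X) = 0 := by
    rw [Order.coheight_eq_zero]
    intro y _
    exact (genericPoint_spec X).specializes trivial
  rw [this]
  rfl

/-- In an irreducible scheme whose closed points have one-dimensional local rings, the generic
point is not closed. -/
theorem not_isClosed_genericPoint [IrreducibleSpace X]
    (hX : ∀ x : X, IsClosed ({x} : Set X) → ringKrullDim (X.presheaf.stalk x) = 1) :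
    ¬ IsClosed ({genericPoint X} : Set X) := by
  intro h
  have h1 := hX _ h
  rw [ringKrullDim_stalk_genericPoint] at h1
  exact zero_ne_one h1

/-- In a quasi-compact irreducible scheme whose closed points have one-dimensional local rings,
every point is either the generic point or closed. -/
theorem eq_genericPoint_or_isClosed [CompactSpace X] [IrreducibleSpace X]
    (hX : ∀ x : X, IsClosed ({x} : Set X) → ringKrullDim (X.presheaf.stalk x) = 1) (x : X) :
    x = genericPoint X ∨ IsClosed ({x} : Set X) := by
  by_cases hx : IsClosed ({x} : Set X)
  · exact Or.inr hx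
  left
  obtain ⟨z, hz, hzcl⟩ := IsClosed.exists_closed_singleton (S := closure {x}) isClosed_closure
    ⟨x, subset_closure rfl⟩
  have hxz : x ⤳ z := specializes_iff_mem_closure.mpr hz
  have hne : x ≠ z := fun h => hx (h ▸ hzcl)
  have hlt : z < x := by
    refine lt_iff_le_not_ge.mpr ⟨hxz, fun h => hne ?_⟩
    exact (Specializes.antisymm hxz h).eq
  have h1 := Order.coheight_add_one_le hlt
  have h2 : (Order.coheight z : WithBot ℕ∞) = 1 := by
    rw [← ringKrullDim_stalk_eq_coheight, hX z hzcl]
  have h2' : Order.coheight z = 1 := by exact_mod_cast h2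
  rw [h2'] at h1
  have h3 : Order.coheight x = 0 := by
    by_contra h0
    have : 1 ≤ Order.coheight x := Order.one_le_iff_ne_zero.mpr h0
    have : (1 : ℕ∞) + 1 ≤ 1 := (add_le_add_left this 1).trans h1
    exact absurd this (by decide)
  rw [Order.coheight_eq_zero] at h3
  have h4 : x ≤ genericPoint X := (genericPoint_spec X).specializes trivial
  have h5 : genericPoint X ≤ x := h3 h4
  exact (Specializes.antisymm h5 h4).eq

/-- In a Noetherian irreducible scheme whose closed points have one-dimensional local rings, a
closed subset not containing the generic point is finite. -/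
theorem finite_of_isClosed [IsNoetherian X] [IrreducibleSpace X]
    (hX : ∀ x : X, IsClosed ({x} : Set X) → ringKrullDim (X.presheaf.stalk x) = 1)
    {Z : Set X} (hZ : IsClosed Z) (hη : genericPoint X ∉ Z) : Z.Finite := by
  obtain ⟨𝒮, hfin, hcl, hirr, hZeq⟩ := NoetherianSpace.exists_finite_set_isClosed_irreducible hZ
  rw [hZeq]
  refine hfin.sUnion ?_
  intro t ht
  obtain ⟨g, hg⟩ := QuasiSober.sober (hirr t ht) (hcl t ht)
  have hgZ : g ∈ Z := by
    rw [hZeq]
    exact ⟨t, ht, hg.mem⟩
  have hgcl : IsClosed ({g} : Set X) := by
    rcases eq_genericPoint_or_isClosed hX g with h | h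
    · exact absurd (h ▸ hgZ) hη
    · exact h
  have : t = {g} := by
    rw [← hg.def, hgcl.closure_eq]
  rw [this]
  exact Set.finite_singleton g

end Groth.Agent.H73.Curve
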