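import Groth.Agent.H73.AnClosed
import Groth.Agent.H73.DVRSpec

/-!
# Noetherian valuative criterion for universal closedness (DVRs suffice)
-/

set_option autoImplicit false
universe u
open CategoryTheory CategoryTheory.Limits AlgebraicGeometry TopologicalSpace

namespace Groth.Agent.H73.DVRClosed

/-- The existence part of the valuative criterion, tested on discrete valuation rings only. -/
def DVRExistence {X S : Scheme.{u}} (f : X ⟶ S) : Prop :=
  ∀ (A : Type u) [CommRing A] [IsDomain A] [IsDiscreteValuationRing A]
    (x : Spec (CommRingCat.of (FractionRing A)) ⟶ X) (y : Spec (CommRingCat.of A) ⟶ S),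
    x ≫ f = Spec.map (CommRingCat.ofHom (algebraMap A (FractionRing A))) ≫ y →
    ∃ l : Spec (CommRingCat.of A) ⟶ X, l ≫ f = y ∧
      Spec.map (CommRingCat.ofHom (algebraMap A (FractionRing A))) ≫ l = x

lemma DVRExistence.of_isPullback {X S X' S' : Scheme.{u}} {f : X ⟶ S} {f' : X' ⟶ S'}
    {g' : X' ⟶ X} {g : S' ⟶ S} (hP : IsPullback g' f' f g) (hf : DVRExistence f) :
    DVRExistence f' := by
  intro A _ _ _ x y hxy
  obtain ⟨l₀, hl₁, hl₂⟩ := hf A (x ≫ g') (y ≫ g)
    (by rw [Category.assoc, hP.w, reassoc_of% hxy])
  refine ⟨hP.lift l₀ y hl₁, hP.lift_snd _ _ _, ?_⟩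
  apply hP.hom_ext
  · rw [Category.assoc, hP.lift_fst, hl₂]
  · rw [Category.assoc, hP.lift_snd, hxy]

/-- Over a locally Noetherian base, a quasi-compact morphism locally of finite type satisfying the
existence part of the valuative criterion for DVRs is a closed map. -/
theorem isClosedMap_of_dvrExistence {X S : Scheme.{u}} [IsLocallyNoetherian S] (f : X ⟶ S)
    [LocallyOfFiniteType f] [QuasiCompact f] (hf : DVRExistence f) : IsClosedMap f.base := by
  refine (isClosedMap_iff_specializingMap _).mpr ?_
  intro x y' hy'
  have hsp : f.base x ⤳ y' := hy'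
  by_cases hne : y' = f.base x
  · exact ⟨x, specializes_rfl, hne.symm⟩
  obtain ⟨A, h, hA, hcl, hgen⟩ :=
    Groth.Agent.H73.KA.exists_dvr_through_specialization f x y' hsp hne
  let e : FractionRing A ≃ₐ[A] X.residueField x := FractionRing.algEquiv A (X.residueField x)
  have he : CommRingCat.ofHom (algebraMap A (FractionRing A)) =
      CommRingCat.ofHom A.subtype ≫
        CommRingCat.ofHom (e.symm : X.residueField x →+* FractionRing A) := by
    apply CommRingCat.hom_ext
    apply RingHom.ext
    intro a
    exact (e.symm.commutes a).symm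
  let x' : Spec (CommRingCat.of (FractionRing A)) ⟶ X :=
    Spec.map (CommRingCat.ofHom (e.symm : X.residueField x →+* FractionRing A)) ≫
      X.fromSpecResidueField x
  have hsq : x' ≫ f = Spec.map (CommRingCat.ofHom (algebraMap A (FractionRing A))) ≫ h := by
    simp only [x']
    rw [Category.assoc, ← hgen, ← Spec.map_comp_assoc, ← he]
  obtain ⟨l, hl₁, hl₂⟩ := hf A x' h hsq
  refine ⟨l.base (IsLocalRing.closedPoint A), ?_, ?_⟩
  · have h1 : x'.base (IsLocalRing.closedPoint (FractionRing A)) = x := by
      simp only [x', Scheme.Hom.comp_apply]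
      exact Scheme.fromSpecResidueField_apply _ _
    have h2 := (IsLocalRing.specializes_closedPoint (R := A)
      ((Spec.map (CommRingCat.ofHom (algebraMap A (FractionRing A)))).base
        (IsLocalRing.closedPoint (FractionRing A)))).map l.continuous
    rw [← Scheme.Hom.comp_apply, hl₂, h1] at h2
    exact h2
  · rw [← Scheme.Hom.comp_apply, hl₁]
    exact hcl

/-- **Noetherian valuative criterion**: over a locally Noetherian base, a quasi-compact morphism
locally of finite type satisfying the existence part of the valuative criterion for DVRs is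
universally closed. -/
theorem universallyClosed_of_dvrExistence {X S : Scheme.{u}} [IsLocallyNoetherian S] (f : X ⟶ S)
    [LocallyOfFiniteType f] [QuasiCompact f] (hf : DVRExistence f) : UniversallyClosed f := by
  refine UniversallyClosed.of_valuativeCriterion f
    (Groth.Agent.H73.AnClosed.existence_of_affineSpace_closed f fun n => ?_)
  have : IsLocallyNoetherian 𝔸(ULift.{u} (Fin n); S) :=
    LocallyOfFiniteType.isLocallyNoetherian (𝔸(ULift.{u} (Fin n); S) ↘ S)
  have : LocallyOfFiniteType (pullback.snd f (𝔸(ULift.{u} (Fin n); S) ↘ S)) :=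
    MorphismProperty.pullback_snd _ _ inferInstance
  have : QuasiCompact (pullback.snd f (𝔸(ULift.{u} (Fin n); S) ↘ S)) :=
    MorphismProperty.pullback_snd _ _ inferInstance
  exact isClosedMap_of_dvrExistence _
    (DVRExistence.of_isPullback (IsPullback.of_hasPullback f (𝔸(ULift.{u} (Fin n); S) ↘ S)) hf)

/-- A universally closed morphism satisfies the existence part of the valuative criterion for
DVRs. -/
theorem dvrExistence_of_universallyClosed {X S : Scheme.{u}} (f : X ⟶ S) [UniversallyClosed f] :
    DVRExistence f := by
  intro A _ _ _ x y hxy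
  have hE : ValuativeCriterion.Existence f := by
    have := UniversallyClosed.eq_valuativeCriterion
    have h2 : (ValuativeCriterion.Existence ⊓ @QuasiCompact) f := by
      rw [← this]; infer_instance
    exact h2.1
  let Sq : ValuativeCommSq f :=
    { R := A
      K := FractionRing A
      i₁ := x
      i₂ := y
      commSq := ⟨hxy⟩ }
  obtain ⟨l, hl₁, hl₂⟩ := (hE Sq).exists_lift
  exact ⟨l, hl₂, hl₁⟩

end Groth.Agent.H73.DVRClosed
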