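import Groth.Agent.H73.DVRExists

/-!
# A normal Noetherian local domain is the intersection of the DVRs dominating it
-/

set_option autoImplicit false

namespace Groth.Agent.H73.KA

open IsLocalRing Algebra

/-- Let `A` be an integrally closed Noetherian local domain with fraction field `K` and `z : K`
not in `A`. Then there is a discrete valuation ring of `K` dominating `A` and not containing `z`. -/
theorem exists_dvr_dominating_not_mem {A K : Type*} [CommRing A] [IsDomain A] [IsNoetherianRing A]
    [IsLocalRing A] [IsIntegrallyClosed A] [Field K] [Algebra A K] [IsFractionRing A K]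
    (z : K) (hz : z ∉ Set.range (algebraMap A K)) :
    ∃ V : ValuationSubring K, IsDiscreteValuationRing V ∧ (∀ a, algebraMap A K a ∈ V) ∧
      (∀ a ∈ maximalIdeal A, V.valuation (algebraMap A K a) < 1) ∧ z ∉ V := by
  have hz0 : z ≠ 0 := by
    rintro rfl
    exact hz ⟨0, map_zero _⟩
  let _ := invertibleOfNonzero (inv_ne_zero hz0)
  let S := Algebra.adjoin A {z⁻¹}
  let y' : S := ⟨z⁻¹, Algebra.subset_adjoin rfl⟩
  have hJ : (maximalIdeal A).map (algebraMap A S) ⊔ Ideal.span {y'} ≠ ⊤ := by
    intro htop
    have ⟨p, hp, hpx⟩ := Algebra.exists_aeval_invOf_eq_zero_of_idealMap_adjoin_sup_span_eq_top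
      z⁻¹ (maximalIdeal A) (maximalIdeal.isMaximal A).ne_top htop
    have H : IsUnit p.leadingCoeff := of_not_not fun h => by
      have h1 : p.leadingCoeff ∈ maximalIdeal A := h
      have := sub_mem h1 hp
      simp only [sub_sub_cancel] at this
      exact (maximalIdeal.isMaximal A).ne_top ((Ideal.eq_top_iff_one _).mpr this)
    apply hz
    have hint : IsIntegral A z := by
      refine ⟨Polynomial.C H.unit⁻¹.1 * p, ?_, ?_⟩
      · simp [Polynomial.Monic]
      · have : Polynomial.aeval z p = 0 := by simpa using hpx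
        simp [Polynomial.aeval_def] at this ⊢
        right
        exact this
    exact IsIntegrallyClosed.isIntegral_iff.mp hint
  obtain ⟨n, hn, hle⟩ := Ideal.exists_le_maximal _ hJ
  have hyn : y' ∈ n := hle (Ideal.mem_sup_right (Ideal.mem_span_singleton_self y'))
  have hN : IsNoetherianRing S.toSubring := noeth_adjoin' {z⁻¹} (Set.finite_singleton _)
  let n' : Ideal S.toSubring := n
  have hn' : n'.IsPrime := hn.isPrime
  have hn0 : n' ≠ ⊥ := by
    intro hbot
    have h1 : y' ∈ n' := hyn
    rw [hbot, Submodule.mem_bot] at h1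
    exact inv_ne_zero hz0 (congrArg Subtype.val h1)
  have hcl : Subfield.closure ((S.toSubring : Set K) ∪ ((∅ : Finset K) : Set K)) = ⊤ := by
    rw [_root_.eq_top_iff]
    intro k _
    obtain ⟨a, b, hb, rfl⟩ := IsFractionRing.div_surjective (A := A) k
    exact div_mem (Subfield.subset_closure (Or.inl (S.algebraMap_mem a)))
      (Subfield.subset_closure (Or.inl (S.algebraMap_mem b)))
  obtain ⟨V, hV, hSV, hlt⟩ := exists_dvr_of_subring S.toSubring n' hn0 ∅ hcl
  refine ⟨V, hV, fun a => hSV (S.algebraMap_mem a), fun a ha => ?_, ?_⟩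
  · have h1 : algebraMap A S a ∈ n :=
      hle (Ideal.mem_sup_left (Ideal.mem_map_of_mem _ ha))
    exact hlt (algebraMap A S a) h1
  · intro hzV
    have h1 : V.valuation z ≤ 1 := (V.valuation_le_one_iff z).mpr hzV
    have h2 : V.valuation z⁻¹ < 1 := hlt y' hyn
    have h3 : V.valuation z * V.valuation z⁻¹ = 1 := by
      rw [← map_mul, mul_inv_cancel₀ hz0, map_one]
    have h4 : V.valuation z * V.valuation z⁻¹ < 1 :=
      (mul_le_of_le_one_left' h1).trans_lt h2
    exact h4.ne h3

end Groth.Agent.H73.KA
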