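import Mathlib
import Groth.Agent.H73.GenFibre

/-!
# Sections of schemes flat over a discrete valuation ring (helper73)
-/

open CategoryTheory CategoryTheory.Limits AlgebraicGeometry TopologicalSpace Opposite Polynomial

universe u

namespace Groth.Agent.H73.DVRSections

/-- Key algebra lemma: an injective integral map `φ : A → B` of algebras over a DVR `R` which
becomes surjective after inverting the nonzero elements of `R`, with `B` torsion-free and
`A/ϖA` reduced, is surjective. -/
theorem surjective_of_integral {R A B : Type*} [CommRing R] [IsDomain R]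
    [IsDiscreteValuationRing R] [CommRing A] [CommRing B] (ρ : R →+* A) (φ : A →+* B)
    (hint : φ.IsIntegral)
    (htf : ∀ r : R, r ≠ 0 → ∀ b : B, φ (ρ r) * b = 0 → b = 0)
    (hfrac : ∀ b : B, ∃ r : R, r ≠ 0 ∧ ∃ a : A, φ (ρ r) * b = φ a)
    (hinj : Function.Injective φ)
    (hred : ∀ (a : A) (m : ℕ), a ^ m ∈ Ideal.map ρ (IsLocalRing.maximalIdeal R) →
      a ∈ Ideal.map ρ (IsLocalRing.maximalIdeal R)) :
    Function.Surjective φ := by
  obtain ⟨ϖ, hϖ⟩ := IsDiscreteValuationRing.exists_irreducible R
  have hϖ0 : ϖ ≠ 0 := hϖ.ne_zero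
  have hmax : IsLocalRing.maximalIdeal R = Ideal.span {ϖ} := hϖ.maximalIdeal_eq
  have hmap : Ideal.map ρ (IsLocalRing.maximalIdeal R) = Ideal.span {ρ ϖ} := by
    rw [hmax, Ideal.map_span, Set.image_singleton]
  have key : ∀ n : ℕ, ∀ (b : B) (a : A), φ (ρ (ϖ ^ n)) * b = φ a → b ∈ Set.range φ := by
    intro n
    induction n with
    | zero =>
      intro b a h
      rw [pow_zero, map_one, map_one, one_mul] at h
      exact ⟨a, h.symm⟩
    | succ n ih =>
      intro b a h
      obtain ⟨p, hp, hpb⟩ := hint b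
      set s : A := ρ (ϖ ^ (n + 1)) with hs
      have hsI : s ∈ Ideal.span {ρ ϖ} := by
        rw [hs, pow_succ, map_mul]
        exact Ideal.mul_mem_left _ _ (Ideal.subset_span rfl)
      have hq : eval₂ φ (φ s * b) (scaleRoots p s) = 0 := by
        have := scaleRoots_eval₂_mul (f := φ) (r := b) (s := s) (p := p)
        rw [this, hpb, mul_zero]
      rw [h, Polynomial.eval₂_hom] at hq
      have hq0 : eval a (scaleRoots p s) = 0 := hinj (by rw [hq, map_zero])
      have hqm : (scaleRoots p s).Monic := (monic_scaleRoots_iff s).mpr hp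
      rw [eval_eq_sum_range, natDegree_scaleRoots, Finset.sum_range_succ] at hq0
      have hlead : (scaleRoots p s).coeff p.natDegree = 1 := by
        have := hqm.coeff_natDegree
        rwa [natDegree_scaleRoots] at this
      rw [hlead, one_mul] at hq0
      have ham : a ^ p.natDegree ∈ Ideal.span {ρ ϖ} := by
        have h1 : a ^ p.natDegree =
            - ∑ i ∈ Finset.range p.natDegree, (scaleRoots p s).coeff i * a ^ i := by
          linear_combination hq0
        rw [h1]
        refine Ideal.neg_mem_iff _ |>.mpr (Ideal.sum_mem _ fun i hi => ?_)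
        rw [coeff_scaleRoots]
        have hi' : i < p.natDegree := Finset.mem_range.mp hi
        have : s ^ (p.natDegree - i) ∈ Ideal.span {ρ ϖ} :=
          Ideal.pow_mem_of_mem _ hsI _ (by omega)
        exact Ideal.mul_mem_right _ _ (Ideal.mul_mem_left _ _ this)
      rw [← hmap] at ham
      have ha := hred a _ ham
      rw [hmap, Ideal.mem_span_singleton] at ha
      obtain ⟨a', rfl⟩ := ha
      refine ih b a' ?_
      have h0 := htf ϖ hϖ0 (φ (ρ (ϖ ^ n)) * b - φ a') (by
        rw [mul_sub, ← mul_assoc, ← map_mul, ← map_mul, ← pow_succ', ← map_mul, sub_eq_zero]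
        exact h)
      exact sub_eq_zero.mp h0
  intro b
  obtain ⟨r, hr, a, ha⟩ := hfrac b
  obtain ⟨n, u, rfl⟩ := IsDiscreteValuationRing.eq_unit_mul_pow_irreducible hr hϖ
  refine key n b (ρ (↑u⁻¹ : R) * a) ?_
  rw [map_mul, ← ha, ← mul_assoc, ← map_mul, ← map_mul, ← mul_assoc, Units.inv_mul, one_mul]

/-- In a pushout square of commutative rings with `g` surjective, the kernel of `inl` is generated
by the image of the kernel of `g`. -/
theorem ker_inl_of_isPushout {R S T P : CommRingCat.{u}} {f : R ⟶ S} {g : R ⟶ T}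
    {inl : S ⟶ P} {inr : T ⟶ P} (h : IsPushout f g inl inr)
    (hg : Function.Surjective g.hom) :
    RingHom.ker inl.hom = (RingHom.ker g.hom).map f.hom := by
  apply le_antisymm
  · set J := (RingHom.ker g.hom).map f.hom with hJ
    let a : S ⟶ CommRingCat.of (S ⧸ J) := CommRingCat.ofHom (Ideal.Quotient.mk J)
    have hle : RingHom.ker g.hom ≤ RingHom.ker ((Ideal.Quotient.mk J).comp f.hom) := by
      intro x hx
      rw [RingHom.mem_ker, RingHom.comp_apply, Ideal.Quotient.eq_zero_iff_mem]
      exact Ideal.mem_map_of_mem _ hx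
    let b : T ⟶ CommRingCat.of (S ⧸ J) :=
      CommRingCat.ofHom (g.hom.liftOfSurjective hg ⟨(Ideal.Quotient.mk J).comp f.hom, hle⟩)
    have w : f ≫ a = g ≫ b := by
      ext x
      simp only [CommRingCat.hom_comp, RingHom.comp_apply, a, b, CommRingCat.hom_ofHom]
      exact (g.hom.liftOfRightInverse_comp_apply _ (Function.surjInv_eq hg)
        ⟨(Ideal.Quotient.mk J).comp f.hom, hle⟩ x).symm
    have hd : inl ≫ h.desc a b w = a := h.inl_desc a b w
    intro x hx
    rw [RingHom.mem_ker] at hx
    have h1 : a.hom x = 0 := by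
      rw [← hd, CommRingCat.hom_comp, RingHom.comp_apply, hx, map_zero]
    exact Ideal.Quotient.eq_zero_iff_mem.mp h1
  · rw [Ideal.map_le_iff_le_comap]
    intro x hx
    rw [RingHom.mem_ker] at hx
    rw [Ideal.mem_comap, RingHom.mem_ker]
    have := congr($(h.w).hom x)
    simp only [CommRingCat.hom_comp, RingHom.comp_apply] at this
    rw [this, hx, map_zero]

/-- `Spec.map` of a localization map is a localization on global sections. -/
theorem isLocalization_appTop_specMap {R K : Type u} [CommRing R] [CommRing K] [Algebra R K]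
    (M : Submonoid R) [IsLocalization M K] :
    @IsLocalization Γ(Spec (.of R), ⊤) _ (M.map (Scheme.ΓSpecIso (.of R)).inv.hom)
      Γ(Spec (.of K), ⊤) _
      (Spec.map (CommRingCat.ofHom (algebraMap R K))).appTop.hom.toAlgebra := by
  let eR : R ≃+* Γ(Spec (.of R), ⊤) := (Scheme.ΓSpecIso (.of R)).symm.commRingCatIsoToRingEquiv
  let eK : K ≃+* Γ(Spec (.of K), ⊤) := (Scheme.ΓSpecIso (.of K)).symm.commRingCatIsoToRingEquiv
  have h1 := IsLocalization.isLocalization_of_base_ringEquiv M K eR
  let a1 : Algebra Γ(Spec (.of R), ⊤) K := ((algebraMap R K).comp eR.symm.toRingHom).toAlgebra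
  let a2 : Algebra Γ(Spec (.of R), ⊤) Γ(Spec (.of K), ⊤) :=
    (Spec.map (CommRingCat.ofHom (algebraMap R K))).appTop.hom.toAlgebra
  have h1' : IsLocalization (M.map (Scheme.ΓSpecIso (.of R)).inv.hom) K := h1
  let e : K ≃ₐ[Γ(Spec (.of R), ⊤)] Γ(Spec (.of K), ⊤) :=
    AlgEquiv.ofRingEquiv (f := eK) (by
      intro x
      have hnat := Scheme.ΓSpecIso_naturality (CommRingCat.ofHom (algebraMap R K))
      have h2 := congr($(hnat).hom x)
      simp only [CommRingCat.hom_comp, RingHom.comp_apply, CommRingCat.hom_ofHom] at h2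
      change (Scheme.ΓSpecIso (.of K)).inv.hom (algebraMap R K
        ((Scheme.ΓSpecIso (.of R)).hom.hom x)) = _
      rw [← h2]
      exact congr($((Scheme.ΓSpecIso (.of K)).hom_inv_id).hom _))
  exact IsLocalization.isLocalization_of_algEquiv _ e

end Groth.Agent.H73.DVRSections
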