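import Mathlib
import Groth.Agent.H73.DVRSections

/-!
# Sections of the generic fibre of a flat scheme over an affine integral base (helper73)
-/

open CategoryTheory CategoryTheory.Limits AlgebraicGeometry TopologicalSpace Opposite

universe u

namespace Groth.Agent.H73.DVRSections

/-- Sections of a scheme flat over an integral base are torsion-free. -/
theorem eq_zero_of_mul_eq_zero_of_flat {Y S : Scheme.{u}} [IsIntegral S] (h : Y ⟶ S) [Flat h]
    (US : S.Opens) (hUS : IsAffineOpen US) (U : Y.Opens) (hU : U ≤ h ⁻¹ᵁ US)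
    (r : Γ(S, US)) (hr : r ≠ 0) (b : Γ(Y, U)) (hb : (h.appLE US U hU).hom r * b = 0) :
    b = 0 := by
  have key : ∀ (y : Y) (W : Y.Opens), IsAffineOpen W → y ∈ W → ∀ hWU : W ≤ U,
      (Y.presheaf.map (homOfLE hWU).op).hom b = 0 := by
    intro y W hW hyW hWU
    haveI : Nonempty US := ⟨⟨h.base y, hU (hWU hyW)⟩⟩
    have hfl : (h.appLE US W (hWU.trans hU)).hom.Flat := h.flat_appLE hUS hW _
    algebraize [(h.appLE US W (hWU.trans hU)).hom]
    have h1 : IsSMulRegular Γ(Y, W) r :=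
      Module.Flat.isSMulRegular_of_nonZeroDivisors (mem_nonZeroDivisors_of_ne_zero hr)
    apply h1
    simp only [smul_zero]
    rw [Algebra.smul_def]
    have h2 : (h.appLE US W (hWU.trans hU)).hom r =
        (Y.presheaf.map (homOfLE hWU).op).hom ((h.appLE US U hU).hom r) := by
      rw [← CommRingCat.comp_apply, Scheme.Hom.appLE_map]
    change (h.appLE US W (hWU.trans hU)).hom r * _ = 0
    rw [h2, ← map_mul, hb, map_zero]
  apply Y.IsSheaf.section_ext fun y hy ↦ ?_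
  obtain ⟨_, ⟨W, hW, rfl⟩, hyW, hWU⟩ := Y.isBasis_affineOpens.exists_subset_of_mem_open
    (show y ∈ (U : Set Y) from hy) U.2
  refine ⟨W, hWU, hyW, ?_⟩
  rw [map_zero]
  exact key y W hW hyW hWU

theorem appLE_top_top {T S : Scheme.{u}} (g : T ⟶ S) : g.appLE ⊤ ⊤ le_top = g.appTop := by
  rw [Scheme.Hom.appTop, Scheme.Hom.app_eq_appLE]
  rfl

/-- Sections over a quasi-compact quasi-separated open of the base change along a flat
localization-like map of affine schemes. -/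
theorem sections_baseChange {X S T P : Scheme.{u}} [IsAffine S] [IsAffine T] [IsIntegral S]
    (g : T ⟶ S) [Flat g] (h : X ⟶ S) [Flat h] (pr : P ⟶ X) (q : P ⟶ T)
    (H : IsPullback pr q h g) (M : Submonoid Γ(S, ⊤)) (hM : ∀ m ∈ M, m ≠ 0)
    (hloc : @IsLocalization _ _ M Γ(T, ⊤) _ g.appTop.hom.toAlgebra)
    (UX : X.Opens) (hc : IsCompact (UX : Set X)) (hqs : IsQuasiSeparated (UX : Set X)) :
    Function.Injective (pr.app UX).hom ∧
      ∀ z : Γ(P, pr ⁻¹ᵁ UX), ∃ m ∈ M, ∃ a : Γ(X, UX),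
        z * (pr.app UX).hom ((h.appLE ⊤ UX le_top).hom m) = (pr.app UX).hom a := by
  have hUY : pr ⁻¹ᵁ UX = pr ⁻¹ᵁ UX ⊓ q ⁻¹ᵁ ⊤ := by simp
  have hpo : IsPushout (h.appLE ⊤ UX le_top) (g.appLE ⊤ ⊤ le_top) (pr.app UX)
      (q.appLE ⊤ (pr ⁻¹ᵁ UX) le_top) := by
    have h1 := (isIso_pushoutSection_iff H (le_top : (⊤ : T.Opens) ≤ g ⁻¹ᵁ ⊤)
      (le_top : UX ≤ h ⁻¹ᵁ ⊤) hUY).mp
      (isIso_pushoutSection_of_isQuasiSeparated_of_flat_right H _ _ hUY (isAffineOpen_top S)
        (isAffineOpen_top T) hc hqs)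
    rw [Scheme.Hom.app_eq_appLE]
    exact h1
  rw [appLE_top_top] at hpo
  have hL := Groth.Agent.H73.GenFibre.isLocalization_of_isPushout hpo M hloc
  let _ := (pr.app UX).hom.toAlgebra
  constructor
  · refine IsLocalization.injective (M := M.map (h.appLE ⊤ UX le_top).hom) _ ?_
    rintro _ ⟨m, hm, rfl⟩
    rw [mem_nonZeroDivisors_iff_right]
    intro c hc'
    refine eq_zero_of_mul_eq_zero_of_flat h ⊤ (isAffineOpen_top S) UX le_top m (hM m hm) c ?_
    rw [mul_comm]; exact hc'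
  · intro z
    obtain ⟨⟨a, ⟨_, m, hm, rfl⟩⟩, hz⟩ :=
      IsLocalization.surj (M.map (h.appLE ⊤ UX le_top).hom) z
    exact ⟨m, hm, a, hz⟩

end Groth.Agent.H73.DVRSections
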