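import Mathlib
import Groth.Prelude.Def_Neron
import Groth.Agent.H73.DVRSections2
import Groth.Agent.H73.PushforwardIso

/-!
# Proper morphisms of flat schemes over a DVR which are isomorphisms on generic fibres (helper73)
-/

open CategoryTheory CategoryTheory.Limits AlgebraicGeometry TopologicalSpace Opposite

universe u

namespace Groth.Agent.H73.DVRSections

/-- The closed fibre criterion: if the fibre over the closed point is reduced, then the ideal
generated by the maximal ideal in the sections over an affine open is radical. -/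
theorem mem_map_maximalIdeal_of_pow_mem (R : Type u) [CommRing R] [IsLocalRing R]
    (X : Over (Spec (CommRingCat.of R)))
    [IsReduced (X.hom.fiber (IsLocalRing.closedPoint R))] (V : X.left.Opens)
    (hV : IsAffineOpen V) (a : Γ(X.left, V)) (m : ℕ)
    (ha : a ^ m ∈ Ideal.map ((Scheme.ΓSpecIso (.of R)).inv ≫ X.hom.appLE ⊤ V le_top).hom
      (IsLocalRing.maximalIdeal R)) :
    a ∈ Ideal.map ((Scheme.ΓSpecIso (.of R)).inv ≫ X.hom.appLE ⊤ V le_top).hom
      (IsLocalRing.maximalIdeal R) := by
  let s : Spec (CommRingCat.of R) := IsLocalRing.closedPoint R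
  have Hs : IsPullback (X.hom.fiberι s) (X.hom.fiberToSpecResidueField s) X.hom
      ((Spec (CommRingCat.of R)).fromSpecResidueField s) := IsPullback.of_hasPullback _ _
  have hpo := Groth.Agent.H73.GenFibre.isPushout_sections s X.hom _ _ Hs ⊤
    (isAffineOpen_top (Spec (CommRingCat.of R))) trivial V hV le_top
  let ρ0 : CommRingCat.of R ⟶ Γ(Spec (CommRingCat.of R), ⊤) := (Scheme.ΓSpecIso (.of R)).inv
  have hpo' : IsPushout (ρ0 ≫ X.hom.appLE ⊤ V le_top)
      (ρ0 ≫ ((Spec (CommRingCat.of R)).fromSpecResidueField s).appLE ⊤ ⊤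
        (Groth.Agent.H73.GenFibre.fromSpecResidueField_preimage s ⊤ trivial).ge)
      ((X.hom.fiberι s).app V)
      ((X.hom.fiberToSpecResidueField s).appLE ⊤ ((X.hom.fiberι s) ⁻¹ᵁ V) le_top) :=
    IsPushout.of_iso hpo (Scheme.ΓSpecIso (.of R)) (Iso.refl _) (Iso.refl _) (Iso.refl _)
      (by simp [ρ0]) (by simp [ρ0]) (by simp) (by simp)
  -- identify the second map
  have hg : ρ0 ≫ ((Spec (CommRingCat.of R)).fromSpecResidueField s).appLE ⊤ ⊤
        (Groth.Agent.H73.GenFibre.fromSpecResidueField_preimage s ⊤ trivial).ge =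
      CommRingCat.ofHom (algebraMap R s.asIdeal.ResidueField) ≫
        (Scheme.Spec.residueFieldIso (.of R) s).inv ≫
          (Scheme.ΓSpecIso ((Spec (CommRingCat.of R)).residueField s)).inv := by
    have h := Scheme.Spec.algebraMap_residueFieldIso_inv (.of R) s
    rw [Groth.Agent.H73.GenFibre.appLE_fromSpecResidueField s ⊤ trivial,
      ← Scheme.germ_residue (X := Spec (CommRingCat.of R)) (U := ⊤) s trivial]
    calc ρ0 ≫ ((Spec (CommRingCat.of R)).presheaf.germ ⊤ s trivial ≫
            (Spec (CommRingCat.of R)).residue s) ≫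
            (Scheme.ΓSpecIso ((Spec (CommRingCat.of R)).residueField s)).inv
        = (ρ0 ≫ (Spec (CommRingCat.of R)).presheaf.germ ⊤ s trivial ≫
            (Spec (CommRingCat.of R)).residue s) ≫
            (Scheme.ΓSpecIso ((Spec (CommRingCat.of R)).residueField s)).inv := by
          simp only [Category.assoc]
      _ = (CommRingCat.ofHom (algebraMap R s.asIdeal.ResidueField) ≫
            (Scheme.Spec.residueFieldIso (.of R) s).inv) ≫
            (Scheme.ΓSpecIso ((Spec (CommRingCat.of R)).residueField s)).inv := by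
          rw [← h]
      _ = _ := by simp only [Category.assoc]
  haveI : s.asIdeal.IsMaximal := IsLocalRing.maximalIdeal.isMaximal R
  have hΓ := ConcreteCategory.bijective_of_isIso
    (Scheme.ΓSpecIso ((Spec (CommRingCat.of R)).residueField s)).inv
  have hrfi := ConcreteCategory.bijective_of_isIso (Scheme.Spec.residueFieldIso (.of R) s).inv
  have hsurj : Function.Surjective (ρ0 ≫ ((Spec (CommRingCat.of R)).fromSpecResidueField s).appLE
      ⊤ ⊤ (Groth.Agent.H73.GenFibre.fromSpecResidueField_preimage s ⊤ trivial).ge).hom := by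
    rw [hg]
    intro z
    obtain ⟨z1, rfl⟩ := hΓ.2 z
    obtain ⟨z2, rfl⟩ := hrfi.2 z1
    obtain ⟨z3, rfl⟩ := s.asIdeal.algebraMap_residueField_surjective z2
    exact ⟨z3, rfl⟩
  have hker : RingHom.ker (ρ0 ≫ ((Spec (CommRingCat.of R)).fromSpecResidueField s).appLE ⊤ ⊤
        (Groth.Agent.H73.GenFibre.fromSpecResidueField_preimage s ⊤ trivial).ge).hom =
      IsLocalRing.maximalIdeal R := by
    rw [hg]
    ext x
    rw [RingHom.mem_ker]
    change (Scheme.ΓSpecIso ((Spec (CommRingCat.of R)).residueField s)).inv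
      ((Scheme.Spec.residueFieldIso (.of R) s).inv
        (algebraMap R s.asIdeal.ResidueField x)) = 0 ↔ _
    rw [map_eq_zero_iff _ hΓ.1, map_eq_zero_iff _ hrfi.1, Ideal.algebraMap_residueField_eq_zero]
    rfl
  have hk := ker_inl_of_isPushout hpo' hsurj
  rw [hker] at hk
  rw [← hk] at ha ⊢
  rw [RingHom.mem_ker] at ha ⊢
  rw [map_pow] at ha
  exact IsNilpotent.eq_zero ⟨m, ha⟩

end Groth.Agent.H73.DVRSections
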