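import Mathlib
import Groth.Prelude.Def_Neron
import Groth.Agent.H73.DVRSections3

/-!
# `O_X → π_* O_Y` is an isomorphism for proper `π` iso on generic fibres over a DVR (helper73)
-/

open CategoryTheory CategoryTheory.Limits AlgebraicGeometry TopologicalSpace Opposite

universe u

namespace Groth.Agent.H73.DVRSections

theorem app_bijective_of_affine (R : Type u) [CommRing R] [IsDomain R]
    [IsDiscreteValuationRing R]
    (X Y : Over (Spec (CommRingCat.of R))) [Flat X.hom] [Flat Y.hom]
    (π : Y ⟶ X) [IsProper π.left]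
    (hgen : IsIso ((Neron.genericFibre R).map π))
    [IsReduced (X.hom.fiber (IsLocalRing.closedPoint R))] (V : X.left.Opens)
    (hV : IsAffineOpen V) : Function.Bijective (π.left.app V).hom := by
  let g := Neron.genPt R
  haveI : Flat g := by
    rw [HasRingHomProperty.Spec_iff (P := @Flat)]
    simp only [CommRingCat.hom_ofHom]
    exact RingHom.flat_algebraMap_iff.mpr (IsLocalization.flat _ (nonZeroDivisors R))
  have HX : IsPullback (pullback.fst X.hom g) (pullback.snd X.hom g) X.hom g :=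
    IsPullback.of_hasPullback _ _
  have HY : IsPullback (pullback.fst Y.hom g) (pullback.snd Y.hom g) Y.hom g :=
    IsPullback.of_hasPullback _ _
  let πK : pullback Y.hom g ⟶ pullback X.hom g := ((Neron.genericFibre R).map π).left
  haveI : IsIso πK := (Over.forget _).map_isIso ((Neron.genericFibre R).map π)
  have hπK : πK ≫ pullback.fst X.hom g = pullback.fst Y.hom g ≫ π.left := by
    simp only [πK, Neron.genericFibre, Over.pullback_map_left]
    exact pullback.lift_fst _ _ _
  -- localization data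
  let M : Submonoid Γ(Spec (CommRingCat.of R), ⊤) :=
    (nonZeroDivisors R).map (Scheme.ΓSpecIso (.of R)).inv.hom
  have hΓinj : Function.Injective (Scheme.ΓSpecIso (CommRingCat.of R)).inv.hom :=
    (ConcreteCategory.bijective_of_isIso (Scheme.ΓSpecIso (CommRingCat.of R)).inv).1
  have hM : ∀ m ∈ M, m ≠ 0 := by
    rintro _ ⟨r, hr, rfl⟩
    exact (map_ne_zero_iff _ hΓinj).mpr (nonZeroDivisors.ne_zero hr)
  have hloc := isLocalization_appTop_specMap (R := R) (K := FractionRing R) (nonZeroDivisors R)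
  haveI : IsIntegral (Spec (CommRingCat.of R)) := inferInstance
  obtain ⟨hAinj, hAsurj⟩ := sections_baseChange g X.hom _ _ HX M hM hloc V hV.isCompact
    hV.isQuasiSeparated
  have hcW : IsCompact ((π.left ⁻¹ᵁ V : Y.left.Opens) : Set Y.left) :=
    π.left.isCompact_preimage hV.isCompact
  have hqW : IsQuasiSeparated ((π.left ⁻¹ᵁ V : Y.left.Opens) : Set Y.left) :=
    π.left.isQuasiSeparated_preimage hV.isQuasiSeparated
  obtain ⟨hBinj, hBsurj⟩ := sections_baseChange g Y.hom _ _ HY M hM hloc (π.left ⁻¹ᵁ V) hcW hqW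
  -- the comparison on generic fibres
  have e : pullback.fst Y.hom g ⁻¹ᵁ (π.left ⁻¹ᵁ V) ≤ πK ⁻¹ᵁ (pullback.fst X.hom g ⁻¹ᵁ V) := by
    rw [← Scheme.Hom.comp_preimage, ← Scheme.Hom.comp_preimage, hπK]
  have e' : πK ⁻¹ᵁ (pullback.fst X.hom g ⁻¹ᵁ V) ≤ pullback.fst Y.hom g ⁻¹ᵁ (π.left ⁻¹ᵁ V) := by
    rw [← Scheme.Hom.comp_preimage, ← Scheme.Hom.comp_preimage, hπK]
  let ψ := πK.appLE (pullback.fst X.hom g ⁻¹ᵁ V) (pullback.fst Y.hom g ⁻¹ᵁ (π.left ⁻¹ᵁ V)) e
  have hψ : Function.Bijective ψ.hom := by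
    haveI : IsIso ((pullback Y.hom g).presheaf.map (homOfLE e).op) :=
      ⟨(pullback Y.hom g).presheaf.map (homOfLE e').op, by
        rw [← CategoryTheory.Functor.map_comp]
        exact (congrArg _ (Subsingleton.elim _ _)).trans (CategoryTheory.Functor.map_id _ _), by
        rw [← CategoryTheory.Functor.map_comp]
        exact (congrArg _ (Subsingleton.elim _ _)).trans (CategoryTheory.Functor.map_id _ _)⟩
    have : IsIso ψ := by
      simp only [ψ, Scheme.Hom.appLE]
      infer_instance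
    exact ConcreteCategory.bijective_of_isIso ψ
  have hcomm : (pullback.fst X.hom g).app V ≫ ψ =
      π.left.app V ≫ (pullback.fst Y.hom g).app (π.left ⁻¹ᵁ V) := by
    simp only [ψ, Scheme.Hom.app_eq_appLE, Scheme.Hom.appLE_comp_appLE]
    simp only [hπK]
  have hcomm' : ∀ a : Γ(X.left, V), ψ.hom (((pullback.fst X.hom g).app V).hom a) =
      ((pullback.fst Y.hom g).app (π.left ⁻¹ᵁ V)).hom ((π.left.app V).hom a) := fun a => by
    have := congr($(hcomm).hom a)
    simpa only [CommRingCat.hom_comp, RingHom.comp_apply] using this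
  have hρ : X.hom.appLE ⊤ V le_top ≫ π.left.app V = Y.hom.appLE ⊤ (π.left ⁻¹ᵁ V) le_top := by
    rw [Scheme.Hom.app_eq_appLE, Scheme.Hom.appLE_comp_appLE]
    simp only [Over.w π]
  have hρ' : ∀ m : Γ(Spec (CommRingCat.of R), ⊤),
      (π.left.app V).hom ((X.hom.appLE ⊤ V le_top).hom m) =
        (Y.hom.appLE ⊤ (π.left ⁻¹ᵁ V) le_top).hom m := fun m => by
    have := congr($(hρ).hom m)
    simpa only [CommRingCat.hom_comp, RingHom.comp_apply] using this
  -- injectivity
  have hinj : Function.Injective (π.left.app V).hom := by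
    rw [injective_iff_map_eq_zero]
    intro a ha
    apply hAinj
    apply hψ.1
    rw [hcomm', ha, map_zero, map_zero, map_zero]
  refine ⟨hinj, ?_⟩
  refine surjective_of_integral (R := R)
    ((Scheme.ΓSpecIso (.of R)).inv ≫ X.hom.appLE ⊤ V le_top).hom (π.left.app V).hom
    (Groth.Agent.H73.PushforwardIso.isIntegral_app_of_isAffineOpen π.left hV) ?_ ?_ hinj
    (fun a m ha => mem_map_maximalIdeal_of_pow_mem R X V hV a m ha)
  · intro r hr b hb
    simp only [CommRingCat.hom_comp, RingHom.comp_apply] at hb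
    rw [hρ'] at hb
    exact eq_zero_of_mul_eq_zero_of_flat Y.hom ⊤ (isAffineOpen_top _) (π.left ⁻¹ᵁ V) le_top _
      ((map_ne_zero_iff _ hΓinj).mpr hr) b hb
  · intro b
    obtain ⟨α, hα⟩ := hψ.2 (((pullback.fst Y.hom g).app (π.left ⁻¹ᵁ V)).hom b)
    obtain ⟨_, ⟨r, hr, rfl⟩, a, hma⟩ := hAsurj α
    refine ⟨r, nonZeroDivisors.ne_zero hr, a, ?_⟩
    apply hBinj
    have h1 := congrArg ψ.hom hma
    rw [map_mul, hα, hcomm', hcomm', ← map_mul] at h1
    simp only [CommRingCat.hom_comp, RingHom.comp_apply]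
    rw [mul_comm]
    exact h1

end Groth.Agent.H73.DVRSections
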