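import Groth.Agent.H73.FX_1

/-!
# (EF-A0) for helper79's S4101 squad: projectivity in the prelude form gives projectivity of
`Γ(Z', V)` along `appLE`.
-/

set_option autoImplicit false
universe u
open CategoryTheory CategoryTheory.Limits AlgebraicGeometry

namespace Groth.Agent.H73.EF_A0

theorem projective_of_prelude {Z' S' : Scheme.{u}} (π : Z' ⟶ S') (V : Z'.Opens)
    (h : letI := (V.ι ≫ π).appTop.hom.toAlgebra; Module.Projective Γ(S', ⊤) Γ(↑V, ⊤)) :
    letI := (π.appLE ⊤ V le_top).hom.toAlgebra; Module.Projective Γ(S', ⊤) Γ(Z', V) := by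
  have hc : (V.ι ≫ π).appTop ≫ V.topIso.hom = π.appLE ⊤ V le_top := by
    rw [Scheme.Hom.comp_appTop, Category.assoc]
    show π.app ⊤ ≫ _ = π.app ⊤ ≫ Z'.presheaf.map (homOfLE le_top).op
    congr 1
    show Z'.presheaf.map (homOfLE (x := V.ι ''ᵁ ⊤) le_top).op ≫
      Z'.presheaf.map (eqToHom V.ι_image_top.symm).op = Z'.presheaf.map (homOfLE le_top).op
    exact (Z'.presheaf.map_comp _ _).symm.trans (congrArg _ (Subsingleton.elim _ _))
  refine FX_1.projective_of_iso (V.ι ≫ π).appTop (π.appLE ⊤ V le_top) (Iso.refl _) V.topIso ?_ h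
  rw [Iso.refl_hom, Category.id_comp]
  exact hc

end Groth.Agent.H73.EF_A0
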