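import Groth.Agent.H49.IdealDescent

/-!
# (EF-C) for helper79's S4101 squad: a family of surjections from affine schemes onto an affine
open cover is a `FinCov` family.
-/

set_option autoImplicit false
universe u
open CategoryTheory CategoryTheory.Limits AlgebraicGeometry

namespace Groth.Agent.H73.EF_C

theorem finCov_of_affine_surj {S : Scheme.{u}} {ι : Type u} (U : ι → S.Opens)
    (hU : ∀ i, IsAffineOpen (U i)) (hcov : ∀ s : S, ∃ i, s ∈ U i) (S' : ι → Scheme.{u})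
    (hS' : ∀ i, IsAffine (S' i)) (g : ∀ i, S' i ⟶ (U i : Scheme.{u}))
    (hsurj : ∀ i, Surjective (g i)) :
    H49.IdealDescent.FinCov (fun i => g i ≫ (U i).ι) := by
  classical
  intro W hW
  -- local data around each point of `W`
  have hloc : ∀ x : W, ∃ (i : ι) (D : S.Opens), IsAffineOpen D ∧ x.1 ∈ D ∧ D ≤ W ∧ D ≤ U i := by
    intro x
    obtain ⟨i, hi⟩ := hcov x.1
    obtain ⟨_, ⟨D, hD, rfl⟩, hxD, hDle⟩ := S.isBasis_affineOpens.exists_subset_of_mem_open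
      (show x.1 ∈ ((W ⊓ U i : S.Opens) : Set S) from ⟨x.2, hi⟩) (W ⊓ U i).2
    exact ⟨i, D, hD, hxD, fun y hy => (hDle hy).1, fun y hy => (hDle hy).2⟩
  choose ix D hDaff hxD hDW hDU using hloc
  have hcompact : IsCompact (W : Set S) := hW.isCompact
  obtain ⟨t, ht⟩ := hcompact.elim_finite_subcover (fun x : W => ((D x : S.Opens) : Set S))
    (fun x => (D x).2) (fun z hz => Set.mem_iUnion.mpr ⟨⟨z, hz⟩, hxD ⟨z, hz⟩⟩)
  haveI : ∀ i, IsAffine ((U i : S.Opens) : Scheme.{u}) := fun i => hU i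
  haveI : ∀ i, IsAffine (S' i) := hS'
  have hVaff : ∀ x : W, IsAffineOpen ((g (ix x) ≫ (U (ix x)).ι) ⁻¹ᵁ D x) := by
    intro x
    have h1 : IsAffineOpen ((U (ix x)).ι ⁻¹ᵁ D x) :=
      (hDaff x).preimage_of_isOpenImmersion (U (ix x)).ι (by
        rw [Scheme.Opens.opensRange_ι]; exact hDU x)
    exact h1.preimage (g (ix x))
  let mk : W → H49.IdealDescent.Chart (fun i => g i ≫ (U i).ι) W := fun x =>
    { i := ix x
      V := ⟨(g (ix x) ≫ (U (ix x)).ι) ⁻¹ᵁ D x, hVaff x⟩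
      le := fun y hy => hDW x hy }
  refine ⟨t.card, fun k => mk ((t.equivFin.symm k).1), ?_⟩
  intro z hz
  obtain ⟨x, hx⟩ := Set.mem_iUnion.mp (ht hz)
  obtain ⟨hxt, hzD⟩ := Set.mem_iUnion.mp hx
  refine ⟨t.equivFin ⟨x, hxt⟩, ?_⟩
  beta_reduce
  rw [Equiv.symm_apply_apply]
  have hzU : z ∈ U (ix x) := hDU x hzD
  obtain ⟨y, hy⟩ := (hsurj (ix x)).surj ⟨z, hzU⟩
  have hyz : (g (ix x) ≫ (U (ix x)).ι) y = z := by
    rw [Scheme.Hom.comp_apply, hy]
    rfl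
  refine ⟨y, ?_, hyz⟩
  show (g (ix x) ≫ (U (ix x)).ι) y ∈ D x
  rw [hyz]
  exact hzD

end Groth.Agent.H73.EF_C
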