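import Mathlib
import Groth.Prelude.Def_PBC

set_option autoImplicit false
universe u
open CategoryTheory CategoryTheory.Limits AlgebraicGeometry Topology

namespace Groth.Agent.H73.EtCons_Q2

/-- Constructible subsets of a quasi-compact quasi-separated scheme are quasi-compact. -/
theorem isCompact_of_isConstructible {X : Scheme.{u}} [CompactSpace X] [QuasiSeparatedSpace X]
    {s : Set X} (hs : Topology.IsConstructible s) : IsCompact s := by
  have hb : TopologicalSpace.IsTopologicalBasis
      (Set.range (fun U : X.affineOpens => ((U.1 : X.Opens) : Set X))) := by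
    have := X.isBasis_affineOpens
    rw [TopologicalSpace.Opens.IsBasis, Set.image_eq_range] at this
    exact this
  have hc : ∀ U : X.affineOpens, IsCompact ((U.1 : X.Opens) : Set X) := fun U => U.2.isCompact
  haveI : Nonempty X.affineOpens := ⟨⟨⊥, isAffineOpen_bot X⟩⟩
  induction s, hs using Topology.IsConstructible.induction_of_isTopologicalBasis
    (fun U : X.affineOpens => ((U.1 : X.Opens) : Set X)) hb hc with
  | sdiff i s hs => exact (hc i).diff (isOpen_biUnion fun j _ => j.1.2)
  | union s hs t ht h1 h2 => exact h1.union h2

/-- (Q2) -/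
theorem qcqs_of_immersion {X T : Scheme.{u}} [CompactSpace X] [QuasiSeparatedSpace X] (g : T ⟶ X) [IsImmersion g] (hR : Topology.IsConstructible (Set.range g)) : CompactSpace T ∧ QuasiSeparatedSpace T := by
  refine ⟨?_, quasiSeparatedSpace_of_quasiSeparated g⟩
  refine ⟨(g.isEmbedding.isCompact_iff).2 ?_⟩
  rw [Set.image_univ]
  exact isCompact_of_isConstructible hR

end Groth.Agent.H73.EtCons_Q2
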