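import Mathlib
import Groth.Prelude.Def_BlowUp2

/-!
# (ISO) transport of a blow-up along isomorphisms of source and target
-/

set_option autoImplicit false
universe u
open CategoryTheory CategoryTheory.Limits AlgebraicGeometry

namespace Groth.Agent.H73.FB_ISO

/-- effective Cartier ideals pull back along isomorphisms -/
theorem effCartier_comap_iso {X' X : Scheme.{u}} (e : X' ≅ X) (J : X.IdealSheafData)
    (hJ : BlowUp.IsEffCartierIdeal J) : BlowUp.IsEffCartierIdeal (J.comap e.hom) := by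
  intro x'
  obtain ⟨U, hxU, f, hf, hJU⟩ := hJ (e.hom x')
  let U' : X'.affineOpens := ⟨e.hom ⁻¹ᵁ U.1, U.2.preimage_of_isIso e.hom⟩
  refine ⟨U', hxU, ?_⟩
  rw [Scheme.IdealSheafData.ideal_comap_of_isOpenImmersion]
  have hUU : (⟨e.hom ''ᵁ U'.1, U'.2.image_of_isOpenImmersion e.hom⟩ : X.affineOpens) = U := by
    apply Subtype.ext
    apply TopologicalSpace.Opens.ext
    show e.hom '' (e.hom ⁻¹' (U.1 : Set X)) = (U.1 : Set X)
    exact Set.image_preimage_eq _ e.hom.surjective
  have key : ∀ (W : X.affineOpens), W = U →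
      ∃ f' : Γ(X, W.1), f' ∈ nonZeroDivisors Γ(X, W.1) ∧ J.ideal W = Ideal.span {f'} := by
    rintro W rfl
    exact ⟨f, hf, hJU⟩
  obtain ⟨f', hf', hJW⟩ := key _ hUU
  rw [hJW]
  let ψ := (e.hom.appIso U'.1).commRingCatIsoToRingEquiv
  refine ⟨ψ f', ?_, ?_⟩
  · exact MulEquivClass.map_nonZeroDivisors ψ ▸ Submonoid.mem_map_of_mem _ hf'
  · have hinv : ∀ y, (e.hom.appIso U'.1).inv.hom y = ψ.symm y := fun y => rfl
    ext y
    rw [Ideal.mem_comap, Ideal.mem_span_singleton', Ideal.mem_span_singleton', hinv]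
    constructor
    · rintro ⟨c, hc⟩
      refine ⟨ψ c, ?_⟩
      have := congrArg ψ hc
      rw [map_mul, RingEquiv.apply_symm_apply] at this
      exact this
    · rintro ⟨c, rfl⟩
      refine ⟨ψ.symm c, ?_⟩
      rw [map_mul, RingEquiv.symm_apply_apply]

theorem ISO {X X' Y Y' : Scheme.{u}} (b : X ⟶ Y) (b' : X' ⟶ Y') (eX : X' ≅ X) (eY : Y' ≅ Y)
    (w : eX.hom ≫ b = b' ≫ eY.hom) (I : Y.IdealSheafData) (h : BlowUp.IsBlowUp b I) :
    BlowUp.IsBlowUp b' (I.comap eY.hom) := by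
  obtain ⟨h1, h2⟩ := h
  have w' : eX.inv ≫ b' = b ≫ eY.inv := by
    rw [Iso.inv_comp_eq, ← Category.assoc, w, Category.assoc, Iso.hom_inv_id, Category.comp_id]
  refine ⟨?_, ?_⟩
  · rw [← Scheme.IdealSheafData.comap_comp, ← w, Scheme.IdealSheafData.comap_comp]
    exact effCartier_comap_iso eX _ h1
  · intro T g hg
    rw [← Scheme.IdealSheafData.comap_comp] at hg
    obtain ⟨k, hk, huniq⟩ := h2 T (g ≫ eY.hom) hg
    refine ⟨k ≫ eX.inv, ?_, ?_⟩
    · show (k ≫ eX.inv) ≫ b' = g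
      rw [Category.assoc, w', ← Category.assoc, hk, Category.assoc, Iso.hom_inv_id,
        Category.comp_id]
    · intro k' hk'
      have : k' ≫ eX.hom = k := by
        apply huniq
        show (k' ≫ eX.hom) ≫ b = g ≫ eY.hom
        rw [Category.assoc, w, ← Category.assoc, hk']
      rw [← this, Category.assoc, Iso.hom_inv_id, Category.comp_id]

end Groth.Agent.H73.FB_ISO
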