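import Mathlib

set_option autoImplicit false
universe u

namespace Groth.Agent.H73.FC_T1

theorem exists_closed_cover_of_not_isPreconnected {X : Type u} [TopologicalSpace X] (Y Z : Set X)
    (hY : IsClosed Y) (hnp : ¬ IsPreconnected (Y \ Z)) :
    ∃ F₁ F₂ : Set X, IsClosed F₁ ∧ IsClosed F₂ ∧ F₁ ⊆ Y ∧ F₂ ⊆ Y ∧ Y ⊆ F₁ ∪ F₂ ∪ Z ∧
      F₁ ∩ F₂ ⊆ Z ∧ ¬ F₁ ⊆ Z ∧ ¬ F₂ ⊆ Z := by
  rw [isPreconnected_closed_iff] at hnp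
  push Not at hnp
  obtain ⟨t, t', ht, ht', hcov, ⟨x, hx, hxt⟩, ⟨y, hy, hyt'⟩, hempty⟩ := hnp
  refine ⟨t ∩ Y, t' ∩ Y, ht.inter hY, ht'.inter hY, Set.inter_subset_right,
    Set.inter_subset_right, ?_, ?_, ?_, ?_⟩
  · intro a ha
    by_cases haZ : a ∈ Z
    · exact Or.inr haZ
    · rcases hcov ⟨ha, haZ⟩ with h | h
      · exact Or.inl (Or.inl ⟨h, ha⟩)
      · exact Or.inl (Or.inr ⟨h, ha⟩)
  · rintro a ⟨⟨hat, haY⟩, ⟨hat', _⟩⟩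
    by_contra haZ
    have : a ∈ (Y \ Z) ∩ (t ∩ t') := ⟨⟨haY, haZ⟩, hat, hat'⟩
    rw [hempty] at this
    exact this
  · intro hsub
    exact hx.2 (hsub ⟨hxt, hx.1⟩)
  · intro hsub
    exact hy.2 (hsub ⟨hyt', hy.1⟩)

end Groth.Agent.H73.FC_T1
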