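import Mathlib
import Groth.Prelude.Def_W4bk5brsh7111920

set_option autoImplicit false
universe u

namespace Groth.Agent.H73.FC_T6b

theorem add_one_le_of_lt (N : ℕ) (y : WithBot ℕ∞) (h : ((N : ℕ) : WithBot ℕ∞) < y) :
    ((N + 1 : ℕ) : WithBot ℕ∞) ≤ y := by
  induction y using WithBot.recBotCoe with
  | bot => exact absurd h (not_lt_bot)
  | coe y =>
    induction y using ENat.recTopCoe with
    | top => exact le_top
    | coe m =>
      have h' : N < m := by exact_mod_cast h
      exact_mod_cast h'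

theorem add_one_le_connDim (T : Type u) [TopologicalSpace T] (N : ℕ)
    (h : ∀ Z' : Set T, IsClosed Z' → ¬ IsConnected Z'ᶜ →
      ((N : ℕ) : WithBot ℕ∞) < topologicalKrullDim ↥Z') :
    ((N + 1 : ℕ) : WithBot ℕ∞) ≤ LocCoh.connDim T := by
  unfold LocCoh.connDim
  refine le_iInf₂ fun Z' hZ' => ?_
  exact add_one_le_of_lt N _ (h Z' hZ'.1 hZ'.2)

end Groth.Agent.H73.FC_T6b
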