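import Mathlib
import Groth.Prelude.Def_BlowUp2
import Groth.Prelude.Def_Coh

/-!
# (ZERO) the ideal of sections killed by a power of `E` pulls back to zero away from `V(E)`
-/

set_option autoImplicit false
universe u
open CategoryTheory CategoryTheory.Limits AlgebraicGeometry

namespace Groth.Agent.H73.FC_ZERO

/-- an ideal of an affine open whose zero locus misses the open is the unit ideal -/
theorem ideal_eq_top_of_zeroLocus_inter_eq_empty {W : Scheme.{u}} (V : W.affineOpens)
    (I : Ideal Γ(W, V.1)) (h : W.zeroLocus (U := V.1) (I : Set Γ(W, V.1)) ∩ V.1 = ∅) : I = ⊤ := by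
  rw [← PrimeSpectrum.zeroLocus_empty_iff_eq_top, ← V.2.fromSpec_preimage_zeroLocus]
  apply Set.eq_empty_of_forall_notMem
  intro x hx
  have hxV : V.2.fromSpec x ∈ (V.1 : Set W) := by
    have := V.2.range_fromSpec
    rw [← this]
    exact ⟨x, rfl⟩
  have : V.2.fromSpec x ∈ W.zeroLocus (U := V.1) (I : Set Γ(W, V.1)) ∩ V.1 := ⟨hx, hxV⟩
  rw [h] at this
  exact this

theorem ZERO {W Q : Scheme.{u}} (𝒥 E : W.IdealSheafData)
    (h𝒥 : ∀ (V : W.affineOpens) (a : Γ(W, V.1)),
      a ∈ 𝒥.ideal V ↔ BlowUp.KilledByPowerNear E (Coh.structureModule W) V a)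
    (k : Q ⟶ W) (hk : ∀ x : Q, k x ∉ E.support) : 𝒥.comap k = ⊥ := by
  let O : W.Opens := ⟨(E.support : Set W)ᶜ, E.support.isClosed.isOpen_compl⟩
  -- sections over affine opens inside `O`
  have hV : ∀ V : W.affineOpens, V.1 ≤ O → 𝒥.ideal V = ⊥ := by
    intro V hVO
    have htop : E.ideal V = ⊤ := by
      apply ideal_eq_top_of_zeroLocus_inter_eq_empty
      rw [← E.coe_support_inter V]
      ext x
      simp only [Set.mem_inter_iff, Set.mem_empty_iff_false, iff_false, not_and]
      intro hx hxV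
      exact (hVO hxV) hx
    rw [eq_bot_iff]
    intro a ha
    obtain ⟨n, hn⟩ := (h𝒥 V a).mp ha
    have h1 : (1 : Γ(W, V.1)) ∈ (E ^ n).ideal V := by
      rw [Scheme.IdealSheafData.ideal_pow, Pi.pow_apply, htop, Ideal.top_pow]
      trivial
    have h2 := hn 1 h1
    have h3 : a = 0 := by
      have : (1 : Γ(W, V.1)) • a = a := one_smul _ a
      exact this.symm.trans h2
    rw [h3]
    exact Ideal.zero_mem _
  have hO : 𝒥.comap O.ι = ⊥ := by
    apply Scheme.IdealSheafData.ext
    funext U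
    rw [Scheme.IdealSheafData.ideal_comap_of_isOpenImmersion, Scheme.IdealSheafData.ideal_bot]
    rw [hV ⟨O.ι ''ᵁ U, U.2.image_of_isOpenImmersion O.ι⟩ (by
      rintro _ ⟨y, _, rfl⟩
      exact y.2)]
    apply Ideal.comap_bot_of_injective
    exact (ConcreteCategory.bijective_of_isIso (O.ι.appIso U).inv).1
  have hrange : Set.range k ⊆ Set.range O.ι := by
    rw [Scheme.Opens.range_ι]
    rintro _ ⟨x, rfl⟩
    exact hk x
  have hfac : k = IsOpenImmersion.lift O.ι k hrange ≫ O.ι := (IsOpenImmersion.lift_fac _ _ _).symm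
  rw [hfac, Scheme.IdealSheafData.comap_comp, hO, Scheme.IdealSheafData.comap_bot]

end Groth.Agent.H73.FC_ZERO
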