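import Mathlib

/-!
# The algebraic closure of a field in a finitely generated field extension is finite
-/

set_option autoImplicit false

namespace Groth.Agent.H73.FieldAlg

open IntermediateField

/-- Linear independence over `K` of algebraic elements persists over a purely transcendental
extension. -/
theorem linearIndependent_adjoin_of_algebraicIndependent {K L : Type*} [Field K] [Field L]
    [Algebra K L] {σ : Type*} {x : σ → L} (hx : AlgebraicIndependent K x)
    {ι : Type*} [Fintype ι] (m : ι → algebraicClosure K L) (hm : LinearIndependent K m) :
    LinearIndependent (Algebra.adjoin K (Set.range x)) (fun i => (m i : L)) := by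
  classical
  have hxM : AlgebraicIndependent (algebraicClosure K L) x := hx.extendScalars _
  rw [Fintype.linearIndependent_iff]
  intro g hg
  set P : ι → MvPolynomial σ K := fun i => hx.repr (g i) with hP
  have hgP : ∀ i, (g i : L) = MvPolynomial.aeval x (P i) := fun i => (hx.aeval_repr (g i)).symm
  set Q : MvPolynomial σ (algebraicClosure K L) :=
    ∑ i, MvPolynomial.C (m i) * MvPolynomial.map (algebraMap K (algebraicClosure K L)) (P i)
    with hQ
  have hQ0 : MvPolynomial.aeval x Q = 0 := by
    rw [hQ, map_sum]
    rw [← hg]
    refine Finset.sum_congr rfl fun i _ => ?_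
    rw [map_mul, MvPolynomial.aeval_C, MvPolynomial.aeval_map_algebraMap, ← hgP]
    change (m i : L) * (g i : L) = (g i : L) * (m i : L)
    rw [mul_comm]
  have hQz : Q = 0 := by
    have hinj := algebraicIndependent_iff_injective_aeval.mp hxM
    exact hinj (by rw [hQ0, map_zero])
  have hcoeff : ∀ d i, MvPolynomial.coeff d (P i) = 0 := by
    intro d
    have h1 : MvPolynomial.coeff d Q = 0 := by rw [hQz, MvPolynomial.coeff_zero]
    rw [hQ, MvPolynomial.coeff_sum] at h1
    have h2 : ∑ i, MvPolynomial.coeff d (P i) • m i = 0 := by
      rw [← h1]
      refine Finset.sum_congr rfl fun i _ => ?_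
      rw [MvPolynomial.coeff_C_mul, MvPolynomial.coeff_map, Algebra.smul_def, mul_comm]
    exact Fintype.linearIndependent_iff.mp hm _ h2
  intro i
  have hPi : P i = 0 := by
    ext d
    rw [hcoeff d i, MvPolynomial.coeff_zero]
  have : (g i : L) = 0 := by rw [hgP, hPi, map_zero]
  exact Subtype.ext this

theorem linearIndependent_adjoin_of_algebraicIndependent' {K L : Type*} [Field K] [Field L]
    [Algebra K L] {σ : Type*} {x : σ → L} (hx : AlgebraicIndependent K x)
    (S : Set L) (hS : Set.range x = S)
    {ι : Type*} [Fintype ι] (m : ι → algebraicClosure K L) (hm : LinearIndependent K m) :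
    LinearIndependent (Algebra.adjoin K S) (fun i => (m i : L)) := by
  subst hS
  exact linearIndependent_adjoin_of_algebraicIndependent hx m hm

open scoped IntermediateField.algebraAdjoinAdjoin in
/-- The algebraic closure of `K` in a finitely generated field extension is finite over `K`. -/
theorem finite_algebraicClosure_of_essFiniteType (K L : Type*) [Field K] [Field L] [Algebra K L]
    [Algebra.EssFiniteType K L] : Module.Finite K (algebraicClosure K L) := by
  classical
  obtain ⟨s, hs⟩ : ∃ s : Finset L, IsTranscendenceBasis K ((↑) : s → L) := by
    have ⟨s, hs⟩ := IntermediateField.fg_top K L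
    have : Algebra.IsAlgebraic (Algebra.adjoin K (s : Set L)) L := by
      rw [← isAlgebraic_adjoin_iff_top, hs, Algebra.isAlgebraic_iff_isIntegral]
      refine Algebra.isIntegral_of_surjective topEquiv.surjective
    have ⟨t, hts, ht⟩ := exists_isTranscendenceBasis_subset (R := K) (s : Set L)
    lift t to Finset L using s.finite_toSet.subset hts
    exact ⟨t, ht⟩
  have hfin : Module.Finite (adjoin K (s : Set L)) L := by
    apply +allowSynthFailures Algebra.finite_of_essFiniteType_of_isAlgebraic
    · exact .of_comp K _ _
    · convert! hs.isAlgebraic_field <;> simp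
  have hbound : ∀ t : Finset (algebraicClosure K L),
      LinearIndependent K (fun i : t => (i : algebraicClosure K L)) →
      t.card ≤ Module.finrank (adjoin K (s : Set L)) L := by
    intro t ht
    have h1 := linearIndependent_adjoin_of_algebraicIndependent' hs.1 (s : Set L)
      Subtype.range_coe (fun i : t => (i : algebraicClosure K L)) ht
    have h2 : LinearIndependent (adjoin K (s : Set L))
        (fun i : t => ((i : algebraicClosure K L) : L)) :=
      (LinearIndependent.iff_fractionRing (Algebra.adjoin K (s : Set L))
        (adjoin K (s : Set L))).mp h1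
    have := h2.fintype_card_le_finrank
    simpa using this
  have hrank := rank_le hbound
  exact Module.rank_lt_aleph0_iff.mp (lt_of_le_of_lt hrank (Cardinal.nat_lt_aleph0 _))

end Groth.Agent.H73.FieldAlg
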