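import Mathlib

/-!
# Open immersions from local isomorphisms on basic opens (helper73)
-/

open CategoryTheory CategoryTheory.Limits AlgebraicGeometry TopologicalSpace Opposite

universe u

namespace Groth.Agent.H73.FiniteApprox

/-- If `m ∣_ D` is an isomorphism for `D` affine ... reduce to sections. -/
theorem isIso_morphismRestrict_of_bijective {N T : Scheme.{u}} (m : N ⟶ T) (D : T.Opens)
    (hD : IsAffineOpen D) (hND : IsAffineOpen (m ⁻¹ᵁ D))
    (hb : Function.Bijective (m.app D).hom) : IsIso (m ∣_ D) := by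
  haveI : IsAffine D.toScheme := hD
  haveI : IsAffine (m ⁻¹ᵁ D).toScheme := hND
  have h1 : (MorphismProperty.isomorphisms Scheme) (m ∣_ D) := by
    rw [HasAffineProperty.iff_of_isAffine (P := MorphismProperty.isomorphisms Scheme)]
    refine ⟨inferInstance, ?_⟩
    have h2 : IsIso (m.app D) := (ConcreteCategory.isIso_iff_bijective _).mpr hb
    rw [← Scheme.Hom.resLE_eq_morphismRestrict]
    have h3 := (MorphismProperty.isomorphisms CommRingCat).arrow_mk_iso_iff
      (arrowResLEAppIso m D (m ⁻¹ᵁ D) le_rfl)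
    rw [Scheme.Hom.appLE_eq_app] at h3
    exact h3.mpr h2
  exact h1

/-- A morphism restricted to an open `W` is an open immersion if `W` is the union of preimages
of opens over which the morphism is an isomorphism. -/
theorem isOpenImmersion_of_isIso_restrict {N T : Scheme.{u}} (m : N ⟶ T) (W : N.Opens)
    {κ : Type u} (D : κ → T.Opens) (h1 : ∀ k, m ⁻¹ᵁ (D k) ≤ W) (h2 : W ≤ ⨆ k, m ⁻¹ᵁ (D k))
    (h3 : ∀ k, IsIso (m ∣_ (D k))) : IsOpenImmersion (W.ι ≫ m) := by
  let 𝒰 := Scheme.Opens.iSupOpenCover D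
  have hiso : IsIso (m ∣_ ⨆ k, D k) := by
    refine (IsZariskiLocalAtTarget.iff_of_openCover (P := .isomorphisms _) 𝒰).mpr fun k ↦ ?_
    refine (MorphismProperty.arrow_mk_iso_iff (.isomorphisms _)
      ((morphismRestrictRestrict ..).symm ≪≫ morphismRestrictOpensRange ..)).mp ?_
    have : (⨆ k, D k).ι ''ᵁ (𝒰.f k).opensRange = D k := by
      simp only [Scheme.Opens.iSupOpenCover, 𝒰, ← Scheme.Hom.opensRange_comp, Scheme.homOfLE_ι,
        Scheme.Opens.opensRange_ι]
    rw [this]
    exact h3 k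
  have e : m ⁻¹ᵁ (⨆ k, D k) = W := by
    apply le_antisymm
    · rw [Scheme.Hom.preimage_iSup]
      exact iSup_le h1
    · rw [Scheme.Hom.preimage_iSup]
      exact h2
  convert!
    (inferInstance :
      IsOpenImmersion
        ((N.isoOfEq e).inv ≫ m ∣_ (⨆ k, D k) ≫ (⨆ k, D k).ι)) using 1
  simp

end Groth.Agent.H73.FiniteApprox

namespace Groth.Agent.H73.FiniteApprox

/-- Bijectivity on sections over a basic open from injectivity on the ambient affine open plus a
surjectivity-up-to-powers condition. -/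
theorem app_basicOpen_bijective {N T : Scheme.{u}} (m : N ⟶ T) (TU : T.Opens)
    (hTU : IsAffineOpen TU) (hNU : IsAffineOpen (m ⁻¹ᵁ TU)) (b' : Γ(T, TU))
    (hinj : Function.Injective (m.app TU).hom)
    (hsurj : ∀ g : Γ(N, m ⁻¹ᵁ T.basicOpen b'), ∃ (n : ℕ) (t : Γ(T, TU)),
      g * ((m.app (T.basicOpen b')).hom
        ((T.presheaf.map (homOfLE (T.basicOpen_le b')).op).hom b')) ^ n =
      (m.app (T.basicOpen b')).hom ((T.presheaf.map (homOfLE (T.basicOpen_le b')).op).hom t)) :
    Function.Bijective (m.app (T.basicOpen b')).hom := by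
  set resT := (T.presheaf.map (homOfLE (T.basicOpen_le b')).op).hom with hresT
  set resN := (N.presheaf.map (homOfLE (m.preimage_mono (T.basicOpen_le b'))).op).hom with hresN
  have hnat : ∀ t : Γ(T, TU), (m.app (T.basicOpen b')).hom (resT t) =
      resN ((m.app TU).hom t) := by
    intro t
    have := congr($(m.naturality (homOfLE (T.basicOpen_le b')).op).hom t)
    simp only [CommRingCat.hom_comp, RingHom.comp_apply] at this
    exact this
  let aT : Algebra Γ(T, TU) Γ(T, T.basicOpen b') := resT.toAlgebra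
  have hlT : IsLocalization.Away b' Γ(T, T.basicOpen b') := hTU.isLocalization_basicOpen b'
  let aN : Algebra Γ(N, m ⁻¹ᵁ TU) Γ(N, m ⁻¹ᵁ T.basicOpen b') := resN.toAlgebra
  have hlN : IsLocalization.Away ((m.app TU).hom b') Γ(N, m ⁻¹ᵁ T.basicOpen b') :=
    hNU.isLocalization_of_eq_basicOpen ((m.app TU).hom b')
      (homOfLE (m.preimage_mono (T.basicOpen_le b'))) (Scheme.preimage_basicOpen m b')
  have hunit : IsUnit (resT b') := IsLocalization.Away.algebraMap_isUnit b'
  constructor
  · rw [injective_iff_map_eq_zero]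
    intro x hx
    obtain ⟨n, t, ht⟩ := IsLocalization.Away.surj b' x
    change x * resT b' ^ n = resT t at ht
    have h1 : resN ((m.app TU).hom t) = 0 := by
      rw [← hnat, ← ht, map_mul, hx, zero_mul]
    obtain ⟨⟨_, k, rfl⟩, hk⟩ := (IsLocalization.map_eq_zero_iff
      (Submonoid.powers ((m.app TU).hom b')) Γ(N, m ⁻¹ᵁ T.basicOpen b') _).mp h1
    have h2 : (m.app TU).hom (b' ^ k * t) = 0 := by
      rw [map_mul, map_pow]; exact hk
    have h3 : b' ^ k * t = 0 := hinj (by rw [h2, map_zero])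
    have h4 : resT b' ^ k * resT t = 0 := by rw [← map_pow, ← map_mul, h3, map_zero]
    have h5 : resT t = 0 := (hunit.pow k).mul_right_eq_zero.mp h4
    rw [h5] at ht
    exact (hunit.pow n).mul_left_eq_zero.mp ht
  · intro g
    obtain ⟨n, t, hg⟩ := hsurj g
    obtain ⟨v, hv⟩ := hunit
    refine ⟨resT t * ((v⁻¹ : (Γ(T, T.basicOpen b'))ˣ) : Γ(T, T.basicOpen b')) ^ n, ?_⟩
    have hu : IsUnit ((m.app (T.basicOpen b')).hom (resT b') ^ n) :=
      ((IsUnit.map (m.app (T.basicOpen b')).hom ⟨v, hv⟩)).pow n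
    apply hu.mul_left_injective
    simp only
    rw [hg, ← map_pow, ← map_mul, mul_assoc, ← mul_pow, ← hv, Units.inv_mul, one_pow, mul_one]

end Groth.Agent.H73.FiniteApprox
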