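import Mathlib
import Groth.Prelude.Def_RelSpec
import Groth.Agent.H22.QCAlgSub
import Groth.Agent.H22.SpecLib
import Groth.Agent.H41.AffAlgPushout

/-!
# Finite approximation of integral morphisms over a qcqs base (helper73)

For an integral morphism `fn : N ⟶ S` with `S` quasi-compact and quasi-separated and finitely many
prescribed sections of `fn_* O_N` over finitely many affine opens, there is a factorization
`N ⟶ T ⟶ S` with `T ⟶ S` finite such that `O_T → O_N` is injective on preimages of affine opens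
and the prescribed sections come from `T`.
-/

set_option autoImplicit false
set_option linter.style.haveILetI false

open CategoryTheory CategoryTheory.Limits AlgebraicGeometry TopologicalSpace Opposite

universe u

namespace Groth.Agent.H73.FiniteApprox

open Groth.Agent.H22 Groth.Agent.H41.AffAlgLib

theorem exists_finite_factorization {N S : Scheme.{u}} [CompactSpace S] [QuasiSeparatedSpace S]
    (fn : N ⟶ S) [IsIntegralHom fn]
    (t : ∀ W : S.affineOpens, Finset Γ(N, fn ⁻¹ᵁ W.1)) (l : List S.affineOpens) :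
    ∃ (T : Scheme.{u}) (π : T ⟶ S) (m : N ⟶ T) (w : m ≫ π = fn), IsFinite π ∧
      (∀ (U : S.Opens) (hU : IsAffineOpen U), Function.Injective (m.appLE (π ⁻¹ᵁ U) (fn ⁻¹ᵁ U)
        (by rw [← Scheme.Hom.comp_preimage, w])).hom) ∧
      ∀ W ∈ l, ∀ x ∈ t W, x ∈ Set.range (m.appLE (π ⁻¹ᵁ W.1) (fn ⁻¹ᵁ W.1)
        (by rw [← Scheme.Hom.comp_preimage, w])).hom := by
  let 𝒜 : RelSpec.QCAlg S := RelSpec.QCAlg.directImage fn
  haveI := toModule_isQuasicoherent 𝒜
  obtain ⟨K, hK, hft, hmem⟩ := SubSh.exists_through_sections (F := 𝒜.toModule)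
    (fun W => (t W : Finset Γ(𝒜.toModule, W.1))) l
  obtain ⟨𝒜', φ, hφinj, hφft, hφrange⟩ := exists_subalgebra 𝒜 K hK hft
  obtain ⟨e', he'⟩ := exists_gammaIso 𝒜'
  obtain ⟨m, wm, hm⟩ := Amap_surjective 𝒜'.π fn (e'.hom ≫ φ)
  have happ : ∀ (U : S.Opens), m.appLE (𝒜'.π ⁻¹ᵁ U) (fn ⁻¹ᵁ U)
      (by rw [← Scheme.Hom.comp_preimage, wm]) = e'.hom.hom.app (op U) ≫ φ.hom.app (op U) := by
    intro U
    rw [← algHom_app 𝒜'.π fn m wm U]
    exact congrArg (fun ψ : RelSpec.QCAlg.directImage 𝒜'.π ⟶ RelSpec.QCAlg.directImage fn =>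
      ψ.hom.app (op U)) hm
  have happ' : ∀ (U : S.Opens) (z : Γ(𝒜'.spec, 𝒜'.π ⁻¹ᵁ U)),
      (m.appLE (𝒜'.π ⁻¹ᵁ U) (fn ⁻¹ᵁ U) (by rw [← Scheme.Hom.comp_preimage, wm])).hom z =
        (φ.hom.app (op U)).hom ((e'.hom.hom.app (op U)).hom z) := fun U z =>
    congr($(happ U).hom z)
  have hiso : ∀ U : S.Opens, Function.Bijective (e'.hom.hom.app (op U)).hom := by
    intro U
    have h1 : e'.hom.hom.app (op U) ≫ e'.inv.hom.app (op U) = 𝟙 _ := by
      rw [← NatTrans.comp_app, ← RelSpec.QCAlg.comp_hom, e'.hom_inv_id]; rfl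
    have h2 : e'.inv.hom.app (op U) ≫ e'.hom.hom.app (op U) = 𝟙 _ := by
      rw [← NatTrans.comp_app, ← RelSpec.QCAlg.comp_hom, e'.inv_hom_id]; rfl
    haveI : IsIso (e'.hom.hom.app (op U)) := ⟨_, h1, h2⟩
    exact ConcreteCategory.bijective_of_isIso _
  refine ⟨𝒜'.spec, 𝒜'.π, m, wm, ?_, ?_, ?_⟩
  · -- finiteness
    refine ⟨fun U hU => ?_⟩
    have h1 : 𝒜'.π.app U ≫ 𝒜'.gammaAff U hU = 𝒜'.str.app (op U) := 𝒜'.π_app_gammaAff U hU
    have h2 : 𝒜'.gammaAff U hU = e'.hom.hom.app (op U) := by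
      rw [he']; exact (𝒜'.gammaMap_app U hU).symm
    have hstrint : (𝒜'.str.app (op U)).hom.IsIntegral := by
      have h3 : (𝒜.str.app (op U)).hom.IsIntegral :=
        IsIntegralHom.isIntegral_app fn U hU
      have h4 : 𝒜.str.app (op U) = 𝒜'.str.app (op U) ≫ φ.hom.app (op U) := by
        rw [← NatTrans.comp_app, φ.comm]
      rw [h4, CommRingCat.hom_comp] at h3
      exact RingHom.IsIntegral.tower_bot _ _ (hφinj U) h3
    have hstrfin : (𝒜'.str.app (op U)).hom.Finite :=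
      RingHom.IsIntegral.to_finite hstrint (hφft ⟨U, hU⟩)
    haveI : IsIso (𝒜'.gammaAff U hU) := by
      rw [h2]; exact (ConcreteCategory.isIso_iff_bijective _).mpr (hiso U)
    have h5 : 𝒜'.π.app U = 𝒜'.str.app (op U) ≫ inv (𝒜'.gammaAff U hU) := by
      rw [← h1, Category.assoc, IsIso.hom_inv_id, Category.comp_id]
    rw [h5, CommRingCat.hom_comp]
    exact RingHom.finite_respectsIso.cancel_right_isIso _ _ |>.mpr hstrfin
  · intro U hU z1 z2 h
    have h1 := happ' U z1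
    have h2 := happ' U z2
    rw [h] at h1
    exact (hiso U).1 (hφinj U (h1.symm.trans h2))
  · intro W hW x hx
    obtain ⟨y, hy⟩ := hφrange W.1 x (hmem W hW x hx)
    obtain ⟨z, rfl⟩ := (hiso W.1).2 y
    exact ⟨z, (happ' W.1 z).trans hy⟩

end Groth.Agent.H73.FiniteApprox
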