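import Mathlib

import Groth.Agent.H73.FiniteApprox

open CategoryTheory CategoryTheory.Limits AlgebraicGeometry TopologicalSpace Opposite

universe u
namespace Groth.Agent.H73.FiniteApprox

/-- If `B[1/b]` is of finite type over `R`, there is a finite set `C ⊆ B` such that every subring
of `B` containing the image of `R`, `b` and `C` becomes equal to `B` after inverting `b`. -/
theorem exists_finset_saturating {R B : Type*} [CommRing R] [CommRing B] (ρ : R →+* B) (b : B)
    (hft : ((algebraMap B (Localization.Away b)).comp ρ).FiniteType) :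
    ∃ C : Finset B, ∀ B' : Subring B, (∀ r, ρ r ∈ B') → b ∈ B' → (↑C : Set B) ⊆ B' →
      ∀ x : B, ∃ n : ℕ, b ^ n * x ∈ B' := by
  classical
  let alg : Algebra R (Localization.Away b) := ((algebraMap B (Localization.Away b)).comp ρ).toAlgebra
  have hft' : Algebra.FiniteType R (Localization.Away b) := hft
  obtain ⟨G, hG⟩ := hft'.out
  -- choose numerators
  have hnum : ∀ g : Localization.Away b, ∃ (c : B) (n : ℕ),
      g * algebraMap B _ (b ^ n) = algebraMap B _ c := by
    intro g
    obtain ⟨n, c, h⟩ := IsLocalization.Away.surj b g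
    exact ⟨c, n, by rw [map_pow]; exact h⟩
  choose cnum nnum hcn using hnum
  refine ⟨G.image cnum, fun B' hR hb hC x => ?_⟩
  -- the subalgebra Q
  let Q : Subalgebra R (Localization.Away b) :=
    { carrier := {y | ∃ (n : ℕ) (t : B), t ∈ B' ∧ y * algebraMap B _ (b ^ n) = algebraMap B _ t}
      mul_mem' := by
        rintro y1 y2 ⟨n1, t1, ht1, h1⟩ ⟨n2, t2, ht2, h2⟩
        refine ⟨n1 + n2, t1 * t2, B'.mul_mem ht1 ht2, ?_⟩
        rw [pow_add, map_mul, map_mul, ← h1, ← h2]; ring
      add_mem' := by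
        rintro y1 y2 ⟨n1, t1, ht1, h1⟩ ⟨n2, t2, ht2, h2⟩
        refine ⟨n1 + n2, t1 * b ^ n2 + t2 * b ^ n1,
          B'.add_mem (B'.mul_mem ht1 (B'.pow_mem hb _)) (B'.mul_mem ht2 (B'.pow_mem hb _)), ?_⟩
        rw [pow_add, map_add, map_mul, map_mul, map_mul, ← h1, ← h2]; ring
      algebraMap_mem' := by
        intro r
        refine ⟨0, ρ r, hR r, ?_⟩
        rw [pow_zero, map_one, mul_one]; rfl }
  have hQ : Q = ⊤ := by
    rw [eq_top_iff, ← hG]
    apply Algebra.adjoin_le
    intro g hg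
    exact ⟨nnum g, cnum g, hC (by simpa using Finset.mem_image_of_mem cnum hg), hcn g⟩
  have hx : algebraMap B (Localization.Away b) x ∈ Q := by rw [hQ]; trivial
  obtain ⟨n, t, ht, h⟩ := hx
  rw [← map_mul] at h
  obtain ⟨⟨_, k, rfl⟩, hk⟩ := (IsLocalization.eq_iff_exists (Submonoid.powers b) _).mp h
  refine ⟨k + n, ?_⟩
  have : b ^ (k + n) * x = b ^ k * t := by
    rw [pow_add, mul_assoc, mul_comm (b ^ n) x]; exact hk
  rw [this]
  exact B'.mul_mem (B'.pow_mem hb _) ht



/-- Variant of `app_basicOpen_bijective` with the saturation hypothesis on the ambient affine. -/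
theorem app_basicOpen_bijective' {N T : Scheme.{u}} (m : N ⟶ T) (TU : T.Opens)
    (hTU : IsAffineOpen TU) (hNU : IsAffineOpen (m ⁻¹ᵁ TU)) (b' : Γ(T, TU))
    (hinj : Function.Injective (m.app TU).hom)
    (hP : ∀ x : Γ(N, m ⁻¹ᵁ TU), ∃ (n : ℕ) (t : Γ(T, TU)),
      ((m.app TU).hom b') ^ n * x = (m.app TU).hom t) :
    Function.Bijective (m.app (T.basicOpen b')).hom := by
  refine app_basicOpen_bijective m TU hTU hNU b' hinj ?_
  set resT := (T.presheaf.map (homOfLE (T.basicOpen_le b')).op).hom with hresT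
  set resN := (N.presheaf.map (homOfLE (m.preimage_mono (T.basicOpen_le b'))).op).hom with hresN
  have hnat : ∀ t : Γ(T, TU), (m.app (T.basicOpen b')).hom (resT t) =
      resN ((m.app TU).hom t) := by
    intro t
    have := congr($(m.naturality (homOfLE (T.basicOpen_le b')).op).hom t)
    simp only [CommRingCat.hom_comp, RingHom.comp_apply] at this
    exact this
  let aN : Algebra Γ(N, m ⁻¹ᵁ TU) Γ(N, m ⁻¹ᵁ T.basicOpen b') := resN.toAlgebra
  have hlN : IsLocalization.Away ((m.app TU).hom b') Γ(N, m ⁻¹ᵁ T.basicOpen b') :=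
    hNU.isLocalization_of_eq_basicOpen ((m.app TU).hom b')
      (homOfLE (m.preimage_mono (T.basicOpen_le b'))) (Scheme.preimage_basicOpen m b')
  intro g
  obtain ⟨k, x, hx⟩ := IsLocalization.Away.surj ((m.app TU).hom b') g
  change g * resN ((m.app TU).hom b') ^ k = resN x at hx
  obtain ⟨n, t, ht⟩ := hP x
  refine ⟨k + n, t, ?_⟩
  rw [hnat, hnat, ← ht, map_mul, map_pow, ← hx, pow_add]
  ring

end Groth.Agent.H73.FiniteApprox
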