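import Mathlib
import Groth.Agent.H73.FiniteApprox3

/-!
# Data for the finite approximation of a quasi-compact open of an integral scheme (helper73)
-/

set_option autoImplicit false

open CategoryTheory CategoryTheory.Limits AlgebraicGeometry TopologicalSpace Opposite

universe u

namespace Groth.Agent.H73.FiniteApprox

/-- A quasi-compact open inside an affine open is covered by finitely many basic opens
contained in it. -/
theorem exists_finset_basicOpen {N : Scheme.{u}} (NU : N.Opens) (hNU : IsAffineOpen NU)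
    (W : N.Opens) (hc : IsCompact ((W ⊓ NU : N.Opens) : Set N)) :
    ∃ Bs : Finset Γ(N, NU), (∀ b ∈ Bs, N.basicOpen b ≤ W) ∧
      (W ⊓ NU ≤ ⨆ b ∈ Bs, N.basicOpen b) := by
  classical
  have hcov : ((W ⊓ NU : N.Opens) : Set N) ⊆
      ⋃ b : {b : Γ(N, NU) // N.basicOpen b ≤ W}, ((N.basicOpen b.1 : N.Opens) : Set N) := by
    intro x hx
    obtain ⟨b, hb1, hb2⟩ := hNU.exists_basicOpen_le (V := W) ⟨x, hx.1⟩ hx.2
    exact Set.mem_iUnion.mpr ⟨⟨b, hb1⟩, hb2⟩
  obtain ⟨s, hs⟩ := hc.elim_finite_subcover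
    (fun b : {b : Γ(N, NU) // N.basicOpen b ≤ W} => ((N.basicOpen b.1 : N.Opens) : Set N))
    (fun b => (N.basicOpen b.1).2) hcov
  refine ⟨s.image Subtype.val, ?_, ?_⟩
  · intro b hb
    obtain ⟨b', _, rfl⟩ := Finset.mem_image.mp hb
    exact b'.2
  · intro x hx
    obtain ⟨b, hb, hxb⟩ := Set.mem_iUnion₂.mp (hs hx)
    simp only [Opens.mem_iSup]
    exact ⟨b.1, Finset.mem_image_of_mem _ hb, hxb⟩

/-- Finite type of the localization at `b` from finite type of `W → S`. -/
theorem finiteType_localization_away {N S : Scheme.{u}} (fn : N ⟶ S) (W : N.Opens)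
    [LocallyOfFiniteType (W.ι ≫ fn)] (U : S.Opens) (hU : IsAffineOpen U)
    (hNU : IsAffineOpen (fn ⁻¹ᵁ U)) (b : Γ(N, fn ⁻¹ᵁ U)) (hb : N.basicOpen b ≤ W) :
    ((algebraMap Γ(N, fn ⁻¹ᵁ U) (Localization.Away b)).comp (fn.app U).hom).FiniteType := by
  have hD : IsAffineOpen (N.basicOpen b) := hNU.basicOpen b
  -- the open of W corresponding to D(b)
  have hV' : IsAffineOpen (W.ι ⁻¹ᵁ N.basicOpen b) := by
    have h1 : W.ι ''ᵁ (W.ι ⁻¹ᵁ N.basicOpen b) = N.basicOpen b := by
      rw [Scheme.Hom.image_preimage_eq_opensRange_inf, Scheme.Opens.opensRange_ι]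
      exact inf_eq_right.mpr hb
    rw [← Scheme.Hom.isAffineOpen_iff_of_isOpenImmersion W.ι, h1]
    exact hD
  have e1 : W.ι ⁻¹ᵁ N.basicOpen b ≤ (W.ι ≫ fn) ⁻¹ᵁ U := by
    intro x hx
    exact N.basicOpen_le b hx
  have hft := LocallyOfFiniteType.finiteType_appLE (f := W.ι ≫ fn) hU hV' e1
  have h2 : (W.ι ≫ fn).appLE U (W.ι ⁻¹ᵁ N.basicOpen b) e1 =
      fn.appLE U (N.basicOpen b) (N.basicOpen_le b) ≫ W.ι.app (N.basicOpen b) := by
    rw [Scheme.Hom.app_eq_appLE, Scheme.Hom.appLE_comp_appLE]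
  haveI : IsIso (W.ι.app (N.basicOpen b)) := by
    have : N.basicOpen b ≤ W.ι.opensRange := by rw [Scheme.Opens.opensRange_ι]; exact hb
    exact Scheme.Hom.isIso_app W.ι _ this
  rw [h2, CommRingCat.hom_comp, RingHom.finiteType_respectsIso.cancel_right_isIso] at hft
  -- compare with the localization
  let aD : Algebra Γ(N, fn ⁻¹ᵁ U) Γ(N, N.basicOpen b) :=
    (N.presheaf.map (homOfLE (N.basicOpen_le b)).op).hom.toAlgebra
  have hloc : IsLocalization.Away b Γ(N, N.basicOpen b) := hNU.isLocalization_basicOpen b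
  let e : Γ(N, N.basicOpen b) ≃ₐ[Γ(N, fn ⁻¹ᵁ U)] Localization.Away b :=
    IsLocalization.algEquiv (Submonoid.powers b) _ _
  have h3 : (algebraMap Γ(N, fn ⁻¹ᵁ U) (Localization.Away b)).comp (fn.app U).hom =
      (e : Γ(N, N.basicOpen b) →+* Localization.Away b).comp
        (fn.appLE U (N.basicOpen b) (N.basicOpen_le b)).hom := by
    ext r
    simp only [RingHom.comp_apply]
    have h4 : (fn.appLE U (N.basicOpen b) (N.basicOpen_le b)).hom r =
        algebraMap Γ(N, fn ⁻¹ᵁ U) Γ(N, N.basicOpen b) ((fn.app U).hom r) := by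
      rw [Scheme.Hom.appLE]
      rfl
    rw [h4]
    exact (e.commutes _).symm
  rw [h3]
  exact (RingHom.FiniteType.of_surjective _ e.surjective).comp hft

end Groth.Agent.H73.FiniteApprox
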