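import Mathlib
import Groth.Agent.H73.FiniteApprox2
import Groth.Agent.H73.FiniteApprox4

/-!
# Zariski's main theorem, finite form: the approximation step (helper73)

A quasi-compact open `W` of a scheme `N` integral over a qcqs scheme `S`, with `W → S` locally of
finite type, is an open subscheme of a scheme finite over `S`.
-/

set_option autoImplicit false

open CategoryTheory CategoryTheory.Limits AlgebraicGeometry TopologicalSpace Opposite

universe u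

namespace Groth.Agent.H73.FiniteApprox

theorem exists_finite_openImmersion {N S : Scheme.{u}} [CompactSpace S] [QuasiSeparatedSpace S]
    (fn : N ⟶ S) [IsIntegralHom fn] (W : N.Opens)
    (hWc : ∀ U : S.affineOpens, IsCompact ((W ⊓ fn ⁻¹ᵁ U.1 : N.Opens) : Set N))
    [LocallyOfFiniteType (W.ι ≫ fn)] :
    ∃ (T : Scheme.{u}) (π : T ⟶ S) (m : N ⟶ T), IsFinite π ∧ m ≫ π = fn ∧
      IsOpenImmersion (W.ι ≫ m) := by
  classical
  have hNU : ∀ U : S.affineOpens, IsAffineOpen (fn ⁻¹ᵁ U.1) := fun U => U.2.preimage fn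
  -- Step 1: basic opens
  choose Bs hBs1 hBs2 using fun U : S.affineOpens =>
    exists_finset_basicOpen (fn ⁻¹ᵁ U.1) (hNU U) W (hWc U)
  -- Step 2: saturating sets
  have hex : ∀ (U : S.affineOpens) (b : Γ(N, fn ⁻¹ᵁ U.1)), ∃ C : Finset Γ(N, fn ⁻¹ᵁ U.1),
      N.basicOpen b ≤ W → ∀ B' : Subring Γ(N, fn ⁻¹ᵁ U.1), (∀ r, (fn.app U.1).hom r ∈ B') →
        b ∈ B' → (↑C : Set Γ(N, fn ⁻¹ᵁ U.1)) ⊆ B' → ∀ x, ∃ n : ℕ, b ^ n * x ∈ B' := by
    intro U b
    by_cases hb : N.basicOpen b ≤ W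
    · obtain ⟨C, hC⟩ := exists_finset_saturating (fn.app U.1).hom b
        (finiteType_localization_away fn W U.1 U.2 (hNU U) b hb)
      exact ⟨C, fun _ => hC⟩
    · exact ⟨∅, fun h => (hb h).elim⟩
  choose Cs hCs using hex
  -- Step 3: the finite sets of sections and the finite affine cover
  let t : ∀ U : S.affineOpens, Finset Γ(N, fn ⁻¹ᵁ U.1) := fun U =>
    Bs U ∪ (Bs U).biUnion (Cs U)
  obtain ⟨Scov, hSfin, hScov⟩ := (isCompact_and_isOpen_iff_finite_and_eq_biUnion_affineOpens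
    (X := S) (U := Set.univ)).mp ⟨isCompact_univ, isOpen_univ⟩
  -- Step 4: the finite approximation
  obtain ⟨T, π, m, w, hfin, hinj, hrange⟩ :=
    exists_finite_factorization fn t hSfin.toFinset.toList
  refine ⟨T, π, m, hfin, w, ?_⟩
  subst w
  -- simplify appLE to app
  have happ : ∀ U : S.Opens, m.appLE (π ⁻¹ᵁ U) ((m ≫ π) ⁻¹ᵁ U)
      (by rw [← Scheme.Hom.comp_preimage]) = m.app (π ⁻¹ᵁ U) := fun U =>
    Scheme.Hom.appLE_eq_app ..
  have hinj' : ∀ U : S.affineOpens, Function.Injective (m.app (π ⁻¹ᵁ U.1)).hom := by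
    intro U
    have := hinj U.1 U.2
    rwa [happ] at this
  have hrange' : ∀ U : S.affineOpens, U ∈ Scov → ∀ x ∈ t U,
      ∃ y : Γ(T, π ⁻¹ᵁ U.1), (m.app (π ⁻¹ᵁ U.1)).hom y = x := by
    intro U hU x hx
    have := hrange U (Finset.mem_toList.mpr (hSfin.mem_toFinset.mpr hU)) x hx
    rw [happ] at this
    exact this
  -- the index type
  let κ : Type u := Σ U : {U : S.affineOpens // U ∈ Scov}, {b // b ∈ Bs U.1}
  have hb't : ∀ k : κ, (k.2.1 : Γ(N, (m ≫ π) ⁻¹ᵁ k.1.1.1)) ∈ t k.1.1 := fun k =>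
    Finset.mem_union_left _ k.2.2
  choose b' hb' using fun k : κ => hrange' k.1.1 k.1.2 k.2.1 (hb't k)
  let D : κ → T.Opens := fun k => T.basicOpen (b' k)
  have hpre : ∀ k : κ, m ⁻¹ᵁ (D k) = N.basicOpen (k.2.1 : Γ(N, (m ≫ π) ⁻¹ᵁ k.1.1.1)) := by
    intro k
    simp only [D]
    rw [Scheme.preimage_basicOpen, hb']
    rfl
  refine isOpenImmersion_of_isIso_restrict m W D ?_ ?_ ?_
  · intro k
    rw [hpre]
    exact hBs1 k.1.1 k.2.1 k.2.2
  · intro x hx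
    have hx' : (m ≫ π).base x ∈ (Set.univ : Set S) := trivial
    rw [hScov] at hx'
    obtain ⟨U, hU, hxU⟩ := Set.mem_iUnion₂.mp hx'
    have h1 : x ∈ W ⊓ (m ≫ π) ⁻¹ᵁ U.1 := ⟨hx, hxU⟩
    have h2 := hBs2 U h1
    simp only [Opens.mem_iSup] at h2
    obtain ⟨b, hb, hxb⟩ := h2
    simp only [Opens.mem_iSup]
    refine ⟨⟨⟨U, hU⟩, ⟨b, hb⟩⟩, ?_⟩
    rw [hpre]
    exact hxb
  · intro k
    have hTU : IsAffineOpen (π ⁻¹ᵁ k.1.1.1) := k.1.1.2.preimage π
    have hNU' : IsAffineOpen (m ⁻¹ᵁ (π ⁻¹ᵁ k.1.1.1)) := hNU k.1.1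
    refine isIso_morphismRestrict_of_bijective m (D k) (hTU.basicOpen _) ?_ ?_
    · rw [hpre]
      exact (hNU k.1.1).basicOpen _
    · refine app_basicOpen_bijective' m (π ⁻¹ᵁ k.1.1.1) hTU hNU' (b' k) (hinj' k.1.1) ?_
      intro x
      rw [hb']
      have hsat := hCs k.1.1 k.2.1 (hBs1 k.1.1 k.2.1 k.2.2) (m.app (π ⁻¹ᵁ k.1.1.1)).hom.range ?_
        ⟨b' k, hb' k⟩ ?_ x
      · obtain ⟨n, y, hy⟩ := hsat
        exact ⟨n, y, hy.symm⟩
      · intro r
        refine ⟨(π.app k.1.1.1).hom r, ?_⟩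
        rw [← RingHom.comp_apply, ← CommRingCat.hom_comp, ← Scheme.Hom.comp_app]
        rfl
      · intro c hc
        have hct : c ∈ t k.1.1 :=
          Finset.mem_union_right _ (Finset.mem_biUnion.mpr ⟨k.2.1, k.2.2, hc⟩)
        obtain ⟨y, hy⟩ := hrange' k.1.1 k.1.2 c hct
        exact ⟨y, hy⟩

end Groth.Agent.H73.FiniteApprox
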