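import Mathlib

set_option autoImplicit false
universe u

open AlgebraicGeometry CategoryTheory Limits TopologicalSpace

namespace Groth.Agent.H73.FiniteExt

/-- If `j ≫ π = v ≫ U.ι` with `v` universally closed and `π` separated, then the range of `j`
is closed in `π⁻¹ U`. -/
theorem mem_range_of_mem_closure {V T S : Scheme.{u}} (U : S.Opens) (v : V ⟶ (U : Scheme.{u}))
    [UniversallyClosed v] (j : V ⟶ T) (π : T ⟶ S) [IsSeparated π]
    (hfac : j ≫ π = v ≫ U.ι) (y : T) (hy : y ∈ closure (Set.range j)) (hyU : π y ∈ U) :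
    y ∈ Set.range j := by
  let l : V ⟶ pullback π U.ι := pullback.lift j v hfac
  have hl1 : l ≫ pullback.fst π U.ι = j := pullback.lift_fst _ _ _
  have hl2 : l ≫ pullback.snd π U.ι = v := pullback.lift_snd _ _ _
  have : UniversallyClosed (l ≫ pullback.snd π U.ι) := by rw [hl2]; infer_instance
  have hlc : UniversallyClosed l := UniversallyClosed.of_comp_of_isSeparated l (pullback.snd π U.ι)
  have hcl : IsClosed (Set.range l) := l.isClosedMap.isClosed_range
  obtain ⟨p, hp1, -⟩ := Scheme.Pullback.exists_preimage_pullback (f := π) (g := U.ι) y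
    ⟨π y, hyU⟩ rfl
  have hemb : Topology.IsEmbedding (pullback.fst π U.ι) :=
    (pullback.fst π U.ι).isOpenEmbedding.isEmbedding
  have hp : p ∈ closure (Set.range l) := by
    rw [hemb.closure_eq_preimage_closure_image]
    show (pullback.fst π U.ι) p ∈ closure (⇑(pullback.fst π U.ι) '' Set.range ⇑l)
    rw [hp1, ← Set.range_comp]
    have : (⇑(pullback.fst π U.ι) ∘ ⇑l) = ⇑j := by
      rw [← hl1]; rfl
    rw [this]
    exact hy
  rw [hcl.closure_eq] at hp
  obtain ⟨x, rfl⟩ := hp
  exact ⟨x, by rw [← hp1, ← Scheme.Hom.comp_apply, hl1]⟩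

end Groth.Agent.H73.FiniteExt
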