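import Groth.Agent.S0385
import Groth.Agent.H73.FiniteExt

set_option autoImplicit false
universe u

open AlgebraicGeometry CategoryTheory Limits

namespace Groth.Agent.H73.FiniteExt

/-- A finite morphism over a quasi-compact open of a qcqs scheme extends to a finite morphism
over the whole scheme (no surjectivity). -/
theorem exists_finite_extension {S V : Scheme.{u}} [CompactSpace ↑S] [QuasiSeparatedSpace ↑S]
    (U : S.Opens) (hU : IsCompact (U : Set ↑S))
    (v : V ⟶ (U : Scheme.{u})) [IsFinite v] :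
    ∃ (V' : Scheme.{u}) (π : V' ⟶ S) (i : V ⟶ V'), IsFinite π ∧ IsPullback i v π U.ι := by
  have hcU : CompactSpace (U : Scheme.{u}) := isCompact_iff_compactSpace.mp hU
  have hqc : QuasiCompact U.ι := quasiCompact_of_compactSpace _
  obtain ⟨T, j, π, hj, hjc, hπ, hfac⟩ := Groth.Agent.S0385.result (v ≫ U.ι)
  let c : j.image ⟶ T := j.imageι
  have hcomm : j.toImage ≫ (c ≫ π) = v ≫ U.ι := by
    rw [Scheme.Hom.toImage_imageι_assoc, hfac]
  refine ⟨j.image, c ≫ π, j.toImage, inferInstance, ?_⟩
  refine (IsOpenImmersion.isPullback v j.toImage U.ι _ hcomm ?_).flip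
  rw [Scheme.Opens.opensRange_ι]
  apply le_antisymm
  · intro t hy
    have hy' : π (c t) ∈ U := by
      have : (c ≫ π) t = π (c t) := by rw [Scheme.Hom.comp_apply]
      rw [← this]; exact hy
    have hcl : c t ∈ closure (Set.range j) := by
      rw [← Scheme.Hom.support_ker]
      have : c t ∈ Set.range c := ⟨t, rfl⟩
      rwa [Scheme.IdealSheafData.range_subschemeι] at this
    obtain ⟨x, hx⟩ := mem_range_of_mem_closure U v j π hfac (c t) hcl hy'
    refine ⟨x, ?_⟩
    apply c.isEmbedding.injective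
    rw [← hx, ← Scheme.Hom.comp_apply, Scheme.Hom.toImage_imageι]
  · rintro _ ⟨x, rfl⟩
    show (c ≫ π) (j.toImage x) ∈ U
    rw [← Scheme.Hom.comp_apply, hcomm, Scheme.Hom.comp_apply]
    exact (v x).2

end Groth.Agent.H73.FiniteExt
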