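import Mathlib.AlgebraicGeometry.AffineScheme
import Mathlib.RingTheory.Ideal.Operations

/-!
# Finitely many points of an open subset of an affine open lie in a basic open (prime avoidance)
-/

set_option autoImplicit false
universe u

open CategoryTheory AlgebraicGeometry

namespace Groth.Agent.H73.FinitePts

theorem mem_basicOpen_iff {X : Scheme.{u}} {U : X.Opens} (hU : IsAffineOpen U) (h : Γ(X, U))
    (x : X) (hx : x ∈ U) :
    x ∈ X.basicOpen h ↔ h ∉ (hU.primeIdealOf ⟨x, hx⟩).asIdeal := by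
  have h1 : hU.fromSpec (hU.primeIdealOf ⟨x, hx⟩) = x := hU.fromSpec_primeIdealOf ⟨x, hx⟩
  have h2 : (hU.primeIdealOf ⟨x, hx⟩) ∈ hU.fromSpec ⁻¹ᵁ X.basicOpen h ↔ x ∈ X.basicOpen h := by
    show hU.fromSpec (hU.primeIdealOf ⟨x, hx⟩) ∈ X.basicOpen h ↔ _
    rw [h1]
  rw [← h2, hU.fromSpec_preimage_basicOpen]
  rfl

theorem exists_basicOpen_le_of_finite {X : Scheme.{u}} {U : X.Opens} (hU : IsAffineOpen U)
    (O : X.Opens) (s : Set X) (hs : s.Finite) (hsU : s ⊆ U) (hsO : s ⊆ O) :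
    ∃ h : Γ(X, U), (∀ x ∈ s, x ∈ X.basicOpen h) ∧ X.basicOpen h ≤ O := by
  classical
  by_cases hne : s = ∅
  · subst hne
    refine ⟨0, fun x hx => absurd hx (Set.notMem_empty x), ?_⟩
    rw [Scheme.basicOpen_zero]
    exact bot_le
  obtain ⟨a₀, ha₀⟩ := Set.nonempty_iff_ne_empty.mpr hne
  let C : Set (PrimeSpectrum Γ(X, U)) := {p | hU.fromSpec p ∉ O}
  have hC : IsClosed C := (hU.fromSpec ⁻¹ᵁ O).isOpen.isClosed_compl
  let I : Ideal Γ(X, U) := PrimeSpectrum.vanishingIdeal C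
  have hI : PrimeSpectrum.zeroLocus (I : Set Γ(X, U)) = C := by
    rw [PrimeSpectrum.zeroLocus_vanishingIdeal_eq_closure, hC.closure_eq]
  haveI : Fintype s := hs.fintype
  let fI : s → Ideal Γ(X, U) := fun x => (hU.primeIdealOf ⟨x.1, hsU x.2⟩).asIdeal
  have hnot : ¬ ((I : Set Γ(X, U)) ⊆ ⋃ i ∈ ((Finset.univ : Finset s) : Set s), fI i) := by
    rw [Ideal.subset_union_prime (⟨a₀, ha₀⟩ : s) ⟨a₀, ha₀⟩
      (fun i _ _ _ => (hU.primeIdealOf ⟨i.1, hsU i.2⟩).isPrime)]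
    rintro ⟨i, -, hi⟩
    have h1 : hU.primeIdealOf ⟨i.1, hsU i.2⟩ ∈ PrimeSpectrum.zeroLocus (I : Set Γ(X, U)) := hi
    rw [hI] at h1
    apply h1
    show hU.fromSpec (hU.primeIdealOf ⟨i.1, hsU i.2⟩) ∈ O
    rw [hU.fromSpec_primeIdealOf]
    exact hsO i.2
  rw [Set.not_subset] at hnot
  obtain ⟨h, hhI, hh⟩ := hnot
  refine ⟨h, ?_, ?_⟩
  · intro x hx
    rw [mem_basicOpen_iff hU h x (hsU hx)]
    intro hmem
    apply hh
    simp only [Set.mem_iUnion]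
    exact ⟨⟨x, hx⟩, Finset.mem_coe.mpr (Finset.mem_univ _), hmem⟩
  · intro x hx
    have hxU : x ∈ U := X.basicOpen_le h hx
    rw [mem_basicOpen_iff hU h x hxU] at hx
    have h1 : hU.primeIdealOf ⟨x, hxU⟩ ∉ C := by
      rw [← hI]
      intro hz
      exact hx (hz hhI)
    have h3 : hU.fromSpec (hU.primeIdealOf ⟨x, hxU⟩) ∈ O := by
      by_contra hn
      exact h1 hn
    rw [hU.fromSpec_primeIdealOf] at h3
    exact h3

end Groth.Agent.H73.FinitePts
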