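import Mathlib

/-!
# Closed subfunctor cut out by "the pullback of `P` lands in a closed `E ⊆ P`"
(local part: `P → Y` affine, free over an affine open `V ⊆ Y`).
-/

set_option autoImplicit false
universe u
open CategoryTheory CategoryTheory.Limits AlgebraicGeometry TensorProduct Opposite

namespace Groth.Agent.H73.FixLoc

section algebra

theorem tmul_eq_zero_iff {B A C : Type u} [CommRing B] [CommRing A] [CommRing C] [Algebra B A]
    [Algebra B C] {ι : Type*} (b : Module.Basis ι B A) (x : A) :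
    ((1 : C) ⊗ₜ[B] x = 0) ↔ ∀ i, algebraMap B C (b.repr x i) = 0 := by
  constructor
  · intro h i
    have := congrArg (fun z => (b.baseChange C).repr z i) h
    simpa [Module.Basis.baseChange_repr_tmul, Algebra.algebraMap_eq_smul_one] using this
  · intro h
    apply (b.baseChange C).repr.injective
    ext i
    simp [Module.Basis.baseChange_repr_tmul, ← Algebra.algebraMap_eq_smul_one, h i]

end algebra

variable {P Y E : Scheme.{u}} (π : P ⟶ Y) (ι : E ⟶ P)

/-- every square over `y` lands in `E` -/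
def Phi {T : Scheme.{u}} (y : T ⟶ Y) : Prop :=
  ∀ (P' : Scheme.{u}) (g : P' ⟶ P) (p' : P' ⟶ T), g ≫ π = p' ≫ y → ∃ h : P' ⟶ E, h ≫ ι = g

variable {π ι} in
theorem Phi.comp {T T' : Scheme.{u}} {y : T ⟶ Y} (h : Phi π ι y) (t : T' ⟶ T) :
    Phi π ι (t ≫ y) := by
  intro P' g p' hc
  exact h P' g (p' ≫ t) (by rw [hc, Category.assoc])

variable {π ι} in
theorem Phi.congr {T : Scheme.{u}} {y y' : T ⟶ Y} (h : Phi π ι y) (e : y = y') :
    Phi π ι y' := e ▸ h

/-- `Phi` can be tested on a pullback square. -/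
theorem phi_iff_of_isPullback {T Q : Scheme.{u}} {y : T ⟶ Y} {g : Q ⟶ P} {q : Q ⟶ T}
    (sq : IsPullback g q π y) : Phi π ι y ↔ ∃ h : Q ⟶ E, h ≫ ι = g := by
  constructor
  · intro h; exact h Q g q sq.w
  · rintro ⟨h, hh⟩ P' g' p' hc
    refine ⟨sq.lift g' p' hc ≫ h, ?_⟩
    rw [Category.assoc, hh, sq.lift_fst]

end Groth.Agent.H73.FixLoc
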