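import Mathlib

/-!
# Finite presentation of equalizer inclusions; kernels of finitely presented closed immersions
-/

set_option autoImplicit false
universe u
open CategoryTheory CategoryTheory.Limits AlgebraicGeometry Opposite

namespace Groth.Agent.H73.FixLoc

/-- `f ≫ g` locally of finite presentation and `g` locally of finite type imply `f` locally of
finite presentation. -/
theorem lfp_of_comp {X Y Z : Scheme.{u}} {f : X ⟶ Y} {g : Y ⟶ Z} (hg : LocallyOfFiniteType g)
    (h : LocallyOfFinitePresentation (f ≫ g)) : LocallyOfFinitePresentation f := by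
  have : IsZariskiLocalAtTarget @LocallyOfFinitePresentation.{u} :=
    HasRingHomProperty.instIsZariskiLocalAtTarget _
  have : IsZariskiLocalAtSource @LocallyOfFinitePresentation.{u} :=
    HasRingHomProperty.instIsZariskiLocalAtSource
  wlog hZ : IsAffine Z generalizing X Y Z
  · rw [IsZariskiLocalAtTarget.iff_of_iSup_eq_top (P := @LocallyOfFinitePresentation) _
      (g.iSup_preimage_eq_top (iSup_affineOpens_eq_top Z))]
    intro U
    have H := IsZariskiLocalAtTarget.restrict h U.1
    rw [morphismRestrict_comp] at H
    exact this (g := g ∣_ U.1) inferInstance H U.2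
  wlog hY : IsAffine Y generalizing X Y
  · rw [IsZariskiLocalAtTarget.iff_of_iSup_eq_top (P := @LocallyOfFinitePresentation) _
      (iSup_affineOpens_eq_top Y)]
    intro U
    have H : LocallyOfFinitePresentation ((f ⁻¹ᵁ U.1).ι ≫ f ≫ g) := inferInstance
    rw [← morphismRestrict_ι_assoc] at H
    exact this (g := U.1.ι ≫ g) inferInstance H U.2
  wlog hX : IsAffine X generalizing X
  · rw [IsZariskiLocalAtSource.iff_of_iSup_eq_top (P := @LocallyOfFinitePresentation) _
      (iSup_affineOpens_eq_top X)]
    intro U
    have H : LocallyOfFinitePresentation (U.1.ι ≫ f ≫ g) := inferInstance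
    rw [← Category.assoc] at H
    exact this H U.2
  rw [HasRingHomProperty.iff_of_isAffine (P := @LocallyOfFinitePresentation)] at h ⊢
  have hg' : g.appTop.hom.FiniteType :=
    (HasRingHomProperty.iff_of_isAffine (P := @LocallyOfFiniteType)).mp hg
  rw [Scheme.Hom.comp_appTop] at h
  exact RingHom.FinitePresentation.of_comp_finiteType _ h hg'


set_option backward.isDefEq.respectTransparency false in
theorem lfp_equalizer_ι_left {S : Scheme.{u}} {X Y : Over S} [LocallyOfFiniteType Y.hom]
    (f g : X ⟶ Y) : LocallyOfFinitePresentation (equalizer.ι f g).left := by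
  refine MorphismProperty.of_isPullback
    ((Limits.isPullback_equalizer_prod f g).map (Over.forget _)).flip ?_
  rw [← MorphismProperty.cancel_right_of_respectsIso @LocallyOfFinitePresentation _
    (Over.prodLeftIsoPullback Y Y).hom]
  have hd : LocallyOfFinitePresentation (pullback.diagonal Y.hom) :=
    lfp_of_comp (g := pullback.fst Y.hom Y.hom) inferInstance
      (by rw [pullback.diagonal_fst]; infer_instance)
  convert! hd
  ext1 <;> simp [← Over.comp_left]

/-- the kernel of a finitely presented closed immersion is finitely generated on affine opens -/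
theorem ker_fg {E P : Scheme.{u}} (ι : E ⟶ P) [IsClosedImmersion ι]
    [LocallyOfFinitePresentation ι] (U : P.Opens) (hU : IsAffineOpen U) :
    (RingHom.ker (ι.app U).hom).FG := by
  have hW : IsAffineOpen (ι ⁻¹ᵁ U) := hU.preimage ι
  have h1 : (ι.appLE U (ι ⁻¹ᵁ U) le_rfl).hom.FinitePresentation :=
    HasRingHomProperty.appLE (P := @LocallyOfFinitePresentation) ι inferInstance ⟨U, hU⟩
      ⟨_, hW⟩ le_rfl
  rw [Scheme.Hom.appLE_eq_app] at h1
  have hs : Function.Surjective (ι.app U).hom := ι.app_surjective U hU
  let _ : Algebra Γ(P, U) Γ(E, ι ⁻¹ᵁ U) := (ι.app U).hom.toAlgebra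
  have : Algebra.FinitePresentation Γ(P, U) Γ(E, ι ⁻¹ᵁ U) := h1
  exact Algebra.FinitePresentation.ker_fG_of_surjective (Algebra.ofId Γ(P, U) Γ(E, ι ⁻¹ᵁ U)) hs

end Groth.Agent.H73.FixLoc
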