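import Groth.Agent.H73.WeilLoc3
import Groth.Agent.H73.FinitePtsAffine
import Mathlib.RingTheory.Localization.Free
import Mathlib.RingTheory.Localization.BaseChange
import Mathlib.RingTheory.Finiteness.ModuleFinitePresentation
import Groth.Prelude.Def_Mor2

/-!
# Finite locally free morphisms are Zariski locally finite free
-/

set_option autoImplicit false
universe u

open CategoryTheory CategoryTheory.Limits AlgebraicGeometry Opposite TensorProduct

namespace Groth.Agent.H73.WeilLoc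

/-- transfer of finite freeness along isomorphisms of ring maps -/
theorem hfree_of_iso {A₁ B₁ A₂ B₂ : CommRingCat.{u}} (γ₁ : A₁ ⟶ B₁) (γ₂ : A₂ ⟶ B₂)
    (eA : A₁ ≅ A₂) (eB : B₁ ≅ B₂) (hcomm : γ₁ ≫ eB.hom = eA.hom ≫ γ₂)
    (h : letI := γ₁.hom.toAlgebra
      Module.Finite A₁ B₁ ∧ Module.Free A₁ B₁) :
    letI := γ₂.hom.toAlgebra
    Module.Finite A₂ B₂ ∧ Module.Free A₂ B₂ := by
  letI := γ₁.hom.toAlgebra
  letI := γ₂.hom.toAlgebra
  obtain ⟨h1, h2⟩ := h
  have hc : ∀ a : A₁, eB.hom.hom (γ₁.hom a) = γ₂.hom (eA.hom.hom a) := by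
    intro a
    have := congrArg (fun k => k.hom a) hcomm
    exact this
  constructor
  · refine Module.Finite.of_equiv_equiv eA.commRingCatIsoToRingEquiv eB.commRingCatIsoToRingEquiv ?_
    ext a
    exact (hc a).symm
  · let σ : A₁ →+* A₂ := eA.commRingCatIsoToRingEquiv
    let σ' : A₂ →+* A₁ := eA.commRingCatIsoToRingEquiv.symm
    haveI : RingHomInvPair σ σ' := RingHomInvPair.of_ringEquiv eA.commRingCatIsoToRingEquiv
    haveI : RingHomInvPair σ' σ := RingHomInvPair.of_ringEquiv_symm eA.commRingCatIsoToRingEquiv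
    let e₂ : B₁ ≃ₛₗ[σ] B₂ :=
      { eB.commRingCatIsoToRingEquiv.toAddEquiv with
        map_smul' := fun a x => by
          show eB.hom.hom (γ₁.hom a * x) = γ₂.hom (eA.hom.hom a) * eB.hom.hom x
          rw [map_mul, hc] }
    exact Module.Free.of_equiv e₂


/-- ring-level: a finite flat finitely presented algebra is free after inverting some `r ∉ p` -/
theorem exists_free_away {R M : Type u} [CommRing R] [CommRing M] [Algebra R M]
    [Module.Finite R M] [Module.Flat R M] [Algebra.FinitePresentation R M]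
    (p : Ideal R) [p.IsPrime] :
    ∃ r : R, r ∉ p ∧ Module.Finite (Localization.Away r) (Localization.Away r ⊗[R] M) ∧
      Module.Free (Localization.Away r) (Localization.Away r ⊗[R] M) := by
  haveI : Module.FinitePresentation R M := Module.FinitePresentation.of_finite_of_finitePresentation R M
  haveI : Module.Free (Localization.AtPrime p) (LocalizedModule p.primeCompl M) :=
    Module.free_of_flat_of_isLocalRing
  obtain ⟨r, hr, hfree, -⟩ := Module.FinitePresentation.exists_free_localizedModule_powers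
    p.primeCompl (LocalizedModule.mkLinearMap p.primeCompl M) (Localization.AtPrime p)
  refine ⟨r, hr, inferInstance, ?_⟩
  exact Module.Free.of_equiv (LocalizedModule.equivTensorProduct (Submonoid.powers r) M)


theorem exists_good {Z S : Scheme.{u}} (g : Z ⟶ S) (hg : Mor2.IsFinLocFree g) (s : S) :
    ∃ (V' Z' : Scheme.{u}) (jV : V' ⟶ S) (jZ : Z' ⟶ Z) (g' : Z' ⟶ V'),
      IsOpenImmersion jV ∧ IsAffine V' ∧ IsAffine Z' ∧ IsPullback jZ g' g jV ∧
      (∃ x : V', jV x = s) ∧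
      (letI := (g'.appTop).hom.toAlgebra;
        Module.Finite Γ(V', ⊤) Γ(Z', ⊤) ∧ Module.Free Γ(V', ⊤) Γ(Z', ⊤)) := by
  obtain ⟨hfin, hflat, hfp⟩ := hg
  obtain ⟨_, ⟨V₀, hV₀', rfl⟩, hsV₀, -⟩ :=
    S.isBasis_affineOpens.exists_subset_of_mem_open (Set.mem_univ s) isOpen_univ
  have hV₀ : IsAffineOpen V₀ := hV₀'
  have hW : IsAffineOpen (g ⁻¹ᵁ V₀) := hV₀.preimage g
  let φ : Γ(S, V₀) ⟶ Γ(Z, g ⁻¹ᵁ V₀) := g.appLE V₀ (g ⁻¹ᵁ V₀) le_rfl
  letI : Algebra Γ(S, V₀) Γ(Z, g ⁻¹ᵁ V₀) := φ.hom.toAlgebra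
  haveI : Module.Finite Γ(S, V₀) Γ(Z, g ⁻¹ᵁ V₀) := by
    have := g.finite_app V₀ hV₀
    rw [Scheme.Hom.app_eq_appLE] at this
    exact this
  haveI : Module.Flat Γ(S, V₀) Γ(Z, g ⁻¹ᵁ V₀) := g.flat_appLE hV₀ hW le_rfl
  haveI : Algebra.FinitePresentation Γ(S, V₀) Γ(Z, g ⁻¹ᵁ V₀) :=
    g.finitePresentation_appLE hV₀ hW le_rfl
  let p := hV₀.primeIdealOf ⟨s, hsV₀⟩
  obtain ⟨r, hr, hfin_r, hfree_r⟩ :=
    exists_free_away (R := Γ(S, V₀)) (M := Γ(Z, g ⁻¹ᵁ V₀)) p.asIdeal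
  let A : CommRingCat.{u} := CommRingCat.of (Localization.Away r)
  let B : CommRingCat.{u} := CommRingCat.of (Localization.Away r ⊗[Γ(S, V₀)] Γ(Z, g ⁻¹ᵁ V₀))
  let fA : Γ(S, V₀) ⟶ A := CommRingCat.ofHom (algebraMap Γ(S, V₀) (Localization.Away r))
  let inl : A ⟶ B := CommRingCat.ofHom Algebra.TensorProduct.includeLeftRingHom
  let inr : Γ(Z, g ⁻¹ᵁ V₀) ⟶ B :=
    CommRingCat.ofHom (Algebra.TensorProduct.includeRight :
      Γ(Z, g ⁻¹ᵁ V₀) →ₐ[Γ(S, V₀)] Localization.Away r ⊗[Γ(S, V₀)] Γ(Z, g ⁻¹ᵁ V₀)).toRingHom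
  have hpo : IsPushout fA φ inl inr :=
    CommRingCat.isPushout_tensorProduct Γ(S, V₀) (Localization.Away r) Γ(Z, g ⁻¹ᵁ V₀)
  have hpb1 : IsPullback (Spec.map inr) (Spec.map inl) (Spec.map φ) (Spec.map fA) :=
    (isPullback_SpecMap_of_isPushout fA φ inl inr hpo).flip
  have H : hW.fromSpec ≫ g = Spec.map φ ≫ hV₀.fromSpec :=
    (IsAffineOpen.SpecMap_appLE_fromSpec g hV₀ hW le_rfl).symm
  have hpb2 : IsPullback hW.fromSpec (Spec.map φ) g hV₀.fromSpec :=
    (IsOpenImmersion.isPullback (Spec.map φ) hW.fromSpec hV₀.fromSpec g H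
      (by rw [hV₀.opensRange_fromSpec, hW.opensRange_fromSpec])).flip
  refine ⟨Spec A, Spec B, Spec.map fA ≫ hV₀.fromSpec, Spec.map inr ≫ hW.fromSpec, Spec.map inl,
    inferInstance, inferInstance, inferInstance, hpb1.paste_horiz hpb2, ?_, ?_⟩
  · have hp : p ∈ (Spec.map fA).opensRange := by
      rw [Scheme.Hom.opensRange_localizationAway]
      exact hr
    obtain ⟨q, hq⟩ := hp
    refine ⟨q, ?_⟩
    rw [Scheme.Hom.comp_apply, hq]
    exact hV₀.fromSpec_primeIdealOf ⟨s, hsV₀⟩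
  · apply hfree_of_iso inl (Spec.map inl).appTop (Scheme.ΓSpecIso A).symm (Scheme.ΓSpecIso B).symm
    · exact Scheme.ΓSpecIso_inv_naturality inl
    · have e : (inl.hom.toAlgebra : Algebra A B) =
          (Algebra.TensorProduct.leftAlgebra : Algebra (Localization.Away r)
            (Localization.Away r ⊗[Γ(S, V₀)] Γ(Z, g ⁻¹ᵁ V₀))) := by
        apply Algebra.algebra_ext
        intro a
        rfl
      rw [e]
      exact ⟨hfin_r, hfree_r⟩

end Groth.Agent.H73.WeilLoc
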