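import Groth.Agent.H73.FixLoc5
import Groth.Agent.H73.WeilLoc4

/-!
# From abstract affine charts to `FixLoc.Good`
-/

set_option autoImplicit false
universe u
open CategoryTheory CategoryTheory.Limits AlgebraicGeometry Opposite

namespace Groth.Agent.H73.FixLoc

theorem isIso_appLE_top {X Y : Scheme.{u}} (f : X ⟶ Y) [IsOpenImmersion f] (U : Y.Opens)
    (hU : f ''ᵁ ⊤ = U) (e : ⊤ ≤ f ⁻¹ᵁ U) : IsIso (f.appLE U ⊤ e) := by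
  subst hU
  rw [← Scheme.Hom.appIso_hom']
  infer_instance

theorem appLE_congr_hom {X Y : Scheme.{u}} {f g : X ⟶ Y} (h : f = g) (U : Y.Opens) (V : X.Opens)
    (e : V ≤ f ⁻¹ᵁ U) : f.appLE U V e = g.appLE U V (h ▸ e) := by
  subst h; rfl

theorem appTop_eq_appLE {X Y : Scheme.{u}} (f : X ⟶ Y) (e : (⊤ : X.Opens) ≤ f ⁻¹ᵁ ⊤) :
    f.appTop = f.appLE ⊤ ⊤ e := by
  simp only [Scheme.Hom.appLE, Scheme.Hom.appTop]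
  erw [CategoryTheory.Functor.map_id, Category.comp_id]

theorem finite_free_of_chart {P Y P' V' : Scheme.{u}} (π : P ⟶ Y) (jV : V' ⟶ Y) (jP : P' ⟶ P)
    (π' : P' ⟶ V') [IsOpenImmersion jV] (sq : IsPullback jP π' π jV)
    (h : letI := π'.appTop.hom.toAlgebra
      Module.Finite Γ(V', ⊤) Γ(P', ⊤) ∧ Module.Free Γ(V', ⊤) Γ(P', ⊤)) :
    letI := (π.app (jV ''ᵁ ⊤)).hom.toAlgebra
    Module.Finite Γ(Y, jV ''ᵁ ⊤) Γ(P, π ⁻¹ᵁ (jV ''ᵁ ⊤)) ∧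
      Module.Free Γ(Y, jV ''ᵁ ⊤) Γ(P, π ⁻¹ᵁ (jV ''ᵁ ⊤)) := by
  have : IsOpenImmersion jP := MorphismProperty.of_isPullback (P := @IsOpenImmersion) sq.flip
    inferInstance
  have himg : jP ''ᵁ ⊤ = π ⁻¹ᵁ (jV ''ᵁ ⊤) :=
    IsOpenImmersion.image_preimage_eq_preimage_image_of_isPullback sq.flip ⊤
  have eV : (⊤ : V'.Opens) ≤ jV ⁻¹ᵁ (jV ''ᵁ ⊤) := (jV.preimage_image_eq ⊤).ge
  have eP : (⊤ : P'.Opens) ≤ jP ⁻¹ᵁ (π ⁻¹ᵁ (jV ''ᵁ ⊤)) := by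
    rw [← himg]; exact (jP.preimage_image_eq ⊤).ge
  have i1 : IsIso (jV.appLE (jV ''ᵁ ⊤) ⊤ eV) := isIso_appLE_top jV _ rfl eV
  have i2 : IsIso (jP.appLE (π ⁻¹ᵁ (jV ''ᵁ ⊤)) ⊤ eP) := isIso_appLE_top jP _ himg eP
  refine WeilLoc.hfree_of_iso π'.appTop (π.app (jV ''ᵁ ⊤))
    (asIso (jV.appLE (jV ''ᵁ ⊤) ⊤ eV)).symm (asIso (jP.appLE (π ⁻¹ᵁ (jV ''ᵁ ⊤)) ⊤ eP)).symm ?_ h
  change π'.appTop ≫ inv (jP.appLE (π ⁻¹ᵁ (jV ''ᵁ ⊤)) ⊤ eP) =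
    inv (jV.appLE (jV ''ᵁ ⊤) ⊤ eV) ≫ π.app (jV ''ᵁ ⊤)
  rw [IsIso.comp_inv_eq, Category.assoc, IsIso.eq_inv_comp]
  rw [← Scheme.Hom.appLE_eq_app (f := π), Scheme.Hom.appLE_comp_appLE,
    appTop_eq_appLE π' (le_of_eq (by simp)), Scheme.Hom.appLE_comp_appLE]
  exact (appLE_congr_hom sq.w _ _ _).symm

end Groth.Agent.H73.FixLoc
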