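import Groth.Agent.H73.FixLoc6
import Groth.Agent.H73.FixLoc9
import Groth.Agent.H73.FixLoc8
import Groth.Prelude.Def_Mor2

/-!
# Finite presentation of the closed subscheme of `FixLoc.exists_closed`
-/

set_option autoImplicit false
universe u
open CategoryTheory CategoryTheory.Limits AlgebraicGeometry TensorProduct Opposite

namespace Groth.Agent.H73.FixLoc

variable {P Y E : Scheme.{u}} (π : P ⟶ Y) (ι : E ⟶ P)

/-- good opens from finite local freeness -/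
theorem exists_good_fin (hπ : Mor2.IsFinLocFree π) (y : Y) :
    ∃ j : Good π, y ∈ j.V ∧
      @Module.Finite Γ(Y, j.V) Γ(P, π ⁻¹ᵁ j.V) _ _ (π.app j.V).hom.toAlgebra.toModule := by
  obtain ⟨V', Z', jV, jZ, g', hjV, hV', hZ', sq, ⟨x, hx⟩, hff⟩ := WeilLoc.exists_good π hπ y
  have h := finite_free_of_chart π jV jZ g' sq hff
  refine ⟨⟨jV ''ᵁ ⊤, (isAffineOpen_top V').image_of_isOpenImmersion jV, h.2⟩, ?_, h.1⟩
  exact ⟨x, trivial, hx⟩

/-- finite generation of the coordinate ideal -/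
theorem coordIdeal_fg (V : Y.Opens)
    (hfree : @Module.Free Γ(Y, V) Γ(P, π ⁻¹ᵁ V) _ _ (π.app V).hom.toAlgebra.toModule)
    (hfin : @Module.Finite Γ(Y, V) Γ(P, π ⁻¹ᵁ V) _ _ (π.app V).hom.toAlgebra.toModule)
    (hker : (RingHom.ker (ι.app (π ⁻¹ᵁ V)).hom).FG) : (coordIdeal π ι V hfree).FG := by
  classical
  let _ : Algebra Γ(Y, V) Γ(P, π ⁻¹ᵁ V) := (π.app V).hom.toAlgebra
  let b := Module.Free.chooseBasis Γ(Y, V) Γ(P, π ⁻¹ᵁ V)
  obtain ⟨s, hs⟩ := hker
  let gen : Finset Γ(Y, V) :=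
    (Finset.univ ×ˢ s ×ˢ Finset.univ).image fun t => b.repr (b t.1 * t.2.1) t.2.2
  refine ⟨gen, ?_⟩
  apply le_antisymm
  · rw [Ideal.span_le]
    intro r hr
    obtain ⟨⟨k, x, i⟩, hm, rfl⟩ := Finset.mem_image.mp hr
    simp only [Finset.mem_product, Finset.mem_univ, true_and, and_true] at hm
    apply Ideal.subset_span
    refine ⟨b k * x, ?_, i, rfl⟩
    apply Ideal.mul_mem_left
    rw [← hs]
    exact Ideal.subset_span hm
  · unfold coordIdeal
    rw [Ideal.span_le]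
    rintro r ⟨x, hx, i, rfl⟩
    rw [← hs] at hx
    obtain ⟨f, -, rfl⟩ := (Submodule.mem_span_finset).mp hx
    have hexp : ∀ l : Γ(P, π ⁻¹ᵁ V), f l • l = ∑ k, b.repr (f l) k • (b k * l) := by
      intro l
      conv_lhs => rw [← b.sum_repr (f l)]
      rw [Finset.sum_smul]
      apply Finset.sum_congr rfl
      intro k _
      rw [smul_eq_mul, smul_mul_assoc]
    simp_rw [hexp, map_sum, map_smul, Finsupp.coe_finsetSum, Finset.sum_apply,
      Finsupp.smul_apply, smul_eq_mul]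
    apply Ideal.sum_mem
    intro l hl
    apply Ideal.sum_mem
    intro k _
    apply Ideal.mul_mem_left
    apply Ideal.subset_span
    apply Finset.mem_image.mpr
    exact ⟨⟨k, l, i⟩, by simp [hl], rfl⟩


variable [IsAffineHom π] [IsClosedImmersion ι]

/-- local structure of the representing closed subscheme -/
theorem restrict_eq {Z : Scheme.{u}} (i : Z ⟶ Y) [Mono i]
    (key : ∀ (T : Scheme.{u}) (y : T ⟶ Y), Phi π ι y ↔ ∃ z : T ⟶ Z, z ≫ i = y) (j : Good π) :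
    ∃ (w : (i ⁻¹ᵁ j.V).toScheme ⟶ ZV π ι j.V j.free), IsIso w ∧
      i ∣_ j.V = w ≫ qV π ι j.V j.free ≫ j.aff.isoSpec.inv := by
  have hi : Phi π ι i := (key Z i).mpr ⟨𝟙 Z, Category.id_comp _⟩
  have hsub : Set.range ((i ⁻¹ᵁ j.V).ι ≫ i) ⊆ Set.range j.aff.fromSpec := by
    rw [j.aff.range_fromSpec]
    rintro _ ⟨x, rfl⟩
    rw [Scheme.Hom.comp_apply]
    exact x.2
  let y' := IsOpenImmersion.lift j.aff.fromSpec ((i ⁻¹ᵁ j.V).ι ≫ i) hsub
  have hy' : y' ≫ j.aff.fromSpec = (i ⁻¹ᵁ j.V).ι ≫ i := IsOpenImmersion.lift_fac _ _ _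
  have h1 : Phi π ι (y' ≫ j.aff.fromSpec) := by
    rw [hy']; exact hi.comp _
  obtain ⟨w, hw⟩ := (phi_loc_iff π ι j.V j.aff j.free y').mp h1
  obtain ⟨zj, hzj⟩ := (key _ _).mp (phi_qV π ι j.V j.aff j.free)
  have hsub' : Set.range zj ⊆ Set.range (i ⁻¹ᵁ j.V).ι := by
    rw [Scheme.Opens.range_ι]
    rintro _ ⟨x, rfl⟩
    change i (zj x) ∈ j.V
    rw [← Scheme.Hom.comp_apply, hzj, Scheme.Hom.comp_apply]
    have : j.aff.fromSpec (qV π ι j.V j.free x) ∈ Set.range j.aff.fromSpec := ⟨_, rfl⟩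
    rw [j.aff.range_fromSpec] at this
    exact this
  let zj' := IsOpenImmersion.lift (i ⁻¹ᵁ j.V).ι zj hsub'
  have hzj' : zj' ≫ (i ⁻¹ᵁ j.V).ι = zj := IsOpenImmersion.lift_fac _ _ _
  have hw1 : w ≫ zj' = 𝟙 _ := by
    rw [← cancel_mono ((i ⁻¹ᵁ j.V).ι ≫ i), Category.assoc, ← Category.assoc zj', hzj', hzj,
      ← Category.assoc, hw, hy', Category.id_comp]
  have hw2 : zj' ≫ w = 𝟙 _ := by
    rw [← cancel_mono (qV π ι j.V j.free ≫ j.aff.fromSpec), Category.assoc,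
      ← Category.assoc w, hw, hy', ← Category.assoc, hzj', hzj, Category.id_comp]
  refine ⟨w, ⟨zj', hw1, hw2⟩, ?_⟩
  rw [← cancel_mono j.V.ι, morphismRestrict_ι, Category.assoc, Category.assoc,
    ← Category.assoc w, hw]
  rw [← hy']
  rfl

theorem lfp_of_rep {Z : Scheme.{u}} (i : Z ⟶ Y) [Mono i]
    (key : ∀ (T : Scheme.{u}) (y : T ⟶ Y), Phi π ι y ↔ ∃ z : T ⟶ Z, z ≫ i = y)
    (hcov : ∀ y : Y, ∃ j : Good π, y ∈ j.V ∧ (coordIdeal π ι j.V j.free).FG) :
    LocallyOfFinitePresentation i := by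
  have : IsZariskiLocalAtTarget @LocallyOfFinitePresentation.{u} :=
    HasRingHomProperty.instIsZariskiLocalAtTarget _
  apply IsZariskiLocalAtTarget.of_iSup_eq_top (P := @LocallyOfFinitePresentation)
    (fun j : {j : Good π // (coordIdeal π ι j.V j.free).FG} => j.1.V)
  · exact top_le_iff.mp fun y _ => by
      obtain ⟨j, hj, hfg⟩ := hcov y
      exact TopologicalSpace.Opens.mem_iSup.mpr ⟨⟨j, hfg⟩, hj⟩
  · rintro ⟨j, hfg⟩
    obtain ⟨w, hw, hfac⟩ := restrict_eq π ι i key j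
    change LocallyOfFinitePresentation (i ∣_ j.V)
    rw [hfac]
    have h1 : LocallyOfFinitePresentation (qV π ι j.V j.free) := by
      rw [LocallyOfFinitePresentation.SpecMap_iff]
      apply RingHom.FinitePresentation.of_surjective _ Ideal.Quotient.mk_surjective
      change (RingHom.ker (Ideal.Quotient.mk (coordIdeal π ι j.V j.free))).FG
      rw [Ideal.mk_ker]
      exact hfg
    infer_instance

/-- **Main theorem with finite presentation.** -/
theorem exists_closed_fp [LocallyOfFinitePresentation ι] (hπ : Mor2.IsFinLocFree π) :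
    ∃ (Z : Scheme.{u}) (i : Z ⟶ Y), IsClosedImmersion i ∧ LocallyOfFinitePresentation i ∧
      ∀ (T : Scheme.{u}) (y : T ⟶ Y), Phi π ι y ↔ ∃ z : T ⟶ Z, z ≫ i = y := by
  have hcov : ∀ y : Y, ∃ j : Good π, y ∈ j.V := fun y => by
    obtain ⟨j, hj, -⟩ := exists_good_fin π hπ y
    exact ⟨j, hj⟩
  obtain ⟨Z, i, hmono, key⟩ := exists_rep π ι hcov
  refine ⟨Z, i, isClosedImmersion_of_rep π ι i key hcov, ?_, key⟩
  apply lfp_of_rep π ι i key
  intro y
  obtain ⟨j, hj, hfin⟩ := exists_good_fin π hπ y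
  exact ⟨j, hj, coordIdeal_fg π ι j.V j.free hfin (ker_fg ι _ (j.aff.preimage π))⟩

end Groth.Agent.H73.FixLoc
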