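import Groth.Agent.H73.FixLoc10

/-!
# `Over S` packaging: closed conditions on `G` tested against all points of a finite locally free `Y`
-/

set_option autoImplicit false
universe u
open CategoryTheory CategoryTheory.Limits AlgebraicGeometry Opposite MonoidalCategory
  CartesianMonoidalCategory

namespace Groth.Agent.H73.FixLoc

variable {S : Scheme.{u}}

theorem phi_iff_over (G Y E : Over S) (e : E ⟶ G ⊗ Y) (X : Over S) (g : X ⟶ G) :
    Phi (fst G Y).left e.left g.left ↔
      ∀ (X' : Over S) (x : X' ⟶ X) (a : X' ⟶ Y), ∃ w : X' ⟶ E, w ≫ e = lift (x ≫ g) a := by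
  constructor
  · intro h X' x a
    obtain ⟨k, hk⟩ := h X'.left (lift (x ≫ g) a).left x.left (by
      rw [← Over.comp_left, lift_fst, Over.comp_left])
    have hw : k ≫ E.hom = X'.hom := by
      rw [← Over.w e, ← Category.assoc, hk, Over.w]
    refine ⟨Over.homMk k hw, ?_⟩
    apply Over.OverMorphism.ext
    exact hk
  · intro h P' g' p' hc
    have hw : g' ≫ (G ⊗ Y).hom = p' ≫ X.hom := by
      rw [← Over.w (fst G Y), ← Category.assoc, hc, Category.assoc, Over.w g]
    let T'' : Over S := Over.mk (p' ≫ X.hom)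
    let x : T'' ⟶ X := Over.homMk p' rfl
    let g'' : T'' ⟶ G ⊗ Y := Over.homMk g' hw
    have hfst : g'' ≫ fst G Y = x ≫ g := by
      apply Over.OverMorphism.ext
      exact hc
    have hlift : lift (x ≫ g) (g'' ≫ snd G Y) = g'' := by
      apply CartesianMonoidalCategory.hom_ext
      · rw [lift_fst, hfst]
      · rw [lift_snd]
    obtain ⟨w, hw'⟩ := h T'' x (g'' ≫ snd G Y)
    rw [hlift] at hw'
    exact ⟨w.left, congrArg CommaMorphism.left hw'⟩

/-- **Closed conditions tested against a finite locally free `Y`.** -/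
theorem exists_closed_over (G Y E : Over S) (e : E ⟶ G ⊗ Y) [IsClosedImmersion e.left]
    [IsFinite Y.hom] [Flat Y.hom] [LocallyOfFinitePresentation Y.hom] :
    ∃ (C : Over S) (c : C ⟶ G), IsClosedImmersion c.left ∧
      (LocallyOfFinitePresentation e.left → LocallyOfFinitePresentation c.left) ∧
      ∀ (X : Over S) (g : X ⟶ G), (∃ z : X ⟶ C, z ≫ c = g) ↔
        ∀ (X' : Over S) (x : X' ⟶ X) (a : X' ⟶ Y), ∃ w : X' ⟶ E, w ≫ e = lift (x ≫ g) a := by
  classical
  let π : (G ⊗ Y).left ⟶ G.left := (fst G Y).left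
  have hsq := IsPullback.of_hasPullback G.hom Y.hom
  have hπ : Mor2.IsFinLocFree π := by
    refine ⟨?_, ?_, ?_⟩
    · change IsFinite (Limits.pullback.fst G.hom Y.hom)
      exact MorphismProperty.of_isPullback (P := @IsFinite) hsq.flip inferInstance
    · change Flat (Limits.pullback.fst G.hom Y.hom)
      exact MorphismProperty.of_isPullback (P := @Flat) hsq.flip inferInstance
    · change LocallyOfFinitePresentation (Limits.pullback.fst G.hom Y.hom)
      exact MorphismProperty.of_isPullback (P := @LocallyOfFinitePresentation) hsq.flip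
        inferInstance
  have : IsAffineHom π := by
    have := hπ.1
    infer_instance
  have main : ∃ (Z : Scheme.{u}) (j : Z ⟶ G.left), IsClosedImmersion j ∧
      (LocallyOfFinitePresentation e.left → LocallyOfFinitePresentation j) ∧
      ∀ (T : Scheme.{u}) (y : T ⟶ G.left), Phi π e.left y ↔ ∃ z : T ⟶ Z, z ≫ j = y := by
    by_cases hfp : LocallyOfFinitePresentation e.left
    · obtain ⟨Z, j, hj, hjfp, key⟩ := exists_closed_fp π e.left hπ
      exact ⟨Z, j, hj, fun _ => hjfp, key⟩
    · have hcov : ∀ y : G.left, ∃ j : Good π, y ∈ j.V := fun y => by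
        obtain ⟨j, hj, -⟩ := exists_good_fin π hπ y
        exact ⟨j, hj⟩
      obtain ⟨Z, j, hj, key⟩ := exists_closed π e.left hcov
      exact ⟨Z, j, hj, fun h => absurd h hfp, key⟩
  obtain ⟨Z, j, hj, hjfp, key⟩ := main
  refine ⟨Over.mk (j ≫ G.hom), Over.homMk j rfl, hj, hjfp, ?_⟩
  intro X g
  rw [← phi_iff_over G Y E e X g, key X.left g.left]
  constructor
  · rintro ⟨z, rfl⟩
    exact ⟨z.left, rfl⟩
  · rintro ⟨z, hz⟩
    refine ⟨Over.homMk z ?_, ?_⟩
    · change z ≫ j ≫ G.hom = X.hom
      rw [← Category.assoc, hz, Over.w g]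
    · apply Over.OverMorphism.ext
      exact hz

end Groth.Agent.H73.FixLoc
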