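import Groth.Agent.H73.FixLoc1

set_option autoImplicit false
universe u
open CategoryTheory CategoryTheory.Limits AlgebraicGeometry TensorProduct Opposite

namespace Groth.Agent.H73.FixLoc

variable {P Y E : Scheme.{u}} (π : P ⟶ Y) (ι : E ⟶ P)

/-- the coordinate ideal over a good affine open -/
noncomputable def coordIdeal (V : Y.Opens)
    (hfree : @Module.Free Γ(Y, V) Γ(P, π ⁻¹ᵁ V) _ _ (π.app V).hom.toAlgebra.toModule) :
    Ideal Γ(Y, V) :=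
  letI := (π.app V).hom.toAlgebra
  Ideal.span {r | ∃ x ∈ RingHom.ker (ι.app (π ⁻¹ᵁ V)).hom, ∃ i,
    (Module.Free.chooseBasis Γ(Y, V) Γ(P, π ⁻¹ᵁ V)).repr x i = r}

theorem isPullback_fromSpec [IsAffineHom π] (V : Y.Opens) (hV : IsAffineOpen V) :
    IsPullback (Spec.map (π.app V)) (hV.preimage π).fromSpec hV.fromSpec π := by
  apply IsOpenImmersion.isPullback
  · rw [← Scheme.Hom.appLE_eq_app] 
    exact (IsAffineOpen.SpecMap_appLE_fromSpec π hV (hV.preimage π) le_rfl).symm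
  · rw [hV.opensRange_fromSpec, (hV.preimage π).opensRange_fromSpec]

/-- factoring a map of affine schemes through a surjection -/
theorem spec_factor_iff {A D G : CommRingCat.{u}} (s : A ⟶ G) (hs : Function.Surjective s.hom)
    (θ : A ⟶ D) :
    (∃ h₀ : Spec D ⟶ Spec G, h₀ ≫ Spec.map s = Spec.map θ) ↔
      ∀ x ∈ RingHom.ker s.hom, θ.hom x = 0 := by
  constructor
  · rintro ⟨h₀, hh⟩ x hx
    obtain ⟨χ, rfl⟩ := Spec.map_surjective h₀
    rw [← Spec.map_comp] at hh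
    have := Spec.map_injective hh
    rw [← this]
    change χ.hom (s.hom x) = 0
    rw [(RingHom.mem_ker).mp hx, map_zero]
  · intro h
    let χ : G.carrier →+* D.carrier := s.hom.liftOfSurjective hs ⟨θ.hom, fun x hx => h x hx⟩
    refine ⟨Spec.map (CommRingCat.ofHom χ), ?_⟩
    rw [← Spec.map_comp]
    congr 1
    ext x
    exact s.hom.liftOfSurjective_comp_apply hs ⟨θ.hom, fun x hx => h x hx⟩ x

theorem phi_spec_iff [IsAffineHom π] [IsClosedImmersion ι] (V : Y.Opens) (hV : IsAffineOpen V)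
    (hfree : @Module.Free Γ(Y, V) Γ(P, π ⁻¹ᵁ V) _ _ (π.app V).hom.toAlgebra.toModule)
    (C : CommRingCat.{u}) (φ : Γ(Y, V) ⟶ C) :
    Phi π ι (Spec.map φ ≫ hV.fromSpec) ↔ coordIdeal π ι V hfree ≤ RingHom.ker φ.hom := by
  let algA : Algebra Γ(Y, V) Γ(P, π ⁻¹ᵁ V) := (π.app V).hom.toAlgebra
  let algC : Algebra Γ(Y, V) C := φ.hom.toAlgebra
  have hU : IsAffineOpen (π ⁻¹ᵁ V) := hV.preimage π
  have hW : IsAffineOpen (ι ⁻¹ᵁ (π ⁻¹ᵁ V)) := hU.preimage ι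
  have hpo := CommRingCat.isPushout_tensorProduct Γ(Y, V) C Γ(P, π ⁻¹ᵁ V)
  have hpb := isPullback_SpecMap_of_isPushout _ _ _ _ hpo
  have e1 : CommRingCat.ofHom (algebraMap Γ(Y, V) C) = φ := rfl
  have e2 : CommRingCat.ofHom (algebraMap Γ(Y, V) Γ(P, π ⁻¹ᵁ V)) = π.app V := rfl
  rw [e1, e2] at hpb
  -- big pullback square
  have sq := hpb.flip.paste_horiz (isPullback_fromSpec π V hV).flip
  rw [phi_iff_of_isPullback π ι sq]
  -- reduce to the affine chart of `E`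
  have sqE : IsPullback (Spec.map (ι.app (π ⁻¹ᵁ V))) hW.fromSpec hU.fromSpec ι :=
    isPullback_fromSpec ι (π ⁻¹ᵁ V) hU
  have step1 : (∃ h : Spec (CommRingCat.of (C ⊗[Γ(Y, V)] Γ(P, π ⁻¹ᵁ V))) ⟶ E, h ≫ ι =
      Spec.map (CommRingCat.ofHom (Algebra.TensorProduct.includeRight.toRingHom)) ≫ hU.fromSpec) ↔
      ∃ h₀ : Spec (CommRingCat.of (C ⊗[Γ(Y, V)] Γ(P, π ⁻¹ᵁ V))) ⟶ Spec Γ(E, ι ⁻¹ᵁ (π ⁻¹ᵁ V)),
        h₀ ≫ Spec.map (ι.app (π ⁻¹ᵁ V)) =
          Spec.map (CommRingCat.ofHom (Algebra.TensorProduct.includeRight.toRingHom)) := by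
    constructor
    · rintro ⟨h, hh⟩
      exact ⟨sqE.lift _ h hh.symm, sqE.lift_fst _ _ _⟩
    · rintro ⟨h₀, hh⟩
      refine ⟨h₀ ≫ hW.fromSpec, ?_⟩
      rw [Category.assoc, ← sqE.w, ← Category.assoc, hh]
  rw [step1, spec_factor_iff _ (ι.app_surjective _ hU)]
  unfold coordIdeal
  rw [Ideal.span_le]
  constructor
  · rintro h r ⟨x, hx, i, rfl⟩
    have h0 := h x hx
    change (1 : C) ⊗ₜ[Γ(Y, V)] x = 0 at h0
    exact (tmul_eq_zero_iff (Module.Free.chooseBasis Γ(Y, V) Γ(P, π ⁻¹ᵁ V)) x).mp h0 i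
  · intro h x hx
    change (1 : C) ⊗ₜ[Γ(Y, V)] x = 0
    refine (tmul_eq_zero_iff (Module.Free.chooseBasis Γ(Y, V) Γ(P, π ⁻¹ᵁ V)) x).mpr fun i => ?_
    exact h ⟨x, hx, i, rfl⟩

end Groth.Agent.H73.FixLoc
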