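import Groth.Agent.H73.FixLoc2

set_option autoImplicit false
universe u
open CategoryTheory CategoryTheory.Limits AlgebraicGeometry TensorProduct Opposite

namespace Groth.Agent.H73.FixLoc

variable {P Y E : Scheme.{u}} (π : P ⟶ Y) (ι : E ⟶ P)

section loc

variable [IsAffineHom π] [IsClosedImmersion ι] (V : Y.Opens) (hV : IsAffineOpen V)
    (hfree : @Module.Free Γ(Y, V) Γ(P, π ⁻¹ᵁ V) _ _ (π.app V).hom.toAlgebra.toModule)

/-- the local representing object -/
noncomputable abbrev ZV : Scheme.{u} :=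
  Spec (CommRingCat.of (Γ(Y, V) ⧸ coordIdeal π ι V hfree))

/-- its closed immersion into the chart -/
noncomputable abbrev qV : ZV π ι V hfree ⟶ Spec Γ(Y, V) :=
  Spec.map (CommRingCat.ofHom (Ideal.Quotient.mk (coordIdeal π ι V hfree)))

instance : IsClosedImmersion (qV π ι V hfree) :=
  IsClosedImmersion.spec_of_surjective _ Ideal.Quotient.mk_surjective

include hV in
theorem phi_qV : Phi π ι (qV π ι V hfree ≫ hV.fromSpec) := by
  rw [phi_spec_iff π ι V hV hfree]
  change _ ≤ RingHom.ker (Ideal.Quotient.mk _)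
  rw [Ideal.mk_ker]

omit [IsAffineHom π] [IsClosedImmersion ι] in
theorem exists_lift_of_cover {T Z B : Scheme.{u}} (q : Z ⟶ B) [Mono q] (y' : T ⟶ B)
    (𝒰 : Scheme.OpenCover.{u} T)
    (h : ∀ k, ∃ z : 𝒰.X k ⟶ Z, z ≫ q = 𝒰.f k ≫ y') : ∃ z : T ⟶ Z, z ≫ q = y' := by
  choose z hz using h
  refine ⟨𝒰.glueMorphisms z ?_, ?_⟩
  · intro a b
    rw [← cancel_mono q, Category.assoc, Category.assoc, hz, hz,
      ← Category.assoc, ← Category.assoc, pullback.condition]
  · apply 𝒰.hom_ext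
    intro k
    rw [← Category.assoc, Scheme.Cover.ι_glueMorphisms, hz]

include hV in
theorem phi_loc_spec {T : Scheme.{u}} (y' : T ⟶ Spec Γ(Y, V)) (h : Phi π ι (y' ≫ hV.fromSpec))
    (R : CommRingCat.{u}) (f : Spec R ⟶ T) :
    ∃ z : Spec R ⟶ ZV π ι V hfree, z ≫ qV π ι V hfree = f ≫ y' := by
  obtain ⟨φ, hφ⟩ := Spec.map_surjective (f ≫ y')
  have h1 : Phi π ι (Spec.map φ ≫ hV.fromSpec) := by
    rw [hφ, Category.assoc]; exact h.comp _
  rw [phi_spec_iff π ι V hV hfree] at h1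
  let ψ : (Γ(Y, V) ⧸ coordIdeal π ι V hfree) →+* _ := Ideal.Quotient.lift _ φ.hom h1
  refine ⟨Spec.map (CommRingCat.ofHom ψ), ?_⟩
  rw [← hφ, ← Spec.map_comp]
  congr 1

include hV in
theorem phi_loc_iff {T : Scheme.{u}} (y' : T ⟶ Spec Γ(Y, V)) :
    Phi π ι (y' ≫ hV.fromSpec) ↔ ∃ z : T ⟶ ZV π ι V hfree, z ≫ qV π ι V hfree = y' := by
  constructor
  · intro h
    exact exists_lift_of_cover (qV π ι V hfree) y' T.affineCover
      (fun k => phi_loc_spec π ι V hV hfree y' h _ (T.affineCover.f k))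
  · rintro ⟨z, rfl⟩
    rw [Category.assoc]
    exact (phi_qV π ι V hV hfree).comp z

end loc

end Groth.Agent.H73.FixLoc
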