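import Groth.Agent.H73.SigF

/-!
# Local representability for functors on `Over S`

A Zariski sheaf `F` on `Over S` covered by representable open subfunctors is representable
(through Mathlib's `Scheme.LocalRepresentability`, applied to `sig F`).
-/

set_option autoImplicit false
universe u

open CategoryTheory CategoryTheory.Limits AlgebraicGeometry Opposite

namespace Groth.Agent.H73.SigF

variable {S : Scheme.{u}} (F : (Over S)ᵒᵖ ⥤ Type u)
variable {ι : Type u} (W : ι → Over S) (ξ : ∀ i, F.obj (op (W i)))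

/-- a family of open representable subfunctors covering `F` -/
structure IsOpenCoverBy : Prop where
  mono : ∀ i (T : Over S) (c c' : T ⟶ W i), F.map c.op (ξ i) = F.map c'.op (ξ i) → c = c'
  isOpen : ∀ i {T : Scheme.{u}} (t : T ⟶ S) (b : F.obj (op (Over.mk t))), ∃ O : T.Opens,
    (∃ (c : O.toScheme ⟶ (W i).left) (hc : c ≫ (W i).hom = O.ι ≫ t),
      res F c hc (ξ i) = res F O.ι rfl b) ∧
    (∀ {T' : Scheme.{u}} (a : T' ⟶ T) (c : T' ⟶ (W i).left) (hc : c ≫ (W i).hom = a ≫ t),
      res F c hc (ξ i) = res F a rfl b → ∀ x : T', a x ∈ O)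
  cover : ∀ {T : Scheme.{u}} (t : T ⟶ S) (b : F.obj (op (Over.mk t))) (x : T),
    ∃ i, ∃ O : T.Opens, x ∈ O ∧ ∃ (c : O.toScheme ⟶ (W i).left)
      (hc : c ≫ (W i).hom = O.ι ≫ t), res F c hc (ξ i) = res F O.ι rfl b

variable {F W ξ}

/-- the classifying transformation of `(W i, ξ i)` -/
noncomputable def fi (i : ι) : yoneda.obj (W i).left ⟶ sig F :=
  yonedaEquiv.symm (mk F (W i).hom (ξ i))

theorem fi_app (i : ι) {T : Scheme.{u}} (c : T ⟶ (W i).left) :
    (fi (F := F) (W := W) (ξ := ξ) i).app (op T) c =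
      mk F (c ≫ (W i).hom) (res F c rfl (ξ i)) := by
  rw [fi, ← map_yonedaEquiv, Equiv.apply_symm_apply]
  rfl

theorem g_app {T T' : Scheme.{u}} (g : yoneda.obj T ⟶ sig F) (a : T' ⟶ T) :
    g.app (op T') a =
      mk F (a ≫ (yonedaEquiv g).1) (res F a rfl (yonedaEquiv g).2) := by
  rw [← map_yonedaEquiv]
  rfl


theorem isOpenImmersion_fi (h : IsOpenCoverBy F W ξ) (i : ι) :
    IsOpenImmersion.presheaf (fi (F := F) (W := W) (ξ := ξ) i) := by
  apply MorphismProperty.relative.of_exists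
  intro T g
  obtain ⟨O, ⟨c₀, hc₀, hres⟩, hO⟩ := h.isOpen i (yonedaEquiv g).1 (yonedaEquiv g).2
  refine ⟨O.toScheme, yoneda.map c₀, O.ι, ?_, inferInstance⟩
  apply IsPullback.of_forall_isPullback_app
  rintro ⟨T'⟩
  rw [Types.isPullback_iff]
  refine ⟨?_, ?_, ?_⟩
  · apply ConcreteCategory.hom_ext
    intro (w : T' ⟶ O.toScheme)
    change (fi (F := F) (W := W) (ξ := ξ) i).app (op T') (w ≫ c₀) = g.app (op T') (w ≫ O.ι)
    rw [fi_app, g_app]
    apply mk_ext F (by rw [Category.assoc, hc₀, Category.assoc])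
    rw [res_res]
    exact (res_transport F hres w (by rw [Category.assoc, hc₀]) rfl (Category.id_comp _).symm).symm
  · rintro (w₁ : T' ⟶ O.toScheme) (w₂ : T' ⟶ O.toScheme) ⟨-, h2⟩
    exact (cancel_mono O.ι).mp h2
  · intro (x : T' ⟶ (W i).left) (a : T' ⟶ T) hxa
    change (fi (F := F) (W := W) (ξ := ξ) i).app (op T') x = g.app (op T') a at hxa
    rw [fi_app, g_app] at hxa
    obtain ⟨hx, hb⟩ := mk_inj F hxa
    rw [res_res] at hb
    have hb' : res F x hx (ξ i) = res F a rfl (yonedaEquiv g).2 :=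
      (res_transport F hb (𝟙 _) (by rw [Category.id_comp, hx])
        (by rw [Category.id_comp, Category.id_comp]) (Category.id_comp _)).symm
    have hmem := hO a x hx hb'
    let w' : T' ⟶ O.toScheme := IsOpenImmersion.lift O.ι a (by
      rintro _ ⟨y, rfl⟩
      rw [Scheme.Opens.range_ι]
      exact hmem y)
    have hw' : w' ≫ O.ι = a := IsOpenImmersion.lift_fac _ _ _
    refine ⟨w', ?_, hw'⟩
    have hw'' : (w' ≫ c₀) ≫ (W i).hom = a ≫ (yonedaEquiv g).1 := by
      rw [Category.assoc, hc₀, ← Category.assoc, hw']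
    have := h.mono i (Over.mk (a ≫ (yonedaEquiv g).1)) (Over.homMk (w' ≫ c₀) hw'')
      (Over.homMk x hx) (by
        rw [map_eq_res, map_eq_res]
        show res F (w' ≫ c₀) hw'' (ξ i) = res F x hx (ξ i)
        rw [hb']
        exact res_transport F hres w' (by rw [← Category.assoc, hw']) rfl hw')
    exact congrArg (fun k => k.left) this


theorem locSurj (h : IsOpenCoverBy F W ξ) :
    Presheaf.IsLocallySurjective Scheme.zariskiTopology.{u}
      (Limits.Sigma.desc (fi (F := F) (W := W) (ξ := ξ))) := by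
  constructor
  intro T s
  choose ix Ox hxO cx hcx hresx using fun x : T => h.cover s.1 s.2 x
  have hcov : TopologicalSpace.IsOpenCover Ox := by
    rw [TopologicalSpace.IsOpenCover, eq_top_iff]
    intro x _
    rw [TopologicalSpace.Opens.mem_iSup]
    exact ⟨x, hxO x⟩
  let 𝒰 := T.openCoverOfIsOpenCover _ hcov
  refine GrothendieckTopology.superset_covering _ ?_ 𝒰.mem_grothendieckTopology
  rw [Sieve.generate_le_iff, Presieve.ofArrows_le_iff]
  intro (x : ↥T)
  refine ⟨(Limits.Sigma.ι (fun i => yoneda.obj (W i).left) (ix x)).app _ (cx x), ?_⟩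
  have h1 : (Limits.Sigma.desc (fi (F := F) (W := W) (ξ := ξ))).app (op (Ox x).toScheme)
      ((Limits.Sigma.ι (fun i => yoneda.obj (W i).left) (ix x)).app _ (cx x)) =
      (fi (F := F) (W := W) (ξ := ξ) (ix x)).app _ (cx x) := by
    rw [← Limits.Sigma.ι_desc (fi (F := F) (W := W) (ξ := ξ)) (ix x)]
    rfl
  refine h1.trans ?_
  refine (fi_app (ix x) (cx x)).trans ?_
  show _ = (sig F).map (Ox x).ι.op s
  rw [eq_mk F s, map_mk]
  apply mk_ext F (hcx x)
  rw [res_res]
  exact (res_transport F (hresx x) (𝟙 _) (by rw [Category.id_comp, hcx x])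
    (Category.id_comp _) rfl).symm

/-- **Local representability over `S`.** -/
theorem exists_representable (hF : IsZarSheaf F) (h : IsOpenCoverBy F W ξ) :
    ∃ W₀ : Over S, Nonempty (F.RepresentableBy W₀) := by
  let Fsh : Sheaf Scheme.zariskiTopology.{u} (Type u) := ⟨sig F, isSheaf_sig hF⟩
  have : Presheaf.IsLocallySurjective Scheme.zariskiTopology.{u}
      (Limits.Sigma.desc (fi (F := F) (W := W) (ξ := ξ))) := locSurj h
  have hrep : Fsh.1.IsRepresentable :=
    Scheme.LocalRepresentability.isRepresentable (F := Fsh)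
      (f := fi (F := F) (W := W) (ξ := ξ)) (isOpenImmersion_fi h)
  obtain ⟨W₀, ⟨R⟩⟩ := hrep
  obtain ⟨w, hw⟩ := representableBy_of_sig F R
  exact ⟨Over.mk w, hw⟩

end Groth.Agent.H73.SigF
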