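import Groth.Agent.H73.FixLoc3
import Groth.Agent.H73.SigF2

set_option autoImplicit false
universe u
open CategoryTheory CategoryTheory.Limits AlgebraicGeometry TensorProduct Opposite

namespace Groth.Agent.H73.FixLoc

variable {P Y E : Scheme.{u}} (π : P ⟶ Y) (ι : E ⟶ P)

/-- the subfunctor of the terminal functor cut out by `Phi` -/
noncomputable def FPhi : (Over Y)ᵒᵖ ⥤ Type u where
  obj T := {_x : PUnit.{u + 1} // Phi π ι T.unop.hom}
  map {T T'} f := TypeCat.ofHom fun x =>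
    ⟨PUnit.unit, (x.2.comp f.unop.left).congr (Over.w f.unop)⟩
  map_id T := by
    apply ConcreteCategory.hom_ext
    intro x
    exact Subtype.ext rfl
  map_comp f g := by
    apply ConcreteCategory.hom_ext
    intro x
    exact Subtype.ext rfl

instance (T : (Over Y)ᵒᵖ) : Subsingleton ((FPhi π ι).obj T) :=
  ⟨fun _ _ => Subtype.ext (Subsingleton.elim _ _)⟩

theorem FPhi_nonempty_iff (T : Over Y) : Nonempty ((FPhi π ι).obj (op T)) ↔ Phi π ι T.hom :=
  ⟨fun ⟨x⟩ => x.2, fun h => ⟨⟨PUnit.unit, h⟩⟩⟩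

theorem exists_lift_of_cover' {T Z B : Scheme.{u}} (q : Z ⟶ B) [Mono q] (y' : T ⟶ B)
    (𝒰 : Scheme.OpenCover.{u + 1} T)
    (h : ∀ k, ∃ z : 𝒰.X k ⟶ Z, z ≫ q = 𝒰.f k ≫ y') : ∃ z : T ⟶ Z, z ≫ q = y' := by
  choose z hz using h
  refine ⟨𝒰.glueMorphisms z ?_, ?_⟩
  · intro a b
    rw [← cancel_mono q, Category.assoc, Category.assoc, hz, hz,
      ← Category.assoc, ← Category.assoc, pullback.condition]
  · apply 𝒰.hom_ext
    intro k
    rw [← Category.assoc, Scheme.Cover.ι_glueMorphisms, hz]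

/-- `Phi` is Zariski-local on `T`. -/
theorem phi_of_cover [Mono ι] {T : Scheme.{u}} (t : T ⟶ Y) (𝒰 : Scheme.OpenCover.{u + 1} T)
    (h : ∀ i, Phi π ι (𝒰.f i ≫ t)) : Phi π ι t := by
  intro P' g p' hc
  refine exists_lift_of_cover' ι g (𝒰.pullback₁ p') (fun k => ?_)
  refine h k _ (pullback.fst p' (𝒰.f k) ≫ g) (pullback.snd p' (𝒰.f k)) ?_
  rw [Category.assoc, hc, ← Category.assoc, pullback.condition, Category.assoc]

theorem isZarSheaf_FPhi [Mono ι] : SigF.IsZarSheaf (FPhi π ι) where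
  sep _ _ _ _ _ := Subsingleton.elim _ _
  glue t 𝒰 c _ := ⟨⟨PUnit.unit, phi_of_cover π ι t 𝒰 (fun i => (c i).2)⟩,
    fun _ => Subsingleton.elim _ _⟩

end Groth.Agent.H73.FixLoc
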