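import Groth.Agent.H73.FixLoc4

set_option autoImplicit false
universe u
open CategoryTheory CategoryTheory.Limits AlgebraicGeometry TensorProduct Opposite

namespace Groth.Agent.H73.FixLoc

variable {P Y E : Scheme.{u}} (π : P ⟶ Y) (ι : E ⟶ P)

/-- index type: the good affine opens -/
structure Good : Type u where
  V : Y.Opens
  aff : IsAffineOpen V
  free : @Module.Free Γ(Y, V) Γ(P, π ⁻¹ᵁ V) _ _ (π.app V).hom.toAlgebra.toModule

variable [IsAffineHom π] [IsClosedImmersion ι]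

/-- the local pieces over `Y` -/
noncomputable abbrev Wj (j : Good π) : Over Y :=
  Over.mk (qV π ι j.V j.free ≫ j.aff.fromSpec)

instance (j : Good π) : Mono (Wj π ι j).hom := by
  dsimp only [Over.mk_hom]
  infer_instance

noncomputable def ξj (j : Good π) : (FPhi π ι).obj (op (Wj π ι j)) :=
  ⟨PUnit.unit, phi_qV π ι j.V j.aff j.free⟩

theorem exists_c (j : Good π) {T : Scheme.{u}} (t : T ⟶ Y) (b : Phi π ι t) :
    ∃ (c : (t ⁻¹ᵁ j.V).toScheme ⟶ (Wj π ι j).left),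
      c ≫ (Wj π ι j).hom = (t ⁻¹ᵁ j.V).ι ≫ t := by
  have hsub : Set.range ((t ⁻¹ᵁ j.V).ι ≫ t) ⊆ Set.range j.aff.fromSpec := by
    rw [j.aff.range_fromSpec]
    rintro _ ⟨x, rfl⟩
    rw [Scheme.Hom.comp_apply]
    exact x.2
  let y' := IsOpenImmersion.lift j.aff.fromSpec ((t ⁻¹ᵁ j.V).ι ≫ t) hsub
  have hy' : y' ≫ j.aff.fromSpec = (t ⁻¹ᵁ j.V).ι ≫ t := IsOpenImmersion.lift_fac _ _ _
  have h1 : Phi π ι (y' ≫ j.aff.fromSpec) := by
    rw [hy']; exact b.comp _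
  obtain ⟨z, hz⟩ := (phi_loc_iff π ι j.V j.aff j.free y').mp h1
  refine ⟨z, ?_⟩
  change z ≫ qV π ι j.V j.free ≫ j.aff.fromSpec = _
  rw [← Category.assoc, hz, hy']

theorem isOpenCoverBy (hcov : ∀ y : Y, ∃ j : Good π, y ∈ j.V) :
    SigF.IsOpenCoverBy (FPhi π ι) (Wj π ι) (ξj π ι) where
  mono j T c c' _ := by
    apply Over.OverMorphism.ext
    rw [← cancel_mono (Wj π ι j).hom, Over.w c, Over.w c']
  isOpen j {T} t b := by
    refine ⟨t ⁻¹ᵁ j.V, ?_, ?_⟩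
    · obtain ⟨c, hc⟩ := exists_c π ι j t b.2
      exact ⟨c, hc, Subsingleton.elim _ _⟩
    · intro T' a c hc _ x
      change t (a x) ∈ j.V
      rw [← Scheme.Hom.comp_apply, ← hc]
      change (c ≫ qV π ι j.V j.free ≫ j.aff.fromSpec) x ∈ j.V
      rw [← Category.assoc, Scheme.Hom.comp_apply]
      have : j.aff.fromSpec ((c ≫ qV π ι j.V j.free) x) ∈ Set.range j.aff.fromSpec := ⟨_, rfl⟩
      rw [j.aff.range_fromSpec] at this
      exact this
  cover {T} t b x := by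
    obtain ⟨j, hj⟩ := hcov (t x)
    obtain ⟨c, hc⟩ := exists_c π ι j t b.2
    exact ⟨j, t ⁻¹ᵁ j.V, hj, c, hc, Subsingleton.elim _ _⟩

end Groth.Agent.H73.FixLoc
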