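import Groth.Agent.H73.FixLoc5

set_option autoImplicit false
universe u
open CategoryTheory CategoryTheory.Limits AlgebraicGeometry TensorProduct Opposite

namespace Groth.Agent.H73.FixLoc

variable {P Y E : Scheme.{u}} (π : P ⟶ Y) (ι : E ⟶ P)
variable [IsAffineHom π] [IsClosedImmersion ι]

theorem exists_rep (hcov : ∀ y : Y, ∃ j : Good π, y ∈ j.V) :
    ∃ (Z : Scheme.{u}) (i : Z ⟶ Y), Mono i ∧
      ∀ (T : Scheme.{u}) (y : T ⟶ Y), Phi π ι y ↔ ∃ z : T ⟶ Z, z ≫ i = y := by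
  obtain ⟨W₀, ⟨R⟩⟩ := SigF.exists_representable (isZarSheaf_FPhi π ι) (isOpenCoverBy π ι hcov)
  have key : ∀ (T : Scheme.{u}) (y : T ⟶ Y), Phi π ι y ↔ ∃ z : T ⟶ W₀.left, z ≫ W₀.hom = y := by
    intro T y
    constructor
    · intro h
      let b : (FPhi π ι).obj (op (Over.mk y)) := ⟨PUnit.unit, h⟩
      exact ⟨(R.homEquiv.symm b).left, Over.w (R.homEquiv.symm b)⟩
    · rintro ⟨z, hz⟩
      exact (R.homEquiv (Over.homMk z hz : Over.mk y ⟶ W₀)).2
  refine ⟨W₀.left, W₀.hom, ⟨fun {T} z z' h => ?_⟩, key⟩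
  have e : (Over.homMk z rfl : Over.mk (z ≫ W₀.hom) ⟶ W₀) = Over.homMk z' h.symm :=
    R.homEquiv.injective (Subsingleton.elim _ _)
  exact congrArg CommaMorphism.left e


theorem isClosedImmersion_of_rep {Z : Scheme.{u}} (i : Z ⟶ Y) [Mono i]
    (key : ∀ (T : Scheme.{u}) (y : T ⟶ Y), Phi π ι y ↔ ∃ z : T ⟶ Z, z ≫ i = y)
    (hcov : ∀ y : Y, ∃ j : Good π, y ∈ j.V) : IsClosedImmersion i := by
  have hi : Phi π ι i := (key Z i).mpr ⟨𝟙 Z, Category.id_comp _⟩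
  apply IsZariskiLocalAtTarget.of_iSup_eq_top (P := @IsClosedImmersion)
    (fun j : Good π => j.V)
  · exact top_le_iff.mp fun y _ => by
      obtain ⟨j, hj⟩ := hcov y
      exact TopologicalSpace.Opens.mem_iSup.mpr ⟨j, hj⟩
  · intro j
    -- the map from the preimage to the local piece
    have hsub : Set.range ((i ⁻¹ᵁ j.V).ι ≫ i) ⊆ Set.range j.aff.fromSpec := by
      rw [j.aff.range_fromSpec]
      rintro _ ⟨x, rfl⟩
      rw [Scheme.Hom.comp_apply]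
      exact x.2
    let y' := IsOpenImmersion.lift j.aff.fromSpec ((i ⁻¹ᵁ j.V).ι ≫ i) hsub
    have hy' : y' ≫ j.aff.fromSpec = (i ⁻¹ᵁ j.V).ι ≫ i := IsOpenImmersion.lift_fac _ _ _
    have h1 : Phi π ι (y' ≫ j.aff.fromSpec) := by
      rw [hy']; exact hi.comp _
    obtain ⟨w, hw⟩ := (phi_loc_iff π ι j.V j.aff j.free y').mp h1
    -- the map back
    obtain ⟨zj, hzj⟩ := (key _ _).mp (phi_qV π ι j.V j.aff j.free)
    have hsub' : Set.range zj ⊆ Set.range (i ⁻¹ᵁ j.V).ι := by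
      rw [Scheme.Opens.range_ι]
      rintro _ ⟨x, rfl⟩
      change i (zj x) ∈ j.V
      rw [← Scheme.Hom.comp_apply, hzj, Scheme.Hom.comp_apply]
      have : j.aff.fromSpec (qV π ι j.V j.free x) ∈ Set.range j.aff.fromSpec := ⟨_, rfl⟩
      rw [j.aff.range_fromSpec] at this
      exact this
    let zj' := IsOpenImmersion.lift (i ⁻¹ᵁ j.V).ι zj hsub'
    have hzj' : zj' ≫ (i ⁻¹ᵁ j.V).ι = zj := IsOpenImmersion.lift_fac _ _ _
    have hw1 : w ≫ zj' = 𝟙 _ := by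
      rw [← cancel_mono ((i ⁻¹ᵁ j.V).ι ≫ i), Category.assoc, ← Category.assoc zj', hzj', hzj,
        ← Category.assoc, hw, hy', Category.id_comp]
    have hw2 : zj' ≫ w = 𝟙 _ := by
      rw [← cancel_mono (qV π ι j.V j.free ≫ j.aff.fromSpec), Category.assoc,
        ← Category.assoc w, hw, hy', ← Category.assoc, hzj', hzj, Category.id_comp]
    have hwiso : IsIso w := ⟨zj', hw1, hw2⟩
    have hfac : i ∣_ j.V = w ≫ qV π ι j.V j.free ≫ j.aff.isoSpec.inv := by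
      rw [← cancel_mono j.V.ι, morphismRestrict_ι, Category.assoc, Category.assoc,
        ← Category.assoc w, hw]
      rw [← hy']
      rfl
    rw [hfac]
    infer_instance


theorem exists_closed (hcov : ∀ y : Y, ∃ j : Good π, y ∈ j.V) :
    ∃ (Z : Scheme.{u}) (i : Z ⟶ Y), IsClosedImmersion i ∧
      ∀ (T : Scheme.{u}) (y : T ⟶ Y), Phi π ι y ↔ ∃ z : T ⟶ Z, z ≫ i = y := by
  obtain ⟨Z, i, hmono, key⟩ := exists_rep π ι hcov
  exact ⟨Z, i, isClosedImmersion_of_rep π ι i key hcov, key⟩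

end Groth.Agent.H73.FixLoc
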