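import Mathlib

set_option autoImplicit false
universe u
open CategoryTheory CategoryTheory.Limits AlgebraicGeometry TensorProduct Opposite

namespace Groth.Agent.H73.FixLoc

theorem free_of_isPushout {R A B A' : CommRingCat.{u}} (f : R ⟶ B) (g : R ⟶ A) (inl : B ⟶ A')
    (inr : A ⟶ A') (h : IsPushout f g inl inr)
    (hfree : @Module.Free R A _ _ g.hom.toAlgebra.toModule) :
    @Module.Free B A' _ _ inl.hom.toAlgebra.toModule := by
  let algA : Algebra R A := g.hom.toAlgebra
  let algB : Algebra R B := f.hom.toAlgebra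
  let algA' : Algebra B A' := inl.hom.toAlgebra
  have h0 := CommRingCat.isPushout_tensorProduct R B A
  have e1 : CommRingCat.ofHom (algebraMap R B) = f := rfl
  have e2 : CommRingCat.ofHom (algebraMap R A) = g := rfl
  rw [e1, e2] at h0
  let e := h0.isoIsPushout _ _ h
  have he : ∀ b : B, e.hom.hom (b ⊗ₜ[R] (1 : A)) = inl.hom b := fun b =>
    congrArg (fun k : B ⟶ A' => k.hom b) (IsPushout.inl_isoIsPushout_hom _ _ h0 h)
  let el : (B ⊗[R] A) ≃ₗ[B] A' :=
    { e.commRingCatIsoToRingEquiv.toAddEquiv with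
      map_smul' := by
        intro b x
        change e.hom.hom (b • x) = inl.hom b * e.hom.hom x
        rw [← he, ← map_mul]
        congr 1
        rw [Algebra.smul_def]
        rfl }
  exact Module.Free.of_equiv el


theorem free_pullback {X S T : Scheme.{u}} (iX : X ⟶ S) (f : T ⟶ S) [IsAffineHom iX]
    (U : S.Opens) (hU : IsAffineOpen U) (V : T.Opens) (hV : IsAffineOpen V) (hVU : V ≤ f ⁻¹ᵁ U)
    (hfree : @Module.Free Γ(S, U) Γ(X, iX ⁻¹ᵁ U) _ _ (iX.app U).hom.toAlgebra.toModule) :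
    @Module.Free Γ(T, V) Γ(pullback iX f, pullback.snd iX f ⁻¹ᵁ V) _ _
      ((pullback.snd iX f).app V).hom.toAlgebra.toModule := by
  have H := IsPullback.of_hasPullback iX f
  have hUX : IsAffineOpen (iX ⁻¹ᵁ U) := hU.preimage iX
  have hle : pullback.snd iX f ⁻¹ᵁ V ≤ pullback.fst iX f ⁻¹ᵁ (iX ⁻¹ᵁ U) := by
    intro x hx
    change iX (pullback.fst iX f x) ∈ U
    rw [← Scheme.Hom.comp_apply, pullback.condition, Scheme.Hom.comp_apply]
    exact hVU hx
  have hUY : pullback.snd iX f ⁻¹ᵁ V =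
      pullback.fst iX f ⁻¹ᵁ (iX ⁻¹ᵁ U) ⊓ pullback.snd iX f ⁻¹ᵁ V :=
    (inf_eq_right.mpr hle).symm
  have hiso := isIso_pushoutSection_of_isAffineOpen H hVU le_rfl hUY hU hV hUX
  have hpo := (isIso_pushoutSection_iff H hVU le_rfl hUY).mp hiso
  have h2 := free_of_isPushout _ _ _ _ hpo.flip (by rw [Scheme.Hom.appLE_eq_app]; exact hfree)
  rw [Scheme.Hom.appLE_eq_app] at h2
  exact h2

end Groth.Agent.H73.FixLoc
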