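import Mathlib

/-!
# The formal inverse function theorem for power series in finitely many variables

An `R`-algebra endomorphism `φ` of `R⟦X₁, …, Xₙ⟧` with `φ(Xᵢ)` without constant term and with
invertible Jacobian at the origin is bijective.  No continuity is assumed: it is automatic for
finitely many variables.
-/

set_option autoImplicit false

namespace Groth.Agent.H73.FormalInverse

open MvPowerSeries Finsupp

variable (R : Type*) [CommRing R] (n : ℕ)

/-- The ideal of power series of order at least `k`. -/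
def Fid (k : ℕ) : Ideal (MvPowerSeries (Fin n) R) where
  carrier := {f | ∀ d : Fin n →₀ ℕ, d.degree < k → coeff d f = 0}
  add_mem' := by
    intro f g hf hg d hd
    rw [map_add, hf d hd, hg d hd, add_zero]
  zero_mem' := by
    intro d _
    simp
  smul_mem' := by
    intro c f hf d hd
    classical
    rw [smul_eq_mul, coeff_mul]
    apply Finset.sum_eq_zero
    intro p hp
    have hpd : p.1 + p.2 = d := Finset.HasAntidiagonal.mem_antidiagonal.mp hp
    have hdeg : p.2.degree < k := by
      have h : d.degree = p.1.degree + p.2.degree := by rw [← hpd, map_add]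
      omega
    rw [hf p.2 hdeg, mul_zero]

variable {R n}

theorem mem_Fid {k : ℕ} {f : MvPowerSeries (Fin n) R} :
    f ∈ Fid R n k ↔ ∀ d : Fin n →₀ ℕ, d.degree < k → coeff d f = 0 := Iff.rfl

theorem Fid_mono {a b : ℕ} (h : a ≤ b) : Fid R n b ≤ Fid R n a :=
  fun _ hf d hd => hf d (lt_of_lt_of_le hd h)

theorem mem_Fid_zero (f : MvPowerSeries (Fin n) R) : f ∈ Fid R n 0 :=
  fun _ hd => absurd hd (Nat.not_lt_zero _)

theorem mul_mem_Fid {a b : ℕ} {f g : MvPowerSeries (Fin n) R} (hf : f ∈ Fid R n a)
    (hg : g ∈ Fid R n b) : f * g ∈ Fid R n (a + b) := by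
  classical
  intro d hd
  rw [coeff_mul]
  apply Finset.sum_eq_zero
  intro p hp
  have hpd : p.1 + p.2 = d := Finset.HasAntidiagonal.mem_antidiagonal.mp hp
  have h : d.degree = p.1.degree + p.2.degree := by rw [← hpd, map_add]
  by_cases h1 : p.1.degree < a
  · rw [hf p.1 h1, zero_mul]
  · have h2 : p.2.degree < b := by omega
    rw [hg p.2 h2, mul_zero]

theorem degree_lt_one {d : Fin n →₀ ℕ} (h : d.degree < 1) : d = 0 :=
  (Finsupp.degree_eq_zero_iff d).mp (by omega)

theorem mem_Fid_one {f : MvPowerSeries (Fin n) R} : f ∈ Fid R n 1 ↔ coeff 0 f = 0 := by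
  constructor
  · intro h
    exact h 0 (by simp)
  · intro h d hd
    rw [degree_lt_one hd]
    exact h

theorem X_mem_Fid (i : Fin n) : (X i : MvPowerSeries (Fin n) R) ∈ Fid R n 1 :=
  mem_Fid_one.mpr (coeff_zero_X i)

theorem eq_zero_of_forall_mem_Fid {f : MvPowerSeries (Fin n) R} (h : ∀ k, f ∈ Fid R n k) :
    f = 0 := by
  ext d
  rw [h (d.degree + 1) d (Nat.lt_succ_self _)]
  simp

theorem degree_eq_one {d : Fin n →₀ ℕ} (h : d.degree = 1) : ∃ j, d = single j 1 := by
  have hne : d ≠ 0 := by
    intro h0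
    rw [h0] at h
    simp at h
  obtain ⟨j, hj⟩ : ∃ j, d j ≠ 0 := by
    by_contra hcon
    push Not at hcon
    exact hne (Finsupp.ext hcon)
  have hle : single j 1 ≤ d := Finsupp.single_le_iff.mpr (Nat.one_le_iff_ne_zero.mpr hj)
  have hsplit : d = single j 1 + (d - single j 1) := (add_tsub_cancel_of_le hle).symm
  have hdeg : (d - single j 1).degree = 0 := by
    have h2 : d.degree = (single j 1 : Fin n →₀ ℕ).degree + (d - single j 1).degree := by
      rw [← map_add, ← hsplit]
    rw [h, Finsupp.degree_single] at h2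
    omega
  have hz : d - single j 1 = 0 := (Finsupp.degree_eq_zero_iff _).mp hdeg
  exact ⟨j, by rw [hsplit, hz, add_zero]⟩

theorem mem_Fid_two {f : MvPowerSeries (Fin n) R} :
    f ∈ Fid R n 2 ↔ coeff 0 f = 0 ∧ ∀ j, coeff (single j 1) f = 0 := by
  constructor
  · intro h
    exact ⟨h 0 (by simp), fun j => h _ (by simp)⟩
  · rintro ⟨h0, h1⟩ d hd
    rcases Nat.lt_or_ge d.degree 1 with h | h
    · rw [degree_lt_one h]
      exact h0
    · obtain ⟨j, rfl⟩ := degree_eq_one (d := d) (by omega)
      exact h1 j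

/-- Decomposition of a series of order `≥ k + 1` as `∑ Xᵢ gᵢ` with the `gᵢ` of order `≥ k`. -/
theorem exists_decomp {k : ℕ} {f : MvPowerSeries (Fin n) R} (hf : f ∈ Fid R n (k + 1)) :
    ∃ g : Fin n → MvPowerSeries (Fin n) R, (∀ i, g i ∈ Fid R n k) ∧ f = ∑ i, X i * g i := by
  classical
  let g : Fin n → MvPowerSeries (Fin n) R := fun i d' =>
    if ∀ j, j < i → d' j = 0 then coeff (d' + single i 1) f else 0
  have hgcoeff : ∀ i d', coeff d' (g i) =
      if ∀ j, j < i → d' j = 0 then coeff (d' + single i 1) f else 0 := fun i d' => rfl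
  refine ⟨g, ?_, ?_⟩
  · intro i d' hd'
    rw [hgcoeff]
    split_ifs with h
    · apply hf
      rw [map_add, Finsupp.degree_single]
      omega
    · rfl
  · ext d
    rw [map_sum]
    have hterm : ∀ i, coeff d (X i * g i) =
        if (1 ≤ d i ∧ ∀ j, j < i → d j = 0) then coeff d f else 0 := by
      intro i
      rw [X_def, coeff_monomial_mul, one_mul]
      by_cases hle : single i 1 ≤ d
      · have hdi : 1 ≤ d i := Finsupp.single_le_iff.mp hle
        rw [if_pos hle, hgcoeff, tsub_add_cancel_of_le hle]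
        have hiff : (∀ j, j < i → (d - single i 1 : Fin n →₀ ℕ) j = 0) ↔ (∀ j, j < i → d j = 0) := by
          constructor
          · intro h j hj
            have := h j hj
            rw [Finsupp.tsub_apply, Finsupp.single_apply, if_neg (ne_of_gt hj)] at this
            simpa using this
          · intro h j hj
            rw [Finsupp.tsub_apply, h j hj]
            simp
        by_cases hc : ∀ j, j < i → d j = 0
        · rw [if_pos (hiff.mpr hc), if_pos ⟨hdi, hc⟩]
        · rw [if_neg (fun h => hc (hiff.mp h)), if_neg (fun h => hc h.2)]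
      · have hdi : ¬ 1 ≤ d i := fun h => hle (Finsupp.single_le_iff.mpr h)
        rw [if_neg hle, if_neg (fun h => hdi h.1)]
    simp_rw [hterm]
    by_cases hd0 : d = 0
    · rw [hd0, hf 0 (by simp)]
      apply (Finset.sum_eq_zero _).symm
      intro i _
      rw [if_neg]
      simp
    · have hsupp : d.support.Nonempty := Finsupp.support_nonempty_iff.mpr hd0
      let i₀ := d.support.min' hsupp
      have hi₀ : d i₀ ≠ 0 := Finsupp.mem_support_iff.mp (Finset.min'_mem _ hsupp)
      have hbelow : ∀ j, j < i₀ → d j = 0 := by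
        intro j hj
        by_contra hne
        have : i₀ ≤ j := Finset.min'_le _ j (Finsupp.mem_support_iff.mpr hne)
        exact absurd hj (not_lt.mpr this)
      rw [Finset.sum_eq_single i₀]
      · rw [if_pos ⟨Nat.one_le_iff_ne_zero.mpr hi₀, hbelow⟩]
      · intro i _ hne
        rw [if_neg]
        rintro ⟨h1, h2⟩
        rcases lt_or_gt_of_ne hne with h | h
        · exact absurd (hbelow i h) (by omega)
        · exact hi₀ (h2 i₀ h)
      · intro h
        exact absurd (Finset.mem_univ i₀) h

/-- Automatic continuity: an algebra endomorphism preserving the maximal ideal preserves the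
order filtration. -/
theorem map_mem_Fid (θ : MvPowerSeries (Fin n) R →ₐ[R] MvPowerSeries (Fin n) R)
    (h0 : ∀ i, θ (X i) ∈ Fid R n 1) :
    ∀ (k : ℕ) (f : MvPowerSeries (Fin n) R), f ∈ Fid R n k → θ f ∈ Fid R n k := by
  intro k
  induction k with
  | zero => intro f _; exact mem_Fid_zero _
  | succ k ih =>
    intro f hf
    obtain ⟨g, hg, rfl⟩ := exists_decomp hf
    rw [map_sum]
    apply Ideal.sum_mem
    intro i _
    rw [map_mul]
    have h := mul_mem_Fid (h0 i) (ih (g i) (hg i))
    rwa [add_comm] at h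

theorem sub_linear_mem_Fid_two {f : MvPowerSeries (Fin n) R} (hf : f ∈ Fid R n 1) :
    f - ∑ j, (coeff (single j 1) f) • (X j : MvPowerSeries (Fin n) R) ∈ Fid R n 2 := by
  classical
  rw [mem_Fid_two]
  constructor
  · rw [map_sub, map_sum, mem_Fid_one.mp hf, zero_sub, neg_eq_zero]
    apply Finset.sum_eq_zero
    intro j _
    rw [coeff_smul, coeff_zero_X, mul_zero]
  · intro l
    rw [map_sub, map_sum, sub_eq_zero]
    rw [Finset.sum_eq_single l]
    · rw [coeff_smul, coeff_index_single_self_X, mul_one]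
    · intro j _ hjl
      rw [coeff_smul, coeff_index_single_X, if_neg (Ne.symm hjl), mul_zero]
    · intro h
      exact absurd (Finset.mem_univ l) h

/-- The linear part of `θ g` in terms of the linear parts of `g` and of the `θ (X j)`. -/
theorem lin_map (θ : MvPowerSeries (Fin n) R →ₐ[R] MvPowerSeries (Fin n) R)
    (h0 : ∀ i, θ (X i) ∈ Fid R n 1) {g : MvPowerSeries (Fin n) R} (hg : g ∈ Fid R n 1)
    (l : Fin n) :
    coeff (single l 1) (θ g) =
      ∑ j, coeff (single j 1) g * coeff (single l 1) (θ (X j)) := by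
  have h2 := map_mem_Fid θ h0 2 _ (sub_linear_mem_Fid_two hg)
  have h3 := (mem_Fid_two.mp h2).2 l
  rw [map_sub, map_sub, sub_eq_zero] at h3
  rw [h3, map_sum, map_sum]
  apply Finset.sum_congr rfl
  intro j _
  rw [map_smul, coeff_smul]

section IdentityJacobian

variable (θ : MvPowerSeries (Fin n) R →ₐ[R] MvPowerSeries (Fin n) R)
  (h0 : ∀ i, θ (X i) ∈ Fid R n 1)
  (h1 : ∀ i l, coeff (single l 1) (θ (X i)) = if i = l then 1 else 0)

include h0 h1

theorem sub_self_mem :
    ∀ (k : ℕ) (f : MvPowerSeries (Fin n) R), f ∈ Fid R n k → θ f - f ∈ Fid R n (k + 1) := by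
  classical
  intro k
  induction k with
  | zero =>
    intro f _
    rw [zero_add, mem_Fid_one]
    have hf1 : f - C (coeff 0 f) ∈ Fid R n 1 := by
      rw [mem_Fid_one, map_sub, coeff_zero_C, sub_self]
    have hθ := map_mem_Fid θ h0 1 _ hf1
    rw [map_sub, c_eq_algebraMap, θ.commutes, ← c_eq_algebraMap] at hθ
    have e1 := mem_Fid_one.mp hθ
    rw [map_sub, coeff_zero_C] at e1
    rw [map_sub]
    exact e1
  | succ k ih =>
    intro f hf
    obtain ⟨g, hg, rfl⟩ := exists_decomp hf
    rw [map_sum, ← Finset.sum_sub_distrib]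
    apply Ideal.sum_mem
    intro i _
    rw [map_mul]
    have hsplit : θ (X i) * θ (g i) - X i * g i =
        (θ (X i) - X i) * θ (g i) + X i * (θ (g i) - g i) := by ring
    rw [hsplit]
    apply Ideal.add_mem
    · have hX : θ (X i) - X i ∈ Fid R n 2 := by
        rw [mem_Fid_two]
        constructor
        · rw [map_sub, mem_Fid_one.mp (h0 i), coeff_zero_X, sub_self]
        · intro l
          rw [map_sub, h1 i l, coeff_index_single_X]
          by_cases hil : i = l
          · rw [if_pos hil, if_pos hil.symm, sub_self]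
          · rw [if_neg hil, if_neg (fun h => hil h.symm), sub_self]
      have h := mul_mem_Fid hX (map_mem_Fid θ h0 k _ (hg i))
      have e : 2 + k = k + 1 + 1 := by omega
      rwa [e] at h
    · have h := mul_mem_Fid (X_mem_Fid (R := R) i) (ih (g i) (hg i))
      have e : 1 + (k + 1) = k + 1 + 1 := by omega
      rwa [e] at h

theorem injective_of_jacobian_one : Function.Injective θ := by
  rw [injective_iff_map_eq_zero]
  intro f hf
  apply eq_zero_of_forall_mem_Fid
  intro k
  induction k with
  | zero => exact mem_Fid_zero _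
  | succ k ih =>
    have h := sub_self_mem θ h0 h1 k f ih
    rw [hf, zero_sub] at h
    have := (Fid R n (k + 1)).neg_mem h
    rwa [neg_neg] at this

theorem surjective_of_jacobian_one : Function.Surjective θ := by
  intro g
  let s : ℕ → MvPowerSeries (Fin n) R := fun m =>
    Nat.rec 0 (fun _ sm => sm + (g - θ sm)) m
  have hs_succ : ∀ m, s (m + 1) = s m + (g - θ (s m)) := fun m => rfl
  have hr : ∀ m, g - θ (s m) ∈ Fid R n m := by
    intro m
    induction m with
    | zero => exact mem_Fid_zero _
    | succ m ih =>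
      rw [hs_succ, map_add]
      have h := sub_self_mem θ h0 h1 m _ ih
      have e : g - (θ (s m) + θ (g - θ (s m))) = -(θ (g - θ (s m)) - (g - θ (s m))) := by ring
      rw [e]
      exact (Fid R n (m + 1)).neg_mem h
  have hstab : ∀ (d : Fin n →₀ ℕ) (m : ℕ), d.degree < m → coeff d (s (m + 1)) = coeff d (s m) := by
    intro d m hdm
    rw [hs_succ, map_add, hr m d hdm, add_zero]
  have hstab' : ∀ (d : Fin n →₀ ℕ) (m : ℕ), d.degree + 1 ≤ m →
      coeff d (s m) = coeff d (s (d.degree + 1)) := by
    intro d m hm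
    induction m, hm using Nat.le_induction with
    | base => rfl
    | succ m hm ih =>
      rw [hstab d m (by omega), ih]
  let f : MvPowerSeries (Fin n) R := fun d => coeff d (s (d.degree + 1))
  have hfcoeff : ∀ d, coeff d f = coeff d (s (d.degree + 1)) := fun d => rfl
  have hf : ∀ m, f - s m ∈ Fid R n m := by
    intro m d hd
    rw [map_sub, hfcoeff, hstab' d m (by omega), sub_self]
  refine ⟨f, ?_⟩
  have hzero : g - θ f = 0 := by
    apply eq_zero_of_forall_mem_Fid
    intro m
    have e : g - θ f = (g - θ (s m)) - θ (f - s m) := by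
      rw [map_sub]
      ring
    rw [e]
    exact Ideal.sub_mem _ (hr m) (map_mem_Fid θ h0 m _ (hf m))
  exact (sub_eq_zero.mp hzero).symm

end IdentityJacobian

/-- **Formal inverse function theorem.** -/
theorem bijective_of_isUnit_jacobian
    (φ : MvPowerSeries (Fin n) R →ₐ[R] MvPowerSeries (Fin n) R)
    (h0 : ∀ i, MvPowerSeries.constantCoeff (φ (MvPowerSeries.X i)) = 0)
    (hJ : IsUnit (Matrix.det (Matrix.of fun i j : Fin n =>
      MvPowerSeries.coeff (Finsupp.single j 1) (φ (MvPowerSeries.X i))))) :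
    Function.Bijective φ := by
  classical
  set J : Matrix (Fin n) (Fin n) R := Matrix.of fun i j : Fin n =>
      MvPowerSeries.coeff (Finsupp.single j 1) (φ (MvPowerSeries.X i)) with hJdef
  have hφ0 : ∀ i, φ (X i) ∈ Fid R n 1 := fun i => by
    rw [mem_Fid_one, coeff_zero_eq_constantCoeff_apply]
    exact h0 i
  have hJ1 : J * J⁻¹ = 1 := Matrix.mul_nonsing_inv J hJ
  have hJ2 : J⁻¹ * J = 1 := Matrix.nonsing_inv_mul J hJ
  let a : Fin n → MvPowerSeries (Fin n) R := fun i => ∑ j, (J⁻¹ i j) • (X j : MvPowerSeries (Fin n) R)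
  have ha0 : ∀ i, a i ∈ Fid R n 1 := fun i =>
    Ideal.sum_mem _ (fun j _ => (Fid R n 1).smul_of_tower_mem _ (X_mem_Fid j))
  have ha : HasSubst a := hasSubst_of_constantCoeff_zero (fun i => by
    rw [← coeff_zero_eq_constantCoeff_apply]
    exact mem_Fid_one.mp (ha0 i))
  let ψ : MvPowerSeries (Fin n) R →ₐ[R] MvPowerSeries (Fin n) R := substAlgHom ha
  have hψX : ∀ i, ψ (X i) = a i := fun i => substAlgHom_X ha i
  have hψ0 : ∀ i, ψ (X i) ∈ Fid R n 1 := fun i => by rw [hψX]; exact ha0 i
  have hψlin : ∀ i l, coeff (single l 1) (ψ (X i)) = J⁻¹ i l := by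
    intro i l
    rw [hψX, map_sum, Finset.sum_eq_single l]
    · rw [coeff_smul, coeff_index_single_self_X, mul_one]
    · intro j _ hjl
      rw [coeff_smul, coeff_index_single_X, if_neg (Ne.symm hjl), mul_zero]
    · intro h
      exact absurd (Finset.mem_univ l) h
  have hφlin : ∀ i l, coeff (single l 1) (φ (X i)) = J i l := fun i l => rfl
  -- φ ∘ ψ has identity Jacobian
  have h1 : Function.Bijective (φ.comp ψ) := by
    have hc0 : ∀ i, (φ.comp ψ) (X i) ∈ Fid R n 1 := fun i =>
      map_mem_Fid φ hφ0 1 _ (hψ0 i)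
    have hc1 : ∀ i l, coeff (single l 1) ((φ.comp ψ) (X i)) = if i = l then 1 else 0 := by
      intro i l
      rw [AlgHom.comp_apply, lin_map φ hφ0 (hψ0 i) l]
      simp_rw [hψlin, hφlin]
      rw [← Matrix.mul_apply, hJ2, Matrix.one_apply]
    exact ⟨injective_of_jacobian_one _ hc0 hc1, surjective_of_jacobian_one _ hc0 hc1⟩
  have h2 : Function.Bijective (ψ.comp φ) := by
    have hc0 : ∀ i, (ψ.comp φ) (X i) ∈ Fid R n 1 := fun i =>
      map_mem_Fid ψ hψ0 1 _ (hφ0 i)
    have hc1 : ∀ i l, coeff (single l 1) ((ψ.comp φ) (X i)) = if i = l then 1 else 0 := by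
      intro i l
      rw [AlgHom.comp_apply, lin_map ψ hψ0 (hφ0 i) l]
      simp_rw [hψlin, hφlin]
      rw [← Matrix.mul_apply, hJ1, Matrix.one_apply]
    exact ⟨injective_of_jacobian_one _ hc0 hc1, surjective_of_jacobian_one _ hc0 hc1⟩
  constructor
  · have : Function.Injective (⇑ψ ∘ ⇑φ) := h2.1
    exact Function.Injective.of_comp this
  · have : Function.Surjective (⇑φ ∘ ⇑ψ) := h1.2
    exact Function.Surjective.of_comp this

end Groth.Agent.H73.FormalInverse
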