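import Mathlib
import Groth.Prelude.Def_EtRam

set_option autoImplicit false
set_option linter.style.haveILetI false
set_option maxHeartbeats 400000
universe u
open Polynomial IsLocalRing

namespace Groth.Agent.H73.TameGalois

/-- A finite separable field extension all of whose embeddings into an algebraic closure are
obtained from a fixed one by precomposing with endomorphisms coming from a finite group is
Galois, of degree dividing the order of the group. -/
theorem isGalois_of_forall_embedding (K L : Type u) [Field K] [Field L] [Algebra K L]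
    [FiniteDimensional K L] [Algebra.IsSeparable K L]
    (D : Type*) [Group D] [Finite D] (ψ : D →* (L →ₐ[K] L))
    (h : ∀ ι : L →ₐ[K] AlgebraicClosure L,
      ∃ d : D, ι = (IsScalarTower.toAlgHom K L (AlgebraicClosure L)).comp (ψ d)) :
    IsGalois K L ∧ Module.finrank K L ∣ Nat.card D := by
  have hnormal : Normal K L := by
    rw [normal_iff]
    intro x
    have hx : IsIntegral K x := Algebra.IsIntegral.isIntegral x
    refine ⟨hx, ?_⟩
    refine Splits.of_splits_map (algebraMap L (AlgebraicClosure L)) (IsAlgClosed.splits _) ?_
    intro a ha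
    rw [Polynomial.map_map, ← IsScalarTower.algebraMap_eq] at ha
    have ha' : aeval a (minpoly K x) = 0 := by
      have := (Polynomial.mem_roots'.mp ha).2
      rwa [IsRoot.def, eval_map_algebraMap] at this
    obtain ⟨ι, hι⟩ := IntermediateField.exists_algHom_of_splits_of_aeval
      (F := K) (E := L) (K := AlgebraicClosure L)
      (fun s => ⟨Algebra.IsIntegral.isIntegral s, IsAlgClosed.splits _⟩) ha'
    obtain ⟨d, hd⟩ := h ι
    refine ⟨ψ d x, ?_⟩
    rw [← hι, hd]
    rfl
  haveI : IsGalois K L := ⟨⟩
  refine ⟨inferInstance, ?_⟩
  rw [← IsGalois.card_aut_eq_finrank K L]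
  let e := (Algebra.IsAlgebraic.algEquivEquivAlgHom K L)
  let ψ' : D →* (L ≃ₐ[K] L) := e.symm.toMonoidHom.comp ψ
  refine Subgroup.card_dvd_of_surjective ψ' ?_
  intro τ
  obtain ⟨d, hd⟩ := h ((IsScalarTower.toAlgHom K L (AlgebraicClosure L)).comp (τ : L →ₐ[K] L))
  refine ⟨d, ?_⟩
  apply e.injective
  show e (e.symm (ψ d)) = e τ
  rw [MulEquiv.apply_symm_apply]
  apply AlgHom.ext
  intro x
  have := DFunLike.congr_fun hd x
  exact ((algebraMap L (AlgebraicClosure L)).injective this).symm
theorem isSeparable_of_finrank_coprime (F E : Type*) [Field F] [Field E] [Algebra F E]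
    [FiniteDimensional F E]
    (h : ∀ p : ℕ, p.Prime → CharP F p → ¬ p ∣ Module.finrank F E) : Algebra.IsSeparable F E := by
  obtain ⟨q, hq⟩ := ExpChar.exists F
  obtain ⟨n, hn⟩ := finInsepDegree_eq_pow F E q
  rw [isSeparable_iff_finInsepDegree_eq_one]
  cases hq with
  | zero => rw [hn, one_pow]
  | prime hprime =>
    by_contra hne
    have hn0 : n ≠ 0 := fun h0 => hne (by rw [hn, h0, pow_zero])
    have hdvd : q ∣ Module.finrank F E := by
      rw [← Field.finSepDegree_mul_finInsepDegree F E, hn]
      exact Dvd.dvd.mul_left (dvd_pow_self q hn0) _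
    exact h q hprime inferInstance hdvd

section Loc

variable (A K L : Type u) [CommRing A] [IsDomain A] [IsDiscreteValuationRing A] [Field K]
  [Algebra A K] [IsFractionRing A K] [Field L] [Algebra K L] [FiniteDimensional K L]
  [Algebra.IsSeparable K L] [Algebra A L] [IsScalarTower A K L]

include K in
/-- A valuation subring of a finite separable extension `L` of `K = Frac A` dominating the DVR
`A` is the localization of the integral closure of `A` in `L` at a maximal ideal. -/
theorem exists_isLocalization_of_dominates (V : ValuationSubring L)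
    (hV : EtRam.Dominates A (algebraMap A L) V) :
    ∃ (ι : integralClosure A L →+* V) (P : Ideal (integralClosure A L)) (hP : P.IsMaximal),
      (∀ b, ((ι b : V) : L) = (b : L)) ∧ P = (maximalIdeal V).comap ι ∧ P ≠ ⊥ ∧
      (letI := ι.toAlgebra; @IsLocalization.AtPrime _ _ V _ _ P hP.isPrime) := by
  haveI hBded : IsDedekindDomain (integralClosure A L) := integralClosure.isDedekindDomain A K L
  haveI hBfr : IsFractionRing (integralClosure A L) L :=
    integralClosure.isFractionRing_of_finite_extension K L
  have hBV : ∀ b : integralClosure A L, (b : L) ∈ V := by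
    intro b
    obtain ⟨p, hp, hpx⟩ := b.2
    have hc : (algebraMap V.toSubring L).comp
        (RingHom.codRestrict (algebraMap A L) V.toSubring hV.1) = algebraMap A L :=
      RingHom.ext (fun a => rfl)
    have hint : IsIntegral V.toSubring (b : L) := by
      refine ⟨p.map (RingHom.codRestrict (algebraMap A L) V.toSubring hV.1), hp.map _, ?_⟩
      rw [Polynomial.eval₂_map, hc]
      exact hpx
    exact LocalSubring.mem_of_isMax_of_isIntegral V.isMax_toLocalSubring hint
  let ι : integralClosure A L →+* V :=
    RingHom.codRestrict ((integralClosure A L).val : integralClosure A L →+* L) V hBV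
  have hιval : ∀ b, ((ι b : V) : L) = (b : L) := fun b => rfl
  obtain ⟨n, hn⟩ : ∃ n : Ideal (integralClosure A L), n = (maximalIdeal V).comap ι :=
    ⟨_, rfl⟩
  have hnmem : ∀ b, b ∈ n ↔ ¬ IsUnit (ι b) := by
    intro b; rw [hn, Ideal.mem_comap, mem_maximalIdeal, mem_nonunits_iff]
  haveI : n.IsPrime := by rw [hn]; exact Ideal.comap_isPrime ι _
  have hunits : ∀ y : n.primeCompl, IsUnit (ι y) := by
    intro y
    by_contra hy
    exact y.2 ((hnmem _).mpr hy)
  letI algBV : Algebra (integralClosure A L) V := ι.toAlgebra
  let ρ : Localization.AtPrime n →ₐ[integralClosure A L] V :=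
    IsLocalization.liftAlgHom (M := n.primeCompl) (f := Algebra.ofId (integralClosure A L) V) hunits
  have hρ : ∀ b, ρ (algebraMap _ _ b) = ι b := fun b => IsLocalization.lift_eq _ b
  have hρloc : ∀ y, IsUnit (ρ y) → IsUnit y := by
    intro y hy
    obtain ⟨⟨b, s⟩, rfl⟩ := IsLocalization.mk'_surjective n.primeCompl y
    have h1 : ρ (IsLocalization.mk' _ b s) * ι s = ι b := by
      rw [← hρ (s : integralClosure A L), ← map_mul, IsLocalization.mk'_spec, hρ]
    have hb : IsUnit (ι b) := by rw [← h1]; exact hy.mul (hunits s)
    have hbn : b ∈ n.primeCompl := fun hbn => (hnmem b).mp hbn hb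
    exact (IsLocalization.AtPrime.isUnit_mk'_iff (Localization.AtPrime n) n b s).mpr hbn
  obtain ⟨π, hπ⟩ := IsDiscreteValuationRing.exists_irreducible A
  have hπm : π ∈ maximalIdeal A := by
    rw [hπ.maximalIdeal_eq]; exact Ideal.mem_span_singleton_self π
  have hinjAL : Function.Injective (algebraMap A L) := by
    rw [IsScalarTower.algebraMap_eq A K L]
    exact (algebraMap K L).injective.comp (IsFractionRing.injective A K)
  have hn0 : n ≠ ⊥ := by
    intro h0
    have h1 : algebraMap A (integralClosure A L) π ∈ n := by
      rw [hn, Ideal.mem_comap]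
      show ι (algebraMap A (integralClosure A L) π) ∈ maximalIdeal V
      rw [ValuationSubring.valuation_lt_one_iff]
      exact hV.2 π hπm
    rw [h0, Ideal.mem_bot] at h1
    have h2 : algebraMap A L π = 0 := congrArg (fun b : integralClosure A L => (b : L)) h1
    exact hπ.ne_zero (hinjAL (by rw [h2, map_zero]))
  haveI : IsDomain (Localization.AtPrime n) :=
    IsLocalization.isDomain_localization n.primeCompl_le_nonZeroDivisors
  haveI hO : IsDiscreteValuationRing (Localization.AtPrime n) :=
    IsLocalization.AtPrime.isDiscreteValuationRing_of_dedekind_domain (integralClosure A L) hn0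
      (Localization.AtPrime n)
  letI algOL : Algebra (Localization.AtPrime n) L := (V.subtype.comp ρ.toRingHom).toAlgebra
  haveI : IsScalarTower (integralClosure A L) (Localization.AtPrime n) L :=
    IsScalarTower.of_algebraMap_eq (fun b => by
      show (b : L) = V.subtype (ρ (algebraMap _ _ b))
      rw [hρ]; rfl)
  haveI : IsFractionRing (Localization.AtPrime n) L :=
    IsFractionRing.isFractionRing_of_isDomain_of_isLocalization n.primeCompl
      (Localization.AtPrime n) L
  have hρsurj : Function.Surjective ρ := by
    intro x
    rcases ValuationRing.isInteger_or_isInteger (Localization.AtPrime n) (x : L) with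
      ⟨y, hy⟩ | ⟨y, hy⟩
    · exact ⟨y, Subtype.ext hy⟩
    · have hy' : ((ρ y : V) : L) = (x : L)⁻¹ := hy
      by_cases hx0 : x = 0
      · exact ⟨0, by rw [map_zero, hx0]⟩
      · have hxL : (x : L) ≠ 0 := fun h => hx0 (Subtype.ext h)
        by_cases hyu : IsUnit y
        · obtain ⟨u, rfl⟩ := hyu
          refine ⟨↑u⁻¹, Subtype.ext ?_⟩
          have h2 : ((ρ ↑u⁻¹ : V) : L) * ((ρ ↑u : V) : L) = 1 := by
            have h3 : ρ ↑u⁻¹ * ρ ↑u = 1 := by rw [← map_mul, Units.inv_mul, map_one]
            exact congrArg Subtype.val h3
          rw [eq_inv_of_mul_eq_one_left h2, hy', inv_inv]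
        · exfalso
          have hny : ¬ IsUnit (ρ y) := fun h => hyu (hρloc y h)
          apply hny
          refine IsUnit.of_mul_eq_one x (Subtype.ext ?_)
          show ((ρ y : V) : L) * (x : L) = 1
          rw [hy', inv_mul_cancel₀ hxL]
  have hρinj : Function.Injective ρ := by
    intro y y' hyy
    apply IsFractionRing.injective (Localization.AtPrime n) L
    show V.subtype (ρ y) = V.subtype (ρ y')
    rw [hyy]
  have hmax : n.IsMaximal := Ideal.IsPrime.isMaximal inferInstance hn0
  have hloc : IsLocalization n.primeCompl V :=
    IsLocalization.isLocalization_of_algEquiv n.primeCompl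
      (AlgEquiv.ofBijective ρ ⟨hρinj, hρsurj⟩)
  exact ⟨ι, n, hmax, hιval, hn, hn0, hloc⟩

end Loc

section Tame

variable (A K L : Type u) [CommRing A] [IsDomain A] [IsDiscreteValuationRing A] [Field K]
  [Algebra A K] [IsFractionRing A K] [Field L] [Algebra K L] [FiniteDimensional K L]
  [IsGalois K L] [Algebra A L] [IsScalarTower A K L]

include K in
/-- A finite Galois extension whose degree is prime to the residue characteristic is tamely
ramified. -/
theorem isTamelyRamified_of_isGalois
    (hp : ∀ p : ℕ, p.Prime → CharP (ResidueField A) p → ¬ p ∣ Module.finrank K L) :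
    EtRam.IsTamelyRamified A (algebraMap A L) := by
  intro V hV
  letI algAV : Algebra A V := (RingHom.codRestrict (algebraMap A L) V hV.1).toAlgebra
  intro hloc
  obtain ⟨ι, P, hPmax, hιval, hPdef, hP0, hlocz⟩ :=
    exists_isLocalization_of_dominates A K L V hV
  letI algBV : Algebra (integralClosure A L) V := ι.toAlgebra
  haveI := hPmax
  haveI hPprime : P.IsPrime := hPmax.isPrime
  haveI : IsLocalization.AtPrime V P := hlocz
  haveI : IsScalarTower A (integralClosure A L) V :=
    IsScalarTower.of_algebraMap_eq (fun a => Subtype.ext (by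
      show algebraMap A L a = ((ι (algebraMap A (integralClosure A L) a) : V) : L)
      rw [hιval]; rfl))
  haveI hBded : IsDedekindDomain (integralClosure A L) := integralClosure.isDedekindDomain A K L
  haveI hBfr : IsFractionRing (integralClosure A L) L :=
    integralClosure.isFractionRing_of_finite_extension K L
  haveI hfin : Module.Finite A (integralClosure A L) :=
    IsIntegralClosure.finite A K L (integralClosure A L)
  haveI hPlo : P.LiesOver (maximalIdeal A) := ⟨by
    have h04 : IsLocalHom (algebraMap A V) ↔
        (maximalIdeal V).comap (algebraMap A V) = maximalIdeal A :=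
      (local_hom_TFAE (algebraMap A V)).out 0 4
    have hcomp : ι.comp (algebraMap A (integralClosure A L)) = algebraMap A V :=
      (IsScalarTower.algebraMap_eq A (integralClosure A L) V).symm
    rw [Ideal.under_def, hPdef, Ideal.comap_comap, hcomp]
    exact (h04.mp hloc).symm⟩
  have hinjAL : Function.Injective (algebraMap A L) := by
    rw [IsScalarTower.algebraMap_eq A K L]
    exact (algebraMap K L).injective.comp (IsFractionRing.injective A K)
  haveI : Module.IsTorsionFree A L := Module.isTorsionFree_iff_algebraMap_injective.mpr hinjAL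
  haveI : Module.IsTorsionFree A (integralClosure A L) :=
    Subalgebra.instIsTorsionFree (integralClosure A L)
  haveI : Module.Flat A (integralClosure A L) := inferInstance
  -- the fundamental identity
  letI : MulSemiringAction (L ≃ₐ[K] L) (integralClosure A L) :=
    IsIntegralClosure.MulSemiringAction A K L (integralClosure A L)
  haveI : IsGaloisGroup (L ≃ₐ[K] L) A (integralClosure A L) :=
    IsGaloisGroup.of_isFractionRing _ _ _ K L
  have hid := Ideal.ncard_primesOver_mul_ramificationIdxIn_mul_inertiaDegIn (maximalIdeal A)
    (integralClosure A L) (L ≃ₐ[K] L)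
  rw [Ideal.ramificationIdxIn_eq_ramificationIdx (maximalIdeal A) P (L ≃ₐ[K] L),
    Ideal.inertiaDegIn_eq_inertiaDeg (maximalIdeal A) P (L ≃ₐ[K] L),
    IsGalois.card_aut_eq_finrank] at hid
  have hedvd : P.ramificationIdx A ∣ Module.finrank K L := by
    rw [← hid]
    exact Dvd.dvd.mul_left (Dvd.intro _ rfl) _
  have hfdvd : P.inertiaDeg A ∣ Module.finrank K L := by
    rw [← hid]
    exact Dvd.dvd.mul_left (Dvd.intro_left _ rfl) _
  -- ramification index
  have hmV : P.map (algebraMap (integralClosure A L) V) = maximalIdeal V :=
    IsLocalization.AtPrime.map_eq_maximalIdeal P V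
  have hsets : ∀ n, (maximalIdeal A).map (algebraMap A V) ≤ maximalIdeal V ^ n ↔
      (maximalIdeal A).map (algebraMap A (integralClosure A L)) ≤ P ^ n := by
    intro n
    constructor
    · intro h
      have h1 : (maximalIdeal A).map (algebraMap A (integralClosure A L)) ≤
          ((maximalIdeal V) ^ n).under (integralClosure A L) := by
        rw [Ideal.under_def, ← Ideal.map_le_iff_le_comap, Ideal.map_map,
          ← IsScalarTower.algebraMap_eq]
        exact h
      rwa [IsLocalization.AtPrime.under_maximalIdeal_pow P V n] at h1
    · intro h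
      have h2 := Ideal.map_mono (f := algebraMap (integralClosure A L) V) h
      rwa [Ideal.map_map, ← IsScalarTower.algebraMap_eq, Ideal.map_pow, hmV] at h2
  have heq : Ideal.ramificationIdx' (maximalIdeal A) (maximalIdeal V) =
      Ideal.ramificationIdx' (maximalIdeal A) P := by
    unfold Ideal.ramificationIdx'
    congr 1
    ext n
    exact hsets n
  have hmA0 : maximalIdeal A ≠ ⊥ := IsDiscreteValuationRing.not_a_field A
  have heB : Ideal.ramificationIdx' (maximalIdeal A) P = P.ramificationIdx A :=
    Ideal.ramificationIdx'_eq_ramificationIdx (maximalIdeal A) P hmA0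
  refine ⟨?_, fun p hpp hpc => ?_⟩
  · letI algFB : Algebra (ResidueField A) (integralClosure A L ⧸ P) :=
      (inferInstance : Algebra (A ⧸ maximalIdeal A) (integralClosure A L ⧸ P))
    letI fB : Field (integralClosure A L ⧸ P) := Ideal.Quotient.field P
    haveI : Module.Finite (ResidueField A) (integralClosure A L ⧸ P) :=
      (inferInstance : Module.Finite (A ⧸ maximalIdeal A) (integralClosure A L ⧸ P))
    have hfeq : P.inertiaDeg A = Module.finrank (ResidueField A) (integralClosure A L ⧸ P) :=
      Ideal.inertiaDeg_eq_of_isMaximal (maximalIdeal A) P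
    haveI hsepB : Algebra.IsSeparable (ResidueField A) (integralClosure A L ⧸ P) :=
      isSeparable_of_finrank_coprime _ _ (fun p hpp hpc => by
        rw [← hfeq]
        exact fun h => hp p hpp hpc (h.trans hfdvd))
    refine Algebra.IsSeparable.of_equiv_equiv (RingEquiv.refl (ResidueField A))
      (IsLocalization.AtPrime.equivQuotMaximalIdeal P V) ?_
    ext a
    obtain ⟨a, rfl⟩ := Ideal.Quotient.mk_surjective a
    show IsLocalRing.residue V (algebraMap A V a) =
      Ideal.Quotient.mk _ (algebraMap (integralClosure A L) V
        (algebraMap A (integralClosure A L) a))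
    rw [← IsScalarTower.algebraMap_apply]
    rfl
  · rw [heq, heB]
    exact fun h => hp p hpp hpc (h.trans hedvd)

end Tame


end Groth.Agent.H73.TameGalois
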