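import Mathlib
import Groth.Prelude.Def_PiSp
import Groth.Agent.H73.TameGalois

set_option autoImplicit false
set_option linter.style.haveILetI false
universe u
open CategoryTheory CategoryTheory.Limits AlgebraicGeometry IsLocalRing

namespace Groth.Agent.H73.GalCover

/-- A morphism from the spectrum of a field with image `z` factors through `Spec κ(z)`. -/
theorem exists_factor {W : Scheme.{u}} (z : W) {F : Type u} [Field F]
    (m : Spec (CommRingCat.of F) ⟶ W) (hm : ∀ p, m.base p = z) :
    ∃ θ : W.residueField z ⟶ CommRingCat.of F, Spec.map θ ≫ W.fromSpecResidueField z = m := by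
  obtain rfl : m.base (closedPoint F) = z := hm _
  exact ⟨_, Scheme.descResidueField_stalkClosedPointTo_fromSpecResidueField F W m⟩

theorem factor_unique {W : Scheme.{u}} (z : W) {F : CommRingCat.{u}}
    (θ θ' : W.residueField z ⟶ F)
    (h : Spec.map θ ≫ W.fromSpecResidueField z = Spec.map θ' ≫ W.fromSpecResidueField z) :
    θ = θ' :=
  Spec.map_injective ((cancel_mono _).mp h)

/-- Residue field extensions of a formally unramified morphism locally of finite type are
finite. -/
theorem finite_residueFieldMap {X Y : Scheme.{u}} (f : X ⟶ Y) [FormallyUnramified f]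
    [LocallyOfFiniteType f] (x : X) :
    letI : Algebra (Y.residueField (f.base x)) (X.residueField x) :=
      (f.residueFieldMap x).hom.toAlgebra
    Module.Finite (Y.residueField (f.base x)) (X.residueField x) := by
  algebraize [(f.stalkMap x).hom]
  have : IsLocalHom (algebraMap (Y.presheaf.stalk (f x)) (X.presheaf.stalk x)) :=
    inferInstanceAs <| IsLocalHom (f.stalkMap x).hom
  suffices h : Module.Finite
      (IsLocalRing.ResidueField <| Y.presheaf.stalk (f x))
      (IsLocalRing.ResidueField <| X.presheaf.stalk x) by
    have halg : ((f.residueFieldMap x).hom.toAlgebra :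
        Algebra (Y.residueField (f.base x)) (X.residueField x)) =
        (inferInstance : (Algebra (IsLocalRing.ResidueField (Y.presheaf.stalk (f x)))
          (IsLocalRing.ResidueField (X.presheaf.stalk x)))) := by
      refine Algebra.algebra_ext _ _ fun x ↦ ?_
      obtain ⟨x, rfl⟩ := IsLocalRing.residue_surjective x
      rfl
    convert! h
    exact congrArg (fun a => @Algebra.toModule _ _ _ _ a) halg
  have : Algebra.EssFiniteType (Y.presheaf.stalk (f x)) (X.presheaf.stalk x) := by
    rw [← RingHom.essFiniteType_algebraMap, RingHom.algebraMap_toAlgebra]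
    exact LocallyOfFiniteType.stalkMap f x
  have : Algebra.FormallyUnramified (Y.presheaf.stalk (f x)) (X.presheaf.stalk x) := by
    rw [← RingHom.formallyUnramified_algebraMap, RingHom.algebraMap_toAlgebra]
    exact FormallyUnramified.stalkMap f x
  infer_instance


variable {X : Scheme.{u}} (Z : FEt.Cat X) (z : Z.left)

/-- The stabilizer of the point `z` in the automorphism group of the cover. -/
def stab : Subgroup (Aut Z) where
  carrier := {σ | σ.hom.left.base z = z}
  mul_mem' := by
    intro σ τ hσ hτ
    show (σ * τ).hom.left.base z = z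
    have : (σ * τ).hom.left = τ.hom.left ≫ σ.hom.left := rfl
    rw [this, Scheme.Hom.comp_apply, hτ, hσ]
  one_mem' := by
    show (1 : Aut Z).hom.left.base z = z
    rfl
  inv_mem' := by
    intro σ hσ
    show (σ⁻¹).hom.left.base z = z
    have h1 : σ.hom.left ≫ (σ⁻¹).hom.left = 𝟙 _ := by
      have : σ.hom ≫ σ.inv = 𝟙 Z := σ.hom_inv_id
      exact congrArg (fun f => f.left) this
    have h2 := congrArg (fun f : Z.left ⟶ Z.left => f.base z) h1
    simp only [Scheme.Hom.comp_apply] at h2
    rw [hσ] at h2
    exact h2

theorem stab_apply (σ : stab Z z) (p : Spec (CommRingCat.of (Z.left.residueField z))) :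
    (Z.left.fromSpecResidueField z ≫ σ.1.hom.left).base p = z := by
  have h1 : (Z.left.fromSpecResidueField z).base p = z :=
    Z.left.fromSpecResidueField_apply z p
  show σ.1.hom.left.base ((Z.left.fromSpecResidueField z).base p) = z
  rw [h1]
  exact σ.2

/-- The endomorphism of `κ(z)` induced by an automorphism fixing `z`. -/
noncomputable def thetaHom (σ : stab Z z) : Z.left.residueField z ⟶ Z.left.residueField z :=
  (exists_factor z (F := Z.left.residueField z)
    (Z.left.fromSpecResidueField z ≫ σ.1.hom.left) (stab_apply Z z σ)).choose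

theorem thetaHom_spec (σ : stab Z z) :
    Spec.map (thetaHom Z z σ) ≫ Z.left.fromSpecResidueField z =
      Z.left.fromSpecResidueField z ≫ σ.1.hom.left :=
  (exists_factor z (F := Z.left.residueField z)
    (Z.left.fromSpecResidueField z ≫ σ.1.hom.left) (stab_apply Z z σ)).choose_spec

theorem thetaHom_mul (σ τ : stab Z z) :
    thetaHom Z z (σ * τ) = thetaHom Z z σ ≫ thetaHom Z z τ := by
  apply factor_unique z
  have h : (σ * τ).1.hom.left = τ.1.hom.left ≫ σ.1.hom.left := rfl
  rw [thetaHom_spec, h, ← Category.assoc, ← thetaHom_spec, Category.assoc, ← thetaHom_spec,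
    ← Category.assoc, ← Spec.map_comp]

theorem residueFieldMap_thetaHom (σ : stab Z z) :
    Z.hom.residueFieldMap z ≫ thetaHom Z z σ = Z.hom.residueFieldMap z := by
  apply factor_unique (Z.hom.base z)
  have hw : σ.1.hom.left ≫ Z.hom = Z.hom := Over.w σ.1.hom.hom
  have h1 : Spec.map (Z.hom.residueFieldMap z) ≫ X.fromSpecResidueField (Z.hom.base z) =
      Z.left.fromSpecResidueField z ≫ Z.hom :=
    Scheme.Hom.SpecMap_residueFieldMap_fromSpecResidueField Z.hom z
  calc Spec.map (Z.hom.residueFieldMap z ≫ thetaHom Z z σ) ≫
        X.fromSpecResidueField (Z.hom.base z)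
      = Spec.map (thetaHom Z z σ) ≫ (Spec.map (Z.hom.residueFieldMap z) ≫
          X.fromSpecResidueField (Z.hom.base z)) := by
        rw [Spec.map_comp, Category.assoc]
    _ = (Spec.map (thetaHom Z z σ) ≫ Z.left.fromSpecResidueField z) ≫ Z.hom := by
        rw [h1, Category.assoc]
    _ = Z.left.fromSpecResidueField z ≫ Z.hom := by
        rw [thetaHom_spec, Category.assoc, hw]
    _ = _ := h1.symm


/-- For a Galois cover with finite automorphism group, residue field extensions are Galois of
degree dividing the order of the automorphism group. -/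
theorem isGalois_residue (hZ : PiSp.IsGaloisCover Z) [Finite (Aut Z)] :
    letI : Algebra (X.residueField (Z.hom.base z)) (Z.left.residueField z) :=
      (Z.hom.residueFieldMap z).hom.toAlgebra
    FiniteDimensional (X.residueField (Z.hom.base z)) (Z.left.residueField z) ∧
      IsGalois (X.residueField (Z.hom.base z)) (Z.left.residueField z) ∧
      Module.finrank (X.residueField (Z.hom.base z)) (Z.left.residueField z) ∣
        Nat.card (Aut Z) := by
  letI algKL : Algebra (X.residueField (Z.hom.base z)) (Z.left.residueField z) :=
    (Z.hom.residueFieldMap z).hom.toAlgebra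
  haveI : IsFinite Z.hom := Z.prop.1
  haveI : Etale Z.hom := Z.prop.2
  haveI hfin : FiniteDimensional (X.residueField (Z.hom.base z)) (Z.left.residueField z) :=
    finite_residueFieldMap Z.hom z
  haveI hsep : Algebra.IsSeparable (X.residueField (Z.hom.base z)) (Z.left.residueField z) :=
    FormallyUnramified.instIsSeparableCarrierResidueFieldCoeContinuousMapCarrierCarrierCommRingCatHomTopCatBaseOfLocallyOfFiniteType
      Z.hom z
  -- the algebra endomorphisms
  let thetaAlg : stab Z z → (Z.left.residueField z →ₐ[X.residueField (Z.hom.base z)]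
      Z.left.residueField z) := fun σ =>
    { (thetaHom Z z σ).hom with
      commutes' := fun r => by
        have := congrArg (fun g => g.hom r) (residueFieldMap_thetaHom Z z σ)
        exact this }
  have thetaAlg_mul : ∀ σ τ, thetaAlg (σ * τ) = thetaAlg τ * thetaAlg σ := by
    intro σ τ
    apply AlgHom.ext
    intro r
    have := congrArg (fun g => g.hom r) (thetaHom_mul Z z σ τ)
    exact this
  have thetaAlg_one : thetaAlg 1 = 1 := by
    apply AlgHom.ext
    intro r
    have h1 : thetaHom Z z 1 = 𝟙 _ := by
      apply factor_unique z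
      rw [thetaHom_spec]
      have : (1 : stab Z z).1.hom.left = 𝟙 _ := rfl
      rw [this, Category.comp_id, Spec.map_id, Category.id_comp]
    have := congrArg (fun g => g.hom r) h1
    exact this
  let ψ : stab Z z →* (Z.left.residueField z →ₐ[X.residueField (Z.hom.base z)]
      Z.left.residueField z) :=
    { toFun := fun σ => thetaAlg σ⁻¹
      map_one' := by rw [inv_one]; exact thetaAlg_one
      map_mul' := fun σ τ => by rw [mul_inv_rev]; exact thetaAlg_mul _ _ }
  obtain ⟨hgal, hdvd⟩ := Groth.Agent.H73.TameGalois.isGalois_of_forall_embedding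
    (X.residueField (Z.hom.base z)) (Z.left.residueField z) (stab Z z) ψ (by
    intro ι
    have h1 : Spec.map (Z.hom.residueFieldMap z) ≫ X.fromSpecResidueField (Z.hom.base z) =
        Z.left.fromSpecResidueField z ≫ Z.hom :=
      Scheme.Hom.SpecMap_residueFieldMap_fromSpecResidueField Z.hom z
    have hfac : ∀ κ : Z.left.residueField z →ₐ[X.residueField (Z.hom.base z)]
        AlgebraicClosure (Z.left.residueField z),
        (Spec.map (CommRingCat.ofHom κ.toRingHom) ≫ Z.left.fromSpecResidueField z) ≫ Z.hom =
          Spec.map (CommRingCat.ofHom (algebraMap (X.residueField (Z.hom.base z))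
            (AlgebraicClosure (Z.left.residueField z)))) ≫
            X.fromSpecResidueField (Z.hom.base z) := by
      intro κ
      rw [Category.assoc, ← h1, ← Category.assoc, ← Spec.map_comp]
      congr 2
      ext r
      exact κ.commutes r
    obtain ⟨σ, hσ⟩ := hZ.2 (AlgebraicClosure (Z.left.residueField z)) _
      ⟨_, hfac (IsScalarTower.toAlgHom (X.residueField (Z.hom.base z)) (Z.left.residueField z)
        (AlgebraicClosure (Z.left.residueField z)))⟩ ⟨_, hfac ι⟩
    have hst : (Spec.map (CommRingCat.ofHom (IsScalarTower.toAlgHom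
        (X.residueField (Z.hom.base z)) (Z.left.residueField z)
        (AlgebraicClosure (Z.left.residueField z))).toRingHom) ≫
        Z.left.fromSpecResidueField z) ≫ σ.hom.left =
        Spec.map (CommRingCat.ofHom ι.toRingHom) ≫ Z.left.fromSpecResidueField z :=
      congrArg Subtype.val hσ
    have hσz : σ ∈ stab Z z := by
      show σ.hom.left.base z = z
      obtain ⟨p⟩ : Nonempty ↥(Spec (CommRingCat.of (AlgebraicClosure (Z.left.residueField z)))) :=
        ⟨closedPoint (AlgebraicClosure (Z.left.residueField z))⟩
      have h2 := congrArg (fun g : Spec (CommRingCat.of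
        (AlgebraicClosure (Z.left.residueField z))) ⟶ Z.left => g.base p) hst
      have e1 := Z.left.fromSpecResidueField_apply z ((Spec.map (CommRingCat.ofHom
        (IsScalarTower.toAlgHom (X.residueField (Z.hom.base z)) (Z.left.residueField z)
        (AlgebraicClosure (Z.left.residueField z))).toRingHom)).base p)
      have e2 := Z.left.fromSpecResidueField_apply z
        ((Spec.map (CommRingCat.ofHom ι.toRingHom)).base p)
      exact (congrArg σ.hom.left.base e1).symm.trans (h2.trans e2)
    refine ⟨(⟨σ, hσz⟩ : stab Z z)⁻¹, ?_⟩
    show ι = (IsScalarTower.toAlgHom (X.residueField (Z.hom.base z)) (Z.left.residueField z)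
        (AlgebraicClosure (Z.left.residueField z))).comp (thetaAlg (⟨σ, hσz⟩ : stab Z z)⁻¹⁻¹)
    rw [inv_inv]
    have h3 : CommRingCat.ofHom ι.toRingHom = thetaHom Z z ⟨σ, hσz⟩ ≫
        CommRingCat.ofHom (IsScalarTower.toAlgHom (X.residueField (Z.hom.base z))
          (Z.left.residueField z) (AlgebraicClosure (Z.left.residueField z))).toRingHom := by
      apply factor_unique z
      have e3 : Spec.map (thetaHom Z z ⟨σ, hσz⟩ ≫
          CommRingCat.ofHom (IsScalarTower.toAlgHom (X.residueField (Z.hom.base z))
          (Z.left.residueField z) (AlgebraicClosure (Z.left.residueField z))).toRingHom) =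
          Spec.map (CommRingCat.ofHom (IsScalarTower.toAlgHom (X.residueField (Z.hom.base z))
          (Z.left.residueField z) (AlgebraicClosure (Z.left.residueField z))).toRingHom) ≫
          Spec.map (thetaHom Z z ⟨σ, hσz⟩) := Spec.map_comp _ _
      rw [← hst, e3, Category.assoc, Category.assoc, thetaHom_spec]
    apply AlgHom.ext
    intro r
    have := congrArg (fun g => g.hom r) h3
    exact this)
  exact ⟨hfin, hgal, hdvd.trans (Subgroup.card_subgroup_dvd_card _)⟩

end Groth.Agent.H73.GalCover
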