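import Mathlib.AlgebraicGeometry.Stalk
import Mathlib.AlgebraicGeometry.AffineScheme
import Mathlib.RingTheory.Ideal.Maximal

set_option autoImplicit false
universe u

open CategoryTheory CategoryTheory.Limits AlgebraicGeometry IsLocalRing

namespace Groth.Agent.H73

/-- For a scheme over the spectrum of a domain, a point in the closure of the generic fibre
is a specialization of a point of the generic fibre. -/
theorem exists_generization_in_generic_fibre {V : Type u} [CommRing V] [IsDomain V]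
    {X : Scheme.{u}} (f : X ⟶ Spec (CommRingCat.of V)) (x : X)
    (hx : x ∈ closure (f ⁻¹' {(⟨⊥, Ideal.isPrime_bot⟩ : PrimeSpectrum V)})) :
    ∃ x' : X, x' ⤳ x ∧ f x' = (⟨⊥, Ideal.isPrime_bot⟩ : PrimeSpectrum V) := by
  by_contra hcon
  push Not at hcon
  let ψ : CommRingCat.of V ⟶ X.presheaf.stalk x :=
    (Scheme.ΓSpecIso _).inv ≫ f.appTop ≫ X.presheaf.germ ⊤ x trivial
  have hψ : X.fromSpecStalk x ≫ f = Spec.map ψ := by
    rw [← Scheme.SpecMap_stalkMap_fromSpecStalk, Spec.fromSpecStalk_eq, ← Spec.map_comp]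
    congr 1
    simp only [ψ, Category.assoc]
    rw [Scheme.Hom.germ_stalkMap]
    rfl
  have hT : ∃ s : V, s ≠ 0 ∧ ψ.hom s = 0 := by
    by_contra hno
    push Not at hno
    let T : Submonoid (X.presheaf.stalk x) := (nonZeroDivisors V).map ψ.hom
    have hdisj : Disjoint ((⊥ : Ideal (X.presheaf.stalk x)) : Set (X.presheaf.stalk x))
        (T : Set (X.presheaf.stalk x)) := by
      rw [Set.disjoint_left]
      rintro a ha ⟨v, hv, rfl⟩
      exact hno v (nonZeroDivisors.ne_zero hv) ha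
    obtain ⟨q, hq, _, hqT⟩ := Ideal.exists_le_prime_disjoint ⊥ T hdisj
    let xq : X := X.fromSpecStalk x (⟨q, hq⟩ : PrimeSpectrum (X.presheaf.stalk x))
    have h1 : xq ⤳ x := by
      have : xq ∈ Set.range (X.fromSpecStalk x) := ⟨_, rfl⟩
      rw [Scheme.range_fromSpecStalk] at this
      exact this
    apply hcon xq h1
    have h2 : f xq = (Spec.map ψ) (⟨q, hq⟩ : PrimeSpectrum (X.presheaf.stalk x)) := by
      rw [← hψ]; rfl
    rw [h2]
    apply PrimeSpectrum.ext
    show Ideal.comap ψ.hom q = ⊥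
    rw [eq_bot_iff]
    intro v hv
    by_contra hv0
    exact Set.disjoint_left.1 hqT hv ⟨v, mem_nonZeroDivisors_of_ne_zero hv0, rfl⟩
  obtain ⟨s, hs0, hs⟩ := hT
  let t : Γ(X, ⊤) := f.appTop.hom ((Scheme.ΓSpecIso (CommRingCat.of V)).inv.hom s)
  have ht : X.presheaf.germ ⊤ x trivial t = X.presheaf.germ ⊤ x trivial 0 := by
    rw [map_zero]
    exact hs
  obtain ⟨W, hxW, iU, iV, hW⟩ := TopCat.Presheaf.germ_eq X.presheaf (U := ⊤) (V := ⊤) x trivial trivial t 0 ht
  have hWt : X.basicOpen t ⊓ W = ⊥ := by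
    have h3 := X.basicOpen_res t iU.op
    rw [hW, map_zero, Scheme.basicOpen_zero] at h3
    rw [inf_comm]
    exact h3.symm
  have hsub : f ⁻¹' {(⟨⊥, Ideal.isPrime_bot⟩ : PrimeSpectrum V)} ⊆ (X.basicOpen t : Set X) := by
    intro y hy
    have h4 : X.basicOpen t =
        f ⁻¹ᵁ ((Spec (CommRingCat.of V)).basicOpen
          ((Scheme.ΓSpecIso (CommRingCat.of V)).inv.hom s)) :=
      (Scheme.preimage_basicOpen_top f _).symm
    rw [h4, basicOpen_eq_of_affine]
    show f y ∈ PrimeSpectrum.basicOpen s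
    have hy' : f y = (⟨⊥, Ideal.isPrime_bot⟩ : PrimeSpectrum V) := hy
    rw [hy']
    exact fun h => hs0 h
  obtain ⟨y, hyW, hyη⟩ := mem_closure_iff.1 hx W W.isOpen hxW
  have h5 : y ∈ X.basicOpen t ⊓ W := ⟨hsub hyη, hyW⟩
  rw [hWt] at h5
  exact h5

end Groth.Agent.H73
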