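import Mathlib.AlgebraicGeometry.Restrict
import Mathlib.AlgebraicGeometry.Gluing

/-!
# Gluing morphisms defined on open subschemes
-/

set_option autoImplicit false
universe u
open CategoryTheory CategoryTheory.Limits AlgebraicGeometry TopologicalSpace

namespace Groth.Agent.H73.Glue

variable {X Y : Scheme.{u}}

/-- The open cover of the open subscheme `W` by a family of opens `U i ≤ W` covering it. -/
@[simps! I₀ X f]
noncomputable def coverOfLE (W : X.Opens) {ι : Type u} (U : ι → X.Opens) (hle : ∀ i, U i ≤ W)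
    (hcov : W ≤ ⨆ i, U i) : W.toScheme.OpenCover where
  I₀ := ι
  X i := U i
  f i := X.homOfLE (hle i)
  mem₀ := by
    rw [Scheme.presieve₀_mem_precoverage_iff]
    refine ⟨fun x => ?_, inferInstance⟩
    have hx : x.1 ∈ ⨆ i, U i := hcov x.2
    rw [Opens.mem_iSup] at hx
    obtain ⟨i, hi⟩ := hx
    refine ⟨i, ⟨x.1, hi⟩, ?_⟩
    apply Subtype.ext
    exact Scheme.homOfLE_apply (hle i) ⟨x.1, hi⟩

theorem hom_ext_of_cover (W : X.Opens) {ι : Type u} (U : ι → X.Opens) (hle : ∀ i, U i ≤ W)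
    (hcov : W ≤ ⨆ i, U i) (f₁ f₂ : W.toScheme ⟶ Y)
    (h : ∀ i, X.homOfLE (hle i) ≫ f₁ = X.homOfLE (hle i) ≫ f₂) : f₁ = f₂ :=
  Scheme.Cover.hom_ext (coverOfLE W U hle hcov) f₁ f₂ h

theorem exists_glue (W : X.Opens) {ι : Type u} (U : ι → X.Opens) (hle : ∀ i, U i ≤ W)
    (hcov : W ≤ ⨆ i, U i) (g : ∀ i, (U i).toScheme ⟶ Y)
    (hg : ∀ i j, X.homOfLE (inf_le_left : U i ⊓ U j ≤ U i) ≫ g i =
      X.homOfLE (inf_le_right : U i ⊓ U j ≤ U j) ≫ g j) :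
    ∃ c : W.toScheme ⟶ Y, ∀ i, X.homOfLE (hle i) ≫ c = g i := by
  let 𝒰 := coverOfLE W U hle hcov
  refine ⟨𝒰.glueMorphisms g ?_, fun i => 𝒰.ι_glueMorphisms g _ i⟩
  intro (i : ι) (j : ι)
  change pullback.fst (X.homOfLE (hle i)) (X.homOfLE (hle j)) ≫ g i =
    pullback.snd (X.homOfLE (hle i)) (X.homOfLE (hle j)) ≫ g j
  have hpb := isPullback_opens_inf_le (hle i) (hle j)
  rw [← cancel_epi hpb.isoPullback.hom]
  rw [hpb.isoPullback_hom_fst_assoc, hpb.isoPullback_hom_snd_assoc]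
  exact hg i j

/-- Gluing two morphisms defined on opens `U` and `V` that agree on `U ⊓ V`. -/
theorem exists_glue_two (U V : X.Opens) (a : U.toScheme ⟶ Y) (b : V.toScheme ⟶ Y)
    (hab : X.homOfLE (inf_le_left : U ⊓ V ≤ U) ≫ a = X.homOfLE (inf_le_right : U ⊓ V ≤ V) ≫ b) :
    ∃ c : (U ⊔ V).toScheme ⟶ Y, X.homOfLE (le_sup_left : U ≤ U ⊔ V) ≫ c = a ∧
      X.homOfLE (le_sup_right : V ≤ U ⊔ V) ≫ c = b := by
  let F : ULift.{u} Bool → X.Opens := fun i => cond i.down U V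
  have hle : ∀ i, F i ≤ U ⊔ V := by
    rintro ⟨_ | _⟩
    · exact le_sup_right
    · exact le_sup_left
  have hcov : U ⊔ V ≤ ⨆ i, F i :=
    sup_le (le_iSup F ⟨true⟩) (le_iSup F ⟨false⟩)
  let g : ∀ i, (F i).toScheme ⟶ Y := fun i =>
    match i with
    | ⟨true⟩ => a
    | ⟨false⟩ => b
  have hg : ∀ i j, X.homOfLE (inf_le_left : F i ⊓ F j ≤ F i) ≫ g i =
      X.homOfLE (inf_le_right : F i ⊓ F j ≤ F j) ≫ g j := by
    rintro ⟨_ | _⟩ ⟨_ | _⟩
    · have : X.homOfLE (inf_le_left : V ⊓ V ≤ V) = X.homOfLE (inf_le_right : V ⊓ V ≤ V) := rfl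
      exact congrArg (· ≫ b) this
    · have h1 : X.homOfLE (inf_le_left : V ⊓ U ≤ V) =
          X.homOfLE ((inf_comm V U).le : V ⊓ U ≤ U ⊓ V) ≫ X.homOfLE inf_le_right := by
        rw [Scheme.homOfLE_homOfLE]
      have h2 : X.homOfLE (inf_le_right : V ⊓ U ≤ U) =
          X.homOfLE ((inf_comm V U).le : V ⊓ U ≤ U ⊓ V) ≫ X.homOfLE inf_le_left := by
        rw [Scheme.homOfLE_homOfLE]
      change X.homOfLE (inf_le_left : V ⊓ U ≤ V) ≫ b = X.homOfLE (inf_le_right : V ⊓ U ≤ U) ≫ a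
      rw [h1, h2, Category.assoc, Category.assoc, hab]
    · exact hab
    · have : X.homOfLE (inf_le_left : U ⊓ U ≤ U) = X.homOfLE (inf_le_right : U ⊓ U ≤ U) := rfl
      exact congrArg (· ≫ a) this
  obtain ⟨c, hc⟩ := exists_glue (U ⊔ V) F hle hcov g hg
  exact ⟨c, hc ⟨true⟩, hc ⟨false⟩⟩

theorem hom_ext_two (U V : X.Opens) (f₁ f₂ : (U ⊔ V).toScheme ⟶ Y)
    (hU : X.homOfLE (le_sup_left : U ≤ U ⊔ V) ≫ f₁ = X.homOfLE le_sup_left ≫ f₂)
    (hV : X.homOfLE (le_sup_right : V ≤ U ⊔ V) ≫ f₁ = X.homOfLE le_sup_right ≫ f₂) :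
    f₁ = f₂ := by
  let F : ULift.{u} Bool → X.Opens := fun i => cond i.down U V
  have hle : ∀ i, F i ≤ U ⊔ V := by
    rintro ⟨_ | _⟩
    · exact le_sup_right
    · exact le_sup_left
  have hcov : U ⊔ V ≤ ⨆ i, F i :=
    sup_le (le_iSup F ⟨true⟩) (le_iSup F ⟨false⟩)
  refine hom_ext_of_cover (U ⊔ V) F hle hcov f₁ f₂ ?_
  rintro ⟨_ | _⟩
  · exact hV
  · exact hU

end Groth.Agent.H73.Glue
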