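import Groth.Agent.H73.GmH1_GP

/-!
# Points of `𝔾_m` are the units of the ring of global functions
-/

set_option autoImplicit false
universe u
open CategoryTheory CategoryTheory.Limits AlgebraicGeometry

noncomputable section

namespace Groth.Agent.H73.GmPts

open Groth.Agent.H73.GmH1_GP

variable {S : Scheme.{u}}

/-- the coordinate `T` of `ℤ[T, T⁻¹]` -/
abbrev tt : ZT.{u} := MonoidAlgebra.single (Multiplicative.ofAdd (1 : ℤ)) 1

theorem isUnit_tt : IsUnit tt.{u} := by
  refine ⟨⟨tt, MonoidAlgebra.single (Multiplicative.ofAdd (-1 : ℤ)) 1, ?_, ?_⟩, rfl⟩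
  · rw [MonoidAlgebra.single_mul_single, ← ofAdd_add]; simp [MonoidAlgebra.one_def]
  · rw [MonoidAlgebra.single_mul_single, ← ofAdd_add]; simp [MonoidAlgebra.one_def]

theorem isUnit_gmCoord : IsUnit Red.gmCoord.{u} :=
  isUnit_tt.map (Scheme.ΓSpecIso (CommRingCat.of ZT.{u})).inv.hom

theorem isUnit_gmFn {X : Over S} (t : X ⟶ Red.Gm S) : IsUnit (Red.gmFn t) :=
  isUnit_gmCoord.map (t.left ≫ pullback.fst _ _).appTop.hom

theorem gmFn_comp {X Y : Over S} (a : X ⟶ Y) (t : Y ⟶ Red.Gm S) :
    Red.gmFn (a ≫ t) = a.left.appTop (Red.gmFn t) := by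
  unfold Red.gmFn
  rw [Over.comp_left, Category.assoc, Scheme.Hom.comp_appTop]
  rfl

/-- two ring homs out of `ℤ[T, T⁻¹]` agreeing at `T` are equal -/
theorem ringHom_ext {R : Type u} [CommRing R] (f g : ZT.{u} →+* R) (h : f tt = g tt) : f = g := by
  apply MonoidAlgebra.ringHom_ext'
  · ext r
    exact RingHom.congr_fun (RingHom.ext_int
      ((f.comp MonoidAlgebra.singleOneRingHom).comp (ULift.ringEquiv (R := ℤ)).symm.toRingHom)
      ((g.comp MonoidAlgebra.singleOneRingHom).comp (ULift.ringEquiv (R := ℤ)).symm.toRingHom))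
      r.down
  · apply MonoidHom.ext_mint
    exact h

theorem hom_ext_spec {X : Scheme.{u}} (f g : X ⟶ Spec (CommRingCat.of ZT.{u}))
    (h : f.appTop Red.gmCoord = g.appTop Red.gmCoord) : f = g := by
  apply ext_of_isAffine
  rw [← cancel_epi (Scheme.ΓSpecIso (CommRingCat.of ZT.{u})).inv]
  apply CommRingCat.hom_ext
  apply ringHom_ext
  exact h

/-- a point of `𝔾_m` is determined by its coordinate -/
theorem gm_ext {X : Over S} (a b : X ⟶ Red.Gm S) (h : Red.gmFn a = Red.gmFn b) : a = b := by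
  apply Over.OverMorphism.ext
  apply pullback.hom_ext
  · -- morphisms to the affine scheme `Spec ZT`
    exact hom_ext_spec _ _ h
  · have ha : a.left ≫ pullback.snd _ _ = X.hom := Over.w a
    have hb : b.left ≫ pullback.snd _ _ = X.hom := Over.w b
    rw [ha, hb]

end Groth.Agent.H73.GmPts
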