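import Groth.Agent.H73.WeilFP5
import Groth.Agent.H73.FixLoc11

/-!
# The scheme of group homomorphisms from a finite locally free group scheme to an affine one
-/

set_option autoImplicit false
universe u

open CategoryTheory CategoryTheory.Limits AlgebraicGeometry Opposite MonoidalCategory
  CartesianMonoidalCategory MonObj

namespace Groth.Agent.H73.HomGrp

variable {S : Scheme.{u}}

theorem exists_homGrp_scheme (G G' : Over S) [GrpObj G] [GrpObj G']
    (hGf : IsFinite G.hom) (hGfl : Flat G.hom) (hGfp : LocallyOfFinitePresentation G.hom)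
    (hG'a : IsAffineHom G'.hom) (hG'fp : LocallyOfFinitePresentation G'.hom) :
    ∃ (M : Over S) (ev : G ⊗ M ⟶ G'), IsAffineHom M.hom ∧ LocallyOfFinitePresentation M.hom ∧
      (∀ (X : Over S) (a b : X ⟶ G) (m : X ⟶ M),
        lift (a * b) m ≫ ev = (lift a m ≫ ev) * (lift b m ≫ ev)) ∧
      ∀ (T : Over S) (φ : G ⊗ T ⟶ G'),
        (∀ (X : Over S) (a b : X ⟶ G) (t : X ⟶ T),
          lift (a * b) t ≫ φ = (lift a t ≫ φ) * (lift b t ≫ φ)) →
        ∃! v : T ⟶ M, (G ◁ v) ≫ ev = φ := by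
  obtain ⟨M₀, ev₀, hM₀a, hM₀fp, huniv⟩ :=
    WeilLoc.exists_hom_scheme G G' hGf hGfl hGfp hG'a hG'fp
  have : IsFinite G.hom := hGf
  have : Flat G.hom := hGfl
  have : LocallyOfFinitePresentation G.hom := hGfp
  have : IsAffineHom G'.hom := hG'a
  have : LocallyOfFinitePresentation G'.hom := hG'fp
  have : IsAffineHom M₀.hom := hM₀a
  have : LocallyOfFinitePresentation M₀.hom := hM₀fp
  have : IsSeparated G'.hom := inferInstance
  have hsq := IsPullback.of_hasPullback G.hom G.hom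
  have hY1 : IsFinite (G ⊗ G).hom := by
    rw [Over.tensorObj_hom]
    have : IsFinite (pullback.fst G.hom G.hom) :=
      MorphismProperty.of_isPullback (P := @IsFinite) hsq.flip inferInstance
    infer_instance
  have hY2 : Flat (G ⊗ G).hom := by
    rw [Over.tensorObj_hom]
    have : Flat (pullback.fst G.hom G.hom) :=
      MorphismProperty.of_isPullback (P := @Flat) hsq.flip inferInstance
    infer_instance
  have hY3 : LocallyOfFinitePresentation (G ⊗ G).hom := by
    rw [Over.tensorObj_hom]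
    have : LocallyOfFinitePresentation (pullback.fst G.hom G.hom) :=
      MorphismProperty.of_isPullback (P := @LocallyOfFinitePresentation) hsq.flip inferInstance
    infer_instance
  let u₁ : M₀ ⊗ (G ⊗ G) ⟶ G' :=
    lift (snd M₀ (G ⊗ G) ≫ (fst G G * snd G G)) (fst M₀ (G ⊗ G)) ≫ ev₀
  let u₂ : M₀ ⊗ (G ⊗ G) ⟶ G' :=
    (lift (snd M₀ (G ⊗ G) ≫ fst G G) (fst M₀ (G ⊗ G)) ≫ ev₀) *
      (lift (snd M₀ (G ⊗ G) ≫ snd G G) (fst M₀ (G ⊗ G)) ≫ ev₀)
  have hu₁ : ∀ (X' : Over S) (g' : X' ⟶ M₀) (a' : X' ⟶ G ⊗ G),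
      lift g' a' ≫ u₁ = lift ((a' ≫ fst G G) * (a' ≫ snd G G)) g' ≫ ev₀ := by
    intro X' g' a'
    show lift g' a' ≫ lift _ _ ≫ ev₀ = _
    rw [← Category.assoc, comp_lift, lift_fst, ← Category.assoc, lift_snd, MonObj.comp_mul]
  have hu₂ : ∀ (X' : Over S) (g' : X' ⟶ M₀) (a' : X' ⟶ G ⊗ G),
      lift g' a' ≫ u₂ = (lift (a' ≫ fst G G) g' ≫ ev₀) * (lift (a' ≫ snd G G) g' ≫ ev₀) := by
    intro X' g' a'
    show lift g' a' ≫ ((lift _ _ ≫ ev₀) * (lift _ _ ≫ ev₀)) = _
    rw [MonObj.comp_mul, ← Category.assoc, comp_lift, lift_fst, ← Category.assoc, lift_snd,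
      ← Category.assoc, comp_lift, lift_fst, ← Category.assoc (lift g' a'), lift_snd]
  have : IsClosedImmersion (equalizer.ι u₁ u₂).left := isClosedImmersion_equalizer_ι_left _ _
  have hEfp : LocallyOfFinitePresentation (equalizer.ι u₁ u₂).left :=
    FixLoc.lfp_equalizer_ι_left u₁ u₂
  obtain ⟨C, c, hc, hcfp, key⟩ :=
    FixLoc.exists_closed_over M₀ (G ⊗ G) (equalizer u₁ u₂) (equalizer.ι u₁ u₂)
  have hcfp' := hcfp hEfp
  have hcmono : ∀ {T : Over S} (v v' : T ⟶ C), v ≫ c = v' ≫ c → v = v' := by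
    intro T v v' h
    apply Over.OverMorphism.ext
    have h1 := congrArg (fun k => k.left) h
    simp only [Over.comp_left] at h1
    exact (cancel_mono c.left).mp h1
  refine ⟨C, (G ◁ c) ≫ ev₀, ?_, ?_, ?_, ?_⟩
  · rw [← Over.w c]
    infer_instance
  · rw [← Over.w c]
    infer_instance
  · intro X a b m
    obtain ⟨w, hw⟩ := (key X (m ≫ c)).mp ⟨m, rfl⟩ X (𝟙 X) (lift a b)
    rw [Category.id_comp] at hw
    have h1 : lift (m ≫ c) (lift a b) ≫ u₁ = lift (m ≫ c) (lift a b) ≫ u₂ := by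
      rw [← hw, Category.assoc, Category.assoc, equalizer.condition]
    rw [hu₁, hu₂, lift_fst, lift_snd] at h1
    rw [← Category.assoc, lift_whiskerLeft, ← Category.assoc, lift_whiskerLeft, ← Category.assoc,
      lift_whiskerLeft]
    exact h1
  · intro T φ hφ
    obtain ⟨v₀, hv₀, hv₀u⟩ := huniv T φ
    have hfac : ∃ z : T ⟶ C, z ≫ c = v₀ := by
      rw [key T v₀]
      intro X' x a'
      refine ⟨equalizer.lift (lift (x ≫ v₀) a') ?_, equalizer.lift_ι _ _⟩
      rw [hu₁, hu₂]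
      have e : ∀ p : X' ⟶ G, lift p (x ≫ v₀) ≫ ev₀ = lift p x ≫ φ := by
        intro p
        rw [← hv₀, ← Category.assoc, lift_whiskerLeft]
      rw [e, e, e]
      exact hφ X' _ _ x
    obtain ⟨z, hz⟩ := hfac
    refine ⟨z, ?_, ?_⟩
    · show (G ◁ z) ≫ (G ◁ c) ≫ ev₀ = φ
      rw [← Category.assoc, ← MonoidalCategory.whiskerLeft_comp, hz]
      exact hv₀
    · intro v hv
      apply hcmono
      rw [hz]
      apply hv₀u
      rw [MonoidalCategory.whiskerLeft_comp, Category.assoc]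
      exact hv

end Groth.Agent.H73.HomGrp
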