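import Mathlib

/-!
# Hypersurface models of separably generated function fields
-/

set_option autoImplicit false
set_option linter.unusedVariables false
universe u

namespace Groth.Agent.H73.HyperModel

open Polynomial

/-- Generic form: a finite separable extension `K` of the fraction field `Q` of an integrally
closed domain `R` is the fraction field of `R[T]/(g)` for a monic `g` which is irreducible and
separable over `Q`. -/
theorem exists_model_generic {k R Q K : Type*} [Field k] [CommRing R] [IsDomain R]
    [IsIntegrallyClosed R] [Field Q] [Field K]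
    [Algebra k R] [Algebra R Q] [IsFractionRing R Q] [Algebra R K] [Algebra Q K]
    [IsScalarTower R Q K] [Algebra k K] [IsScalarTower k R K]
    [FiniteDimensional Q K] [Algebra.IsSeparable Q K] :
    ∃ g : R[X], g.Monic ∧ Irreducible (g.map (algebraMap R Q)) ∧
      (g.map (algebraMap R Q)).Separable ∧
      ∃ ψ : AdjoinRoot g →ₐ[k] K, Function.Injective ψ ∧
        ∀ x : K, ∃ a b : AdjoinRoot g, ψ b ≠ 0 ∧ x * ψ b = ψ a := by
  classical
  have hinj : Function.Injective (algebraMap R K) := by
    rw [IsScalarTower.algebraMap_eq R Q K]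
    exact (algebraMap Q K).injective.comp (IsFractionRing.injective R Q)
  haveI : Module.IsTorsionFree R K := Module.isTorsionFree_iff_algebraMap_injective.mpr hinj
  obtain ⟨α, hα⟩ := Field.exists_primitive_element Q K
  have hαint : IsIntegral Q α := (Algebra.IsSeparable.isSeparable Q α).isIntegral
  obtain ⟨r, hr⟩ := IsIntegral.exists_multiple_integral_of_isLocalization
    (nonZeroDivisors R) (Rₘ := Q) α hαint
  obtain ⟨θ, hθ⟩ : ∃ θ : K, θ = r • α := ⟨_, rfl⟩
  rw [← hθ] at hr
  have hθ' : θ = algebraMap R K (r : R) * α := by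
    rw [hθ, Submonoid.smul_def, Algebra.smul_def]
  have hr0 : algebraMap R K (r : R) ≠ 0 := by
    intro h
    have := hinj (h.trans (map_zero _).symm)
    exact nonZeroDivisors.ne_zero r.2 this
  have hθtop : IntermediateField.adjoin Q ({θ} : Set K) = ⊤ := by
    rw [eq_top_iff, ← hα]
    apply IntermediateField.adjoin_le_iff.mpr
    intro x hx
    rw [Set.mem_singleton_iff] at hx
    subst hx
    have h1 : θ ∈ IntermediateField.adjoin Q ({θ} : Set K) :=
      IntermediateField.mem_adjoin_simple_self _ θ
    have h2 : algebraMap R K (r : R) ∈ IntermediateField.adjoin Q ({θ} : Set K) := by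
      rw [IsScalarTower.algebraMap_apply R Q K]
      exact IntermediateField.algebraMap_mem _ _
    have h3 : x = (algebraMap R K (r : R))⁻¹ * θ := by
      rw [hθ', ← mul_assoc, inv_mul_cancel₀ hr0, one_mul]
    rw [h3]
    exact mul_mem (inv_mem h2) h1
  have hθintQ : IsIntegral Q θ := (Algebra.IsSeparable.isSeparable Q θ).isIntegral
  refine ⟨minpoly R θ, minpoly.monic hr, ?_, ?_, ?_⟩
  · rw [← minpoly.isIntegrallyClosed_eq_field_fractions' Q hr]
    exact minpoly.irreducible hθintQ
  · rw [← minpoly.isIntegrallyClosed_eq_field_fractions' Q hr]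
    exact Algebra.IsSeparable.isSeparable Q θ
  · have h0 : (minpoly R θ).eval₂ (IsScalarTower.toAlgHom k R K) θ = 0 := minpoly.aeval R θ
    let ψ : AdjoinRoot (minpoly R θ) →ₐ[k] K :=
      AdjoinRoot.liftAlgHom (minpoly R θ) (IsScalarTower.toAlgHom k R K) θ h0
    have hψmk : ∀ P : R[X], ψ (AdjoinRoot.mk (minpoly R θ) P) = aeval θ P := fun P => rfl
    have hψinj : Function.Injective ψ := by
      rw [injective_iff_map_eq_zero]
      intro P₁ hP₁
      obtain ⟨P, rfl⟩ := AdjoinRoot.mk_surjective P₁
      rw [hψmk] at hP₁
      rw [AdjoinRoot.mk_eq_zero]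
      exact (minpoly.isIntegrallyClosed_dvd_iff hr P).mp hP₁
    have hψof : ∀ c : R, ψ (AdjoinRoot.of (minpoly R θ) c) = algebraMap R K c := fun c =>
      AdjoinRoot.liftAlgHom_of _ _ _ _ _
    refine ⟨ψ, hψinj, fun x => ?_⟩
    have hx : x ∈ (IntermediateField.adjoin Q ({θ} : Set K)).toSubalgebra := by
      rw [hθtop]; trivial
    rw [IntermediateField.adjoin_simple_toSubalgebra_of_isAlgebraic hθintQ.isAlgebraic,
      Algebra.adjoin_singleton_eq_range_aeval] at hx
    obtain ⟨P, hP⟩ := hx
    have hP' : aeval θ P = x := hP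
    obtain ⟨b, hb⟩ := IsLocalization.integerNormalization_map_to_map (nonZeroDivisors R) P
    refine ⟨AdjoinRoot.mk (minpoly R θ) (IsLocalization.integerNormalization (nonZeroDivisors R) P),
      AdjoinRoot.of (minpoly R θ) (b : R), ?_, ?_⟩
    · rw [hψof]
      intro h
      have := hinj (h.trans (map_zero _).symm)
      exact nonZeroDivisors.ne_zero b.2 this
    · rw [hψmk, hψof]
      have h1 := congrArg (aeval θ) hb
      rw [aeval_map_algebraMap] at h1
      rw [h1, ← hP', mul_comm]
      have h2 : ((b : R) • P : Q[X]) = (algebraMap R Q (b : R)) • P := by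
        rw [algebraMap_smul]
      rw [h2, map_smul, Algebra.smul_def, ← IsScalarTower.algebraMap_apply R Q K]

theorem isSeparable_of_equiv {F Q K : Type*} [Field F] [Field Q] [Field K] [Algebra F K]
    [Algebra Q K] (e : Q ≃+* F) (he : ∀ a, algebraMap F K (e a) = algebraMap Q K a)
    [Algebra.IsSeparable F K] : Algebra.IsSeparable Q K :=
  Algebra.IsSeparable.of_equiv_equiv (A₁ := F) (B₁ := K) (A₂ := Q) (B₂ := K) e.symm
    (RingEquiv.refl K) (by
      ext a
      have h1 := he (e.symm a)
      rw [RingEquiv.apply_symm_apply] at h1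
      simp only [RingHom.coe_comp, RingHom.coe_coe, Function.comp_apply, RingEquiv.refl_apply]
      exact h1.symm)

theorem finiteDimensional_of_adjoin_eq_top {k Q K : Type*} [Field k] [Field Q] [Field K]
    [Algebra k Q] [Algebra Q K] [Algebra k K] [IsScalarTower k Q K] [Algebra.IsAlgebraic Q K]
    (S₀ : Finset K) (hS₀ : IntermediateField.adjoin k (S₀ : Set K) = ⊤) :
    FiniteDimensional Q K := by
  have htop : IntermediateField.adjoin Q (S₀ : Set K) = ⊤ := by
    rw [eq_top_iff]
    have h1 : IntermediateField.adjoin k (S₀ : Set K) ≤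
        (IntermediateField.adjoin Q (S₀ : Set K)).restrictScalars k :=
      IntermediateField.adjoin_le_iff.mpr (fun x hx => IntermediateField.subset_adjoin _ _ hx)
    rw [hS₀] at h1
    intro x _
    exact h1 (IntermediateField.mem_top)
  have h1 : FiniteDimensional Q ↥(IntermediateField.adjoin Q (S₀ : Set K)) :=
    IntermediateField.finiteDimensional_adjoin (fun x _ =>
      (Algebra.IsAlgebraic.isAlgebraic x).isIntegral)
  rw [htop] at h1
  exact (IntermediateField.topEquiv (F := Q) (E := K)).toLinearEquiv.finiteDimensional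

set_option maxHeartbeats 800000 in
/-- A finitely generated field extension `K/k` with a separating transcendence basis `s` is the
fraction field of `k[T₁..T_d][T]/(g)` for a monic `g`, irreducible and separable over `k(T)`. -/
theorem exists_hypersurface_model {k K : Type u} [Field k] [Field K] [Algebra k K]
    (S₀ : Finset K) (hS₀ : IntermediateField.adjoin k (S₀ : Set K) = ⊤)
    (d : ℕ) (s : Fin d → K) (hs : IsTranscendenceBasis k s)
    (hsep : Algebra.IsSeparable (IntermediateField.adjoin k (Set.range s)) K) :
    ∃ (g : Polynomial (MvPolynomial (Fin d) k)), g.Monic ∧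
      Irreducible (g.map (algebraMap (MvPolynomial (Fin d) k)
        (FractionRing (MvPolynomial (Fin d) k)))) ∧
      (g.map (algebraMap (MvPolynomial (Fin d) k)
        (FractionRing (MvPolynomial (Fin d) k)))).Separable ∧
      ∃ ψ : AdjoinRoot g →ₐ[k] K, Function.Injective ψ ∧
        ∀ x : K, ∃ a b : AdjoinRoot g, ψ b ≠ 0 ∧ x * ψ b = ψ a := by
  classical
  have hinj : Function.Injective (MvPolynomial.aeval s : MvPolynomial (Fin d) k →ₐ[k] K) :=
    algebraicIndependent_iff_injective_aeval.1 hs.1
  letI algRK : Algebra (MvPolynomial (Fin d) k) K :=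
    (MvPolynomial.aeval s : MvPolynomial (Fin d) k →ₐ[k] K).toRingHom.toAlgebra
  haveI st1 : IsScalarTower k (MvPolynomial (Fin d) k) K :=
    IsScalarTower.of_algebraMap_eq' (RingHom.ext fun c => by
      simp [RingHom.algebraMap_toAlgebra])
  have hinj' : Function.Injective (algebraMap (MvPolynomial (Fin d) k) K) := hinj
  letI algQK : Algebra (FractionRing (MvPolynomial (Fin d) k)) K :=
    (IsFractionRing.lift hinj').toAlgebra
  haveI st2 : IsScalarTower (MvPolynomial (Fin d) k) (FractionRing (MvPolynomial (Fin d) k)) K :=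
    IsScalarTower.of_algebraMap_eq' (RingHom.ext fun a => by
      rw [RingHom.comp_apply]
      exact (IsFractionRing.lift_algebraMap hinj' a).symm)
  haveI st3 : IsScalarTower k (FractionRing (MvPolynomial (Fin d) k)) K :=
    IsScalarTower.of_algebraMap_eq' (RingHom.ext fun c => by
      rw [IsScalarTower.algebraMap_apply k (MvPolynomial (Fin d) k) K,
        IsScalarTower.algebraMap_apply (MvPolynomial (Fin d) k)
          (FractionRing (MvPolynomial (Fin d) k)) K, RingHom.comp_apply,
        ← IsScalarTower.algebraMap_apply k (MvPolynomial (Fin d) k)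
          (FractionRing (MvPolynomial (Fin d) k))])
  haveI sepQ : Algebra.IsSeparable (FractionRing (MvPolynomial (Fin d) k)) K :=
    isSeparable_of_equiv (F := ↥(IntermediateField.adjoin k (Set.range s)))
      hs.1.aevalEquivField.toRingEquiv (fun a => hs.1.aevalEquivField_apply_coe a)
  haveI finQ : FiniteDimensional (FractionRing (MvPolynomial (Fin d) k)) K :=
    finiteDimensional_of_adjoin_eq_top (k := k) S₀ hS₀
  exact exists_model_generic (k := k) (R := MvPolynomial (Fin d) k)
    (Q := FractionRing (MvPolynomial (Fin d) k)) (K := K)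

end Groth.Agent.H73.HyperModel
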