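import Groth.Prelude
import Groth.Agent.H73.HyperModel
import Groth.Agent.H54.LocalIso2

/-!
# A variety with a separating transcendence basis is birational to a hypersurface
-/

set_option autoImplicit false
set_option linter.unusedVariables false
universe u

namespace Groth.Agent.H73.HyperScheme

open CategoryTheory CategoryTheory.Limits AlgebraicGeometry

attribute [local instance] Curv2.stalkAlgebra

theorem isIso_germ_top_spec_field (k : Type u) [Field k] (s : Spec (CommRingCat.of k)) :
    IsIso ((Spec (CommRingCat.of k)).presheaf.germ ⊤ s trivial) := by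
  obtain rfl : s = IsLocalRing.closedPoint k :=
    @Subsingleton.elim (PrimeSpectrum k) inferInstance _ _
  rw [← AlgebraicGeometry.ΓSpecIso_hom_stalkClosedPointIso_inv]
  infer_instance

theorem stalkMap_eq (k : Type u) [Field k] (X : Scheme.{u}) [X.Over (Spec (CommRingCat.of k))]
    (x : X) :
    (Scheme.ΓSpecIso (CommRingCat.of k)).inv ≫
      (Spec (CommRingCat.of k)).presheaf.germ ⊤ ((X ↘ Spec (CommRingCat.of k)) x) trivial ≫
      (X ↘ Spec (CommRingCat.of k)).stalkMap x = CommRingCat.ofHom (Curv2.stalkMap k X x) := by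
  rw [Scheme.Hom.germ_stalkMap]
  rfl

theorem essFiniteType_stalkMap (k : Type u) [Field k] (X : Scheme.{u})
    [X.Over (Spec (CommRingCat.of k))] [LocallyOfFiniteType (X ↘ Spec (CommRingCat.of k))]
    (x : X) : (Curv2.stalkMap k X x).EssFiniteType := by
  have h := stalkMap_eq k X x
  have h1 : Curv2.stalkMap k X x =
      ((X ↘ Spec (CommRingCat.of k)).stalkMap x).hom.comp
        (((Scheme.ΓSpecIso (CommRingCat.of k)).inv ≫
          (Spec (CommRingCat.of k)).presheaf.germ ⊤
            ((X ↘ Spec (CommRingCat.of k)) x) trivial).hom) := by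
    have := congrArg CommRingCat.Hom.hom h
    exact this.symm
  rw [h1]
  refine RingHom.EssFiniteType.comp ?_
    (LocallyOfFiniteType.stalkMap (X ↘ Spec (CommRingCat.of k)) x)
  haveI := isIso_germ_top_spec_field k ((X ↘ Spec (CommRingCat.of k)) x)
  apply RingHom.FiniteType.essFiniteType
  apply RingHom.FiniteType.of_surjective
  exact (ConcreteCategory.bijective_of_isIso ((Scheme.ΓSpecIso (CommRingCat.of k)).inv ≫
    (Spec (CommRingCat.of k)).presheaf.germ ⊤ ((X ↘ Spec (CommRingCat.of k)) x) trivial)).2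

theorem stalkMap_spec_apply (k : Type u) [Field k] (R : CommRingCat.{u}) [IsDomain R]
    [Algebra k R] (c : k) :
    letI : (Spec R).Over (Spec (CommRingCat.of k)) :=
      ⟨Spec.map (CommRingCat.ofHom (algebraMap k R))⟩
    Curv2.stalkMap k (Spec R) (genericPoint (Spec R)) c =
      algebraMap R (Spec R).functionField (algebraMap k R c) := by
  letI : (Spec R).Over (Spec (CommRingCat.of k)) :=
    ⟨Spec.map (CommRingCat.ofHom (algebraMap k R))⟩
  change (Spec R).presheaf.germ ⊤ _ trivial
    ((Spec.map (CommRingCat.ofHom (algebraMap k R))).appTop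
      ((Scheme.ΓSpecIso (CommRingCat.of k)).inv c)) = _
  have h1 := Scheme.ΓSpecIso_inv_naturality (CommRingCat.ofHom (algebraMap k R))
  have h2 : (Spec.map (CommRingCat.ofHom (algebraMap k R))).appTop
      ((Scheme.ΓSpecIso (CommRingCat.of k)).inv c) =
      (Scheme.ΓSpecIso R).inv (algebraMap k R c) := by
    have := congrArg (fun f => f.hom c) h1
    exact this.symm
  rw [h2]
  rfl

theorem isFractionRing_of_injective {A K : Type*} [CommRing A] [IsDomain A] [Field K]
    [Algebra A K] (hinj : Function.Injective (algebraMap A K))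
    (hfrac : ∀ x : K, ∃ a b : A, algebraMap A K b ≠ 0 ∧ x * algebraMap A K b = algebraMap A K a) :
    IsFractionRing A K where
  map_units := by
    rintro ⟨b, hb⟩
    apply IsUnit.mk0
    intro h
    exact nonZeroDivisors.ne_zero hb (hinj (h.trans (map_zero _).symm))
  surj := by
    intro x
    obtain ⟨a, b, hb, hab⟩ := hfrac x
    refine ⟨(a, ⟨b, mem_nonZeroDivisors_of_ne_zero ?_⟩), hab⟩
    rintro rfl
    exact hb (map_zero _)
  exists_of_eq := by
    intro a b hab
    exact ⟨1, by rw [hinj hab]⟩

set_option maxHeartbeats 800000 in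
theorem exists_iso_of_fractionRing (k : Type u) [Field k]
    (X : Scheme.{u}) [X.Over (Spec (CommRingCat.of k))] [IsIntegral X]
    [LocallyOfFiniteType (X ↘ Spec (CommRingCat.of k))]
    (R : CommRingCat.{u}) [IsDomain R] [Algebra k R] (hft : Algebra.FiniteType k R)
    (ψ : R →ₐ[k] X.presheaf.stalk (genericPoint X)) (hψinj : Function.Injective ψ)
    (hψfrac : ∀ x : X.presheaf.stalk (genericPoint X), ∃ a b : R, ψ b ≠ 0 ∧ x * ψ b = ψ a) :
    ∃ (U : X.Opens) (V : (Spec R).Opens) (e : (U : Scheme.{u}) ≅ (V : Scheme.{u})),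
        (U : Set X).Nonempty ∧ (V : Set (Spec R)).Nonempty ∧
        e.hom ≫ V.ι ≫ Spec.map (CommRingCat.ofHom (algebraMap k R)) =
          U.ι ≫ (X ↘ Spec (CommRingCat.of k)) := by
  classical
  let S := Spec (CommRingCat.of k)
  let sX : X ⟶ S := X ↘ S
  let sY : Spec R ⟶ S := Spec.map (CommRingCat.ofHom (algebraMap k R))
  letI overY : (Spec R).Over S := ⟨sY⟩
  haveI lftY : LocallyOfFiniteType sY := by
    rw [HasRingHomProperty.Spec_iff (P := @LocallyOfFiniteType)]
    change (algebraMap k R).FiniteType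
    rw [RingHom.finiteType_algebraMap]
    exact hft
  let x := genericPoint X
  let y := genericPoint (Spec R)
  -- the isomorphism of function fields
  letI algAK : Algebra R (X.presheaf.stalk (genericPoint X)) := ψ.toRingHom.toAlgebra
  haveI frK : IsFractionRing R (X.presheaf.stalk (genericPoint X)) :=
    isFractionRing_of_injective hψinj hψfrac
  let ε : (Spec R).functionField ≃ₐ[R] (X.presheaf.stalk (genericPoint X)) :=
    IsLocalization.algEquiv (nonZeroDivisors R) _ _
  let φ : (Spec R).presheaf.stalk y ⟶ X.presheaf.stalk x := ε.toRingEquiv.toCommRingCatIso.hom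
  haveI : IsIso φ := ε.toRingEquiv.toCommRingCatIso.isIso_hom
  have hxy : sX x = sY y := @Subsingleton.elim (PrimeSpectrum k) inferInstance _ _
  have hcX := stalkMap_eq k X x
  have hcY := stalkMap_eq k (Spec R) y
  have he' : CommRingCat.ofHom (Curv2.stalkMap k (Spec R) y) ≫ φ =
      CommRingCat.ofHom (Curv2.stalkMap k X x) := by
    ext c
    change ε (Curv2.stalkMap k (Spec R) y c) = Curv2.stalkMap k X x c
    rw [stalkMap_spec_apply k R c, ε.commutes]
    exact ψ.commutes c
  have h : sY.stalkMap y ≫ φ =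
      S.presheaf.stalkSpecializes (Inseparable.of_eq hxy).specializes ≫ sX.stalkMap x := by
    haveI := isIso_germ_top_spec_field k (sY y)
    rw [← cancel_epi (S.presheaf.germ ⊤ (sY y) trivial),
      ← cancel_epi (Scheme.ΓSpecIso (CommRingCat.of k)).inv]
    rw [TopCat.Presheaf.germ_stalkSpecializes_assoc]
    rw [← Category.assoc, ← Category.assoc, Category.assoc _ _ (sY.stalkMap y)]
    erw [hcY, hcX]
    exact he'
  obtain ⟨U, hxU, V, f', hf', -, hf'₂⟩ :=
    Groth.Agent.H54.local_iso_germInjective sX sY (x := x) (y := y) hxy φ h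
  haveI := hf'
  exact ⟨U, V, asIso f', ⟨x, hxU⟩, ⟨(f' ⟨x, hxU⟩).1, (f' ⟨x, hxU⟩).2⟩, hf'₂⟩

set_option maxHeartbeats 800000 in
theorem main (k : Type u) [Field k]
    (X : Scheme.{u}) [X.Over (Spec (CommRingCat.of k))] [IsIntegral X]
    [LocallyOfFiniteType (X ↘ Spec (CommRingCat.of k))] [QuasiCompact (X ↘ Spec (CommRingCat.of k))]
    (d : ℕ) (s : Fin d → X.presheaf.stalk (genericPoint X)) (hs : IsTranscendenceBasis k s)
    (hsep : Algebra.IsSeparable ↥(IntermediateField.adjoin k (Set.range s))
      (X.presheaf.stalk (genericPoint X))) :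
    ∃ (g : Polynomial (MvPolynomial (Fin d) k)), g.Monic ∧
      Irreducible (g.map (algebraMap (MvPolynomial (Fin d) k)
        (FractionRing (MvPolynomial (Fin d) k)))) ∧
      (g.map (algebraMap (MvPolynomial (Fin d) k)
        (FractionRing (MvPolynomial (Fin d) k)))).Separable ∧
      ∃ (U : X.Opens) (V : (Spec (CommRingCat.of (AdjoinRoot g))).Opens)
        (e : (U : Scheme.{u}) ≅ (V : Scheme.{u})),
        (U : Set X).Nonempty ∧ (V : Set (Spec (CommRingCat.of (AdjoinRoot g)))).Nonempty ∧
        e.hom ≫ V.ι ≫ Spec.map (CommRingCat.ofHom (algebraMap k (AdjoinRoot g))) =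
          U.ι ≫ (X ↘ Spec (CommRingCat.of k)) := by
  classical
  haveI : Algebra.EssFiniteType k (X.presheaf.stalk (genericPoint X)) :=
    essFiniteType_stalkMap k X (genericPoint X)
  obtain ⟨S₀, hS₀⟩ := IntermediateField.fg_top k (X.presheaf.stalk (genericPoint X))
  obtain ⟨g, hgm, hgi, hgs, ψ, hψinj, hψfrac⟩ :=
    Groth.Agent.H73.HyperModel.exists_hypersurface_model S₀ hS₀ d s hs hsep
  refine ⟨g, hgm, hgi, hgs, ?_⟩
  haveI domA : IsDomain (AdjoinRoot g) := Function.Injective.isDomain ψ.toRingHom hψinj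
  have hft : Algebra.FiniteType k (AdjoinRoot g) :=
    Algebra.FiniteType.trans (inferInstance : Algebra.FiniteType k (MvPolynomial (Fin d) k))
      (inferInstance : Algebra.FiniteType (MvPolynomial (Fin d) k) (AdjoinRoot g))
  have key := @exists_iso_of_fractionRing k _ X _ _ _ (CommRingCat.of (AdjoinRoot g)) domA
    (inferInstanceAs (Algebra k (AdjoinRoot g))) hft ψ hψinj hψfrac
  obtain ⟨U, V, e, hU, hV, he⟩ := key
  refine ⟨U, V, e, hU, hV, ?_⟩
  exact he

end Groth.Agent.H73.HyperScheme
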