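import Mathlib

/-!
# Immersions from local closed immersions on basic opens (helper73)
-/

set_option autoImplicit false
set_option linter.style.haveILetI false

open CategoryTheory CategoryTheory.Limits AlgebraicGeometry TopologicalSpace Opposite

universe u

namespace Groth.Agent.H73.ImmApprox

/-- Over an affine open `D` with affine preimage, `m ∣_ D` is a closed immersion iff `m` is
surjective on sections over `D`. -/
theorem isClosedImmersion_morphismRestrict_of_surjective {N T : Scheme.{u}} (m : N ⟶ T)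
    (D : T.Opens) (hD : IsAffineOpen D) (hND : IsAffineOpen (m ⁻¹ᵁ D))
    (hs : Function.Surjective (m.app D).hom) : IsClosedImmersion (m ∣_ D) := by
  haveI : IsAffine D.toScheme := hD
  haveI : IsAffine (m ⁻¹ᵁ D).toScheme := hND
  apply IsClosedImmersion.of_surjective_of_isAffine
  rw [← Scheme.Hom.resLE_eq_morphismRestrict]
  haveI := RingHom.toMorphismProperty_respectsIso_iff.mp RingHom.surjective_respectsIso
  have h3 := (RingHom.toMorphismProperty (fun f => Function.Surjective f)).arrow_mk_iso_iff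
      (arrowResLEAppIso m D (m ⁻¹ᵁ D) le_rfl)
  rw [Scheme.Hom.appLE_eq_app] at h3
  exact h3.mpr hs

theorem surjective_of_isClosedImmersion_morphismRestrict {N T : Scheme.{u}} (m : N ⟶ T)
    (D : T.Opens) (hD : IsAffineOpen D) (h : IsClosedImmersion (m ∣_ D)) :
    IsAffineOpen (m ⁻¹ᵁ D) ∧ Function.Surjective (m.app D).hom := by
  haveI : IsAffine D.toScheme := hD
  obtain ⟨h1, h2⟩ := IsClosedImmersion.isAffine_surjective_of_isAffine (m ∣_ D)
  refine ⟨h1, ?_⟩
  rw [← Scheme.Hom.resLE_eq_morphismRestrict] at h2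
  haveI := RingHom.toMorphismProperty_respectsIso_iff.mp RingHom.surjective_respectsIso
  have h3 := (RingHom.toMorphismProperty (fun f => Function.Surjective f)).arrow_mk_iso_iff
      (arrowResLEAppIso m D (m ⁻¹ᵁ D) le_rfl)
  rw [Scheme.Hom.appLE_eq_app] at h3
  exact h3.mp h2

/-- A morphism which is a closed immersion over each member of a family of opens covering its
image is an immersion. -/
theorem isImmersion_of_isClosedImmersion_restrict {N T : Scheme.{u}} (m : N ⟶ T)
    {κ : Type u} (D : κ → T.Opens) (h2 : ∀ x : N, ∃ k, m x ∈ D k)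
    (h3 : ∀ k, IsClosedImmersion (m ∣_ (D k))) : IsImmersion m := by
  let 𝒰 := Scheme.Opens.iSupOpenCover D
  have hcl : IsClosedImmersion (m ∣_ ⨆ k, D k) := by
    refine (IsZariskiLocalAtTarget.iff_of_openCover (P := @IsClosedImmersion) 𝒰).mpr fun k ↦ ?_
    refine (MorphismProperty.arrow_mk_iso_iff @IsClosedImmersion
      ((morphismRestrictRestrict ..).symm ≪≫ morphismRestrictOpensRange ..)).mp ?_
    have : (⨆ k, D k).ι ''ᵁ (𝒰.f k).opensRange = D k := by
      simp only [Scheme.Opens.iSupOpenCover, 𝒰, ← Scheme.Hom.opensRange_comp, Scheme.homOfLE_ι,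
        Scheme.Opens.opensRange_ι]
    rw [this]
    exact h3 k
  have e : m ⁻¹ᵁ (⨆ k, D k) = ⊤ := by
    rw [eq_top_iff]
    intro x _
    obtain ⟨k, hk⟩ := h2 x
    exact Opens.mem_iSup.mpr ⟨k, hk⟩
  convert!
    (inferInstance :
      IsImmersion
        (N.topIso.inv ≫ (N.isoOfEq e).inv ≫ m ∣_ (⨆ k, D k) ≫ (⨆ k, D k).ι)) using 1
  simp

/-- Over an open contained in the coborder of its range, an immersion is a closed immersion. -/
theorem isClosedImmersion_morphismRestrict_of_le_coborderRange {X Z : Scheme.{u}} (g : X ⟶ Z)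
    [IsImmersion g] (D : Z.Opens) (hD : D ≤ g.coborderRange) : IsClosedImmersion (g ∣_ D) := by
  haveI : IsImmersion (g ∣_ D) := IsZariskiLocalAtTarget.restrict ‹_› D
  refine IsClosedImmersion.of_isPreimmersion (g ∣_ D) ?_
  have hr : Set.range (g ∣_ D) = D.ι ⁻¹' (closure (Set.range g)) := by
    ext y
    constructor
    · rintro ⟨x, rfl⟩
      apply subset_closure
      refine ⟨(g ⁻¹ᵁ D).ι x, ?_⟩
      rw [← Scheme.Hom.comp_apply, ← morphismRestrict_ι, Scheme.Hom.comp_apply]
    · intro hy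
      have hy1 : D.ι y ∈ coborder (Set.range g) := hD (show D.ι y ∈ D from y.2)
      have hy2 : D.ι y ∈ Set.range g := by
        rw [← coborder_inter_closure (s := Set.range g)]
        exact ⟨hy1, hy⟩
      obtain ⟨x, hx⟩ := hy2
      have hxD : x ∈ g ⁻¹ᵁ D := by
        show g x ∈ D
        rw [hx]; exact y.2
      refine ⟨⟨x, hxD⟩, ?_⟩
      apply D.ι.isOpenEmbedding.injective
      rw [← Scheme.Hom.comp_apply, morphismRestrict_ι, Scheme.Hom.comp_apply, ← hx]
      rfl
  rw [hr]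
  exact isClosed_closure.preimage D.ι.continuous

/-- Covering a compact subset of an open of an affine open by finitely many basic opens. -/
theorem exists_finset_basicOpen_of_compact {N : Scheme.{u}} (NU : N.Opens) (hNU : IsAffineOpen NU)
    (W : N.Opens) (K : Set N) (hc : IsCompact K) (hK : K ⊆ ((W ⊓ NU : N.Opens) : Set N)) :
    ∃ Bs : Finset Γ(N, NU), (∀ b ∈ Bs, N.basicOpen b ≤ W) ∧
      (K ⊆ ⋃ b ∈ Bs, ((N.basicOpen b : N.Opens) : Set N)) := by
  classical
  have hcov : K ⊆
      ⋃ b : {b : Γ(N, NU) // N.basicOpen b ≤ W}, ((N.basicOpen b.1 : N.Opens) : Set N) := by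
    intro x hx
    obtain ⟨b, hb1, hb2⟩ := hNU.exists_basicOpen_le (V := W) ⟨x, (hK hx).1⟩ (hK hx).2
    exact Set.mem_iUnion.mpr ⟨⟨b, hb1⟩, hb2⟩
  obtain ⟨s, hs⟩ := hc.elim_finite_subcover
    (fun b : {b : Γ(N, NU) // N.basicOpen b ≤ W} => ((N.basicOpen b.1 : N.Opens) : Set N))
    (fun b => (N.basicOpen b.1).2) hcov
  refine ⟨s.image Subtype.val, ?_, ?_⟩
  · intro b hb
    obtain ⟨b', _, rfl⟩ := Finset.mem_image.mp hb
    exact b'.2
  · intro x hx
    obtain ⟨b, hb, hxb⟩ := Set.mem_iUnion₂.mp (hs hx)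
    exact Set.mem_iUnion₂.mpr ⟨b.1, Finset.mem_image_of_mem _ hb, hxb⟩

/-- The algebra lemma: saturation up to powers of `b` after a map to a finite type algebra. -/
theorem exists_finset_saturating_map {A B R : Type u} [CommRing A] [CommRing B] [CommRing R]
    (α : A →+* B) (ρ : B →+* R) (b : B) (hft : (ρ.comp α).FiniteType)
    (hs : ∀ r : R, ∃ (n : ℕ) (c : B), ρ b ^ n * r = ρ c) :
    ∃ Cset : Finset B, ∀ B' : Subring B, (∀ a, α a ∈ B') → b ∈ B' → (↑Cset : Set B) ⊆ B' →
      ∀ r : R, ∃ (n : ℕ) (c : B), c ∈ B' ∧ ρ b ^ n * r = ρ c := by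
  classical
  letI : Algebra A R := (ρ.comp α).toAlgebra
  obtain ⟨s, hsgen⟩ := (hft : Algebra.FiniteType A R).out
  choose nf cf hcf using hs
  refine ⟨s.image cf, fun B' hα hb hC r => ?_⟩
  have hr : r ∈ Algebra.adjoin A (↑s : Set R) := by rw [hsgen]; trivial
  induction hr using Algebra.adjoin_induction with
  | mem x hx =>
    exact ⟨nf x, cf x, hC (Finset.mem_coe.mpr (Finset.mem_image_of_mem _ hx)), hcf x⟩
  | algebraMap a =>
    exact ⟨0, α a, hα a, by simp [RingHom.algebraMap_toAlgebra]⟩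
  | add x y _ _ hx hy =>
    obtain ⟨n1, c1, hc1, e1⟩ := hx
    obtain ⟨n2, c2, hc2, e2⟩ := hy
    refine ⟨n1 + n2, b ^ n2 * c1 + b ^ n1 * c2,
      B'.add_mem (B'.mul_mem (B'.pow_mem hb _) hc1) (B'.mul_mem (B'.pow_mem hb _) hc2), ?_⟩
    rw [map_add, map_mul, map_mul, map_pow, map_pow, ← e1, ← e2]
    ring
  | mul x y _ _ hx hy =>
    obtain ⟨n1, c1, hc1, e1⟩ := hx
    obtain ⟨n2, c2, hc2, e2⟩ := hy
    refine ⟨n1 + n2, c1 * c2, B'.mul_mem hc1 hc2, ?_⟩
    rw [map_mul, ← e1, ← e2]
    ring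

end Groth.Agent.H73.ImmApprox
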