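import Mathlib
import Groth.Agent.H73.ImmApprox

/-!
# Approximating an immersion into an affine `Y`-scheme (helper73)

Let `p : Z ⟶ Y` be affine and `g : X ⟶ Z` an immersion with `g ≫ p` of finite type.  There are
finite sets `t U ⊆ Γ(Z, p⁻¹U)` (for `U` affine in `Y`) such that for every factorization
`Z ⟶ T ⟶ Y` with `T ⟶ Y` affine whose sections over a cover hit the `t U`, the composite
`X ⟶ Z ⟶ T` is still an immersion.
-/

set_option autoImplicit false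
set_option linter.style.haveILetI false

open CategoryTheory CategoryTheory.Limits AlgebraicGeometry TopologicalSpace Opposite

universe u

namespace Groth.Agent.H73.ImmApprox

/-- The section-level statement used for saturation: for `b` with `D(b)` inside the coborder of
the range of `g`. -/
theorem exists_saturating {X Z Y : Scheme.{u}} (p : Z ⟶ Y) (g : X ⟶ Z) [IsImmersion g]
    [LocallyOfFiniteType (g ≫ p)] (U : Y.Opens) (hU : IsAffineOpen U)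
    (hZU : IsAffineOpen (p ⁻¹ᵁ U)) (b : Γ(Z, p ⁻¹ᵁ U)) (hb : Z.basicOpen b ≤ g.coborderRange) :
    ∃ Cset : Finset Γ(Z, p ⁻¹ᵁ U), ∀ B' : Subring Γ(Z, p ⁻¹ᵁ U),
      (∀ a, (p.app U).hom a ∈ B') → b ∈ B' → (↑Cset : Set Γ(Z, p ⁻¹ᵁ U)) ⊆ B' →
      ∀ (Dz : Z.Opens) (hDz : Dz = Z.basicOpen b) (r : Γ(X, g ⁻¹ᵁ Dz)),
        ∃ (n : ℕ) (c : Γ(Z, p ⁻¹ᵁ U)), c ∈ B' ∧
          (g.appLE (p ⁻¹ᵁ U) (g ⁻¹ᵁ Dz)
            (g.preimage_mono (hDz ▸ Z.basicOpen_le b))).hom b ^ n * r =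
          (g.appLE (p ⁻¹ᵁ U) (g ⁻¹ᵁ Dz) (g.preimage_mono (hDz ▸ Z.basicOpen_le b))).hom c := by
  have hD : IsAffineOpen (Z.basicOpen b) := hZU.basicOpen b
  have hcl : IsClosedImmersion (g ∣_ Z.basicOpen b) :=
    isClosedImmersion_morphismRestrict_of_le_coborderRange g _ hb
  obtain ⟨hXD, hsurj⟩ := surjective_of_isClosedImmersion_morphismRestrict g _ hD hcl
  set ρ := (g.appLE (p ⁻¹ᵁ U) (g ⁻¹ᵁ Z.basicOpen b)
    (g.preimage_mono (Z.basicOpen_le b))).hom with hρ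
  -- ρ = restriction followed by g.app D(b)
  have hρ' : ∀ z, ρ z = (g.app (Z.basicOpen b)).hom
      ((Z.presheaf.map (homOfLE (Z.basicOpen_le b)).op).hom z) := by
    intro z
    have h1 : Z.presheaf.map (homOfLE (Z.basicOpen_le b)).op ≫
        g.appLE (Z.basicOpen b) (g ⁻¹ᵁ Z.basicOpen b) le_rfl =
        g.appLE (p ⁻¹ᵁ U) (g ⁻¹ᵁ Z.basicOpen b) (g.preimage_mono (Z.basicOpen_le b)) :=
      Scheme.Hom.map_appLE ..
    rw [Scheme.Hom.appLE_eq_app] at h1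
    exact (congr($(h1).hom z)).symm
  -- finite type
  have hft : (ρ.comp (p.app U).hom).FiniteType := by
    have e1 : g ⁻¹ᵁ Z.basicOpen b ≤ (g ≫ p) ⁻¹ᵁ U := fun x hx => Z.basicOpen_le b hx
    have h2 := LocallyOfFiniteType.finiteType_appLE (f := g ≫ p) hU hXD e1
    have h3 : (g ≫ p).appLE U (g ⁻¹ᵁ Z.basicOpen b) e1 =
        p.app U ≫ g.appLE (p ⁻¹ᵁ U) (g ⁻¹ᵁ Z.basicOpen b)
          (g.preimage_mono (Z.basicOpen_le b)) := by
      rw [Scheme.Hom.app_eq_appLE, Scheme.Hom.appLE_comp_appLE]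
    rw [h3, CommRingCat.hom_comp] at h2
    exact h2
  -- surjectivity up to powers
  have hloc : ∀ r : Γ(X, g ⁻¹ᵁ Z.basicOpen b), ∃ (n : ℕ) (c : Γ(Z, p ⁻¹ᵁ U)),
      ρ b ^ n * r = ρ c := by
    intro r
    obtain ⟨z, rfl⟩ := hsurj r
    letI : Algebra Γ(Z, p ⁻¹ᵁ U) Γ(Z, Z.basicOpen b) :=
      (Z.presheaf.map (homOfLE (Z.basicOpen_le b)).op).hom.toAlgebra
    have hl : IsLocalization.Away b Γ(Z, Z.basicOpen b) := hZU.isLocalization_basicOpen b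
    obtain ⟨n, c, hc⟩ := IsLocalization.Away.surj b z
    refine ⟨n, c, ?_⟩
    rw [hρ', hρ', ← map_pow, ← map_mul]
    congr 1
    rw [mul_comm]
    exact hc
  obtain ⟨Cset, hC⟩ := exists_finset_saturating_map (p.app U).hom ρ b hft hloc
  refine ⟨Cset, fun B' hα hbB hCB Dz hDz r => ?_⟩
  subst hDz
  exact hC B' hα hbB hCB r

theorem exists_finsets_immersion {X Z Y : Scheme.{u}} (p : Z ⟶ Y) [IsAffineHom p] (g : X ⟶ Z)
    [IsImmersion g] [LocallyOfFiniteType (g ≫ p)] [QuasiCompact (g ≫ p)]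
    (Scov : Set Y.affineOpens) (hScov : Set.univ = ⋃ i ∈ Scov, ((i : Y.Opens) : Set Y)) :
    ∃ t : ∀ U : Y.affineOpens, Finset Γ(Z, p ⁻¹ᵁ U.1),
      ∀ (T : Scheme.{u}) (π' : T ⟶ Y) (m : Z ⟶ T) (w : m ≫ π' = p), IsAffineHom π' →
        (∀ U ∈ Scov, ∀ x ∈ t U, x ∈ Set.range (m.appLE (π' ⁻¹ᵁ U.1) (p ⁻¹ᵁ U.1)
          (by rw [← Scheme.Hom.comp_preimage, w])).hom) →
        IsImmersion (g ≫ m) := by
  classical
  have hZU : ∀ U : Y.affineOpens, IsAffineOpen (p ⁻¹ᵁ U.1) := fun U => U.2.preimage p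
  -- Step 1: basic opens
  have hK : ∀ U : Y.affineOpens, IsCompact (g '' (((g ≫ p) ⁻¹ᵁ U.1 : X.Opens) : Set X)) :=
    fun U => ((g ≫ p).isCompact_preimage U.2.isCompact).image g.continuous
  have hKsub : ∀ U : Y.affineOpens, g '' (((g ≫ p) ⁻¹ᵁ U.1 : X.Opens) : Set X) ⊆
      ((g.coborderRange ⊓ p ⁻¹ᵁ U.1 : Z.Opens) : Set Z) := by
    rintro U _ ⟨x, hx, rfl⟩
    exact ⟨subset_coborder ⟨x, rfl⟩, hx⟩
  choose Bs hBs1 hBs2 using fun U : Y.affineOpens =>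
    exists_finset_basicOpen_of_compact (p ⁻¹ᵁ U.1) (hZU U) g.coborderRange _ (hK U) (hKsub U)
  -- Step 2: saturating sets
  have hex : ∀ (U : Y.affineOpens) (b : Γ(Z, p ⁻¹ᵁ U.1)), ∃ Cset : Finset Γ(Z, p ⁻¹ᵁ U.1),
      Z.basicOpen b ≤ g.coborderRange → ∀ B' : Subring Γ(Z, p ⁻¹ᵁ U.1),
      (∀ a, (p.app U.1).hom a ∈ B') → b ∈ B' → (↑Cset : Set Γ(Z, p ⁻¹ᵁ U.1)) ⊆ B' →
      ∀ (Dz : Z.Opens) (hDz : Dz = Z.basicOpen b) (r : Γ(X, g ⁻¹ᵁ Dz)),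
        ∃ (n : ℕ) (c : Γ(Z, p ⁻¹ᵁ U.1)), c ∈ B' ∧
          (g.appLE (p ⁻¹ᵁ U.1) (g ⁻¹ᵁ Dz)
            (g.preimage_mono (hDz ▸ Z.basicOpen_le b))).hom b ^ n * r =
          (g.appLE (p ⁻¹ᵁ U.1) (g ⁻¹ᵁ Dz)
            (g.preimage_mono (hDz ▸ Z.basicOpen_le b))).hom c := by
    intro U b
    by_cases hb : Z.basicOpen b ≤ g.coborderRange
    · obtain ⟨C, hC⟩ := exists_saturating p g U.1 U.2 (hZU U) b hb
      exact ⟨C, fun _ => hC⟩
    · exact ⟨∅, fun h => (hb h).elim⟩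
  choose Cs hCs using hex
  refine ⟨fun U => Bs U ∪ (Bs U).biUnion (Cs U), ?_⟩
  intro T π' m w hπ' hrange
  subst w
  have happ : ∀ U : Y.Opens, m.appLE (π' ⁻¹ᵁ U) ((m ≫ π') ⁻¹ᵁ U)
      (by rw [← Scheme.Hom.comp_preimage]) = m.app (π' ⁻¹ᵁ U) := fun U =>
    Scheme.Hom.appLE_eq_app ..
  have hrange' : ∀ U : Y.affineOpens, U ∈ Scov → ∀ x ∈ Bs U ∪ (Bs U).biUnion (Cs U),
      ∃ y : Γ(T, π' ⁻¹ᵁ U.1), (m.app (π' ⁻¹ᵁ U.1)).hom y = x := by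
    intro U hU x hx
    have := hrange U hU x hx
    rw [happ] at this
    exact this
  -- the index type
  let κ : Type u := Σ U : {U : Y.affineOpens // U ∈ Scov}, {b // b ∈ Bs U.1}
  have hb't : ∀ k : κ, (k.2.1 : Γ(Z, (m ≫ π') ⁻¹ᵁ k.1.1.1)) ∈
      Bs k.1.1 ∪ (Bs k.1.1).biUnion (Cs k.1.1) := fun k =>
    Finset.mem_union_left _ k.2.2
  choose b' hb' using fun k : κ => hrange' k.1.1 k.1.2 k.2.1 (hb't k)
  let D : κ → T.Opens := fun k => T.basicOpen (b' k)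
  have hpre : ∀ k : κ, m ⁻¹ᵁ (D k) = Z.basicOpen (k.2.1 : Γ(Z, (m ≫ π') ⁻¹ᵁ k.1.1.1)) := by
    intro k
    simp only [D]
    rw [Scheme.preimage_basicOpen, hb']
    rfl
  refine isImmersion_of_isClosedImmersion_restrict (g ≫ m) D ?_ ?_
  · intro x
    have hx' : (g ≫ m ≫ π') x ∈ (Set.univ : Set Y) := trivial
    rw [hScov] at hx'
    obtain ⟨U, hU, hxU⟩ := Set.mem_iUnion₂.mp hx'
    have h1 : g x ∈ g '' (((g ≫ m ≫ π') ⁻¹ᵁ U.1 : X.Opens) : Set X) := ⟨x, hxU, rfl⟩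
    obtain ⟨b, hb, hxb⟩ := Set.mem_iUnion₂.mp (hBs2 U h1)
    refine ⟨⟨⟨U, hU⟩, ⟨b, hb⟩⟩, ?_⟩
    have h2 : g x ∈ m ⁻¹ᵁ (D ⟨⟨U, hU⟩, ⟨b, hb⟩⟩) := by
      rw [hpre]; exact hxb
    exact h2
  · intro k
    have hTU : IsAffineOpen (π' ⁻¹ᵁ k.1.1.1) := k.1.1.2.preimage π'
    have hDk : IsAffineOpen (D k) := hTU.basicOpen _
    have hbO : Z.basicOpen (k.2.1 : Γ(Z, (m ≫ π') ⁻¹ᵁ k.1.1.1)) ≤ g.coborderRange :=
      hBs1 k.1.1 k.2.1 k.2.2
    have hle : m ⁻¹ᵁ (D k) ≤ g.coborderRange := by rw [hpre]; exact hbO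
    have hcl : IsClosedImmersion (g ∣_ (m ⁻¹ᵁ (D k))) :=
      isClosedImmersion_morphismRestrict_of_le_coborderRange g _ hle
    have hmD : IsAffineOpen (m ⁻¹ᵁ (D k)) := by
      rw [hpre]; exact (hZU k.1.1).basicOpen _
    obtain ⟨hXD, -⟩ := surjective_of_isClosedImmersion_morphismRestrict g _ hmD hcl
    refine isClosedImmersion_morphismRestrict_of_surjective (g ≫ m) (D k) hDk hXD ?_
    -- surjectivity on sections
    intro r
    -- the subring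
    have hsat := hCs k.1.1 k.2.1 hbO (m.app (π' ⁻¹ᵁ k.1.1.1)).hom.range ?_
      ⟨b' k, hb' k⟩ ?_ (m ⁻¹ᵁ (D k)) (hpre k) r
    · obtain ⟨n, c, ⟨t', rfl⟩, hn⟩ := hsat
      -- σ : sections over π'⁻¹U to sections over (g ≫ m)⁻¹ D
      have hσ : ∀ z : Γ(T, π' ⁻¹ᵁ k.1.1.1),
          (g.appLE ((m ≫ π') ⁻¹ᵁ k.1.1.1) (g ⁻¹ᵁ (m ⁻¹ᵁ (D k)))
            (g.preimage_mono ((hpre k) ▸ Z.basicOpen_le _))).hom
              ((m.app (π' ⁻¹ᵁ k.1.1.1)).hom z) =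
          ((g ≫ m).app (D k)).hom
            ((T.presheaf.map (homOfLE (T.basicOpen_le (b' k))).op).hom z) := by
        intro z
        have h1 : m.appLE (π' ⁻¹ᵁ k.1.1.1) (m ⁻¹ᵁ (π' ⁻¹ᵁ k.1.1.1)) le_rfl ≫
            g.appLE (m ⁻¹ᵁ (π' ⁻¹ᵁ k.1.1.1)) (g ⁻¹ᵁ (m ⁻¹ᵁ (D k)))
              (g.preimage_mono ((hpre k) ▸ Z.basicOpen_le _)) =
            (g ≫ m).appLE (π' ⁻¹ᵁ k.1.1.1) ((g ≫ m) ⁻¹ᵁ (D k))
              ((g ≫ m).preimage_mono (T.basicOpen_le (b' k))) :=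
          Scheme.Hom.appLE_comp_appLE ..
        rw [Scheme.Hom.appLE_eq_app] at h1
        have h2 : T.presheaf.map (homOfLE (T.basicOpen_le (b' k))).op ≫
            (g ≫ m).appLE (D k) ((g ≫ m) ⁻¹ᵁ (D k)) le_rfl =
            (g ≫ m).appLE (π' ⁻¹ᵁ k.1.1.1) ((g ≫ m) ⁻¹ᵁ (D k))
              ((g ≫ m).preimage_mono (T.basicOpen_le (b' k))) :=
          Scheme.Hom.map_appLE ..
        rw [Scheme.Hom.appLE_eq_app] at h2
        have h3 := congr($(h1).hom z)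
        have h4 := congr($(h2).hom z)
        simp only [CommRingCat.hom_comp, RingHom.comp_apply] at h3 h4
        exact h3.trans h4.symm
      have hbk := hσ (b' k)
      rw [hb' k] at hbk
      rw [hσ, hbk] at hn
      -- units
      have hunit : IsUnit ((T.presheaf.map (homOfLE (T.basicOpen_le (b' k))).op).hom (b' k)) :=
        RingedSpace.isUnit_res_basicOpen T.toRingedSpace (b' k)
      obtain ⟨v, hv⟩ := hunit
      refine ⟨(T.presheaf.map (homOfLE (T.basicOpen_le (b' k))).op).hom t' *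
        ((v⁻¹ : (Γ(T, D k))ˣ) : Γ(T, D k)) ^ n, ?_⟩
      have hu : IsUnit (((g ≫ m).app (D k)).hom
          ((T.presheaf.map (homOfLE (T.basicOpen_le (b' k))).op).hom (b' k)) ^ n) :=
        (IsUnit.map ((g ≫ m).app (D k)).hom ⟨v, hv⟩).pow n
      apply hu.mul_right_injective
      simp only
      refine Eq.trans ?_ hn.symm
      rw [← map_pow, ← map_mul]
      congr 1
      rw [← hv, mul_comm, mul_assoc, ← mul_pow, Units.inv_mul, one_pow, mul_one]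
    · intro a
      refine ⟨(π'.app k.1.1.1).hom a, ?_⟩
      rw [← RingHom.comp_apply, ← CommRingCat.hom_comp, ← Scheme.Hom.comp_app]
      rfl
    · intro c hc
      have hct : c ∈ Bs k.1.1 ∪ (Bs k.1.1).biUnion (Cs k.1.1) :=
        Finset.mem_union_right _ (Finset.mem_biUnion.mpr ⟨k.2.1, k.2.2, hc⟩)
      obtain ⟨y, hy⟩ := hrange' k.1.1 k.1.2 c hct
      exact ⟨y, hy⟩

end Groth.Agent.H73.ImmApprox
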