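import Groth.Agent.H11.N2Insep

/-!
# Finiteness of integral closure for algebras of finite type over a field
-/

set_option autoImplicit false
universe u

namespace Groth.Agent.H73.InsepFinite

open Polynomial

/-- Abstract embedding criterion. -/
theorem finite_integralClosure_of_algHom {P P' F' K' : Type*} [CommRing P] [IsNoetherianRing P]
    [CommRing P'] [IsDomain P'] [IsIntegrallyClosed P'] [Algebra P P'] [Module.Finite P P']
    [Field F'] [Algebra P' F'] [IsFractionRing P' F'] [Algebra P F'] [IsScalarTower P P' F']
    [Field K'] [Algebra P K'] (σ : K' →ₐ[P] F') : Module.Finite P (integralClosure P K') := by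
  let φ : P' →ₗ[P] F' := (IsScalarTower.toAlgHom P P' F').toLinearMap
  have hP' : IsNoetherian P P' := isNoetherian_of_isNoetherianRing_of_finite P P'
  have hN : IsNoetherian P (LinearMap.range φ) :=
    isNoetherian_of_surjective φ.rangeRestrict (LinearMap.range_rangeRestrict φ)
  let ψ : integralClosure P K' →ₗ[P] F' :=
    σ.toLinearMap.comp (integralClosure P K').val.toLinearMap
  have hψ : ∀ b, ψ b ∈ LinearMap.range φ := by
    intro b
    have h1 : IsIntegral P (σ b.1) := b.2.map σ
    have h2 : IsIntegral P' (σ b.1) := h1.tower_top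
    obtain ⟨y, hy⟩ := IsIntegrallyClosed.isIntegral_iff.mp h2
    exact ⟨y, hy⟩
  refine Module.Finite.of_injective (ψ.codRestrict _ hψ) ?_
  intro x y hxy
  have h1 : σ x.1 = σ y.1 := congrArg Subtype.val hxy
  exact Subtype.ext (σ.toRingHom.injective h1)

section Construction

variable (k : Type*) [Field k] (k' : Type*) [Field k'] [Algebra k k'] (σ : Type*) (q : ℕ)

/-- The map `k[x] → k'[y]`, `x ↦ y ^ q`. -/
noncomputable def iota : MvPolynomial σ k →+* MvPolynomial σ k' :=
  (MvPolynomial.expand q).toRingHom.comp (MvPolynomial.map (algebraMap k k'))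

lemma iota_injective (hq : 0 < q) : Function.Injective (iota k k' σ q) :=
  (MvPolynomial.expand_injective hq).comp
    (MvPolynomial.map_injective _ (algebraMap k k').injective)

lemma iota_C (c : k) : iota k k' σ q (MvPolynomial.C c) = MvPolynomial.C (algebraMap k k' c) := by
  simp [iota]

lemma iota_X (i : σ) : iota k k' σ q (MvPolynomial.X i) = MvPolynomial.X i ^ q := by
  simp [iota]

variable {k k' σ}

lemma expand_monomial' {R : Type*} [CommSemiring R] (n : ℕ) (d : σ →₀ ℕ) (r : R) :
    MvPolynomial.expand n (MvPolynomial.monomial d r) = MvPolynomial.monomial (n • d) r := by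
  rw [MvPolynomial.expand_monomial, MvPolynomial.monomial_eq]

lemma iota_monomial (d : σ →₀ ℕ) (c : k) :
    iota k k' σ q (MvPolynomial.monomial d c) =
      MvPolynomial.monomial (q • d) (algebraMap k k' c) := by
  simp only [iota, RingHom.coe_comp, Function.comp_apply, MvPolynomial.map_monomial]
  exact expand_monomial' q d _

/-- A polynomial whose coefficients have `p^e`-th roots in `k'` becomes a `p^e`-th power. -/
lemma exists_pow_eq_iota (p : ℕ) [ExpChar k p] (e : ℕ) (g : MvPolynomial σ k)
    (hroot : ∀ d ∈ g.support, ∃ r : k', r ^ p ^ e = algebraMap k k' (g.coeff d)) :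
    ∃ G : MvPolynomial σ k', G ^ p ^ e = iota k k' σ (p ^ e) g := by
  classical
  have : ExpChar k' p := expChar_of_injective_ringHom (algebraMap k k').injective p
  choose! r hr using hroot
  refine ⟨∑ d ∈ g.support, MvPolynomial.monomial d (r d), ?_⟩
  rw [← iterateFrobenius_def (R := MvPolynomial σ k') p e, map_sum]
  conv_rhs => rw [g.as_sum, map_sum]
  refine Finset.sum_congr rfl fun d hd => ?_
  rw [iterateFrobenius_def, MvPolynomial.monomial_pow, iota_monomial, hr d hd]

end Construction

section Finite

variable (k : Type*) [Field k] (k' : Type*) [Field k'] [Algebra k k'] [FiniteDimensional k k']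
  (σ : Type*) [Finite σ] (q : ℕ)

lemma iota_comp_C : (iota k k' σ q).comp MvPolynomial.C =
    (MvPolynomial.C : k' →+* MvPolynomial σ k').comp (algebraMap k k') := by
  ext c
  simp [iota_C]

lemma iota_isIntegral (hq : 0 < q) : (iota k k' σ q).IsIntegral := by
  intro x
  induction x using MvPolynomial.induction_on with
  | C a =>
    obtain ⟨f, hf, hfa⟩ := Algebra.IsIntegral.isIntegral (R := k) a
    refine ⟨f.map MvPolynomial.C, hf.map _, ?_⟩
    rw [Polynomial.eval₂_map, iota_comp_C, ← Polynomial.hom_eval₂, hfa, map_zero]
  | add x y hx hy => exact hx.add _ hy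
  | mul_X x i hx =>
    refine hx.mul _ ?_
    refine ⟨Polynomial.X ^ q - Polynomial.C (MvPolynomial.X i),
      Polynomial.monic_X_pow_sub_C _ hq.ne', ?_⟩
    rw [Polynomial.eval₂_sub, Polynomial.eval₂_pow, Polynomial.eval₂_X, Polynomial.eval₂_C,
      iota_X, sub_self]

lemma iota_finite (hq : 0 < q) : (iota k k' σ q).Finite := by
  refine (iota_isIntegral k k' σ q hq).to_finite ?_
  refine RingHom.FiniteType.of_comp_finiteType (f := (MvPolynomial.C : k →+* MvPolynomial σ k)) ?_
  rw [iota_comp_C]
  refine RingHom.FiniteType.comp ?_ ?_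
  · exact (RingHom.finiteType_algebraMap (A := k') (B := MvPolynomial σ k')).mpr inferInstance
  · exact RingHom.Finite.to_finiteType
      ((RingHom.finite_algebraMap (A := k) (B := k')).mpr inferInstance)

end Finite

section Main

/-- The embedding argument, given enough roots in `k'`. -/
theorem finite_integralClosure_of_roots (k : Type*) [Field k] (k' : Type*) [Field k'] [Algebra k k']
    [FiniteDimensional k k'] (n : ℕ) (p : ℕ) [ExpChar k p] (e : ℕ)
    (K' : Type*) [Field K'] [Algebra (MvPolynomial (Fin n) k) K']
    [Algebra (FractionRing (MvPolynomial (Fin n) k)) K']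
    [IsScalarTower (MvPolynomial (Fin n) k) (FractionRing (MvPolynomial (Fin n) k)) K']
    (S : Set K') (hS : IntermediateField.adjoin (FractionRing (MvPolynomial (Fin n) k)) S = ⊤)
    (g h : K' → MvPolynomial (Fin n) k)
    (hh : ∀ s ∈ S, h s ≠ 0)
    (hgh : ∀ s ∈ S, s ^ p ^ e * algebraMap (MvPolynomial (Fin n) k) K' (h s) =
      algebraMap (MvPolynomial (Fin n) k) K' (g s))
    (hg_root : ∀ s ∈ S, ∀ d ∈ (g s).support,
      ∃ r : k', r ^ p ^ e = algebraMap k k' ((g s).coeff d))
    (hh_root : ∀ s ∈ S, ∀ d ∈ (h s).support,
      ∃ r : k', r ^ p ^ e = algebraMap k k' ((h s).coeff d)) :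
    Module.Finite (MvPolynomial (Fin n) k) (integralClosure (MvPolynomial (Fin n) k) K') := by
  classical
  have hq : 0 < p ^ e := expChar_pow_pos k p e
  have hk' : ExpChar k' p := expChar_of_injective_ringHom (algebraMap k k').injective p
  letI algPP' : Algebra (MvPolynomial (Fin n) k) (MvPolynomial (Fin n) k') :=
    (iota k k' (Fin n) (p ^ e)).toAlgebra
  have hfin : Module.Finite (MvPolynomial (Fin n) k) (MvPolynomial (Fin n) k') :=
    iota_finite k k' (Fin n) (p ^ e) hq
  have halg : ∀ x : MvPolynomial (Fin n) k,
      algebraMap (MvPolynomial (Fin n) k) (FractionRing (MvPolynomial (Fin n) k')) x =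
      algebraMap (MvPolynomial (Fin n) k') (FractionRing (MvPolynomial (Fin n) k'))
        (iota k k' (Fin n) (p ^ e) x) := fun x =>
    IsScalarTower.algebraMap_apply (MvPolynomial (Fin n) k) (MvPolynomial (Fin n) k')
      (FractionRing (MvPolynomial (Fin n) k')) x
  have hinj : Function.Injective (algebraMap (MvPolynomial (Fin n) k)
      (FractionRing (MvPolynomial (Fin n) k'))) := by
    intro x y hxy
    rw [halg, halg] at hxy
    exact iota_injective k k' (Fin n) (p ^ e) hq
      (IsFractionRing.injective (MvPolynomial (Fin n) k')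
        (FractionRing (MvPolynomial (Fin n) k')) hxy)
  letI algFF' : Algebra (FractionRing (MvPolynomial (Fin n) k))
      (FractionRing (MvPolynomial (Fin n) k')) := (IsFractionRing.lift hinj).toAlgebra
  have tower2 : IsScalarTower (MvPolynomial (Fin n) k) (FractionRing (MvPolynomial (Fin n) k))
      (FractionRing (MvPolynomial (Fin n) k')) :=
    IsScalarTower.of_algebraMap_eq fun x => (IsFractionRing.lift_algebraMap hinj x).symm
  have hF'p : ExpChar (FractionRing (MvPolynomial (Fin n) k')) p :=
    expChar_of_injective_ringHom (f := (algebraMap (MvPolynomial (Fin n) k')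
      (FractionRing (MvPolynomial (Fin n) k'))).comp (MvPolynomial.C : k' →+* _))
      ((IsFractionRing.injective (MvPolynomial (Fin n) k')
      (FractionRing (MvPolynomial (Fin n) k'))).comp (MvPolynomial.C_injective (Fin n) k')) p
  have key : ∀ s ∈ S, IsIntegral (FractionRing (MvPolynomial (Fin n) k)) s ∧
      ((minpoly (FractionRing (MvPolynomial (Fin n) k)) s).map
        (algebraMap (FractionRing (MvPolynomial (Fin n) k))
          (FractionRing (MvPolynomial (Fin n) k')))).Splits := by
    intro s hs
    obtain ⟨G, hG⟩ := exists_pow_eq_iota (k' := k') p e (g s) (hg_root s hs)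
    obtain ⟨H, hH⟩ := exists_pow_eq_iota (k' := k') p e (h s) (hh_root s hs)
    have hhF : algebraMap (MvPolynomial (Fin n) k) (FractionRing (MvPolynomial (Fin n) k)) (h s)
        ≠ 0 := by
      intro h0
      exact hh s hs (IsFractionRing.injective (MvPolynomial (Fin n) k)
        (FractionRing (MvPolynomial (Fin n) k)) (by rw [h0, map_zero]))
    have hhK : algebraMap (MvPolynomial (Fin n) k) K' (h s) ≠ 0 := by
      rw [IsScalarTower.algebraMap_apply (MvPolynomial (Fin n) k)
        (FractionRing (MvPolynomial (Fin n) k)) K']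
      intro h0
      exact hhF ((algebraMap (FractionRing (MvPolynomial (Fin n) k)) K').injective
        (by rw [h0, map_zero]))
    set f : FractionRing (MvPolynomial (Fin n) k) :=
      algebraMap (MvPolynomial (Fin n) k) (FractionRing (MvPolynomial (Fin n) k)) (g s) /
        algebraMap (MvPolynomial (Fin n) k) (FractionRing (MvPolynomial (Fin n) k)) (h s) with hf
    have hfs : algebraMap (FractionRing (MvPolynomial (Fin n) k)) K' f = s ^ p ^ e := by
      rw [hf, map_div₀, ← IsScalarTower.algebraMap_apply, ← IsScalarTower.algebraMap_apply,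
        ← hgh s hs, mul_div_cancel_right₀ _ hhK]
    have hint : IsIntegral (FractionRing (MvPolynomial (Fin n) k)) s :=
      IsIntegral.of_pow hq (hfs ▸ isIntegral_algebraMap)
    refine ⟨hint, ?_⟩
    have hdvd : minpoly (FractionRing (MvPolynomial (Fin n) k)) s ∣ X ^ p ^ e - C f :=
      minpoly.dvd _ s (by simp [hfs])
    have hH0 : algebraMap (MvPolynomial (Fin n) k') (FractionRing (MvPolynomial (Fin n) k')) H
        ≠ 0 := by
      intro h0
      have hH' : H = 0 := (IsFractionRing.injective (MvPolynomial (Fin n) k')
        (FractionRing (MvPolynomial (Fin n) k'))) (by rw [h0, map_zero])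
      rw [hH', zero_pow hq.ne'] at hH
      exact hh s hs (iota_injective k k' (Fin n) (p ^ e) hq (by rw [← hH, map_zero]))
    set β : FractionRing (MvPolynomial (Fin n) k') :=
      algebraMap (MvPolynomial (Fin n) k') (FractionRing (MvPolynomial (Fin n) k')) G /
        algebraMap (MvPolynomial (Fin n) k') (FractionRing (MvPolynomial (Fin n) k')) H with hβdef
    have hβ : algebraMap (FractionRing (MvPolynomial (Fin n) k))
        (FractionRing (MvPolynomial (Fin n) k')) f = β ^ p ^ e := by
      rw [hf, map_div₀, ← IsScalarTower.algebraMap_apply (MvPolynomial (Fin n) k)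
        (FractionRing (MvPolynomial (Fin n) k)) (FractionRing (MvPolynomial (Fin n) k')),
        ← IsScalarTower.algebraMap_apply (MvPolynomial (Fin n) k)
        (FractionRing (MvPolynomial (Fin n) k)) (FractionRing (MvPolynomial (Fin n) k'))]
      rw [halg, halg, ← hG, ← hH, map_pow, map_pow, hβdef, div_pow]
    have hmap : (X ^ p ^ e - C f : Polynomial (FractionRing (MvPolynomial (Fin n) k))).map
        (algebraMap (FractionRing (MvPolynomial (Fin n) k))
          (FractionRing (MvPolynomial (Fin n) k'))) = (X - C β) ^ p ^ e := by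
      rw [Polynomial.map_sub, Polynomial.map_pow, Polynomial.map_X, Polynomial.map_C, hβ,
        sub_pow_expChar_pow, ← C_pow]
    refine Splits.of_dvd (g := (X - C β) ^ p ^ e) ((Splits.X_sub_C β).pow _)
      (pow_ne_zero _ (X_sub_C_ne_zero β)) ?_
    rw [← hmap]
    exact Polynomial.map_dvd _ hdvd
  obtain ⟨σ⟩ := IntermediateField.nonempty_algHom_of_adjoin_splits key hS
  exact finite_integralClosure_of_algHom (P' := MvPolynomial (Fin n) k')
    (F' := FractionRing (MvPolynomial (Fin n) k')) (σ.restrictScalars (MvPolynomial (Fin n) k))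

end Main

section MvPoly

/-- The integral closure of `k[x₁,…,xₙ]` in a finite purely inseparable extension of its fraction
field is a finite module. -/
theorem finite_integralClosure_mvPolynomial (k : Type u) [Field k] (n : ℕ)
    (K' : Type*) [Field K'] [Algebra (MvPolynomial (Fin n) k) K']
    [Algebra (FractionRing (MvPolynomial (Fin n) k)) K']
    [IsScalarTower (MvPolynomial (Fin n) k) (FractionRing (MvPolynomial (Fin n) k)) K']
    (hfd : FiniteDimensional (FractionRing (MvPolynomial (Fin n) k)) K')
    (hpi : IsPurelyInseparable (FractionRing (MvPolynomial (Fin n) k)) K') :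
    Module.Finite (MvPolynomial (Fin n) k) (integralClosure (MvPolynomial (Fin n) k) K') := by
  classical
  obtain ⟨p, hp⟩ := ExpChar.exists k
  have hF : ExpChar (FractionRing (MvPolynomial (Fin n) k)) p :=
    expChar_of_injective_ringHom (f := (algebraMap (MvPolynomial (Fin n) k)
      (FractionRing (MvPolynomial (Fin n) k))).comp (MvPolynomial.C : k →+* _))
      ((IsFractionRing.injective (MvPolynomial (Fin n) k)
      (FractionRing (MvPolynomial (Fin n) k))).comp (MvPolynomial.C_injective (Fin n) k)) p
  set e := IsPurelyInseparable.exponent (FractionRing (MvPolynomial (Fin n) k)) K' with he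
  have hq : 0 < p ^ e := expChar_pow_pos k p e
  obtain ⟨S, hS⟩ := IntermediateField.fg_of_noetherian
    (⊤ : IntermediateField (FractionRing (MvPolynomial (Fin n) k)) K')
  have hex : ∀ s : K', ∃ g h : MvPolynomial (Fin n) k, h ≠ 0 ∧
      s ^ p ^ e * algebraMap (MvPolynomial (Fin n) k) K' h =
        algebraMap (MvPolynomial (Fin n) k) K' g := by
    intro s
    obtain ⟨f, hf⟩ := IsPurelyInseparable.exponent_def'
      (FractionRing (MvPolynomial (Fin n) k)) p s
    obtain ⟨g, h, hh, rfl⟩ := IsFractionRing.div_surjective (MvPolynomial (Fin n) k) f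
    have hh0 : h ≠ 0 := nonZeroDivisors.ne_zero hh
    have hhF : algebraMap (MvPolynomial (Fin n) k) (FractionRing (MvPolynomial (Fin n) k)) h
        ≠ 0 := by
      intro h0
      exact hh0 (IsFractionRing.injective (MvPolynomial (Fin n) k)
        (FractionRing (MvPolynomial (Fin n) k)) (by rw [h0, map_zero]))
    have hhK : algebraMap (MvPolynomial (Fin n) k) K' h ≠ 0 := by
      rw [IsScalarTower.algebraMap_apply (MvPolynomial (Fin n) k)
        (FractionRing (MvPolynomial (Fin n) k)) K']
      intro h0
      exact hhF ((algebraMap (FractionRing (MvPolynomial (Fin n) k)) K').injective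
        (by rw [h0, map_zero]))
    refine ⟨g, h, hh0, ?_⟩
    rw [← he] at hf
    rw [← hf, map_div₀, ← IsScalarTower.algebraMap_apply, ← IsScalarTower.algebraMap_apply,
      div_mul_cancel₀ _ hhK]
  choose g h hh hgh using hex
  let Cs : Finset k := S.biUnion fun s =>
    ((g s).support.image fun d => (g s).coeff d) ∪ ((h s).support.image fun d => (h s).coeff d)
  let Q : Polynomial k := ∏ c ∈ Cs, (X ^ p ^ e - C c)
  have hroot : ∀ c ∈ Cs, ∃ r : Q.SplittingField, r ^ p ^ e = algebraMap k Q.SplittingField c := by
    intro c hc
    have hQ0 : Q ≠ 0 := Finset.prod_ne_zero_iff.mpr fun c _ =>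
      (monic_X_pow_sub_C c hq.ne').ne_zero
    have hsplit : (Q.map (algebraMap k Q.SplittingField)).Splits := SplittingField.splits Q
    have hdvd : (X ^ p ^ e - C c) ∣ Q := Finset.dvd_prod_of_mem _ hc
    have h1 : ((X ^ p ^ e - C c : Polynomial k).map (algebraMap k Q.SplittingField)).Splits :=
      Splits.of_dvd hsplit ((Polynomial.map_ne_zero_iff (algebraMap k _).injective).mpr hQ0)
        (Polynomial.map_dvd _ hdvd)
    have hdeg : ((X ^ p ^ e - C c : Polynomial k).map (algebraMap k Q.SplittingField)).degree
        ≠ 0 := by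
      rw [degree_map, degree_X_pow_sub_C hq c]
      exact_mod_cast hq.ne'
    obtain ⟨r, hr⟩ := h1.exists_eval_eq_zero hdeg
    refine ⟨r, ?_⟩
    rw [Polynomial.eval_map, Polynomial.eval₂_sub, Polynomial.eval₂_pow, Polynomial.eval₂_X,
      Polynomial.eval₂_C, sub_eq_zero] at hr
    exact hr
  refine finite_integralClosure_of_roots k Q.SplittingField n p e K' (↑S) hS g h
    (fun s _ => hh s) (fun s _ => hgh s) (fun s hs d hd => hroot _ ?_)
    (fun s hs d hd => hroot _ ?_)
  · exact Finset.mem_biUnion.mpr ⟨s, hs, Finset.mem_union_left _ (Finset.mem_image_of_mem _ hd)⟩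
  · exact Finset.mem_biUnion.mpr ⟨s, hs, Finset.mem_union_right _ (Finset.mem_image_of_mem _ hd)⟩

end MvPoly

section Final

open scoped nonZeroDivisors

/-- `k[x₁,…,xₙ]` is Japanese. -/
theorem finite_integralClosure_mvPolynomial_of_finite (k : Type u) [Field k] (n : ℕ)
    (L : Type u) [Field L] [Algebra (MvPolynomial (Fin n) k) L]
    [Algebra (FractionRing (MvPolynomial (Fin n) k)) L]
    [IsScalarTower (MvPolynomial (Fin n) k) (FractionRing (MvPolynomial (Fin n) k)) L]
    (hL : FiniteDimensional (FractionRing (MvPolynomial (Fin n) k)) L) :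
    Module.Finite (MvPolynomial (Fin n) k) (integralClosure (MvPolynomial (Fin n) k) L) :=
  Groth.Agent.H11.N2Insep.finite_integralClosure_of_purelyInseparable (MvPolynomial (Fin n) k)
    (fun K' _ _ _ _ hfd hpi => finite_integralClosure_mvPolynomial k n K' hfd hpi) L hL

attribute [local instance] FractionRing.liftAlgebra in
/-- Finiteness of the integral closure of a domain of finite type over a field in a finite
extension of its fraction field. -/
theorem finite_integralClosure_of_finiteType (k A K L : Type u) [Field k] [CommRing A] [IsDomain A]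
    [Algebra k A] [Algebra.FiniteType k A] [Field K] [Field L] [Algebra A K] [IsFractionRing A K]
    [Algebra K L] [FiniteDimensional K L] [Algebra A L] [IsScalarTower A K L] :
    Module.Finite A (integralClosure A L) := by
  obtain ⟨n, φ, hinj, hfin⟩ := exists_finite_inj_algHom_of_fg k A
  letI algPA : Algebra (MvPolynomial (Fin n) k) A := φ.toRingHom.toAlgebra
  have hPA : Module.Finite (MvPolynomial (Fin n) k) A := hfin
  letI algPK : Algebra (MvPolynomial (Fin n) k) K := ((algebraMap A K).comp φ.toRingHom).toAlgebra
  letI algPL : Algebra (MvPolynomial (Fin n) k) L := ((algebraMap A L).comp φ.toRingHom).toAlgebra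
  have tPAK : IsScalarTower (MvPolynomial (Fin n) k) A K :=
    IsScalarTower.of_algebraMap_eq fun _ => rfl
  have tPAL : IsScalarTower (MvPolynomial (Fin n) k) A L :=
    IsScalarTower.of_algebraMap_eq fun _ => rfl
  have tPKL : IsScalarTower (MvPolynomial (Fin n) k) K L :=
    IsScalarTower.of_algebraMap_eq fun x => by
      change algebraMap A L (φ x) = algebraMap K L (algebraMap A K (φ x))
      rw [← IsScalarTower.algebraMap_apply]
  have hPAinj : Function.Injective (algebraMap (MvPolynomial (Fin n) k) A) := hinj
  have fPA : FaithfulSMul (MvPolynomial (Fin n) k) A :=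
    (faithfulSMul_iff_algebraMap_injective _ _).mpr hPAinj
  have fPK : FaithfulSMul (MvPolynomial (Fin n) k) K :=
    (faithfulSMul_iff_algebraMap_injective _ _).mpr
      ((IsFractionRing.injective A K).comp hPAinj)
  have fPL : FaithfulSMul (MvPolynomial (Fin n) k) L :=
    (faithfulSMul_iff_algebraMap_injective _ _).mpr (by
      rw [IsScalarTower.algebraMap_eq (MvPolynomial (Fin n) k) K L]
      exact (algebraMap K L).injective.comp ((IsFractionRing.injective A K).comp hPAinj))
  have hFK : Module.Finite (FractionRing (MvPolynomial (Fin n) k)) K :=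
    Module.Finite.of_isLocalization (MvPolynomial (Fin n) k) A (MvPolynomial (Fin n) k)⁰
  have hFL : Module.Finite (FractionRing (MvPolynomial (Fin n) k)) L := Module.Finite.trans K L
  have h1 : Module.Finite (MvPolynomial (Fin n) k)
      (integralClosure (MvPolynomial (Fin n) k) L) :=
    finite_integralClosure_mvPolynomial_of_finite k n L hFL
  have hN : IsNoetherian (MvPolynomial (Fin n) k) (integralClosure (MvPolynomial (Fin n) k) L) :=
    isNoetherian_of_isNoetherianRing_of_finite _ _
  have hPAint : Algebra.IsIntegral (MvPolynomial (Fin n) k) A := inferInstance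
  let f : integralClosure A L →ₗ[MvPolynomial (Fin n) k]
      integralClosure (MvPolynomial (Fin n) k) L :=
    { toFun := fun x => ⟨x.1, isIntegral_trans x.1 x.2⟩
      map_add' := fun _ _ => rfl
      map_smul' := fun a x => Subtype.ext (by
        change (a • x : integralClosure A L).1 = a • x.1
        rw [← algebraMap_smul A a x, ← algebraMap_smul A a x.1]
        rfl) }
  have h2 : Module.Finite (MvPolynomial (Fin n) k) (integralClosure A L) :=
    Module.Finite.of_injective f (fun x y h => by
      have h' : (f x).1 = (f y).1 := congrArg Subtype.val h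
      exact Subtype.ext h')
  exact Module.Finite.of_restrictScalars_finite (MvPolynomial (Fin n) k) A _

end Final

end Groth.Agent.H73.InsepFinite
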