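import Groth.Agent.H73.KrullAkizuki

/-!
# Rings that are integral closures in a field

Consequences of `IsIntegralClosure C R L` for a field `L`: `C` is an integrally closed domain;
if moreover `L` is the fraction field of a one-dimensional Noetherian domain `R`, then `C` is a
Dedekind domain with finite fibres and finite residue field extensions over `R`.
-/

set_option autoImplicit false

namespace Groth.Agent.H73.ICC

section General

variable (R C L : Type*) [CommRing R] [CommRing C] [Field L] [Algebra R C] [Algebra R L]
  [Algebra C L] [IsScalarTower R C L] [IsIntegralClosure C R L]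

include R L in
theorem isDomain : IsDomain C :=
  (IsIntegralClosure.algebraMap_injective C R L).isDomain _

include R L in
theorem isIntegral : Algebra.IsIntegral R C := IsIntegralClosure.isIntegral_algebra R L

include R L in
theorem isIntegrallyClosed : IsIntegrallyClosed C := by
  have h4 : IsIntegrallyClosed (integralClosure R L) :=
    IsIntegrallyClosed.of_isIntegrallyClosedIn (integralClosure R L) L
  exact IsIntegrallyClosed.of_equiv
    (IsIntegralClosure.equiv R (integralClosure R L) L C).toRingEquiv

include R L in
theorem eq_bot_of_comap_eq_bot [Nontrivial R] (P : Ideal C)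
    (h : P.comap (algebraMap R C) = ⊥) : P = ⊥ := by
  have := isDomain R C L
  have := isIntegral R C L
  exact Ideal.eq_bot_of_comap_eq_bot h

end General

section Dim1

variable (R C L : Type*) [CommRing R] [IsDomain R] [CommRing C] [Field L] [Algebra R C]
  [Algebra R L] [Algebra C L] [IsScalarTower R C L] [IsIntegralClosure C R L]
  [IsFractionRing R L] [IsNoetherianRing R] [Ring.KrullDimLE 1 R]

include R L in
theorem isDedekindDomain : IsDedekindDomain C := by
  have hD : IsDedekindDomain (integralClosure R L) := KA.isDedekindDomain_integralClosure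
  let e : integralClosure R L ≃+* C :=
    (IsIntegralClosure.equiv R (integralClosure R L) L C).toRingEquiv
  have h0 : IsDomain C := isDomain R C L
  have h1 : IsNoetherianRing C := isNoetherianRing_of_ringEquiv _ e
  have h3 : Ring.DimensionLEOne C := Ring.DimensionLEOne.of_ringEquiv e.symm
  have h4 : IsIntegrallyClosed C := isIntegrallyClosed R C L
  exact { toIsDomain := h0, toIsNoetherian := h1, toDimensionLEOne := h3,
          toIsIntegralClosure := (isIntegrallyClosed_iff_isIntegralClosure _).mp h4 }

include R L in
theorem finite_fibre (p : Ideal R) [p.IsPrime] :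
    {P : PrimeSpectrum C | P.asIdeal.comap (algebraMap R C) = p}.Finite := by
  let e : C ≃ₐ[R] integralClosure R L := IsIntegralClosure.equiv R C L (integralClosure R L)
  have hfin := KA.finite_fibre_integralClosure (R := R) (L := L) p
  refine Set.Finite.of_finite_image (f := PrimeSpectrum.comap (e.symm : integralClosure R L →+* C))
    (hfin.subset ?_) ?_
  · rintro _ ⟨P, hP, rfl⟩
    rw [Set.mem_ofPred_eq] at hP ⊢
    rw [← hP]
    ext r
    change (e.symm (algebraMap R (integralClosure R L) r)) ∈ P.asIdeal ↔ algebraMap R C r ∈ P.asIdeal
    rw [e.symm.commutes]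
  · intro P _ Q _ hPQ
    apply PrimeSpectrum.ext
    have h1 := congrArg PrimeSpectrum.asIdeal hPQ
    ext c
    have h2 : e.symm (e c) ∈ P.asIdeal ↔ e.symm (e c) ∈ Q.asIdeal := by
      have := SetLike.ext_iff.mp h1 (e c)
      exact this
    rwa [e.symm_apply_apply] at h2

include R L in
/-- Nonzero primes of `C` are maximal with residue field finite over `R`. -/
theorem finite_quotient (P : Ideal C) [P.IsPrime] (hP : P ≠ ⊥) :
    ((Ideal.Quotient.mk P).comp (algebraMap R C)).Finite := by
  have h0 : IsDomain C := isDomain R C L
  have hint : Algebra.IsIntegral R C := isIntegral R C L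
  let e : C ≃ₐ[R] integralClosure R L := IsIntegralClosure.equiv R C L (integralClosure R L)
  have hp : P.comap (algebraMap R C) ≠ ⊥ := fun h => hP (Ideal.eq_bot_of_comap_eq_bot h)
  obtain ⟨a, hap, ha0⟩ := Submodule.exists_mem_ne_zero_of_ne_bot hp
  let Q : Ideal (integralClosure R L) := P.comap (e.symm : integralClosure R L →+* C)
  have haQ : algebraMap R (integralClosure R L) a ∈ Q := by
    change e.symm (algebraMap R (integralClosure R L) a) ∈ P
    rw [e.symm.commutes]
    exact hap
  have hfin : Module.Finite R (integralClosure R L ⧸ Q) :=
    KA.finite_quotient_of_mem (integralClosure R L) a ha0 Q haQ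
  -- the induced surjection `integralClosure R L ⧸ Q → C ⧸ P`
  let ψ : integralClosure R L ⧸ Q →+* C ⧸ P :=
    Ideal.Quotient.lift Q ((Ideal.Quotient.mk P).comp (e.symm : integralClosure R L →+* C))
      (fun b hb => Ideal.Quotient.eq_zero_iff_mem.mpr hb)
  have hψ : Function.Surjective ψ := by
    intro c
    obtain ⟨c, rfl⟩ := Ideal.Quotient.mk_surjective c
    exact ⟨Ideal.Quotient.mk Q (e c), by simp [ψ]⟩
  have h1 : ((Ideal.Quotient.mk Q).comp (algebraMap R (integralClosure R L))).Finite := by
    have : (algebraMap R (integralClosure R L ⧸ Q)).Finite :=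
      RingHom.finite_algebraMap.mpr hfin
    exact this
  have h2 : ((Ideal.Quotient.mk P).comp (algebraMap R C)) =
      ψ.comp ((Ideal.Quotient.mk Q).comp (algebraMap R (integralClosure R L))) := by
    ext r
    change Ideal.Quotient.mk P (algebraMap R C r) =
      ψ (Ideal.Quotient.mk Q (algebraMap R (integralClosure R L) r))
    rw [Ideal.Quotient.lift_mk, RingHom.comp_apply]
    congr 1
    exact (e.symm.commutes r).symm
  rw [h2]
  exact (RingHom.Finite.of_surjective ψ hψ).comp h1

end Dim1

end Groth.Agent.H73.ICC
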