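import Mathlib

/-!
# Integral open neighbourhoods

A point of a reduced scheme with locally finitely many irreducible components whose local ring is
a domain has an integral open neighbourhood.
-/

set_option autoImplicit false
universe u

namespace Groth.Agent.H73.IntNbhd

open AlgebraicGeometry CategoryTheory TopologicalSpace

variable {Z : Scheme.{u}}

/-- the image of the generic point of `Spec 𝒪_{Z,z}` (for `𝒪_{Z,z}` a domain) generizes every
generization of `z`. -/
theorem exists_generic_generization (z : Z) [IsDomain (Z.presheaf.stalk z)] :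
    ∃ ζ : Z, ζ ⤳ z ∧ ∀ t : Z, t ⤳ z → ζ ⤳ t := by
  let b : ↥(Spec (Z.presheaf.stalk z)) := ⟨⊥, Ideal.isPrime_bot⟩
  refine ⟨Z.fromSpecStalk z b, ?_, ?_⟩
  · have : Z.fromSpecStalk z b ∈ Set.range (Z.fromSpecStalk z) := ⟨b, rfl⟩
    rw [Scheme.range_fromSpecStalk] at this
    exact this
  · intro t ht
    have : t ∈ Set.range (Z.fromSpecStalk z) := by
      rw [Scheme.range_fromSpecStalk]
      exact ht
    obtain ⟨p, rfl⟩ := this
    have hbp : b ⤳ p := (PrimeSpectrum.le_iff_specializes b p).mp bot_le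
    exact hbp.map (Z.fromSpecStalk z).continuous

/-- all irreducible components through a point with domain local ring coincide -/
theorem irreducibleComponent_unique (z : Z) [IsDomain (Z.presheaf.stalk z)]
    {C₁ C₂ : Set Z} (h₁ : C₁ ∈ irreducibleComponents Z) (h₂ : C₂ ∈ irreducibleComponents Z)
    (hz₁ : z ∈ C₁) (hz₂ : z ∈ C₂) : C₁ = C₂ := by
  obtain ⟨ζ, hζz, hζ⟩ := exists_generic_generization z
  have key : ∀ C ∈ irreducibleComponents Z, z ∈ C → C = closure {ζ} := by
    intro C hC hzC
    have hCcl : IsClosed C := isClosed_of_mem_irreducibleComponents C hC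
    have hCirr : IsIrreducible C := hC.1
    obtain ⟨g, hg⟩ := QuasiSober.sober hCirr hCcl
    have hgz : g ⤳ z := by
      rw [specializes_iff_mem_closure, hg.def]
      exact hzC
    have hζg : ζ ⤳ g := hζ g hgz
    have hsub : C ⊆ closure {ζ} := by
      rw [← hg.def]
      exact closure_minimal (by
        rintro _ rfl
        exact specializes_iff_mem_closure.mp hζg) isClosed_closure
    exact (hC.2 (isIrreducible_singleton.closure) hsub).antisymm hsub |>.symm ▸ rfl
  rw [key C₁ h₁ hz₁, key C₂ h₂ hz₂]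

theorem exists_isIntegral_opens [IsReduced Z]
    (hfin : LocallyFinite (fun C : ↥(irreducibleComponents ↥Z) => (C : Set ↥Z)))
    (z : Z) [IsDomain (Z.presheaf.stalk z)] :
    ∃ Z₀ : Z.Opens, z ∈ Z₀ ∧ IsIntegral (Z₀ : Scheme.{u}) := by
  classical
  obtain ⟨N, hN, hNfin⟩ := hfin z
  let C₀ : Set Z := irreducibleComponent z
  have hC₀ : C₀ ∈ irreducibleComponents Z := irreducibleComponent_mem_irreducibleComponents z
  have hzC₀ : z ∈ C₀ := mem_irreducibleComponent
  -- the bad components
  let B : Set ↥(irreducibleComponents ↥Z) := {C | ((C : Set Z) ∩ N).Nonempty ∧ z ∉ (C : Set Z)}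
  have hBfin : B.Finite := hNfin.subset (fun C hC => hC.1)
  let F : Set Z := ⋃ C ∈ B, (C : Set Z)
  have hFcl : IsClosed F :=
    hBfin.isClosed_biUnion (fun C _ => isClosed_of_mem_irreducibleComponents _ C.2)
  have hzF : z ∉ F := by
    intro hz
    simp only [F, Set.mem_iUnion] at hz
    obtain ⟨C, hCB, hzC⟩ := hz
    exact hCB.2 hzC
  let O : Set Z := interior N ∩ Fᶜ
  have hO : IsOpen O := isOpen_interior.inter hFcl.isOpen_compl
  have hzO : z ∈ O := ⟨mem_interior_iff_mem_nhds.mpr hN, hzF⟩
  have hOC : O ⊆ C₀ := by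
    intro t ht
    let Ct : Set Z := irreducibleComponent t
    have hCt : Ct ∈ irreducibleComponents Z := irreducibleComponent_mem_irreducibleComponents t
    have htCt : t ∈ Ct := mem_irreducibleComponent
    have hzCt : z ∈ Ct := by
      by_contra hz
      apply ht.2
      simp only [F, Set.mem_iUnion]
      exact ⟨⟨Ct, hCt⟩, ⟨⟨t, htCt, interior_subset ht.1⟩, hz⟩, htCt⟩
    have : Ct = C₀ := irreducibleComponent_unique z hCt hC₀ hzCt hzC₀
    rw [← this]
    exact htCt
  let Z₀ : Z.Opens := ⟨O, hO⟩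
  refine ⟨Z₀, hzO, ?_⟩
  have hirr : IsIrreducible O := ⟨⟨z, hzO⟩, hC₀.1.isPreirreducible.open_subset hO hOC⟩
  haveI : IrreducibleSpace ↥(Z₀ : Scheme.{u}) := Subtype.irreducibleSpace hirr
  exact isIntegral_of_irreducibleSpace_of_isReduced _

end Groth.Agent.H73.IntNbhd
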