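import Mathlib
import Groth.Agent.H69.DirColim
import Groth.Agent.H15.NilPair.Base
import Groth.Agent.H15.NilPair.Sys
import Groth.Agent.H15.IntPair.Sys
set_option autoImplicit false
universe u
open CategoryTheory MvPolynomial Limits
open Groth.Agent.H69 Groth.Agent.H15.IntPair
open Groth.Agent.H15.NilPair (PS IT Cq mkq mkq_surjective mkq_eq_zero mkq_eq_zero_iff fp tr tr_mkq
  tr_refl tr_trans toE toE_mkq toE_tr gen_top X_mem_PS PS_mono dirNat)
open scoped Classical

namespace Groth.Agent.H73.IntPair_Mb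

variable {A B C : Type u} [CommRing A] [CommRing B] [CommRing C] [Algebra A B] [Algebra A C]
  [Algebra B C] [IsScalarTower A B C]

/-- (Mb) -/
theorem phi_surj (h : Function.Surjective (algebraMap B C)) (j : J A B C) :
    Function.Surjective (phi j) := by
  intro z
  obtain ⟨⟨q, hq⟩, rfl⟩ := mkq_surjective _ _ z
  have hS : j.1.S = ∅ := j.2.2.2.2.2.2.1 h
  have hq' : q ∈ PS A j.1.WB := by
    rw [← Raw.WC_eq_WB_of_S hS]; exact hq
  refine ⟨mkq _ _ ⟨q, hq'⟩, ?_⟩
  simp only [phi, Raw.phi, tr_mkq]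

end Groth.Agent.H73.IntPair_Mb
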