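import Groth.Agent.H54.ZMT

/-!
# Integral morphisms with a rational section
-/

set_option autoImplicit false
universe u
open CategoryTheory CategoryTheory.Limits AlgebraicGeometry TopologicalSpace

namespace Groth.Agent.H73.IntSec

/-- Incomparability for an integral morphism of integral schemes: a point over the generic point
is the generic point. -/
theorem eq_genericPoint_of_isIntegralHom {X' X : Scheme.{u}} [IsIntegral X'] [IsIntegral X]
    (g : X' ⟶ X) [IsIntegralHom g] (ξ : X') (hξ : g.base ξ = genericPoint X) :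
    ξ = genericPoint X' := by
  obtain ⟨(N : X.Opens), hN, hxN, -⟩ :=
    Opens.isBasis_iff_nbhd.mp X.isBasis_affineOpens (Opens.mem_top (g.base ξ))
  have hW : IsAffineOpen (g ⁻¹ᵁ N) := hN.preimage g
  have hξW : ξ ∈ g ⁻¹ᵁ N := hxN
  have hneN : Nonempty N := ⟨⟨_, hxN⟩⟩
  have hneW : Nonempty (g ⁻¹ᵁ N : X'.Opens) := ⟨⟨ξ, hξW⟩⟩
  have hgenW : genericPoint X' ∈ g ⁻¹ᵁ N :=
    ((genericPoint_spec X').mem_open_set_iff (g ⁻¹ᵁ N).2).mpr ⟨ξ, trivial, hξW⟩
  have hgenN : genericPoint X ∈ N := hξ ▸ hxN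
  have h3 := IsAffineOpen.comap_primeIdealOf_appLE N hN (g ⁻¹ᵁ N) hW le_rfl hξW
  have h4 : hN.primeIdealOf ⟨g.base ξ, hxN⟩ = hN.primeIdealOf ⟨genericPoint X, hgenN⟩ := by
    congr 1
    exact Subtype.ext hξ
  have h5 : (hN.primeIdealOf ⟨genericPoint X, hgenN⟩).asIdeal = ⊥ := by
    rw [hN.primeIdealOf_genericPoint, genericPoint_eq_bot_of_affine]
    rfl
  have h5' : (hW.primeIdealOf ⟨genericPoint X', hgenW⟩).asIdeal = ⊥ := by
    rw [hW.primeIdealOf_genericPoint, genericPoint_eq_bot_of_affine]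
    rfl
  have hint : (g.app N).hom.IsIntegral := g.isIntegral_app N hN
  letI := (g.app N).hom.toAlgebra
  have : Algebra.IsIntegral Γ(X, N) Γ(X', g ⁻¹ᵁ N) := ⟨hint⟩
  have happ : (g.app N).hom = (g.appLE N (g ⁻¹ᵁ N) le_rfl).hom := by
    rw [Scheme.Hom.app_eq_appLE]
  have h6 : (hW.primeIdealOf ⟨ξ, hξW⟩).asIdeal = ⊥ := by
    apply Ideal.eq_bot_of_comap_eq_bot (R := Γ(X, N))
    rw [← h5, ← h4, ← h3, RingHom.algebraMap_toAlgebra, happ]
    rfl
  have h7 : hW.primeIdealOf ⟨ξ, hξW⟩ = hW.primeIdealOf ⟨genericPoint X', hgenW⟩ :=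
    PrimeSpectrum.ext (h6.trans h5'.symm)
  have h8 := congrArg hW.fromSpec.base h7
  rw [hW.fromSpec_primeIdealOf, hW.fromSpec_primeIdealOf] at h8
  exact h8

/-- An integral morphism of integral schemes with a rational section is birational. -/
theorem birational_of_section {X' X : Scheme.{u}} [IsIntegral X'] [IsIntegral X]
    (g : X' ⟶ X) [IsIntegralHom g] (U : X.Opens) (hU : Dense (U : Set X))
    (s : (U : Scheme.{u}) ⟶ X') (hs : s ≫ g = U.ι) :
    g.base (genericPoint X') = genericPoint X ∧ IsIso (g.stalkMap (genericPoint X')) := by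
  have hηU : genericPoint X ∈ U := by
    obtain ⟨x, hx⟩ := hU.nonempty
    exact ((genericPoint_spec X).mem_open_set_iff U.2).mpr ⟨x, trivial, hx⟩
  let ηU : (U : Scheme.{u}) := ⟨genericPoint X, hηU⟩
  have hgξ : g.base (s.base ηU) = genericPoint X := by
    rw [← Scheme.Hom.comp_apply, hs]
    rfl
  have hξ : s.base ηU = genericPoint X' := eq_genericPoint_of_isIntegralHom g _ hgξ
  refine ⟨hξ ▸ hgξ, ?_⟩
  rw [← hξ]
  have h1 : Function.Bijective ((s ≫ g).stalkMap ηU) := by
    rw [Scheme.Hom.stalkMap_congr_hom _ _ hs]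
    exact (ConcreteCategory.isIso_iff_bijective _).mp inferInstance
  rw [Scheme.Hom.stalkMap_comp] at h1
  have hF : IsField (X'.presheaf.stalk (s.base ηU)) := by
    rw [hξ]
    exact Field.toIsField X'.functionField
  have hinj : Function.Injective (s.stalkMap ηU) := by
    letI := hF.toField
    exact RingHom.injective (s.stalkMap ηU).hom
  have h2 : Function.Bijective (⇑(s.stalkMap ηU) ∘ ⇑(g.stalkMap (s.base ηU))) := by
    exact h1
  have hsurj : Function.Surjective (s.stalkMap ηU) := Function.Surjective.of_comp h2.2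
  have hbij : Function.Bijective (g.stalkMap (s.base ηU)) :=
    (Function.Bijective.of_comp_iff' ⟨hinj, hsurj⟩ _).mp h2
  exact (ConcreteCategory.isIso_iff_bijective _).mpr hbij

/-- An integral morphism from an integral scheme onto a normal integral scheme with a rational
section is an isomorphism. -/
theorem isIso_of_section {X' X : Scheme.{u}} [IsIntegral X'] [IsIntegral X]
    (hN : ∀ x : X, IsIntegrallyClosed (X.presheaf.stalk x))
    (g : X' ⟶ X) [IsIntegralHom g] (U : X.Opens) (hU : Dense (U : Set X))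
    (s : (U : Scheme.{u}) ⟶ X') (hs : s ≫ g = U.ι) : IsIso g := by
  obtain ⟨h1, h2⟩ := birational_of_section g U hU s hs
  exact Groth.Agent.H54.isIso_of_isIntegralHom_of_birational hN g h1 h2

end Groth.Agent.H73.IntSec
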