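import Mathlib

/-!
# Lengths in rank one (towards Krull–Akizuki)

For a domain `R` with fraction field `L` such that `R ⧸ J` has finite length for every nonzero
ideal `J`, a strictly decreasing chain of `n + 1` submodules of `L` between `a • M` and `M`, where
`M` is finitely generated, has `n ≤ length (R ⧸ (a))`.
-/

set_option autoImplicit false

namespace Groth.Agent.H73.KA

open Module

section Herbrand

variable {R : Type*} [CommRing R]

/-- The ideal `(a) * I`. -/
abbrev aI (I : Ideal R) (a : R) : Ideal R := Ideal.span {a} * I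

/-- `R/(a)I → R/I`. -/
noncomputable def f1 (I : Ideal R) (a : R) : (R ⧸ aI I a) →ₗ[R] (R ⧸ I) :=
  Submodule.mapQ (aI I a) I LinearMap.id (by
    rw [Submodule.comap_id]; exact (Ideal.mul_le_right : Ideal.span {a} * I ≤ I))

/-- `R/(a)I → R/(a)`. -/
noncomputable def f2 (I : Ideal R) (a : R) : (R ⧸ aI I a) →ₗ[R] (R ⧸ Ideal.span {a}) :=
  Submodule.mapQ (aI I a) (Ideal.span {a}) LinearMap.id (by
    rw [Submodule.comap_id]
    exact (Ideal.mul_le_left : Ideal.span {a} * I ≤ Ideal.span {a}))

/-- `r ↦ [a r]` in `R/(a)I`. -/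
noncomputable def mulMk (I : Ideal R) (a : R) : R →ₗ[R] (R ⧸ aI I a) :=
  (Submodule.mkQ (aI I a)).comp (LinearMap.mulLeft R a)

lemma f1_mk (I : Ideal R) (a r : R) :
    f1 I a (Submodule.Quotient.mk r) = Submodule.Quotient.mk r := by
  simp [f1]

lemma f2_mk (I : Ideal R) (a r : R) :
    f2 I a (Submodule.Quotient.mk r) = Submodule.Quotient.mk r := by
  simp [f2]

lemma mulMk_apply (I : Ideal R) (a r : R) :
    mulMk I a r = Submodule.Quotient.mk (a * r) := by
  simp [mulMk]

lemma f1_surjective (I : Ideal R) (a : R) : Function.Surjective (f1 I a) := by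
  intro y
  obtain ⟨r, rfl⟩ := Submodule.Quotient.mk_surjective _ y
  exact ⟨Submodule.Quotient.mk r, f1_mk I a r⟩

lemma f2_surjective (I : Ideal R) (a : R) : Function.Surjective (f2 I a) := by
  intro y
  obtain ⟨r, rfl⟩ := Submodule.Quotient.mk_surjective _ y
  exact ⟨Submodule.Quotient.mk r, f2_mk I a r⟩

lemma ker_mulMk [IsDomain R] (I : Ideal R) (a : R) (ha : a ≠ 0) :
    LinearMap.ker (mulMk I a) = I := by
  ext x
  rw [LinearMap.mem_ker, mulMk_apply, Submodule.Quotient.mk_eq_zero,
    Ideal.mem_span_singleton_mul]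
  constructor
  · rintro ⟨z, hz, hza⟩
    have : z = x := mul_left_cancel₀ ha hza
    exact this ▸ hz
  · intro hx
    exact ⟨x, hx, rfl⟩

lemma range_mulMk (I : Ideal R) (a : R) :
    LinearMap.range (mulMk I a) = LinearMap.ker (f2 I a) := by
  ext y
  obtain ⟨r, rfl⟩ := Submodule.Quotient.mk_surjective _ y
  rw [LinearMap.mem_range, LinearMap.mem_ker, f2_mk, Submodule.Quotient.mk_eq_zero]
  constructor
  · rintro ⟨c, hc⟩
    rw [mulMk_apply, Submodule.Quotient.eq] at hc
    have h1 : a * c - r ∈ Ideal.span {a} :=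
      (Ideal.mul_le_left : Ideal.span {a} * I ≤ Ideal.span {a}) hc
    have h2 : a * c ∈ Ideal.span {a} :=
      Ideal.mul_mem_right _ _ (Ideal.mem_span_singleton_self a)
    have := (Ideal.span {a}).sub_mem h2 h1
    simpa using this
  · intro hr
    obtain ⟨c, rfl⟩ := Ideal.mem_span_singleton'.mp hr
    exact ⟨c, by rw [mulMk_apply, mul_comm]⟩

/-- The Herbrand-quotient argument: `length (I/aI) = length (R/aR)`. -/
theorem length_ker_f1 [IsDomain R] (I : Ideal R) (a : R) (ha : a ≠ 0)
    (hfin : Module.length R (R ⧸ I) ≠ ⊤) :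
    Module.length R (LinearMap.ker (f1 I a)) = Module.length R (R ⧸ Ideal.span {a}) := by
  have h1 := Module.length_eq_add_of_exact (LinearMap.ker (f1 I a)).subtype (f1 I a)
    (Submodule.subtype_injective _) (f1_surjective I a) (LinearMap.exact_subtype_ker_map _)
  have h2 := Module.length_eq_add_of_exact (LinearMap.ker (f2 I a)).subtype (f2 I a)
    (Submodule.subtype_injective _) (f2_surjective I a) (LinearMap.exact_subtype_ker_map _)
  have e : (R ⧸ I) ≃ₗ[R] LinearMap.ker (f2 I a) :=
    (Submodule.quotEquivOfEq _ _ (ker_mulMk I a ha).symm).trans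
      ((mulMk I a).quotKerEquivRange.trans (LinearEquiv.ofEq _ _ (range_mulMk I a)))
  rw [← e.length_eq] at h2
  rw [h1, add_comm (Module.length R (LinearMap.ker (f1 I a)))] at h2
  exact ENat.add_right_injective_of_ne_top hfin h2

end Herbrand

/-- A strictly decreasing chain of `n+1` submodules below `Q` gives `n ≤ length Q`. -/
theorem le_length_of_strictAnti {R M : Type*} [Ring R] [AddCommGroup M] [Module R M]
    (Q : Submodule R M) (n : ℕ)
    (N : Fin (n + 1) → Submodule R M) (hN : StrictAnti N) (h0 : N 0 ≤ Q) :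
    (n : ℕ∞) ≤ Module.length R Q := by
  rw [Module.length_submodule]
  let p : LTSeries (Submodule R M) :=
    LTSeries.mk n (fun i => N i.rev) (fun i j hij => hN (Fin.rev_lt_rev.mpr hij))
  have hp : p.last ≤ Q := by
    show N (Fin.rev (Fin.last n)) ≤ Q
    rw [Fin.rev_last]; exact h0
  exact Order.length_le_height hp

/-- Quotients of a one-dimensional Noetherian domain by nonzero ideals have finite length. -/
theorem length_quotient_ne_top {R : Type*} [CommRing R] [IsDomain R] [IsNoetherianRing R]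
    [Ring.KrullDimLE 1 R] (J : Ideal R) (hJ : J ≠ ⊥) : Module.length R (R ⧸ J) ≠ ⊤ := by
  have h0 : Ring.KrullDimLE 0 (R ⧸ J) := by
    refine Ring.KrullDimLE.mk₀ fun P hP => ?_
    have hQ : (P.comap (Ideal.Quotient.mk J)).IsPrime := hP.comap _
    have hQne : P.comap (Ideal.Quotient.mk J) ≠ ⊥ := by
      intro h
      apply hJ
      rw [eq_bot_iff, ← h]
      intro x hx
      rw [Ideal.mem_comap, Ideal.Quotient.eq_zero_iff_mem.mpr hx]
      exact P.zero_mem
    have hmax := hQ.isMaximal_of_ne_bot hQne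
    have := Ideal.map_eq_top_or_isMaximal_of_surjective (Ideal.Quotient.mk J)
      Ideal.Quotient.mk_surjective hmax
    rw [Ideal.map_comap_of_surjective _ Ideal.Quotient.mk_surjective] at this
    exact this.resolve_left hP.ne_top
  have hart : IsArtinianRing (R ⧸ J) := isArtinianRing_iff_krullDimLE_zero.mpr h0
  rw [Module.length_eq_of_surjective (S := R) (R := R ⧸ J) (M := R ⧸ J)
    Ideal.Quotient.mk_surjective]
  exact Module.length_ne_top

/-- The chain bound in the fraction field. -/
theorem chain_bound {R L : Type*} [CommRing R] [IsDomain R] [Field L] [Algebra R L]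
    [IsFractionRing R L]
    (hfin : ∀ J : Ideal R, J ≠ ⊥ → Module.length R (R ⧸ J) ≠ ⊤)
    (a : R) (ha : a ≠ 0) (n : ℕ) (M : Fin (n + 1) → Submodule R L) (hM : StrictAnti M)
    (hfg : (M 0).FG) (haM : ∀ x ∈ M 0, a • x ∈ M (Fin.last n)) :
    (n : ℕ∞) ≤ Module.length R (R ⧸ Ideal.span {a}) := by
  rcases Nat.eq_zero_or_pos n with rfl | hn
  · simp
  obtain ⟨t, ht⟩ := hfg
  obtain ⟨d, hd⟩ := IsLocalization.exist_integer_multiples_of_finset (nonZeroDivisors R) t
  have hd0 : algebraMap R L (d : R) ≠ 0 := by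
    have := nonZeroDivisors.ne_zero d.2
    simp [this]
  let ψ : R →ₗ[R] L := ((algebraMap R L d)⁻¹) • Algebra.linearMap R L
  have hψ : ∀ r, ψ r = (algebraMap R L d)⁻¹ * algebraMap R L r := fun r => by
    simp [ψ]
  have hψ0 : ∀ r, ψ r = 0 → r = 0 := by
    intro r hr
    rw [hψ, mul_eq_zero] at hr
    rcases hr with hr | hr
    · exact absurd (inv_eq_zero.mp hr) hd0
    · exact (map_eq_zero_iff _ (IsFractionRing.injective R L)).mp hr
  have hrange : M 0 ≤ LinearMap.range ψ := by
    rw [← ht, Submodule.span_le]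
    intro x hx
    obtain ⟨r, hr⟩ := hd x hx
    refine ⟨r, ?_⟩
    rw [hψ, hr, Algebra.smul_def, inv_mul_cancel_left₀ hd0]
  have hMle : ∀ j, M j ≤ M 0 := fun j => hM.antitone (Fin.zero_le j)
  let I : Fin (n + 1) → Ideal R := fun j => (M j).comap ψ
  have hI : StrictAnti I := by
    intro i j hij
    refine lt_of_le_of_ne (Submodule.comap_mono (hM hij).le) ?_
    intro heq
    obtain ⟨x, hxi, hxj⟩ := SetLike.exists_of_lt (hM hij)
    obtain ⟨r, rfl⟩ := hrange (hMle i hxi)
    have hr : r ∈ I i := hxi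
    rw [← heq] at hr
    exact hxj hr
  have hI0 : I 0 ≠ ⊥ := by
    have hlt : M (Fin.last n) < M 0 := hM (by
      rw [Fin.lt_def]; simpa using hn)
    obtain ⟨x, hx0, hxl⟩ := SetLike.exists_of_lt hlt
    obtain ⟨r, rfl⟩ := hrange hx0
    intro hbot
    have hr : r ∈ I 0 := hx0
    rw [hbot, Submodule.mem_bot] at hr
    apply hxl
    rw [hr, map_zero]
    exact Submodule.zero_mem _
  have haI : ∀ j, aI (I 0) a ≤ I j := by
    intro j z hz
    obtain ⟨z', hz', rfl⟩ := Ideal.mem_span_singleton_mul.mp hz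
    have h1 : a • ψ z' ∈ M (Fin.last n) := haM _ hz'
    have h2 : ψ (a * z') = a • ψ z' := by
      rw [← smul_eq_mul, map_smul]
    show ψ (a * z') ∈ M j
    rw [h2]
    exact hM.antitone (Fin.le_last j) h1
  let N : Fin (n + 1) → Submodule R (R ⧸ aI (I 0) a) :=
    fun j => Submodule.map (Submodule.mkQ (aI (I 0) a)) (I j)
  have hN : StrictAnti N := by
    intro i j hij
    refine lt_of_le_of_ne (Submodule.map_mono (hI hij).le) ?_
    intro heq
    have h1 : Submodule.comap (Submodule.mkQ (aI (I 0) a)) (N j) =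
        Submodule.comap (Submodule.mkQ (aI (I 0) a)) (N i) := by rw [heq]
    simp only [N, Submodule.comap_map_mkQ] at h1
    rw [sup_eq_right.mpr (haI j), sup_eq_right.mpr (haI i)] at h1
    exact (hI hij).ne h1
  have hN0 : N 0 ≤ LinearMap.ker (f1 (I 0) a) := by
    intro x hx
    obtain ⟨r, hr, rfl⟩ := Submodule.mem_map.mp hx
    rw [LinearMap.mem_ker, Submodule.mkQ_apply, f1_mk, Submodule.Quotient.mk_eq_zero]
    exact hr
  have := le_length_of_strictAnti _ n N hN hN0
  rwa [length_ker_f1 (I 0) a ha (hfin _ hI0)] at this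

end Groth.Agent.H73.KA
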