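import Mathlib

set_option autoImplicit false

open CategoryTheory CategoryTheory.Limits AlgebraicGeometry

universe u

namespace Groth.Agent.H73.KumFS_GERM

theorem germ_formallyEtale {X : Scheme.{u}} (W₀ : X.Opens) (hW₀ : IsAffineOpen W₀) (x : X)
    (hx : x ∈ W₀) : (X.presheaf.germ W₀ x hx).hom.FormallyEtale := by
  let _ : Algebra Γ(X, W₀) (X.presheaf.stalk x) :=
    TopCat.Presheaf.algebra_section_stalk X.presheaf ⟨x, hx⟩
  have hloc : IsLocalization.AtPrime (X.presheaf.stalk x) (hW₀.primeIdealOf ⟨x, hx⟩).asIdeal :=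
    hW₀.isLocalization_stalk ⟨x, hx⟩
  have hfe : Algebra.FormallyEtale Γ(X, W₀) (X.presheaf.stalk x) :=
    Algebra.FormallyEtale.of_isLocalization (hW₀.primeIdealOf ⟨x, hx⟩).asIdeal.primeCompl
  have := (RingHom.formallyEtale_algebraMap (R := Γ(X, W₀)) (S := X.presheaf.stalk x)).2 hfe
  exact this

end Groth.Agent.H73.KumFS_GERM
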