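import Mathlib

set_option autoImplicit false

open CategoryTheory CategoryTheory.Limits AlgebraicGeometry

universe u

namespace Groth.Agent.H73.KumFS_SCH2

/-- the whole spectrum of the stalk at `x` maps into any open containing `x`. -/
theorem top_le_preimage_fromSpecStalk {X : Scheme.{u}} (x : X) (W₀ : X.Opens) (hx : x ∈ W₀) :
    (⊤ : (Spec (X.presheaf.stalk x)).Opens) ≤ X.fromSpecStalk x ⁻¹ᵁ W₀ := by
  intro y _
  have hy : (X.fromSpecStalk x) y ∈ Set.range (X.fromSpecStalk x) := ⟨y, rfl⟩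
  rw [Scheme.range_fromSpecStalk] at hy
  exact hy.mem_open W₀.2 hx

/-- `fromSpecStalk` on sections over an open containing the point is the germ map. -/
theorem fromSpecStalk_appLE_top {X : Scheme.{u}} (x : X) (W₀ : X.Opens) (hx : x ∈ W₀) :
    (X.fromSpecStalk x).appLE W₀ ⊤ (top_le_preimage_fromSpecStalk x W₀ hx) ≫
        (Scheme.ΓSpecIso (X.presheaf.stalk x)).hom =
      X.presheaf.germ W₀ x hx := by
  rw [Scheme.Hom.appLE, Scheme.fromSpecStalk_app hx]
  simp only [Category.assoc]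
  rw [← Functor.map_comp_assoc]
  have h1 : ((homOfLE (le_top : X.fromSpecStalk x ⁻¹ᵁ W₀ ≤ ⊤)).op ≫
      (homOfLE (top_le_preimage_fromSpecStalk x W₀ hx)).op) = 𝟙 _ := Subsingleton.elim _ _
  rw [h1, CategoryTheory.Functor.map_id, Category.id_comp, Iso.inv_hom_id, Category.comp_id]

theorem appLE_fromSpecStalk {X : Scheme.{u}} (x : X) (K : Type u) [CommRing K]
    [Algebra (X.presheaf.stalk x) K] (W₀ : X.Opens) (hx : x ∈ W₀)
    (hle : (⊤ : (Spec (CommRingCat.of K)).Opens) ≤
      (Spec.map (CommRingCat.ofHom (algebraMap (X.presheaf.stalk x) K)) ≫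
        X.fromSpecStalk x) ⁻¹ᵁ W₀) :
    (Spec.map (CommRingCat.ofHom (algebraMap (X.presheaf.stalk x) K)) ≫
        X.fromSpecStalk x).appLE W₀ ⊤ hle ≫ (Scheme.ΓSpecIso (CommRingCat.of K)).hom =
    X.presheaf.germ W₀ x hx ≫ CommRingCat.ofHom (algebraMap (X.presheaf.stalk x) K) := by
  have h1 := Scheme.Hom.appLE_comp_appLE
    (Spec.map (CommRingCat.ofHom (algebraMap (X.presheaf.stalk x) K))) (X.fromSpecStalk x)
    W₀ ⊤ ⊤ (top_le_preimage_fromSpecStalk x W₀ hx) le_top
  have e : (Spec.map (CommRingCat.ofHom (algebraMap (X.presheaf.stalk x) K))).appLE ⊤ ⊤ le_top =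
      (Spec.map (CommRingCat.ofHom (algebraMap (X.presheaf.stalk x) K))).appTop := by
    rw [Scheme.Hom.appTop, Scheme.Hom.app_eq_appLE]
    rfl
  have h2 := fromSpecStalk_appLE_top x W₀ hx
  have h3 := Scheme.ΓSpecIso_naturality
    (CommRingCat.ofHom (algebraMap (X.presheaf.stalk x) K))
  rw [← h1, Category.assoc, e, h3, ← Category.assoc]
  exact congrArg (fun t => t ≫ CommRingCat.ofHom (algebraMap (X.presheaf.stalk x) K)) h2

end Groth.Agent.H73.KumFS_SCH2
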