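import Mathlib

set_option autoImplicit false
universe u

namespace Groth.Agent.H73.LSO_LEN

/-- (LEN) length of `M ⧸ (m)` for `M` free of rank one over a DVR. -/
theorem length_quotient_span_eq_addVal {O M : Type u} [CommRing O] [IsDomain O]
    [IsDiscreteValuationRing O] [AddCommGroup M] [Module O M] (e : M ≃ₗ[O] O) (m : M) :
    Module.length O (M ⧸ Submodule.span O {m}) = IsDiscreteValuationRing.addVal O (e m) := by
  rw [← Ring.ord_eq_addVal]
  unfold Ring.ord
  apply LinearEquiv.length_eq
  refine Submodule.Quotient.equiv (Submodule.span O {m}) (Ideal.span {e m}) e ?_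
  rw [Submodule.map_span, Set.image_singleton]
  rfl

end Groth.Agent.H73.LSO_LEN
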