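import Mathlib

/-!
# Closedness of `closure E \ E` for a constructible set stable under intermediate generization
-/

set_option autoImplicit false
universe u

namespace Groth.Agent.H73.LocClosed

open AlgebraicGeometry CategoryTheory TopologicalSpace PrimeSpectrum Topology

variable {X : Scheme.{u}}

theorem isClosed_preimage_closure_diff [IsLocallyNoetherian X] {E : Set X}
    (hE : IsLocallyConstructible E)
    (H : ∀ e x' x : X, e ∈ E → x ∈ E → e ⤳ x' → x' ⤳ x → x' ∈ E)
    (R : CommRingCat.{u}) (j : Spec R ⟶ X) [IsOpenImmersion j] :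
    IsClosed (j ⁻¹' (closure E \ E)) := by
  haveI : IsLocallyNoetherian (Spec R) := isLocallyNoetherian_of_isOpenImmersion j
  haveI : IsNoetherian (Spec R) := {}
  haveI : IsNoetherianRing R := isNoetherian_Spec.mp inferInstance
  haveI : NoetherianSpace (PrimeSpectrum R) := inferInstance
  let E₀ : Set (PrimeSpectrum R) := j ⁻¹' E
  have hE₀ : IsConstructible E₀ :=
    (hE.preimage_of_isOpenEmbedding j.isOpenEmbedding).isConstructible
  have hcl : j ⁻¹' (closure E) = closure E₀ :=
    j.isOpenEmbedding.isOpenMap.preimage_closure_eq_closure_preimage j.continuous E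
  have hpre : j ⁻¹' (closure E \ E) = closure E₀ \ E₀ := by
    rw [Set.preimage_sdiff, hcl]
    rfl
  rw [hpre]
  have hclc : IsConstructible (closure E₀) := by
    rw [← isConstructible_compl]
    exact IsRetrocompact.isConstructible isClosed_closure.isOpen_compl
      (fun U _ _ => NoetherianSpace.isCompact _)
  apply isClosed_of_stableUnderSpecialization_of_isConstructible _ (hclc.sdiff hE₀)
  intro x' x hsp hx'
  refine ⟨isClosed_closure.stableUnderSpecialization hsp hx'.1, fun hxE => hx'.2 ?_⟩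
  obtain ⟨S, _, φ, hφ⟩ := exists_range_eq_of_isConstructible hE₀
  have h1 : x' ∈ zeroLocus ((RingHom.ker φ : Ideal R) : Set R) := by
    rw [← closure_range_comap, hφ]
    exact hx'.1
  have h2 : (⊥ : Ideal S).comap φ ≤ x'.asIdeal := h1
  obtain ⟨Q, _, hQ, hQle⟩ := Ideal.exists_ideal_comap_le_prime x'.asIdeal (⊥ : Ideal S) h2
  let e₀ : PrimeSpectrum R := comap φ ⟨Q, hQ⟩
  have he₀ : e₀ ∈ E₀ := by
    rw [← hφ]
    exact ⟨_, rfl⟩
  have hsp₀ : e₀ ⤳ x' := (le_iff_specializes e₀ x').mp hQle
  exact H (j e₀) (j x') (j x) he₀ hxE (hsp₀.map j.continuous) (hsp.map j.continuous)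

theorem isClosed_closure_diff [IsLocallyNoetherian X] {E : Set X}
    (hE : IsLocallyConstructible E)
    (H : ∀ e x' x : X, e ∈ E → x ∈ E → e ⤳ x' → x' ⤳ x → x' ∈ E) :
    IsClosed (closure E \ E) := by
  rw [← isOpen_compl_iff, isOpen_iff_forall_mem_open]
  intro x hx
  obtain ⟨i, x₀, rfl⟩ := X.affineCover.exists_eq x
  have hoi : IsOpenImmersion (X.affineCover.f i) := X.affineCover.map_prop i
  have hFi := @isClosed_preimage_closure_diff X _ E hE H _ (X.affineCover.f i) hoi
  refine ⟨(X.affineCover.f i) '' ((X.affineCover.f i) ⁻¹' (closure E \ E))ᶜ, ?_,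
    (X.affineCover.f i).isOpenEmbedding.isOpenMap _ hFi.isOpen_compl, ⟨x₀, hx, rfl⟩⟩
  rintro _ ⟨y, hy, rfl⟩
  exact hy

end Groth.Agent.H73.LocClosed
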