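import Mathlib
import Groth.Agent.S15344

set_option autoImplicit false
universe u

namespace Groth.Agent.H73.MonoQC

open AlgebraicGeometry CategoryTheory TopologicalSpace Opposite

variable {X Y : Scheme.{u}}

/-- Residue field lift: for a monomorphism `f : Y ⟶ X`, a morphism `g : T ⟶ X` and points `t`, `y`
with `f y = g t`, the residue field of `t` maps to `Y` over `g`. -/
theorem exists_residue_lift (f : Y ⟶ X) [Mono f] {T : Scheme.{u}} (g : T ⟶ X) (t : T) (y : Y)
    (h : f y = g t) :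
    ∃ l : Spec (T.residueField t) ⟶ Y, l ≫ f = T.fromSpecResidueField t ≫ g := by
  have hiso : IsIso (f.residueFieldMap y) := by
    rw [ConcreteCategory.isIso_iff_bijective]
    exact ⟨(f.residueFieldMap y).hom.injective, Groth.Agent.S15344.residueFieldMap_surjective f y⟩
  let ρ : Y.residueField y ⟶ T.residueField t :=
    inv (f.residueFieldMap y) ≫ (X.residueFieldCongr h).hom ≫ g.residueFieldMap t
  refine ⟨Spec.map ρ ≫ Y.fromSpecResidueField y, ?_⟩
  rw [Category.assoc, ← Scheme.Hom.SpecMap_residueFieldMap_fromSpecResidueField,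
    ← Spec.map_comp_assoc]
  have e : f.residueFieldMap y ≫ ρ = (X.residueFieldCongr h).hom ≫ g.residueFieldMap t := by
    simp only [ρ, IsIso.hom_inv_id_assoc]
  rw [e, Spec.map_comp_assoc, Scheme.residueFieldCongr_fromSpecResidueField,
    Scheme.Hom.SpecMap_residueFieldMap_fromSpecResidueField]


/-- the dense-lift hypothesis. -/
def DenseLift (f : Y ⟶ X) : Prop :=
  ∀ (A : Type u) [CommRing A] [IsDomain A] (s : Spec (CommRingCat.of A) ⟶ X)
    (D : Set ↥(Spec (CommRingCat.of A))),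
    Dense D →
    (∀ p ∈ D, ∃ l : Spec ((Spec (CommRingCat.of A)).residueField p) ⟶ Y,
        l ≫ f = (Spec (CommRingCat.of A)).fromSpecResidueField p ≫ s) →
      ∃ U : (Spec (CommRingCat.of A)).Opens, (U : Set ↥(Spec (CommRingCat.of A))).Nonempty ∧
        ∃ l : (U : Scheme.{u}) ⟶ Y, l ≫ f = U.ι ≫ s

/-- Key step: for a Noetherian domain `A` and `s : Spec A ⟶ X`, there is a nonzero `a` such that the
preimage under `f` of `s (D(a))` is compact. -/
theorem exists_basicOpen_isCompact_preimage (f : Y ⟶ X) [Mono f] (hc : DenseLift f)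
    (A : Type u) [CommRing A] [IsDomain A] [IsNoetherianRing A]
    (s : Spec (CommRingCat.of A) ⟶ X) :
    ∃ a : A, a ≠ 0 ∧ IsCompact (f ⁻¹' (s '' (PrimeSpectrum.basicOpen a : Set (PrimeSpectrum A)))) := by
  classical
  let D : Set ↥(Spec (CommRingCat.of A)) := {P | s P ∈ Set.range f}
  by_cases hD : Dense D
  · obtain ⟨W, ⟨w, hw⟩, l, hl⟩ := hc A s D hD (fun P hP => by
      obtain ⟨y, hy⟩ := hP
      exact exists_residue_lift f s P y hy)
    obtain ⟨_, ⟨_, ⟨a, rfl⟩, rfl⟩, hwa, haW⟩ :=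
      PrimeSpectrum.isBasis_basic_opens.exists_subset_of_mem_open hw W.2
    refine ⟨a, fun h0 => ?_, ?_⟩
    · subst h0
      exact hwa (Submodule.zero_mem _)
    · haveI : NoetherianSpace (PrimeSpectrum A) := inferInstance
      haveI : NoetherianSpace ↥(W : Scheme.{u}) :=
        inferInstanceAs (NoetherianSpace ((W.1 : Set (PrimeSpectrum A))))
      let S : Set ↥(W : Scheme.{u}) := {w' | (W.ι w') ∈ (PrimeSpectrum.basicOpen a : Set (PrimeSpectrum A))}
      have hS : IsCompact (l '' S) := (NoetherianSpace.isCompact S).image l.continuous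
      have hfl : ∀ w' : ↥(W : Scheme.{u}), f (l w') = s (W.ι w') := fun w' => by
        rw [← Scheme.Hom.comp_apply, hl, Scheme.Hom.comp_apply]
      convert hS using 1
      ext y
      constructor
      · rintro ⟨P, hPa, hPy⟩
        have hPW : P ∈ W := haW hPa
        let w' : ↥(W : Scheme.{u}) := ⟨P, hPW⟩
        refine ⟨w', hPa, ?_⟩
        apply Scheme.Hom.injective f
        exact (hfl w').trans hPy
      · rintro ⟨w', hw', rfl⟩
        exact ⟨W.ι w', hw', (hfl w').symm⟩
  · rw [dense_iff_inter_open] at hD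
    push Not at hD
    obtain ⟨W, hWo, ⟨w, hw⟩, hWD⟩ := hD
    obtain ⟨_, ⟨_, ⟨a, rfl⟩, rfl⟩, hwa, haW⟩ :=
      PrimeSpectrum.isBasis_basic_opens.exists_subset_of_mem_open (show w ∈ (⟨W, hWo⟩ : Opens _) from hw) hWo
    refine ⟨a, fun h0 => ?_, ?_⟩
    · subst h0
      exact hwa (Submodule.zero_mem _)
    · convert isCompact_empty
      rw [Set.eq_empty_iff_forall_notMem]
      rintro y ⟨P, hPa, hPy⟩
      have : P ∈ W ∩ D := ⟨haW hPa, ⟨y, hPy.symm⟩⟩
      rw [hWD] at this
      exact this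


theorem isCompact_preimage_image [IsLocallyNoetherian X] (f : Y ⟶ X) [Mono f] (hc : DenseLift f)
    {U : X.Opens} (hU : IsAffineOpen U) (Z : Closeds ↥(Spec Γ(X, U))) :
    IsCompact (f ⁻¹' (hU.fromSpec '' (Z : Set ↥(Spec Γ(X, U))))) := by
  classical
  haveI : IsNoetherianRing Γ(X, U) := IsLocallyNoetherian.component_noetherian ⟨U, hU⟩
  haveI : NoetherianSpace ↥(Spec Γ(X, U)) :=
    inferInstanceAs (NoetherianSpace (PrimeSpectrum Γ(X, U)))
  induction Z using WellFoundedLT.induction with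
  | ind Z ih =>
  rcases eq_or_ne Z ⊥ with rfl | h₀
  · simp
  by_cases h₁ : IsPreirreducible (Z : Set ↥(Spec Γ(X, U)))
  · have hirr : IsIrreducible (Z : Set ↥(Spec Γ(X, U))) := ⟨Closeds.coe_nonempty.2 h₀, h₁⟩
    let p := PrimeSpectrum.vanishingIdeal (Z : Set ↥(Spec Γ(X, U)))
    haveI hp : p.IsPrime := PrimeSpectrum.isIrreducible_iff_vanishingIdeal_isPrime.mp hirr
    have hZ : PrimeSpectrum.zeroLocus (p : Set Γ(X, U)) = (Z : Set ↥(Spec Γ(X, U))) :=
      (PrimeSpectrum.zeroLocus_vanishingIdeal_eq_closure _).trans Z.isClosed.closure_eq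
    let q : Γ(X, U) →+* (Γ(X, U) ⧸ p) := Ideal.Quotient.mk p
    let s : Spec (CommRingCat.of (Γ(X, U) ⧸ p)) ⟶ X := Spec.map (CommRingCat.ofHom q) ≫ hU.fromSpec
    have hs : ∀ P : ↥(Spec (CommRingCat.of (Γ(X, U) ⧸ p))),
        s P = hU.fromSpec (PrimeSpectrum.comap q P) := fun P => by
      rw [Scheme.Hom.comp_apply]; rfl
    obtain ⟨a, ha0, hacomp⟩ := exists_basicOpen_isCompact_preimage f hc (Γ(X, U) ⧸ p) s
    obtain ⟨a', rfl⟩ := Ideal.Quotient.mk_surjective a
    have ha' : a' ∉ p := fun h => ha0 (Ideal.Quotient.eq_zero_iff_mem.mpr h)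
    let Z' : Closeds ↥(Spec Γ(X, U)) :=
      Z ⊓ ⟨PrimeSpectrum.zeroLocus {a'}, PrimeSpectrum.isClosed_zeroLocus _⟩
    have hZ'lt : Z' < Z := by
      refine lt_of_le_of_ne inf_le_left fun heq => ha' ?_
      refine (PrimeSpectrum.mem_vanishingIdeal _ _).mpr ?_
      intro x hx
      have : x ∈ (Z' : Set ↥(Spec Γ(X, U))) := by rw [heq]; exact hx
      exact this.2 (Set.mem_singleton a')
    have hunion : hU.fromSpec '' (Z : Set ↥(Spec Γ(X, U))) =
        hU.fromSpec '' (Z' : Set ↥(Spec Γ(X, U))) ∪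
          s '' (PrimeSpectrum.basicOpen (q a') : Set (PrimeSpectrum (Γ(X, U) ⧸ p))) := by
      ext x
      constructor
      · rintro ⟨P', hP', rfl⟩
        by_cases hmem : a' ∈ P'.asIdeal
        · left
          refine ⟨P', ⟨hP', ?_⟩, rfl⟩
          intro r hr
          rw [Set.mem_singleton_iff.mp hr]; exact hmem
        · right
          have hP'z : P' ∈ PrimeSpectrum.zeroLocus (p : Set Γ(X, U)) := by rw [hZ]; exact hP'
          have hrange : P' ∈ Set.range (PrimeSpectrum.comap q) := by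
            rw [_root_.range_comap_of_surjective _ _ Ideal.Quotient.mk_surjective,
              Ideal.mk_ker]
            exact hP'z
          obtain ⟨P, rfl⟩ := hrange
          exact ⟨P, hmem, hs P⟩
      · rintro (⟨P', hP', rfl⟩ | ⟨P, -, rfl⟩)
        · exact ⟨P', hP'.1, rfl⟩
        · refine ⟨PrimeSpectrum.comap q P, ?_, (hs P).symm⟩
          have hmem : PrimeSpectrum.comap q P ∈ PrimeSpectrum.zeroLocus (p : Set Γ(X, U)) := by
            intro r hr
            change q r ∈ P.asIdeal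
            rw [Ideal.Quotient.eq_zero_iff_mem.mpr hr]
            exact Submodule.zero_mem _
          rw [hZ] at hmem; exact hmem
    rw [hunion, Set.preimage_union]
    exact (ih Z' hZ'lt).union hacomp
  · simp only [isPreirreducible_iff_isClosed_union_isClosed, not_forall, not_or] at h₁
    obtain ⟨z₁, z₂, hz₁, hz₂, h, hz₁', hz₂'⟩ := h₁
    lift z₁ to Closeds ↥(Spec Γ(X, U)) using hz₁
    lift z₂ to Closeds ↥(Spec Γ(X, U)) using hz₂
    have e : (Z : Set ↥(Spec Γ(X, U))) = ((Z ⊓ z₁ : Closeds _) : Set ↥(Spec Γ(X, U))) ∪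
        ((Z ⊓ z₂ : Closeds _) : Set ↥(Spec Γ(X, U))) := by
      ext x
      constructor
      · intro hx
        rcases h hx with h1 | h2
        · exact Or.inl ⟨hx, h1⟩
        · exact Or.inr ⟨hx, h2⟩
      · rintro (hx | hx) <;> exact hx.1
    rw [e, Set.image_union, Set.preimage_union]
    exact (ih _ (inf_lt_left.2 hz₁')).union (ih _ (inf_lt_left.2 hz₂'))

end Groth.Agent.H73.MonoQC
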