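import Mathlib
import Groth.Prelude.Def_CGrpSh3

set_option autoImplicit false

universe u

open CategoryTheory CategoryTheory.Limits AlgebraicGeometry Opposite

namespace Groth.Agent.H73.NU_NAT

theorem normPt_naturality {X X' : Scheme.{u}} (f : X' ⟶ X)
    (N : CGrpSh3.pushGm Scheme.fppfPrecoverage f ⟶ CGrpSh2.Gm Scheme.fppfPrecoverage X)
    {T₁ T : Over X} (j : T₁ ⟶ T) (t' : (Over.pullback f).obj T ⟶ Red.Gm X') :
    j ≫ CGrpSh3.normPt Scheme.fppfPrecoverage f N T t' =
      CGrpSh3.normPt Scheme.fppfPrecoverage f N T₁ ((Over.pullback f).map j ≫ t') := by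
  have h := congrArg (fun φ => φ (ULift.up (Additive.ofMul t'))) (N.hom.naturality j.op)
  rw [CGrpSh3.normPt_def, CGrpSh3.normPt_def]
  exact congrArg (fun y => y.down.toMul) h.symm

end Groth.Agent.H73.NU_NAT
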