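import Mathlib

set_option autoImplicit false

universe u

open CategoryTheory CategoryTheory.Limits AlgebraicGeometry Opposite

namespace Groth.Agent.H73.NU_SEP

/-- For an open immersion `j`, `j.appTop` is the restriction to the image followed by an isomorphism. -/
theorem appIso_inv_appTop {W T : Scheme.{u}} (j : W ⟶ T) [IsOpenImmersion j] (c : Γ(T, ⊤)) :
    (j.appIso ⊤).inv (j.appTop c) =
      T.presheaf.map (homOfLE (le_top : j ''ᵁ ⊤ ≤ ⊤)).op c := by
  have h := Scheme.Hom.appLE_appIso_inv j (U := ⊤) (V := ⊤) le_top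
  have e : j.appLE ⊤ ⊤ le_top = j.appTop := by
    rw [Scheme.Hom.appTop, Scheme.Hom.app_eq_appLE]
    rfl
  rw [e] at h
  have h2 := congrArg (fun φ => φ.hom c) h
  exact h2

/-- Two global functions agreeing after pullback along a jointly surjective family of open immersions are equal. -/
theorem eq_of_locally_eq {T : Scheme.{u}} (a b : Γ(T, ⊤))
    (h : ∀ t : T, ∃ (W : Scheme.{u}) (j : W ⟶ T), IsOpenImmersion j ∧ t ∈ Set.range j.base ∧
      j.appTop a = j.appTop b) : a = b := by
  choose W j hj ht hab using h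
  have hj' : ∀ t, IsOpenImmersion (j t) := hj
  let U : T → T.Opens := fun t => (j t) ''ᵁ ⊤
  have hcov : (⊤ : T.Opens) ≤ ⨆ t, U t := by
    intro x _
    obtain ⟨w, hw⟩ := ht x
    exact TopologicalSpace.Opens.mem_iSup.2 ⟨x, ⟨w, trivial, hw⟩⟩
  refine TopCat.Sheaf.eq_of_locally_eq' T.sheaf U ⊤ (fun t => homOfLE le_top) hcov a b ?_
  intro t
  have h1 := appIso_inv_appTop (j t) a
  have h2 := appIso_inv_appTop (j t) b
  rw [hab t] at h1
  exact h1.symm.trans h2

end Groth.Agent.H73.NU_SEP
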