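import Mathlib

/-!
# Commutative algebra for the Nagata-base curve criteria

* `eq_bot_of_lt_of_forall_mem`: in a Noetherian domain, if every nonzero prime below `M` contains a
  fixed nonzero element, there is no prime strictly between `⊥` and `M`.
* `exists_immediate_specialization`: a constructible non-closed subset of the spectrum of a
  Noetherian ring has an immediate specialization leaving it, ending at a locally closed point.
* `exists_isolating`: isolating a height-one prime inside `V(d)` by inverting one element.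
-/

set_option autoImplicit false
universe u

namespace Groth.Agent.H73.NagCurveAlg

open PrimeSpectrum Topology

/-- No chain `⊥ < P₁ < P₂` below a prime of height `≤ 1` in a domain. -/
theorem not_height_le_one {D : Type*} [CommRing D] [IsDomain D] [IsNoetherianRing D]
    (P₁ P₂ : Ideal D) [P₁.IsPrime] [P₂.IsPrime] (h₁ : P₁ ≠ ⊥) (h₂ : P₁ < P₂) :
    ¬ P₂.height ≤ 1 := by
  intro h
  have hb : (⊥ : Ideal D) < P₁ := bot_lt_iff_ne_bot.mpr h₁
  have hbp : (⊥ : Ideal D).IsPrime := Ideal.isPrime_bot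
  have e1 : (⊥ : Ideal D).height < P₁.height := Ideal.height_strict_mono_of_isPrime hb
  have e2 : P₁.height < P₂.height := Ideal.height_strict_mono_of_isPrime h₂
  have e3 : (1 : ℕ∞) ≤ P₁.height := Order.one_le_iff_pos.mpr (lt_of_le_of_lt zero_le e1)
  exact absurd (lt_of_le_of_lt e3 e2) (not_lt.mpr h)

theorem eq_bot_of_lt_of_forall_mem {D : Type*} [CommRing D] [IsDomain D] [IsNoetherianRing D]
    (M : Ideal D) [M.IsPrime] (g : D) (hg : g ≠ 0)
    (H : ∀ Q : Ideal D, Q.IsPrime → Q ≠ ⊥ → Q ≤ M → g ∈ Q)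
    (Q : Ideal D) [Q.IsPrime] (hQ : Q < M) : Q = ⊥ := by
  by_contra hQ0
  have hgQ : g ∈ Q := H Q inferInstance hQ0 hQ.le
  have hfin : (Ideal.span {g}).minimalPrimes.Finite :=
    Ideal.finite_minimalPrimes_of_isNoetherianRing D _
  have hht : ∀ P ∈ (Ideal.span {g}).minimalPrimes, P.height ≤ 1 := fun P hP =>
    Ideal.height_le_one_of_isPrincipal_of_mem_minimalPrimes _ P hP
  have hprime : ∀ P ∈ (Ideal.span {g}).minimalPrimes, P.IsPrime := fun P hP => hP.1.1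
  -- `M` is not contained in the union of the minimal primes over `g`
  have hnot : ¬ ((M : Set D) ⊆ ⋃ P ∈ (hfin.toFinset : Set (Ideal D)), (id P : Ideal D)) := by
    rw [Ideal.subset_union_prime (f := id) ⊥ ⊥
      (fun P hP _ _ => hprime P (hfin.mem_toFinset.mp hP))]
    rintro ⟨P, hP, hMP⟩
    have hP' := hfin.mem_toFinset.mp hP
    haveI := hprime P hP'
    exact not_height_le_one Q P hQ0 (lt_of_lt_of_le hQ hMP) (hht P hP')
  obtain ⟨a, haM, ha⟩ := Set.not_subset.mp hnot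
  have ha' : ∀ P ∈ (Ideal.span {g}).minimalPrimes, a ∉ P := by
    intro P hP haP
    apply ha
    simp only [Set.mem_iUnion]
    exact ⟨P, by simpa using hP, haP⟩
  -- `a ≠ 0`
  obtain ⟨P₀, hP₀, -⟩ := Ideal.exists_minimalPrimes_le
    (show Ideal.span {g} ≤ Q from (Ideal.span_singleton_le_iff_mem _).mpr hgQ)
  have ha0 : a ≠ 0 := fun h0 => ha' P₀ hP₀ (h0 ▸ P₀.zero_mem)
  -- a minimal prime over `a` below `M`
  obtain ⟨Q', hQ', hQ'M⟩ := Ideal.exists_minimalPrimes_le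
    (show Ideal.span {a} ≤ M from (Ideal.span_singleton_le_iff_mem _).mpr haM)
  haveI : Q'.IsPrime := hQ'.1.1
  have haQ' : a ∈ Q' := hQ'.1.2 (Ideal.mem_span_singleton_self a)
  have hQ'0 : Q' ≠ ⊥ := fun h0 => ha0 (by rw [h0] at haQ'; exact haQ')
  have hQ'ht : Q'.height ≤ 1 := Ideal.height_le_one_of_isPrincipal_of_mem_minimalPrimes _ Q' hQ'
  have hgQ' : g ∈ Q' := H Q' inferInstance hQ'0 hQ'M
  obtain ⟨P₁, hP₁, hP₁Q'⟩ := Ideal.exists_minimalPrimes_le
    (show Ideal.span {g} ≤ Q' from (Ideal.span_singleton_le_iff_mem _).mpr hgQ')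
  haveI : P₁.IsPrime := hP₁.1.1
  have hgP₁ : g ∈ P₁ := hP₁.1.2 (Ideal.mem_span_singleton_self g)
  have hP₁0 : P₁ ≠ ⊥ := fun h0 => hg (by rw [h0] at hgP₁; exact hgP₁)
  rcases eq_or_lt_of_le hP₁Q' with heq | hlt
  · exact ha' P₁ hP₁ (heq ▸ haQ')
  · exact not_height_le_one P₁ Q' hP₁0 hlt hQ'ht

/-- Relative version: no prime strictly between `𝔮` and `𝔭`. -/
theorem eq_or_eq_of_forall_mem {R : Type*} [CommRing R] [IsNoetherianRing R]
    (𝔮 𝔭 : Ideal R) [𝔮.IsPrime] [𝔭.IsPrime] (hle : 𝔮 ≤ 𝔭) (g : R) (hg : g ∉ 𝔮)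
    (H : ∀ Q : Ideal R, Q.IsPrime → 𝔮 < Q → Q ≤ 𝔭 → g ∈ Q)
    (Q : Ideal R) [Q.IsPrime] (h₁ : 𝔮 ≤ Q) (h₂ : Q ≤ 𝔭) : Q = 𝔮 ∨ Q = 𝔭 := by
  let π := Ideal.Quotient.mk 𝔮
  have hπ : Function.Surjective π := Ideal.Quotient.mk_surjective
  have hker : RingHom.ker π = 𝔮 := Ideal.mk_ker
  have hcm : ∀ J : Ideal R, 𝔮 ≤ J → (J.map π).comap π = J := fun J hJ => by
    rw [Ideal.comap_map_of_surjective π hπ, ← RingHom.ker_eq_comap_bot, hker]
    exact sup_eq_left.mpr hJ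
  haveI : (𝔭.map π).IsPrime := Ideal.map_isPrime_of_surjective hπ (by rw [hker]; exact hle)
  haveI : (Q.map π).IsPrime := Ideal.map_isPrime_of_surjective hπ (by rw [hker]; exact h₁)
  have hle' : Q.map π ≤ 𝔭.map π := Ideal.map_mono h₂
  rcases eq_or_lt_of_le hle' with heq | hlt
  · right
    rw [← hcm Q h₁, heq, hcm 𝔭 hle]
  · left
    have := eq_bot_of_lt_of_forall_mem (𝔭.map π) (π g)
      (fun h0 => hg (Ideal.Quotient.eq_zero_iff_mem.mp h0)) ?_ (Q.map π) hlt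
    · rw [← hcm Q h₁, this, ← RingHom.ker_eq_comap_bot, hker]
    · intro Q' hQ' hQ'0 hQ'le
      have h1 : 𝔮 ≤ Q'.comap π := fun x hx => by
        rw [Ideal.mem_comap, Ideal.Quotient.eq_zero_iff_mem.mpr hx]
        exact Q'.zero_mem
      have h2 : 𝔮 ≠ Q'.comap π := by
        intro h
        apply hQ'0
        have : Q'.comap π = (⊥ : Ideal (R ⧸ 𝔮)).comap π := by
          rw [← h, ← RingHom.ker_eq_comap_bot, hker]
        exact Ideal.comap_injective_of_surjective π hπ this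
      have h3 : Q'.comap π ≤ 𝔭 := by
        rw [← hcm 𝔭 hle]
        exact Ideal.comap_mono hQ'le
      exact H (Q'.comap π) (Ideal.comap_isPrime π Q') (lt_of_le_of_ne h1 h2) h3

/-- A constructible set contains a relative neighbourhood of each of its points in the closure of
that point. -/
theorem exists_not_mem_of_isConstructible {R : Type*} [CommRing R] {E : Set (PrimeSpectrum R)}
    (hE : IsConstructible E) (x : PrimeSpectrum R) (hx : x ∈ E) :
    ∃ g : R, g ∉ x.asIdeal ∧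
      ∀ x' : PrimeSpectrum R, x.asIdeal ≤ x'.asIdeal → g ∉ x'.asIdeal → x' ∈ E := by
  obtain ⟨S, rfl⟩ := exists_constructibleSetData_iff.mpr hE
  simp only [ConstructibleSetData.toSet, Set.mem_iUnion] at hx
  obtain ⟨C, hC, hxC⟩ := hx
  refine ⟨C.f, fun hf => hxC.2 ?_, fun x' hle hx' => ?_⟩
  · rw [mem_zeroLocus, Set.singleton_subset_iff]
    exact hf
  · simp only [ConstructibleSetData.toSet, Set.mem_iUnion]
    refine ⟨C, hC, ?_, fun h => hx' ?_⟩
    · rw [mem_zeroLocus]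
      exact (((mem_zeroLocus _ _).mp hxC.1).trans hle)
    · rw [mem_zeroLocus, Set.singleton_subset_iff] at h
      exact h

theorem exists_immediate_specialization {R : Type u} [CommRing R] [IsNoetherianRing R]
    (E : Set (PrimeSpectrum R)) (hE : IsConstructible E) (hne : ¬ IsClosed E) :
    ∃ (𝔮 𝔭 : PrimeSpectrum R) (h : R), 𝔮 ∈ E ∧ 𝔭 ∉ E ∧ 𝔮.asIdeal < 𝔭.asIdeal ∧
      (∀ Q : Ideal R, Q.IsPrime → 𝔮.asIdeal ≤ Q → Q ≤ 𝔭.asIdeal →
        Q = 𝔮.asIdeal ∨ Q = 𝔭.asIdeal) ∧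
      h ∉ 𝔭.asIdeal ∧
      (∀ Q : Ideal R, Q.IsPrime → 𝔭.asIdeal ≤ Q → h ∉ Q → Q = 𝔭.asIdeal) := by
  haveI : TopologicalSpace.NoetherianSpace (PrimeSpectrum R) := inferInstance
  have hclc : IsConstructible (closure E) := by
    rw [← isConstructible_compl]
    exact IsRetrocompact.isConstructible isClosed_closure.isOpen_compl
      (fun U _ _ => TopologicalSpace.NoetherianSpace.isCompact _)
  have hZ : IsConstructible (closure E \ E) := hclc.sdiff hE
  have hZne : (closure E \ E).Nonempty := by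
    by_contra h
    rw [Set.not_nonempty_iff_eq_empty, Set.diff_eq_empty] at h
    exact hne (closure_eq_iff_isClosed.mp (subset_antisymm h subset_closure))
  -- a maximal point of `closure E \ E`
  obtain ⟨I, ⟨𝔭, h𝔭Z, rfl⟩, hImax⟩ := set_has_maximal_iff_noetherian.mpr
    (inferInstance : IsNoetherian R R) ((fun x : PrimeSpectrum R => x.asIdeal) '' (closure E \ E))
    (hZne.image _)
  obtain ⟨h, hh, hhZ⟩ := exists_not_mem_of_isConstructible hZ 𝔭 h𝔭Z
  have hmax : ∀ Q : Ideal R, Q.IsPrime → 𝔭.asIdeal ≤ Q → h ∉ Q → Q = 𝔭.asIdeal := by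
    intro Q hQ hle hhQ
    have hQZ : (⟨Q, hQ⟩ : PrimeSpectrum R) ∈ closure E \ E := hhZ ⟨Q, hQ⟩ hle hhQ
    by_contra hne'
    exact hImax Q ⟨⟨Q, hQ⟩, hQZ, rfl⟩ (lt_of_le_of_ne hle (Ne.symm hne'))
  -- a point of `E` below `𝔭`
  obtain ⟨S, _, φ, hφ⟩ := exists_range_eq_of_isConstructible hE
  have h1 : 𝔭 ∈ zeroLocus ((RingHom.ker φ : Ideal R) : Set R) := by
    rw [← closure_range_comap, hφ]
    exact h𝔭Z.1
  have h2 : (⊥ : Ideal S).comap φ ≤ 𝔭.asIdeal := h1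
  obtain ⟨Q₀, _, hQ₀, hQ₀le⟩ := Ideal.exists_ideal_comap_le_prime 𝔭.asIdeal (⊥ : Ideal S) h2
  have he₀ : comap φ ⟨Q₀, hQ₀⟩ ∈ E := by
    rw [← hφ]
    exact ⟨_, rfl⟩
  -- a maximal point of `E` below `𝔭`
  obtain ⟨J, ⟨𝔮, ⟨h𝔮E, h𝔮le⟩, rfl⟩, hJmax⟩ := set_has_maximal_iff_noetherian.mpr
    (inferInstance : IsNoetherian R R)
    ((fun x : PrimeSpectrum R => x.asIdeal) '' {x | x ∈ E ∧ x.asIdeal ≤ 𝔭.asIdeal})
    ⟨_, ⟨comap φ ⟨Q₀, hQ₀⟩, ⟨he₀, hQ₀le⟩, rfl⟩⟩
  have hlt : 𝔮.asIdeal < 𝔭.asIdeal := by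
    refine lt_of_le_of_ne h𝔮le fun heq => h𝔭Z.2 ?_
    have : 𝔮 = 𝔭 := PrimeSpectrum.ext heq
    exact this ▸ h𝔮E
  obtain ⟨g, hg, hgE⟩ := exists_not_mem_of_isConstructible hE 𝔮 h𝔮E
  refine ⟨𝔮, 𝔭, h, h𝔮E, h𝔭Z.2, hlt, ?_, hh, hmax⟩
  intro Q hQ h₁ h₂
  haveI := hQ
  refine eq_or_eq_of_forall_mem 𝔮.asIdeal 𝔭.asIdeal hlt.le g hg ?_ Q h₁ h₂
  intro Q' hQ' hlt' hle'
  by_contra hgQ'
  have : (⟨Q', hQ'⟩ : PrimeSpectrum R) ∈ E := hgE ⟨Q', hQ'⟩ hlt'.le hgQ'
  exact hJmax Q' ⟨⟨Q', hQ'⟩, ⟨this, hle'⟩, rfl⟩ hlt'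

/-- Isolating a height-one prime in `V(d)` after inverting one element. -/
theorem exists_isolating {B : Type*} [CommRing B] [IsDomain B] [IsNoetherianRing B]
    (P : Ideal B) [P.IsPrime] (hP : ∀ Q : Ideal B, Q.IsPrime → Q ≤ P → Q = ⊥ ∨ Q = P)
    (h : B) (hh : h ∉ P) (hmax : ∀ Q : Ideal B, Q.IsPrime → P ≤ Q → h ∉ Q → Q = P)
    (d : B) (hd0 : d ≠ 0) (hdP : d ∈ P) :
    ∃ h' : B, h' ∉ P ∧ ∀ Q : Ideal B, Q.IsPrime → d ∈ Q → h' ∉ Q → Q = P := by
  classical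
  have hfin : (Ideal.span {d}).minimalPrimes.Finite :=
    Ideal.finite_minimalPrimes_of_isNoetherianRing B _
  -- for every minimal prime `P' ≠ P` over `d` choose an element of `P' \ P`
  have hchoose : ∀ P' ∈ (Ideal.span {d}).minimalPrimes, P' ≠ P → ∃ a ∈ P', a ∉ P := by
    intro P' hP' hne
    by_contra hcon
    push_neg at hcon
    have hle : P' ≤ P := fun a ha => hcon a ha
    haveI : P'.IsPrime := hP'.1.1
    rcases hP P' inferInstance hle with h0 | h0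
    · have : d ∈ P' := hP'.1.2 (Ideal.mem_span_singleton_self d)
      rw [h0] at this
      exact hd0 this
    · exact hne h0
  let a : Ideal B → B := fun P' =>
    if hP' : P' ∈ (Ideal.span {d}).minimalPrimes ∧ P' ≠ P then (hchoose P' hP'.1 hP'.2).choose else 1
  have ha_mem : ∀ P' ∈ (Ideal.span {d}).minimalPrimes, P' ≠ P → a P' ∈ P' := by
    intro P' hP' hne
    simp only [a, dif_pos (And.intro hP' hne)]
    exact (hchoose P' hP' hne).choose_spec.1
  have ha_not : ∀ P', a P' ∉ P := by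
    intro P'
    by_cases hP' : P' ∈ (Ideal.span {d}).minimalPrimes ∧ P' ≠ P
    · simp only [a, dif_pos hP']
      exact (hchoose P' hP'.1 hP'.2).choose_spec.2
    · simp only [a, dif_neg hP']
      exact fun h1 => (inferInstance : P.IsPrime).ne_top ((Ideal.eq_top_iff_one _).mpr h1)
  refine ⟨h * ∏ P' ∈ hfin.toFinset, a P', ?_, ?_⟩
  · intro hmem
    rcases (inferInstance : P.IsPrime).mem_or_mem hmem with h1 | h1
    · exact hh h1
    · obtain ⟨P', -, hP'⟩ := ((inferInstance : P.IsPrime).prod_mem_iff).mp h1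
      exact ha_not P' hP'
  · intro Q hQ hdQ hh'Q
    haveI := hQ
    obtain ⟨P', hP', hP'Q⟩ := Ideal.exists_minimalPrimes_le
      (show Ideal.span {d} ≤ Q from (Ideal.span_singleton_le_iff_mem _).mpr hdQ)
    have hP'P : P' = P := by
      by_contra hne
      apply hh'Q
      apply Q.mul_mem_left
      obtain ⟨c, hc⟩ := Finset.dvd_prod_of_mem a (hfin.mem_toFinset.mpr hP')
      rw [hc]
      exact Q.mul_mem_right _ (hP'Q (ha_mem P' hP' hne))
    refine hmax Q hQ (hP'P ▸ hP'Q) fun hhQ => hh'Q ?_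
    exact Q.mul_mem_right _ hhQ

end Groth.Agent.H73.NagCurveAlg
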