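import Groth.Agent.H73.NagCurveMain
import Groth.Agent.H11.QuasiExcellentNagata

/-!
# DVR criteria over an excellent base: squares essentially of finite type suffice
-/

set_option autoImplicit false
set_option linter.style.haveILetI false
universe u

open CategoryTheory CategoryTheory.Limits AlgebraicGeometry TopologicalSpace Topology

namespace Groth.Agent.H73.NagCurveExc

open Groth.Agent.H73.NagCurveGeom Groth.Agent.H73.NagCurveMain

/-- The local ring of a scheme locally of finite type over `S` is essentially of finite type over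
an affine open of `S`. -/
theorem exists_essFiniteType_factor {C S : Scheme.{u}} (r : C ⟶ S) [LocallyOfFiniteType r]
    (c : C) :
    ∃ (U : S.affineOpens) (φ : Γ(S, U.1) ⟶ C.presheaf.stalk c),
      Spec.map φ ≫ U.2.fromSpec = C.fromSpecStalk c ≫ r ∧ φ.hom.EssFiniteType := by
  obtain ⟨_, ⟨U, hU : IsAffineOpen U, rfl⟩, hrc, -⟩ :=
    S.isBasis_affineOpens.exists_subset_of_mem_open (Set.mem_univ (r c)) isOpen_univ
  obtain ⟨_, ⟨W, hW : IsAffineOpen W, rfl⟩, hcW, hWU⟩ :=
    C.isBasis_affineOpens.exists_subset_of_mem_open (show c ∈ (r ⁻¹ᵁ U : Set C) from hrc)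
      (r ⁻¹ᵁ U).isOpen
  have e : W ≤ r ⁻¹ᵁ U := hWU
  refine ⟨⟨U, hU⟩, r.appLE U W e ≫ C.presheaf.germ W c hcW, ?_, ?_⟩
  · rw [Spec.map_comp, Category.assoc, IsAffineOpen.SpecMap_appLE_fromSpec r hU hW e,
      ← Category.assoc]
    congr 1
    exact hW.fromSpecStalk_eq_fromSpecStalk hcW
  · rw [CommRingCat.hom_comp]
    refine RingHom.EssFiniteType.comp ?_ ?_
    · exact (r.finiteType_appLE hU hW e).essFiniteType
    · letI := C.presheaf.algebra_section_stalk (⟨c, hcW⟩ : W)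
      haveI : IsLocalization.AtPrime (C.presheaf.stalk c) (hW.primeIdealOf ⟨c, hcW⟩).asIdeal :=
        hW.isLocalization_stalk ⟨c, hcW⟩
      exact Algebra.EssFiniteType.of_isLocalization (C.presheaf.stalk c)
        (hW.primeIdealOf ⟨c, hcW⟩).asIdeal.primeCompl

theorem isNagata_of_isExcellent (S : Scheme.{u})
    (hS : ∀ U : S.affineOpens, EGA4.IsExcellent Γ(S, U.1)) (W : S.affineOpens) :
    CAlg.IsNagata Γ(S, W) :=
  Groth.Agent.H11.QENagata.isNagata_of_isQuasiExcellent _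
    ⟨(hS W).1, (hS W).2.2.1, (hS W).2.2.2⟩

theorem existence (S : Scheme.{u})
    (hS : ∀ U : S.affineOpens, EGA4.IsExcellent Γ(S, U.1))
    {X Y : Scheme.{u}} (f : X ⟶ Y) (g : Y ⟶ S)
    [QuasiCompact f] [LocallyOfFiniteType f] [LocallyOfFiniteType g]
    (hyp : ∀ sq : ValuativeCommSq f, IsDiscreteValuationRing sq.R →
      (∃ (U : S.affineOpens) (φ : Γ(S, U.1) ⟶ CommRingCat.of sq.R),
        Spec.map φ ≫ U.2.fromSpec = sq.i₂ ≫ g ∧ φ.hom.EssFiniteType) →
      sq.commSq.HasLift) : UniversallyClosed f := by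
  have hNag := isNagata_of_isExcellent S hS
  refine universallyClosed_of_curveExistence S hNag g f ?_
  intro C r _ _ _ hnorm c hcl hdim U hU u gC hg hug k hk
  haveI : IsLocallyNoetherian S := ⟨fun W => (hNag W).1⟩
  haveI : IsLocallyNoetherian C := LocallyOfFiniteType.isLocallyNoetherian r
  haveI := hnorm c
  haveI hdvr : IsDiscreteValuationRing (C.presheaf.stalk c) := isDVR_of_dim_one _ hdim
  let sq : ValuativeCommSq f :=
    @ValuativeCommSq.mk _ _ f (C.presheaf.stalk c) _ inferInstance inferInstance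
      (FractionRing (C.presheaf.stalk c)) _ _ _ (k ≫ u) (C.fromSpecStalk c ≫ gC)
      ⟨by rw [Category.assoc, hug, reassoc_of% hk]⟩
  obtain ⟨U', φ, hφ₁, hφ₂⟩ := exists_essFiniteType_factor r c
  have hlift : sq.commSq.HasLift := hyp sq hdvr
    ⟨U', φ, by rw [hφ₁, ← hg, Category.assoc], hφ₂⟩
  obtain ⟨l⟩ := hlift.exists_lift
  exact ⟨l.l, l.fac_right, l.fac_left⟩

theorem uniqueness (S : Scheme.{u})
    (hS : ∀ U : S.affineOpens, EGA4.IsExcellent Γ(S, U.1))
    {X Y : Scheme.{u}} (f : X ⟶ Y) (g : Y ⟶ S)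
    [LocallyOfFiniteType f] [LocallyOfFiniteType g]
    (hyp : ∀ sq : ValuativeCommSq f, IsDiscreteValuationRing sq.R →
      (∃ (U : S.affineOpens) (φ : Γ(S, U.1) ⟶ CommRingCat.of sq.R),
        Spec.map φ ≫ U.2.fromSpec = sq.i₂ ≫ g ∧ φ.hom.EssFiniteType) →
      Subsingleton sq.commSq.LiftStruct) : IsSeparated f := by
  have hNag := isNagata_of_isExcellent S hS
  refine isSeparated_of_curveUniqueness S hNag (f ≫ g) g f rfl ?_
  intro C r _ _ _ hnorm c hcl hdim U hU u gC hg hug k hk l l' hl₁ hl₂ hl'₁ hl'₂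
  haveI : IsLocallyNoetherian S := ⟨fun W => (hNag W).1⟩
  haveI : IsLocallyNoetherian C := LocallyOfFiniteType.isLocallyNoetherian r
  haveI := hnorm c
  haveI hdvr : IsDiscreteValuationRing (C.presheaf.stalk c) := isDVR_of_dim_one _ hdim
  let sq : ValuativeCommSq f :=
    @ValuativeCommSq.mk _ _ f (C.presheaf.stalk c) _ inferInstance inferInstance
      (FractionRing (C.presheaf.stalk c)) _ _ _ (k ≫ u) (C.fromSpecStalk c ≫ gC)
      ⟨by rw [Category.assoc, hug, reassoc_of% hk]⟩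
  obtain ⟨U', φ, hφ₁, hφ₂⟩ := exists_essFiniteType_factor r c
  have hsub : Subsingleton sq.commSq.LiftStruct := hyp sq hdvr
    ⟨U', φ, by rw [hφ₁, ← hg, Category.assoc], hφ₂⟩
  let L₁ : sq.commSq.LiftStruct := ⟨l, hl₂, hl₁⟩
  let L₂ : sq.commSq.LiftStruct := ⟨l', hl'₂, hl'₁⟩
  exact congrArg CommSq.LiftStruct.l (Subsingleton.elim L₁ L₂)

end Groth.Agent.H73.NagCurveExc
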