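import Groth.Agent.H73.NagCurveRing
import Groth.Agent.H73.ClosureProperBase
import Groth.Agent.H11.NagataFT

/-!
# Geometry for the Nagata-base curve criteria
-/

set_option autoImplicit false
set_option linter.style.haveILetI false
universe u

open CategoryTheory CategoryTheory.Limits AlgebraicGeometry TopologicalSpace Topology

namespace Groth.Agent.H73.NagCurveGeom

/-- The curve criterion (existence part). -/
def CurveExistence (S : Scheme.{u}) {X Y : Scheme.{u}} (q : Y ⟶ S) (f : X ⟶ Y) : Prop :=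
  ∀ (C : Scheme.{u}) (r : C ⟶ S) [IsIntegral C] [LocallyOfFiniteType r] [QuasiCompact r],
    (∀ x : C, IsIntegrallyClosed (C.presheaf.stalk x)) →
    ∀ (c : C), IsClosed ({c} : Set C) → ringKrullDim (C.presheaf.stalk c) = 1 →
    ∀ (U : C.Opens), (U : Set C) = {c}ᶜ →
    ∀ (u : (U : Scheme.{u}) ⟶ X) (g : C ⟶ Y), g ≫ q = r → u ≫ f = U.ι ≫ g →
    ∀ (k : Spec (CommRingCat.of (FractionRing (C.presheaf.stalk c))) ⟶ (U : Scheme.{u})),
      k ≫ U.ι = Spec.map (CommRingCat.ofHom (algebraMap (C.presheaf.stalk c)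
        (FractionRing (C.presheaf.stalk c)))) ≫ C.fromSpecStalk c →
    ∃ l : Spec (C.presheaf.stalk c) ⟶ X, l ≫ f = C.fromSpecStalk c ≫ g ∧
      Spec.map (CommRingCat.ofHom (algebraMap (C.presheaf.stalk c)
        (FractionRing (C.presheaf.stalk c)))) ≫ l = k ≫ u

/-- Height one from the absence of intermediate primes. -/
theorem height_eq_one {B : Type*} [CommRing B] [IsDomain B] (P : Ideal B) [P.IsPrime]
    (hP0 : P ≠ ⊥) (hP : ∀ Q : Ideal B, Q.IsPrime → Q ≤ P → Q = ⊥ ∨ Q = P) : P.height = 1 := by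
  apply le_antisymm
  · rw [show (1 : ℕ∞) = ((1 : ℕ) : ℕ∞) from rfl, Ideal.height_le_iff]
    intro Q hQ hlt
    rcases hP Q hQ hlt.le with h | h
    · rw [h, Ideal.height_bot]
      exact zero_lt_one
    · exact absurd h hlt.ne
  · have hbp : (⊥ : Ideal B).IsPrime := Ideal.isPrime_bot
    haveI : (⊥ : Ideal B).FiniteHeight :=
      (Ideal.finiteHeight_iff _).mpr (Or.inr (by rw [Ideal.height_bot]; exact ENat.top_pos.ne))
    have := Ideal.height_strict_mono_of_isPrime (bot_lt_iff_ne_bot.mpr hP0)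
    exact Order.one_le_iff_pos.mpr (lt_of_le_of_lt zero_le this)

/-- Facts about the spectrum of a normal domain at a height-one maximal ideal. -/
theorem spec_facts (B : Type u) [CommRing B] [IsDomain B] [IsIntegrallyClosed B]
    (P : Ideal B) [hPmax : P.IsMaximal] (hP0 : P ≠ ⊥)
    (hP : ∀ Q : Ideal B, Q.IsPrime → Q ≤ P → Q = ⊥ ∨ Q = P) :
    (∀ x : Spec (CommRingCat.of B),
      IsIntegrallyClosed ((Spec (CommRingCat.of B)).presheaf.stalk x)) ∧
    IsClosed ({(⟨P, hPmax.isPrime⟩ : Spec (CommRingCat.of B))} : Set (Spec (CommRingCat.of B))) ∧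
    ringKrullDim ((Spec (CommRingCat.of B)).presheaf.stalk
      (⟨P, hPmax.isPrime⟩ : Spec (CommRingCat.of B))) = 1 := by
  refine ⟨fun x => ?_, ?_, ?_⟩
  · let _ : Algebra B ((Spec (CommRingCat.of B)).presheaf.stalk x) :=
      StructureSheaf.stalkAlgebra B x
    have : IsLocalization.AtPrime ((Spec (CommRingCat.of B)).presheaf.stalk x) x.asIdeal :=
      StructureSheaf.IsLocalization.to_stalk _ x
    exact isIntegrallyClosed_of_isLocalization _ x.asIdeal.primeCompl
      x.asIdeal.primeCompl_le_nonZeroDivisors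
  · exact (PrimeSpectrum.isClosed_singleton_iff_isMaximal _).mpr hPmax
  · let c : Spec (CommRingCat.of B) := ⟨P, hPmax.isPrime⟩
    let _ : Algebra B ((Spec (CommRingCat.of B)).presheaf.stalk c) :=
      StructureSheaf.stalkAlgebra B c
    have : IsLocalization.AtPrime ((Spec (CommRingCat.of B)).presheaf.stalk c) c.asIdeal :=
      StructureSheaf.IsLocalization.to_stalk _ c
    change ringKrullDim ((Spec (CommRingCat.of B)).presheaf.stalk c) = 1
    rw [IsLocalization.AtPrime.ringKrullDim_eq_height c.asIdeal _]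
    haveI : P.IsPrime := hPmax.isPrime
    have : c.asIdeal.height = 1 := height_eq_one P hP0 hP
    rw [this]
    rfl


/-- The generic point of `Spec (Frac A)` does not map to the closed point of `Spec A` when `A`
is not a field. -/
theorem fromSpecStalk_fraction_ne {C : Scheme.{u}} (c : C) [IsDomain (C.presheaf.stalk c)]
    (hdim : ringKrullDim (C.presheaf.stalk c) = 1)
    (s : Spec (CommRingCat.of (FractionRing (C.presheaf.stalk c)))) :
    (Spec.map (CommRingCat.ofHom (algebraMap (C.presheaf.stalk c)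
      (FractionRing (C.presheaf.stalk c)))) ≫ C.fromSpecStalk c) s ≠ c := by
  intro heq
  rw [Scheme.Hom.comp_apply] at heq
  have h1 : (Spec.map (CommRingCat.ofHom (algebraMap (C.presheaf.stalk c)
      (FractionRing (C.presheaf.stalk c))))) s = IsLocalRing.closedPoint (C.presheaf.stalk c) :=
    (C.fromSpecStalk c).isEmbedding.injective (heq.trans Scheme.fromSpecStalk_closedPoint.symm)
  have h2 : s.asIdeal = ⊥ := Ideal.eq_bot_of_prime s.asIdeal
  have h3 : IsLocalRing.maximalIdeal (C.presheaf.stalk c) = ⊥ := by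
    have := congrArg PrimeSpectrum.asIdeal h1
    change Ideal.comap (algebraMap (C.presheaf.stalk c) (FractionRing (C.presheaf.stalk c)))
      s.asIdeal = IsLocalRing.maximalIdeal (C.presheaf.stalk c) at this
    rw [← this, h2, ← RingHom.ker_eq_comap_bot]
    exact (RingHom.injective_iff_ker_eq_bot _).mp (IsFractionRing.injective _ _)
  have h4 : IsField (C.presheaf.stalk c) := IsLocalRing.isField_iff_maximalIdeal_eq.mpr h3
  have h5 : ringKrullDim (C.presheaf.stalk c) = 0 := by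
    letI := h4.toField
    exact ringKrullDim_eq_zero_of_field _
  rw [hdim] at h5
  exact one_ne_zero h5

open Groth.Agent.H73.NagCurveRing in
/-- The key step: lifting an immediate specialization ending at a locally closed point. -/
theorem exists_specialization_of_curve (S : Scheme.{u}) {X Y : Scheme.{u}} (q : Y ⟶ S)
    [LocallyOfFiniteType q] (f : X ⟶ Y) [LocallyOfFiniteType f] (H : CurveExistence S q f)
    {V : Y.Opens} (hV : IsAffineOpen V) (hNag : CAlg.IsNagata Γ(Y, V))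
    {W : X.Opens} (hW : IsAffineOpen W) (e : W ≤ f ⁻¹ᵁ V)
    (𝔷 : Spec Γ(X, W)) (𝔭 : Spec Γ(Y, V))
    (hlt : 𝔷.asIdeal.comap (f.appLE V W e).hom < 𝔭.asIdeal)
    (himm : ∀ Q : Ideal Γ(Y, V), Q.IsPrime → 𝔷.asIdeal.comap (f.appLE V W e).hom ≤ Q →
      Q ≤ 𝔭.asIdeal → Q = 𝔷.asIdeal.comap (f.appLE V W e).hom ∨ Q = 𝔭.asIdeal)
    (h : Γ(Y, V)) (hh : h ∉ 𝔭.asIdeal)
    (hmax : ∀ Q : Ideal Γ(Y, V), Q.IsPrime → 𝔭.asIdeal ≤ Q → h ∉ Q → Q = 𝔭.asIdeal) :
    ∃ x'' : X, hW.fromSpec 𝔷 ⤳ x'' ∧ f x'' = hV.fromSpec 𝔭 := by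
  letI : Algebra Γ(Y, V) Γ(X, W) := (f.appLE V W e).hom.toAlgebra
  haveI : Algebra.FiniteType Γ(Y, V) Γ(X, W) := f.finiteType_appLE hV hW e
  haveI : 𝔷.asIdeal.IsPrime := 𝔷.isPrime
  haveI : 𝔭.asIdeal.IsPrime := 𝔭.isPrime
  obtain ⟨B, _, _, _, φB, P, hPmax, d, ψ, h1, h2, h3, h4, h5, h6, h7, h8, h9⟩ :=
    exists_curve Γ(Y, V) Γ(X, W) hNag 𝔷.asIdeal 𝔭.asIdeal hlt himm h hh hmax
  obtain ⟨hnorm, hcl, hdim⟩ := spec_facts B P h3 h4
  set C : Scheme.{u} := Spec (CommRingCat.of B) with hC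
  set c : C := ⟨P, hPmax.isPrime⟩ with hc
  let g : C ⟶ Y := Spec.map (CommRingCat.ofHom φB) ≫ hV.fromSpec
  haveI : LocallyOfFiniteType (Spec.map (CommRingCat.ofHom φB)) :=
    (HasRingHomProperty.Spec_iff (P := @LocallyOfFiniteType)).mpr h1
  haveI : IsNoetherianRing Γ(Y, V) := hNag.1
  haveI : IsNoetherianRing B := by
    letI := φB.toAlgebra
    haveI : Algebra.FiniteType Γ(Y, V) B := h1
    exact Algebra.FiniteType.isNoetherianRing Γ(Y, V) B
  haveI : NoetherianSpace C := inferInstanceAs (NoetherianSpace (PrimeSpectrum B))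
  let U : C.Opens := PrimeSpectrum.basicOpen d
  have hU : (U : Set C) = {c}ᶜ := by
    ext x
    simp only [Set.mem_compl_iff, Set.mem_singleton_iff]
    change d ∉ x.asIdeal ↔ _
    constructor
    · rintro hx rfl
      exact hx h6
    · intro hx hdx
      exact hx (PrimeSpectrum.ext (h5 x.asIdeal x.isPrime hdx))
  let u : (U : Scheme.{u}) ⟶ X :=
    (basicOpenIsoSpecAway (R := CommRingCat.of B) d).hom ≫ Spec.map (CommRingCat.ofHom ψ) ≫
      hW.fromSpec
  have hug : u ≫ f = U.ι ≫ g := by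
    have e1 : f.appLE V W e ≫ CommRingCat.ofHom ψ =
        CommRingCat.ofHom φB ≫ CommRingCat.ofHom (algebraMap B (Localization.Away d)) := by
      apply CommRingCat.hom_ext
      exact h8
    simp only [u, g, Category.assoc]
    rw [← IsAffineOpen.SpecMap_appLE_fromSpec f hV hW e, ← Spec.map_comp_assoc, e1,
      Spec.map_comp_assoc]
    rw [← Category.assoc]
    congr 1
    exact basicOpenIsoSpecAway_hom_SpecMap (R := CommRingCat.of B) d
  haveI : IsDomain (C.presheaf.stalk c) := inferInstance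
  have hrange : Set.range (Spec.map (CommRingCat.ofHom (algebraMap (C.presheaf.stalk c)
      (FractionRing (C.presheaf.stalk c)))) ≫ C.fromSpecStalk c) ⊆ Set.range U.ι := by
    rintro _ ⟨s, rfl⟩
    rw [Scheme.Opens.range_ι, hU]
    exact fromSpecStalk_fraction_ne c hdim s
  let k : Spec (CommRingCat.of (FractionRing (C.presheaf.stalk c))) ⟶ (U : Scheme.{u}) :=
    IsOpenImmersion.lift U.ι _ hrange
  have hk : k ≫ U.ι = Spec.map (CommRingCat.ofHom (algebraMap (C.presheaf.stalk c)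
      (FractionRing (C.presheaf.stalk c)))) ≫ C.fromSpecStalk c := IsOpenImmersion.lift_fac _ _ _
  obtain ⟨l, hl₁, hl₂⟩ := H C (g ≫ q) hnorm c hcl hdim U hU u g rfl hug k hk
  refine ⟨l (IsLocalRing.closedPoint (C.presheaf.stalk c)), ?_, ?_⟩
  · -- specialization
    let s₀ : Spec (CommRingCat.of (FractionRing (C.presheaf.stalk c))) :=
      IsLocalRing.closedPoint (FractionRing (C.presheaf.stalk c))
    have hsp : (Spec.map (CommRingCat.ofHom (algebraMap (C.presheaf.stalk c)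
        (FractionRing (C.presheaf.stalk c))))) s₀ ⤳
        IsLocalRing.closedPoint (C.presheaf.stalk c) :=
      IsLocalRing.specializes_closedPoint _
    have h10 := hsp.map l.continuous
    rw [← Scheme.Hom.comp_apply, hl₂] at h10
    refine Specializes.trans ?_ h10
    simp only [u, Scheme.Hom.comp_apply]
    apply Specializes.map _ hW.fromSpec.continuous
    have hle : ∀ t : Spec (CommRingCat.of (Localization.Away d)),
        𝔷.asIdeal ≤ ((Spec.map (CommRingCat.ofHom ψ)) t).asIdeal := by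
      intro t x hx
      have : ψ x = 0 := h9 hx
      change ψ x ∈ t.asIdeal
      rw [this]
      exact Ideal.zero_mem _
    exact (PrimeSpectrum.le_iff_specializes (R := Γ(X, W)) 𝔷 _).mp (hle _)
  · rw [← Scheme.Hom.comp_apply, hl₁, Scheme.Hom.comp_apply, Scheme.fromSpecStalk_closedPoint]
    simp only [g, Scheme.Hom.comp_apply]
    congr 1
    exact PrimeSpectrum.ext h2


open Groth.Agent.H73.NagCurveAlg Groth.Agent.H73.ClosureProper in
/-- Over a Nagata base, the curve criterion implies closedness. -/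
theorem isClosedMap_of_curveExistence (S : Scheme.{u})
    (hS : ∀ W : S.affineOpens, CAlg.IsNagata Γ(S, W)) {X Y : Scheme.{u}} (q : Y ⟶ S)
    [LocallyOfFiniteType q] (f : X ⟶ Y) [LocallyOfFiniteType f] [QuasiCompact f]
    (H : CurveExistence S q f) : IsClosedMap f := by
  haveI : IsLocallyNoetherian S := ⟨fun W => (hS W).1⟩
  haveI : IsLocallyNoetherian Y := LocallyOfFiniteType.isLocallyNoetherian q
  haveI : IsLocallyNoetherian X := LocallyOfFiniteType.isLocallyNoetherian f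
  refine (isClosedMap_iff_specializingMap f).mpr ?_
  intro x y' hy'
  have hsp : f x ⤳ y' := hy'
  -- an affine neighbourhood of `y'` over an affine open of `S`
  obtain ⟨_, ⟨W₀, hW₀ : IsAffineOpen W₀, rfl⟩, hqy', -⟩ :=
    S.isBasis_affineOpens.exists_subset_of_mem_open (Set.mem_univ (q y')) isOpen_univ
  obtain ⟨_, ⟨V, hV : IsAffineOpen V, rfl⟩, hy'V, hVW₀⟩ :=
    Y.isBasis_affineOpens.exists_subset_of_mem_open (show y' ∈ (q ⁻¹ᵁ W₀ : Set Y) from hqy')
      (q ⁻¹ᵁ W₀).isOpen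
  have hVW₀' : V ≤ q ⁻¹ᵁ W₀ := hVW₀
  have hNag : CAlg.IsNagata Γ(Y, V) := by
    letI : Algebra Γ(S, W₀) Γ(Y, V) := (q.appLE W₀ V hVW₀').hom.toAlgebra
    haveI : Algebra.FiniteType Γ(S, W₀) Γ(Y, V) := q.finiteType_appLE hW₀ hV hVW₀'
    exact Groth.Agent.H11.NagataFT.isNagata_of_finiteType Γ(S, W₀) (hS ⟨W₀, hW₀⟩) Γ(Y, V)
  haveI : IsNoetherianRing Γ(Y, V) := hNag.1
  -- the constructible set
  let E : Set (Spec Γ(Y, V)) := hV.fromSpec ⁻¹' (f '' {x' | x ⤳ x'})
  have hEc : IsConstructible (E : Set (PrimeSpectrum Γ(Y, V))) := by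
    have h1 : {x' | x ⤳ x'} = Set.range (clι X x) := by
      rw [range_clι]
      ext x'
      exact specializes_iff_mem_closure
    have h2 : f '' {x' | x ⤳ x'} = Set.range (clι X x ≫ f) := by
      rw [h1, Scheme.Hom.comp_base, TopCat.coe_comp, Set.range_comp]
    haveI : IsLocallyNoetherian (clS X x) :=
      LocallyOfFiniteType.isLocallyNoetherian (clι X x)
    have h3 : IsLocallyConstructible (Set.range (clι X x ≫ f)) := by
      rw [← Set.image_univ]
      exact (clι X x ≫ f).isLocallyConstructible_image IsLocallyConstructible.univ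
    haveI : NoetherianSpace (PrimeSpectrum Γ(Y, V)) := inferInstance
    rw [← h2] at h3
    exact (h3.preimage_of_isOpenEmbedding hV.fromSpec.isOpenEmbedding).isConstructible
  have hEcl : IsClosed (E : Set (PrimeSpectrum Γ(Y, V))) := by
    by_contra hne
    obtain ⟨𝔮, 𝔭, h, h𝔮E, h𝔭E, hlt, himm, hh, hmax⟩ :=
      exists_immediate_specialization E hEc hne
    obtain ⟨z, hxz, hfz⟩ := h𝔮E
    have hzV : f z ∈ (V : Set Y) := by
      rw [hfz]
      exact hV.range_fromSpec.le ⟨𝔮, rfl⟩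
    obtain ⟨_, ⟨W, hW : IsAffineOpen W, rfl⟩, hzW, hWV⟩ :=
      X.isBasis_affineOpens.exists_subset_of_mem_open (show z ∈ (f ⁻¹ᵁ V : Set X) from hzV)
        (f ⁻¹ᵁ V).isOpen
    have e : W ≤ f ⁻¹ᵁ V := hWV
    let 𝔷 : Spec Γ(X, W) := hW.primeIdealOf ⟨z, hzW⟩
    have h𝔷 : hW.fromSpec 𝔷 = z := hW.fromSpec_primeIdealOf ⟨z, hzW⟩
    have hcomap : (Spec.map (f.appLE V W e)) 𝔷 = 𝔮 := by
      apply hV.fromSpec.isOpenEmbedding.injective
      rw [← Scheme.Hom.comp_apply, IsAffineOpen.SpecMap_appLE_fromSpec f hV hW e,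
        Scheme.Hom.comp_apply, h𝔷, hfz]
    have hcomap' : 𝔷.asIdeal.comap (f.appLE V W e).hom = 𝔮.asIdeal :=
      congrArg PrimeSpectrum.asIdeal hcomap
    obtain ⟨x'', hzx'', hfx''⟩ := exists_specialization_of_curve S q f H hV hNag hW e 𝔷 𝔭
      (hcomap'.symm ▸ hlt) (by rw [hcomap']; exact himm) h hh hmax
    apply h𝔭E
    exact ⟨x'', hxz.trans (h𝔷 ▸ hzx''), hfx''⟩
  have hfxV : f x ∈ (V : Set Y) := hsp.mem_open V.isOpen hy'V
  let 𝔭₀ : Spec Γ(Y, V) := hV.primeIdealOf ⟨f x, hfxV⟩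
  let 𝔭₁ : Spec Γ(Y, V) := hV.primeIdealOf ⟨y', hy'V⟩
  have h0 : hV.fromSpec 𝔭₀ = f x := hV.fromSpec_primeIdealOf ⟨f x, hfxV⟩
  have h1 : hV.fromSpec 𝔭₁ = y' := hV.fromSpec_primeIdealOf ⟨y', hy'V⟩
  have h𝔭₀E : 𝔭₀ ∈ E := ⟨x, specializes_rfl, h0.symm⟩
  have hsp' : 𝔭₀ ⤳ 𝔭₁ := by
    rw [← hV.fromSpec.isOpenEmbedding.isInducing.specializes_iff, h0, h1]
    exact hsp
  have h𝔭₁E : 𝔭₁ ∈ E := Specializes.mem_closed (X := PrimeSpectrum Γ(Y, V)) hsp' hEcl h𝔭₀E
  obtain ⟨x', hxx', hfx'⟩ := h𝔭₁E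
  exact ⟨x', hxx', hfx'.trans h1⟩

end Groth.Agent.H73.NagCurveGeom
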