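import Groth.Agent.H73.NagCurveGeom
import Groth.Agent.H73.DVRClosed

/-!
# The Nagata-base curve criteria for universal closedness and separatedness
-/

set_option autoImplicit false
set_option linter.style.haveILetI false
universe u

open CategoryTheory CategoryTheory.Limits AlgebraicGeometry TopologicalSpace Topology

namespace Groth.Agent.H73.NagCurveMain

open Groth.Agent.H73.NagCurveGeom

/-- The curve criterion (uniqueness part). -/
def CurveUniqueness (S : Scheme.{u}) {X Y : Scheme.{u}} (q : Y ⟶ S) (f : X ⟶ Y) : Prop :=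
  ∀ (C : Scheme.{u}) (r : C ⟶ S) [IsIntegral C] [LocallyOfFiniteType r] [QuasiCompact r],
    (∀ x : C, IsIntegrallyClosed (C.presheaf.stalk x)) →
    ∀ (c : C), IsClosed ({c} : Set C) → ringKrullDim (C.presheaf.stalk c) = 1 →
    ∀ (U : C.Opens), (U : Set C) = {c}ᶜ →
    ∀ (u : (U : Scheme.{u}) ⟶ X) (g : C ⟶ Y), g ≫ q = r → u ≫ f = U.ι ≫ g →
    ∀ (k : Spec (CommRingCat.of (FractionRing (C.presheaf.stalk c))) ⟶ (U : Scheme.{u})),
      k ≫ U.ι = Spec.map (CommRingCat.ofHom (algebraMap (C.presheaf.stalk c)
        (FractionRing (C.presheaf.stalk c)))) ≫ C.fromSpecStalk c →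
    ∀ l l' : Spec (C.presheaf.stalk c) ⟶ X,
      l ≫ f = C.fromSpecStalk c ≫ g →
      Spec.map (CommRingCat.ofHom (algebraMap (C.presheaf.stalk c)
        (FractionRing (C.presheaf.stalk c)))) ≫ l = k ≫ u →
      l' ≫ f = C.fromSpecStalk c ≫ g →
      Spec.map (CommRingCat.ofHom (algebraMap (C.presheaf.stalk c)
        (FractionRing (C.presheaf.stalk c)))) ≫ l' = k ≫ u → l = l'

theorem CurveExistence.pullback_snd {S X Y Y' : Scheme.{u}} {q : Y ⟶ S} {f : X ⟶ Y}
    (H : CurveExistence S q f) (j : Y' ⟶ Y) :
    CurveExistence S (j ≫ q) (pullback.snd f j) := by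
  intro C r _ _ _ hnorm c hcl hdim U hU u g hg hug k hk
  obtain ⟨l, hl₁, hl₂⟩ := H C r hnorm c hcl hdim U hU (u ≫ pullback.fst f j) (g ≫ j)
    (by rw [Category.assoc, hg])
    (by rw [Category.assoc, pullback.condition, reassoc_of% hug]) k hk
  refine ⟨pullback.lift l (C.fromSpecStalk c ≫ g) (by rw [hl₁, Category.assoc]),
    pullback.lift_snd _ _ _, ?_⟩
  apply pullback.hom_ext
  · rw [Category.assoc, pullback.lift_fst, hl₂, Category.assoc]
  · rw [Category.assoc, pullback.lift_snd, Category.assoc, hug, reassoc_of% hk]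

/-- Over a Nagata base, the curve criterion implies universal closedness. -/
theorem universallyClosed_of_curveExistence (S : Scheme.{u})
    (hS : ∀ W : S.affineOpens, CAlg.IsNagata Γ(S, W)) {X Y : Scheme.{u}} (q : Y ⟶ S)
    [LocallyOfFiniteType q] (f : X ⟶ Y) [LocallyOfFiniteType f] [QuasiCompact f]
    (H : CurveExistence S q f) : UniversallyClosed f := by
  refine UniversallyClosed.of_valuativeCriterion f
    (Groth.Agent.H73.AnClosed.existence_of_affineSpace_closed f fun n => ?_)
  have : LocallyOfFiniteType (pullback.snd f (𝔸(ULift.{u} (Fin n); Y) ↘ Y)) :=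
    MorphismProperty.pullback_snd _ _ inferInstance
  have : QuasiCompact (pullback.snd f (𝔸(ULift.{u} (Fin n); Y) ↘ Y)) :=
    MorphismProperty.pullback_snd _ _ inferInstance
  exact isClosedMap_of_curveExistence S hS ((𝔸(ULift.{u} (Fin n); Y) ↘ Y) ≫ q) _
    (CurveExistence.pullback_snd H _)

theorem isDVR_of_dim_one (A : Type*) [CommRing A] [IsDomain A] [IsLocalRing A]
    [IsNoetherianRing A] [IsIntegrallyClosed A] (hdim : ringKrullDim A = 1) :
    IsDiscreteValuationRing A := by
  have hnf : ¬ IsField A := fun h => by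
    letI := h.toField
    have := ringKrullDim_eq_zero_of_field A
    rw [hdim] at this
    exact one_ne_zero this
  haveI : Ring.KrullDimLE 1 A := Ring.krullDimLE_iff.mpr hdim.le
  have h03 : IsDiscreteValuationRing A ↔
      (IsIntegrallyClosed A ∧ ∃! P : Ideal A, P ≠ ⊥ ∧ P.IsPrime) :=
    (IsDiscreteValuationRing.TFAE A hnf).out 0 3
  refine h03.mpr ⟨inferInstance, IsLocalRing.maximalIdeal A, ⟨?_, inferInstance⟩, ?_⟩
  · exact fun h => hnf (IsLocalRing.isField_iff_maximalIdeal_eq.mpr h)
  · rintro P ⟨hP0, hP⟩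
    exact IsLocalRing.eq_maximalIdeal (hP.isMaximal_of_ne_bot hP0)

/-- A universally closed morphism satisfies the curve criterion. -/
theorem curveExistence_of_universallyClosed (S : Scheme.{u})
    (hS : ∀ W : S.affineOpens, CAlg.IsNagata Γ(S, W)) {X Y : Scheme.{u}} (q : Y ⟶ S)
    (f : X ⟶ Y) [UniversallyClosed f] : CurveExistence S q f := by
  intro C r _ _ _ hnorm c hcl hdim U hU u g hg hug k hk
  haveI : IsLocallyNoetherian S := ⟨fun W => (hS W).1⟩
  haveI : IsLocallyNoetherian C := LocallyOfFiniteType.isLocallyNoetherian r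
  haveI := hnorm c
  haveI : IsDiscreteValuationRing (C.presheaf.stalk c) := isDVR_of_dim_one _ hdim
  exact Groth.Agent.H73.DVRClosed.dvrExistence_of_universallyClosed f (C.presheaf.stalk c)
    (k ≫ u) (C.fromSpecStalk c ≫ g) (by rw [Category.assoc, hug, reassoc_of% hk])

/-- A separated morphism satisfies the uniqueness part of the curve criterion. -/
theorem curveUniqueness_of_isSeparated (S : Scheme.{u}) {X Y : Scheme.{u}} (q : Y ⟶ S)
    (f : X ⟶ Y) [IsSeparated f] : CurveUniqueness S q f := by
  intro C r _ _ _ hnorm c hcl hdim U hU u g hg hug k hk l l' hl₁ hl₂ hl'₁ hl'₂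
  set ι := Spec.map (CommRingCat.ofHom (algebraMap (C.presheaf.stalk c)
      (FractionRing (C.presheaf.stalk c)))) with hι
  haveI : IsDominant ι := by
    refine ⟨?_⟩
    change DenseRange (PrimeSpectrum.comap (algebraMap (C.presheaf.stalk c)
      (FractionRing (C.presheaf.stalk c))))
    rw [PrimeSpectrum.denseRange_comap_iff_ker_le_nilRadical,
      (RingHom.injective_iff_ker_eq_bot _).mp (IsFractionRing.injective _ _)]
    exact bot_le
  exact ext_of_isDominant_of_isSeparated f (hl₁.trans hl'₁.symm) ι (hl₂.trans hl'₂.symm)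

/-- Over a Nagata base, the uniqueness part of the curve criterion implies separatedness. -/
theorem isSeparated_of_curveUniqueness (S : Scheme.{u})
    (hS : ∀ W : S.affineOpens, CAlg.IsNagata Γ(S, W)) {X Y : Scheme.{u}} (p : X ⟶ S) (q : Y ⟶ S)
    [LocallyOfFiniteType p] [LocallyOfFiniteType q] (f : X ⟶ Y) (hf : f ≫ q = p)
    (H : CurveUniqueness S q f) : IsSeparated f := by
  haveI : IsLocallyNoetherian S := ⟨fun W => (hS W).1⟩
  haveI : IsLocallyNoetherian X := LocallyOfFiniteType.isLocallyNoetherian p
  haveI : LocallyOfFiniteType (f ≫ q) := hf ▸ inferInstance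
  haveI : LocallyOfFiniteType f := locallyOfFiniteType_of_comp f q
  haveI : QuasiSeparated f := inferInstance
  haveI : QuasiCompact (pullback.diagonal f) := inferInstance
  haveI : LocallyOfFiniteType (pullback.fst f f ≫ p) := inferInstance
  haveI : LocallyOfFiniteType (pullback.diagonal f ≫ pullback.fst f f ≫ p) := by
    rw [pullback.diagonal_fst_assoc]
    infer_instance
  haveI : LocallyOfFiniteType (pullback.diagonal f) :=
    locallyOfFiniteType_of_comp (pullback.diagonal f) (pullback.fst f f ≫ p)
  have HΔ : CurveExistence S (pullback.fst f f ≫ p) (pullback.diagonal f) := by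
    intro C r _ _ _ hnorm c hcl hdim U hU u g hg hug k hk
    have hu1 : U.ι ≫ g ≫ pullback.fst f f = u := by
      rw [← reassoc_of% hug, pullback.diagonal_fst, Category.comp_id]
    have hu2 : U.ι ≫ g ≫ pullback.snd f f = u := by
      rw [← reassoc_of% hug, pullback.diagonal_snd, Category.comp_id]
    have key : C.fromSpecStalk c ≫ g ≫ pullback.fst f f =
        C.fromSpecStalk c ≫ g ≫ pullback.snd f f := by
      refine H C r hnorm c hcl hdim U hU u (g ≫ pullback.fst f f ≫ f) ?_ ?_ k hk _ _ ?_ ?_ ?_ ?_
      · rw [← hg, Category.assoc, Category.assoc, hf]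
      · rw [← reassoc_of% hu1]
      · simp only [Category.assoc]
      · rw [reassoc_of% hk.symm, hu1]
      · simp only [Category.assoc, pullback.condition]
      · rw [reassoc_of% hk.symm, hu2]
    refine ⟨C.fromSpecStalk c ≫ g ≫ pullback.fst f f, ?_, ?_⟩
    · apply pullback.hom_ext
      · simp only [Category.assoc, pullback.diagonal_fst, Category.comp_id]
      · simp only [Category.assoc, pullback.diagonal_snd, Category.comp_id]
        exact key
    · rw [reassoc_of% hk.symm, hu1]
  have hUC : UniversallyClosed (pullback.diagonal f) :=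
    universallyClosed_of_curveExistence S hS (pullback.fst f f ≫ p) (pullback.diagonal f) HΔ
  exact ⟨.of_isPreimmersion _ (pullback.diagonal f).isClosedMap.isClosed_range⟩

end Groth.Agent.H73.NagCurveMain
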