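import Groth.Agent.H73.NagCurveAlg
import Groth.Prelude.Def_Found

/-!
# The curve ring for the Nagata-base curve criteria
-/

set_option autoImplicit false
set_option linter.style.haveILetI false
universe u

namespace Groth.Agent.H73.NagCurveRing

open TensorProduct

/-- A point of the generic fibre with finite residue field extension. -/
theorem exists_finite_point (D E : Type u) [CommRing D] [IsDomain D] [CommRing E] [Algebra D E]
    [Algebra.FiniteType D E] (hinj : Function.Injective (algebraMap D E)) :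
    ∃ (L : Type u) (_ : Field L) (_ : Algebra D L) (_ : Algebra (FractionRing D) L)
      (_ : IsScalarTower D (FractionRing D) L) (_ : FiniteDimensional (FractionRing D) L),
      Nonempty (E →ₐ[D] L) := by
  haveI : Module.Flat D (FractionRing D) := IsLocalization.flat (FractionRing D) (nonZeroDivisors D)
  have hinjT : Function.Injective
      (Algebra.TensorProduct.includeLeft : FractionRing D →ₐ[D] FractionRing D ⊗[D] E) :=
    Algebra.TensorProduct.includeLeft_injective hinj
  haveI : Nontrivial (FractionRing D ⊗[D] E) := hinjT.nontrivial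
  obtain ⟨𝔪, h𝔪⟩ := Ideal.exists_maximal (FractionRing D ⊗[D] E)
  letI : Field ((FractionRing D ⊗[D] E) ⧸ 𝔪) := Ideal.Quotient.field 𝔪
  haveI : Algebra.FiniteType (FractionRing D) (FractionRing D ⊗[D] E) := inferInstance
  haveI : Algebra.FiniteType (FractionRing D) ((FractionRing D ⊗[D] E) ⧸ 𝔪) :=
    Algebra.FiniteType.of_surjective (Ideal.Quotient.mkₐ (FractionRing D) 𝔪)
      (Ideal.Quotient.mkₐ_surjective _ _)
  haveI : Module.Finite (FractionRing D) ((FractionRing D ⊗[D] E) ⧸ 𝔪) :=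
    finite_of_finite_type_of_isJacobsonRing (FractionRing D) _
  exact ⟨(FractionRing D ⊗[D] E) ⧸ 𝔪, inferInstance, inferInstance, inferInstance, inferInstance,
    inferInstance, ⟨(Ideal.Quotient.mkₐ D 𝔪).comp Algebra.TensorProduct.includeRight⟩⟩

/-- Lifting an injective map from a domain to a field along `Localization.Away` stays
injective. -/
theorem away_lift_injective {A L S : Type*} [CommRing A] [IsDomain A] [Field L] [CommRing S]
    [Algebra A S] (g : A →+* L) (hg : Function.Injective g) (x : A) [IsLocalization.Away x S]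
    (hx : IsUnit (g x)) : Function.Injective (IsLocalization.Away.lift (S := S) x hx) := by
  rw [injective_iff_map_eq_zero]
  intro z hz
  obtain ⟨⟨a, m⟩, ham⟩ := IsLocalization.surj (Submonoid.powers x) z
  have h1 : IsLocalization.Away.lift (S := S) x hx (z * algebraMap A S m) = g a := by
    rw [ham]
    exact IsLocalization.Away.lift_eq x hx a
  rw [map_mul, hz, zero_mul] at h1
  have ha : a = 0 := hg (by rw [← h1, map_zero])
  rw [ha, map_zero] at ham
  exact (IsUnit.mul_left_eq_zero (IsLocalization.map_units S m)).mp ham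


open Groth.Agent.H73.NagCurveAlg in
/-- The curve ring over a Noetherian N-2 domain. -/
theorem exists_curve_domain (D E : Type u) [CommRing D] [IsDomain D] [IsNoetherianRing D]
    (hN2 : CAlg.IsN2 D) [CommRing E] [Algebra D E] [Algebra.FiniteType D E]
    (hinj : Function.Injective (algebraMap D E))
    (M : Ideal D) [M.IsPrime] (hM0 : M ≠ ⊥)
    (hM : ∀ Q : Ideal D, Q.IsPrime → Q ≤ M → Q = ⊥ ∨ Q = M)
    (h : D) (hh : h ∉ M) (hmax : ∀ Q : Ideal D, Q.IsPrime → M ≤ Q → h ∉ Q → Q = M) :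
    ∃ (B : Type u) (_ : CommRing B) (_ : IsDomain B) (_ : IsIntegrallyClosed B) (φB : D →+* B)
      (P : Ideal B) (_ : P.IsMaximal) (d : B) (ψ : E →+* Localization.Away d),
      φB.FiniteType ∧ P.comap φB = M ∧ P ≠ ⊥ ∧
      (∀ Q : Ideal B, Q.IsPrime → Q ≤ P → Q = ⊥ ∨ Q = P) ∧
      (∀ Q : Ideal B, Q.IsPrime → d ∈ Q → Q = P) ∧ d ∈ P ∧ d ≠ 0 ∧
      ψ.comp (algebraMap D E) = (algebraMap B (Localization.Away d)).comp φB := by
  classical
  obtain ⟨L, _, _, _, _, hfd, ⟨φ⟩⟩ := exists_finite_point D E hinj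
  have hfin : Module.Finite D (integralClosure D L) := hN2 L hfd
  haveI : IsNoetherianRing (integralClosure D L) := IsNoetherianRing.of_finite D _
  haveI : IsFractionRing (integralClosure D L) L :=
    integralClosure.isFractionRing_of_finite_extension (FractionRing D) L
  haveI : IsIntegrallyClosed (integralClosure D L) :=
    integralClosure.isIntegrallyClosedOfFiniteExtension (FractionRing D)
  haveI : Algebra.IsIntegral D (integralClosure D L) := IsIntegralClosure.isIntegral_algebra D L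
  have hinjL : Function.Injective (algebraMap D L) := by
    rw [IsScalarTower.algebraMap_eq D (FractionRing D) L]
    exact (algebraMap (FractionRing D) L).injective.comp (IsFractionRing.injective D _)
  have hinjC : Function.Injective (algebraMap D (integralClosure D L)) := by
    intro x y hxy
    apply hinjL
    have := congrArg (algebraMap (integralClosure D L) L) hxy
    rwa [← IsScalarTower.algebraMap_apply, ← IsScalarTower.algebraMap_apply] at this
  have hinjCL : Function.Injective (algebraMap (integralClosure D L) L) :=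
    IsFractionRing.injective _ _
  -- a prime over `M`
  obtain ⟨P, -, hPprime, hPM⟩ := Ideal.exists_ideal_over_prime_of_isIntegral M
    (⊥ : Ideal (integralClosure D L)) (by
      rw [← RingHom.ker_eq_comap_bot, (RingHom.injective_iff_ker_eq_bot _).mp hinjC]
      exact bot_le)
  have hP0 : P ≠ ⊥ := by
    rintro rfl
    apply hM0
    rw [← hPM, ← RingHom.ker_eq_comap_bot, (RingHom.injective_iff_ker_eq_bot _).mp hinjC]
  have hPht : ∀ Q : Ideal (integralClosure D L), Q.IsPrime → Q ≤ P → Q = ⊥ ∨ Q = P := by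
    intro Q hQ hQP
    have h1 : Q.comap (algebraMap D (integralClosure D L)) ≤ M := hPM ▸ Ideal.comap_mono hQP
    rcases hM _ (Ideal.comap_isPrime _ Q) h1 with h2 | h2
    · left
      exact Ideal.eq_bot_of_comap_eq_bot h2
    · right
      by_contra hne
      have hlt : Q < P := lt_of_le_of_ne hQP hne
      have := Ideal.IsIntegral.comap_lt_comap (R := D) hlt
      rw [h2, hPM] at this
      exact lt_irrefl _ this
  have hPmax : ∀ Q : Ideal (integralClosure D L), Q.IsPrime → P ≤ Q →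
      algebraMap D (integralClosure D L) h ∉ Q → Q = P := by
    intro Q hQ hPQ hhQ
    have h1 : M ≤ Q.comap (algebraMap D (integralClosure D L)) := hPM ▸ Ideal.comap_mono hPQ
    have h2 := hmax _ (Ideal.comap_isPrime _ Q) h1 hhQ
    by_contra hne
    have hlt : P < Q := lt_of_le_of_ne hPQ (Ne.symm hne)
    have := Ideal.IsIntegral.comap_lt_comap (R := D) hlt
    rw [h2, hPM] at this
    exact lt_irrefl _ this
  -- denominators
  obtain ⟨s, hs⟩ := (Algebra.FiniteType.out : (⊤ : Subalgebra D E).FG)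
  obtain ⟨⟨d₀, hd₀⟩, hd₀s⟩ := IsLocalization.exist_integer_multiples_of_finset
    (nonZeroDivisors (integralClosure D L)) (s.image φ)
  have hd₀0 : d₀ ≠ 0 := nonZeroDivisors.ne_zero hd₀
  obtain ⟨a₀, ha₀M, ha₀0⟩ := Submodule.exists_mem_ne_zero_of_ne_bot hM0
  set d₁ : integralClosure D L := d₀ * algebraMap D (integralClosure D L) a₀ with hd₁
  have hd₁0 : d₁ ≠ 0 := mul_ne_zero hd₀0 (fun h0 => ha₀0 (hinjC (by rw [h0, map_zero])))
  have hd₁P : d₁ ∈ P := P.mul_mem_left _ (by
    have : a₀ ∈ P.comap (algebraMap D (integralClosure D L)) := hPM ▸ ha₀M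
    exact this)
  obtain ⟨h', hh'P, hh'⟩ := exists_isolating P hPht (algebraMap D (integralClosure D L) h)
    (fun hmem => hh (by rw [← hPM]; exact hmem)) hPmax d₁ hd₁0 hd₁P
  have hh'0 : h' ≠ 0 := fun h0 => hh'P (h0 ▸ P.zero_mem)
  have hpow : Submonoid.powers h' ≤ nonZeroDivisors (integralClosure D L) :=
    powers_le_nonZeroDivisors_of_noZeroDivisors hh'0
  -- the ring `B`
  haveI : IsDomain (Localization.Away h') := IsLocalization.isDomain_localization hpow
  haveI : IsIntegrallyClosed (Localization.Away h') :=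
    isIntegrallyClosed_of_isLocalization (Localization.Away h') (Submonoid.powers h') hpow
  have hinjB : Function.Injective (algebraMap (integralClosure D L) (Localization.Away h')) :=
    IsLocalization.injective _ hpow
  set ι := algebraMap (integralClosure D L) (Localization.Away h') with hι
  have hdisj : ∀ Q : Ideal (Localization.Away h'), Q.IsPrime →
      (Q.comap ι).IsPrime ∧ h' ∉ Q.comap ι := by
    intro Q hQ
    obtain ⟨h1, h2⟩ := (IsLocalization.isPrime_iff_isPrime_disjoint (Submonoid.powers h')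
      (Localization.Away h') Q).mp hQ
    exact ⟨h1, (Ideal.disjoint_powers_iff_notMem h' h1.isRadical).mp h2⟩
  have hmapcomap : ∀ Q : Ideal (Localization.Away h'), (Q.comap ι).map ι = Q := fun Q =>
    IsLocalization.map_under (Submonoid.powers h') (Localization.Away h') Q
  have hPdisj : Disjoint (Submonoid.powers h' : Set (integralClosure D L)) P :=
    (Ideal.disjoint_powers_iff_notMem h' hPprime.isRadical).mpr hh'P
  have hcomapmap : (P.map ι).comap ι = P :=
    IsLocalization.under_map_of_isPrime_disjoint (Submonoid.powers h') (Localization.Away h')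
      hPprime hPdisj
  haveI hPBprime : (P.map ι).IsPrime :=
    IsLocalization.isPrime_of_isPrime_disjoint (Submonoid.powers h') (Localization.Away h') P
      hPprime hPdisj
  have hV : ∀ Q : Ideal (Localization.Away h'), Q.IsPrime → ι d₁ ∈ Q → Q = P.map ι := by
    intro Q hQ hdQ
    obtain ⟨h1, h2⟩ := hdisj Q hQ
    rw [← hmapcomap Q, hh' (Q.comap ι) h1 hdQ h2]
  have hPBmax : (P.map ι).IsMaximal := by
    obtain ⟨Q', hQ'max, hQ'le⟩ := Ideal.exists_le_maximal (P.map ι) hPBprime.ne_top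
    have : Q' = P.map ι := hV Q' hQ'max.isPrime (hQ'le (Ideal.mem_map_of_mem ι hd₁P))
    exact this ▸ hQ'max
  -- the map to `L`
  have hu1 : IsUnit (algebraMap (integralClosure D L) L h') :=
    IsUnit.mk0 _ (fun h0 => hh'0 (hinjCL (by rw [h0, map_zero])))
  set jB : Localization.Away h' →+* L := IsLocalization.Away.lift h' hu1 with hjB
  have hjBinj : Function.Injective jB :=
    away_lift_injective (algebraMap (integralClosure D L) L) hinjCL h' hu1
  have hjBι : ∀ c, jB (ι c) = algebraMap (integralClosure D L) L c := fun c =>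
    IsLocalization.Away.lift_eq h' hu1 c
  have hιd₁0 : ι d₁ ≠ 0 := fun h0 => hd₁0 (hinjB (by rw [h0, map_zero]))
  have hu2 : IsUnit (jB (ι d₁)) := IsUnit.mk0 _ (fun h0 => hιd₁0 (hjBinj (by rw [h0, map_zero])))
  set j : Localization.Away (ι d₁) →+* L := IsLocalization.Away.lift (ι d₁) hu2 with hj
  have hjinj : Function.Injective j := away_lift_injective jB hjBinj (ι d₁) hu2
  have hjalg : ∀ b, j (algebraMap _ _ b) = jB b := fun b =>
    IsLocalization.Away.lift_eq (ι d₁) hu2 b
  -- the image of `φ` lies in the range of `j`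
  have hrange : ∀ e : E, φ e ∈ j.range := by
    intro e
    have he : e ∈ Algebra.adjoin D (s : Set E) := by rw [hs]; trivial
    induction he using Algebra.adjoin_induction with
    | mem x hx =>
      obtain ⟨c, hc⟩ := hd₀s (φ x) (Finset.mem_image_of_mem φ hx)
      -- `φ x = c * a₀ / d₁`
      obtain ⟨u, hu⟩ := (IsLocalization.Away.algebraMap_isUnit (S := Localization.Away (ι d₁))
        (ι d₁)).exists_left_inv
      refine ⟨algebraMap _ _ (ι (c * algebraMap D (integralClosure D L) a₀)) * u, ?_⟩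
      have h1 : j u * algebraMap (integralClosure D L) L d₁ = 1 := by
        rw [← hjBι, ← hjalg, ← map_mul, hu, map_one]
      have h2 : algebraMap (integralClosure D L) L d₁ ≠ 0 :=
        fun h0 => hd₁0 (hinjCL (by rw [h0, map_zero]))
      rw [map_mul j, hjalg, hjBι]
      apply mul_right_cancel₀ h2
      rw [mul_assoc, h1, mul_one, map_mul, hc, hd₁, map_mul, Algebra.smul_def]
      ring
    | algebraMap r =>
      refine ⟨algebraMap _ _ (ι (algebraMap D (integralClosure D L) r)), ?_⟩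
      rw [hjalg, hjBι, AlgHom.commutes, ← IsScalarTower.algebraMap_apply]
    | add x y _ _ hx hy =>
      rw [map_add φ x y]
      exact j.range.add_mem hx hy
    | mul x y _ _ hx hy =>
      rw [map_mul φ x y]
      exact j.range.mul_mem hx hy
  choose ψ₀ hψ₀ using hrange
  let ψ : E →+* Localization.Away (ι d₁) :=
    { toFun := ψ₀
      map_one' := hjinj (by rw [hψ₀, map_one, map_one])
      map_mul' := fun x y => hjinj (by rw [hψ₀, map_mul, map_mul, hψ₀, hψ₀])
      map_zero' := hjinj (by rw [hψ₀, map_zero, map_zero])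
      map_add' := fun x y => hjinj (by rw [hψ₀, map_add, map_add, hψ₀, hψ₀]) }
  refine ⟨Localization.Away h', inferInstance, inferInstance, inferInstance,
    ι.comp (algebraMap D (integralClosure D L)), P.map ι, hPBmax, ι d₁, ψ, ?_, ?_, ?_, ?_, hV,
    Ideal.mem_map_of_mem ι hd₁P, hιd₁0, ?_⟩
  · refine RingHom.FiniteType.comp ?_ ?_
    · haveI : Algebra.FinitePresentation (integralClosure D L) (Localization.Away h') :=
        IsLocalization.Away.finitePresentation h'
      exact RingHom.finiteType_algebraMap.mpr inferInstance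
    · exact RingHom.finiteType_algebraMap.mpr inferInstance
  · rw [← Ideal.comap_comap, hcomapmap, hPM]
  · intro h0
    apply hιd₁0
    have : ι d₁ ∈ P.map ι := Ideal.mem_map_of_mem ι hd₁P
    rw [h0] at this
    exact this
  · intro Q hQ hQP
    obtain ⟨h1, h2⟩ := hdisj Q hQ
    have h3 : Q.comap ι ≤ P := hcomapmap ▸ Ideal.comap_mono hQP
    rcases hPht _ h1 h3 with h4 | h4
    · left
      rw [← hmapcomap Q, h4, Ideal.map_bot]
    · right
      rw [← hmapcomap Q, h4]
  · apply RingHom.ext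
    intro x
    apply hjinj
    change j (ψ₀ (algebraMap D E x)) = j (algebraMap _ _ (ι (algebraMap D (integralClosure D L) x)))
    rw [hψ₀, hjalg, hjBι, AlgHom.commutes, ← IsScalarTower.algebraMap_apply]


/-- The curve ring over a Nagata ring. -/
theorem exists_curve (R₁ B₁ : Type u) [CommRing R₁] (hR₁ : CAlg.IsNagata R₁) [CommRing B₁]
    [Algebra R₁ B₁] [Algebra.FiniteType R₁ B₁] (𝔷 : Ideal B₁) [𝔷.IsPrime] (𝔭 : Ideal R₁)
    [𝔭.IsPrime] (hlt : 𝔷.comap (algebraMap R₁ B₁) < 𝔭)
    (himm : ∀ Q : Ideal R₁, Q.IsPrime → 𝔷.comap (algebraMap R₁ B₁) ≤ Q → Q ≤ 𝔭 →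
      Q = 𝔷.comap (algebraMap R₁ B₁) ∨ Q = 𝔭)
    (h : R₁) (hh : h ∉ 𝔭) (hmax : ∀ Q : Ideal R₁, Q.IsPrime → 𝔭 ≤ Q → h ∉ Q → Q = 𝔭) :
    ∃ (B : Type u) (_ : CommRing B) (_ : IsDomain B) (_ : IsIntegrallyClosed B) (φB : R₁ →+* B)
      (P : Ideal B) (_ : P.IsMaximal) (d : B) (ψ : B₁ →+* Localization.Away d),
      φB.FiniteType ∧ P.comap φB = 𝔭 ∧ P ≠ ⊥ ∧
      (∀ Q : Ideal B, Q.IsPrime → Q ≤ P → Q = ⊥ ∨ Q = P) ∧
      (∀ Q : Ideal B, Q.IsPrime → d ∈ Q → Q = P) ∧ d ∈ P ∧ d ≠ 0 ∧
      ψ.comp (algebraMap R₁ B₁) = (algebraMap B (Localization.Away d)).comp φB ∧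
      𝔷 ≤ RingHom.ker ψ := by
  haveI : IsNoetherianRing R₁ := hR₁.1
  set 𝔮 : Ideal R₁ := 𝔷.comap (algebraMap R₁ B₁) with h𝔮
  haveI : 𝔮.IsPrime := Ideal.comap_isPrime _ 𝔷
  let π := Ideal.Quotient.mk 𝔮
  have hπ : Function.Surjective π := Ideal.Quotient.mk_surjective
  have hker : RingHom.ker π = 𝔮 := Ideal.mk_ker
  have hcm : ∀ J : Ideal R₁, 𝔮 ≤ J → (J.map π).comap π = J := fun J hJ => by
    rw [Ideal.comap_map_of_surjective π hπ, ← RingHom.ker_eq_comap_bot, hker]
    exact sup_eq_left.mpr hJ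
  have hmc : ∀ J : Ideal (R₁ ⧸ 𝔮), (J.comap π).map π = J := fun J =>
    Ideal.map_comap_of_surjective π hπ J
  have hcb : (⊥ : Ideal (R₁ ⧸ 𝔮)).comap π = 𝔮 := by rw [← RingHom.ker_eq_comap_bot, hker]
  have hN2 : CAlg.IsN2 (R₁ ⧸ 𝔮) := hR₁.2 𝔮
  haveI : IsScalarTower R₁ (R₁ ⧸ 𝔮) (B₁ ⧸ 𝔷) := IsScalarTower.of_algebraMap_eq fun x => rfl
  haveI : Algebra.FiniteType R₁ (B₁ ⧸ 𝔷) :=
    Algebra.FiniteType.of_surjective (Ideal.Quotient.mkₐ R₁ 𝔷) (Ideal.Quotient.mkₐ_surjective _ _)
  haveI : Algebra.FiniteType (R₁ ⧸ 𝔮) (B₁ ⧸ 𝔷) :=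
    Algebra.FiniteType.of_restrictScalars_finiteType R₁ (R₁ ⧸ 𝔮) (B₁ ⧸ 𝔷)
  have hinj : Function.Injective (algebraMap (R₁ ⧸ 𝔮) (B₁ ⧸ 𝔷)) :=
    Ideal.algebraMap_quotient_injective
  haveI hMprime : (𝔭.map π).IsPrime :=
    Ideal.map_isPrime_of_surjective hπ (by rw [hker]; exact hlt.le)
  have hM0 : 𝔭.map π ≠ ⊥ := by
    intro h0
    have := hcm 𝔭 hlt.le
    rw [h0, hcb] at this
    exact hlt.ne this
  have hM : ∀ Q : Ideal (R₁ ⧸ 𝔮), Q.IsPrime → Q ≤ 𝔭.map π → Q = ⊥ ∨ Q = 𝔭.map π := by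
    intro Q hQ hQM
    have h1 : 𝔮 ≤ Q.comap π := hcb.symm.le.trans (Ideal.comap_mono bot_le)
    have h2 : Q.comap π ≤ 𝔭 := hcm 𝔭 hlt.le ▸ Ideal.comap_mono hQM
    rcases himm _ (Ideal.comap_isPrime π Q) h1 h2 with h3 | h3
    · left
      rw [← hmc Q, h3]
      exact Ideal.map_quotient_self 𝔮
    · right
      rw [← hmc Q, h3]
  have hh' : π h ∉ 𝔭.map π := by
    intro hmem
    have : h ∈ (𝔭.map π).comap π := hmem
    rw [hcm 𝔭 hlt.le] at this
    exact hh this
  have hmax' : ∀ Q : Ideal (R₁ ⧸ 𝔮), Q.IsPrime → 𝔭.map π ≤ Q → π h ∉ Q → Q = 𝔭.map π := by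
    intro Q hQ hMQ hhQ
    have h1 : 𝔭 ≤ Q.comap π := hcm 𝔭 hlt.le ▸ Ideal.comap_mono hMQ
    rw [← hmc Q, hmax _ (Ideal.comap_isPrime π Q) h1 hhQ]
  obtain ⟨B, _, _, _, φB, P, hPmax, d, ψ, h1, h2, h3, h4, h5, h6, h7, h8⟩ :=
    exists_curve_domain (R₁ ⧸ 𝔮) (B₁ ⧸ 𝔷) hN2 hinj (𝔭.map π) hM0 hM (π h) hh' hmax'
  refine ⟨B, inferInstance, inferInstance, inferInstance, φB.comp π, P, hPmax, d,
    ψ.comp (Ideal.Quotient.mk 𝔷), ?_, ?_, h3, h4, h5, h6, h7, ?_, ?_⟩
  · exact h1.comp (RingHom.FiniteType.of_surjective π hπ)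
  · rw [← Ideal.comap_comap, h2, hcm 𝔭 hlt.le]
  · have e : (Ideal.Quotient.mk 𝔷).comp (algebraMap R₁ B₁) =
        (algebraMap (R₁ ⧸ 𝔮) (B₁ ⧸ 𝔷)).comp π := RingHom.ext fun x => rfl
    rw [RingHom.comp_assoc, e, ← RingHom.comp_assoc, h8, RingHom.comp_assoc]
  · intro x hx
    rw [RingHom.mem_ker, RingHom.comp_apply, Ideal.Quotient.eq_zero_iff_mem.mpr hx, map_zero]

end Groth.Agent.H73.NagCurveRing
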