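import Groth.Agent.H73.FieldAlgClosure
import Groth.Prelude.Def_Found

/-!
# Integral closure of a Nagata ring in a reduced algebra of finite type
-/

set_option autoImplicit false
universe u

namespace Groth.Agent.H73.NagataFin

open IntermediateField

attribute [local instance] FractionRing.liftAlgebra in
/-- Domain case with injective structure map. -/
theorem finite_integralClosure_of_isN2_of_injective (R : Type u) [CommRing R] [IsDomain R]
    [IsNoetherianRing R] (hR : CAlg.IsN2 R) (S : Type u) [CommRing S] [IsDomain S] [Algebra R S]
    [Algebra.FiniteType R S] (hinj : Function.Injective (algebraMap R S)) :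
    Module.Finite R (integralClosure R S) := by
  have hFS : FaithfulSMul R S := (faithfulSMul_iff_algebraMap_injective _ _).mpr hinj
  have hFL : FaithfulSMul R (FractionRing S) := inferInstance
  have hess : Algebra.EssFiniteType R (FractionRing S) := by
    have h1 : Algebra.EssFiniteType R S := inferInstance
    have h2 : Algebra.EssFiniteType S (FractionRing S) :=
      Algebra.EssFiniteType.of_isLocalization (FractionRing S) (nonZeroDivisors S)
    exact Algebra.EssFiniteType.comp R S (FractionRing S)
  have hessK : Algebra.EssFiniteType (FractionRing R) (FractionRing S) :=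
    Algebra.EssFiniteType.of_comp R (FractionRing R) (FractionRing S)
  have hMfin : Module.Finite (FractionRing R)
      (algebraicClosure (FractionRing R) (FractionRing S)) :=
    Groth.Agent.H73.FieldAlg.finite_algebraicClosure_of_essFiniteType _ _
  have hfin : Module.Finite R
      (integralClosure R (algebraicClosure (FractionRing R) (FractionRing S))) :=
    hR (algebraicClosure (FractionRing R) (FractionRing S)) hMfin
  have hN : IsNoetherian R
      (integralClosure R (algebraicClosure (FractionRing R) (FractionRing S))) :=
    isNoetherian_of_isNoetherianRing_of_finite R _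
  have hmem : ∀ x : integralClosure R S,
      algebraMap S (FractionRing S) x.1 ∈ algebraicClosure (FractionRing R) (FractionRing S) := by
    intro x
    rw [mem_algebraicClosure_iff]
    have h1 : IsIntegral R (algebraMap S (FractionRing S) x.1) :=
      x.2.map (IsScalarTower.toAlgHom R S (FractionRing S))
    exact (h1.tower_top (A := FractionRing R)).isAlgebraic
  let f : integralClosure R S →ₗ[R]
      integralClosure R (algebraicClosure (FractionRing R) (FractionRing S)) :=
    { toFun := fun x => ⟨⟨algebraMap S (FractionRing S) x.1, hmem x⟩, by
        have h1 : IsIntegral R (algebraMap S (FractionRing S) x.1) :=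
          x.2.map (IsScalarTower.toAlgHom R S (FractionRing S))
        exact (isIntegral_algHom_iff
          ((algebraicClosure (FractionRing R) (FractionRing S)).val.restrictScalars R)
          Subtype.val_injective).mp h1⟩
      map_add' := fun x y => by
        apply Subtype.ext
        apply Subtype.ext
        exact map_add (algebraMap S (FractionRing S)) x.1 y.1
      map_smul' := fun r x => by
        apply Subtype.ext
        apply Subtype.ext
        change algebraMap S (FractionRing S) (r • x.1) = r • algebraMap S (FractionRing S) x.1
        rw [Algebra.smul_def, Algebra.smul_def, map_mul, ← IsScalarTower.algebraMap_apply] }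
  refine Module.Finite.of_injective f (fun x y hxy => ?_)
  have h1 : algebraMap S (FractionRing S) x.1 = algebraMap S (FractionRing S) y.1 :=
    congrArg (fun z => ((z : algebraicClosure (FractionRing R) (FractionRing S)) :
      FractionRing S)) (congrArg Subtype.val hxy)
  exact Subtype.ext (IsFractionRing.injective S (FractionRing S) h1)

/-- Domain case over a Nagata ring. -/
theorem finite_integralClosure_of_isNagata_of_isDomain (R : Type u) [CommRing R]
    (hR : CAlg.IsNagata R) (S : Type u) [CommRing S] [IsDomain S] [Algebra R S]
    [Algebra.FiniteType R S] : Module.Finite R (integralClosure R S) := by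
  obtain ⟨hnoeth, hN2⟩ := hR
  set p : Ideal R := RingHom.ker (algebraMap R S) with hp
  have hpprime : p.IsPrime := RingHom.ker_isPrime _
  letI algR₁S : Algebra (R ⧸ p) S := (RingHom.kerLift (algebraMap R S)).toAlgebra
  have tower : IsScalarTower R (R ⧸ p) S := IsScalarTower.of_algebraMap_eq fun r => rfl
  have hft : Algebra.FiniteType (R ⧸ p) S := Algebra.FiniteType.of_restrictScalars_finiteType R _ S
  have hinj : Function.Injective (algebraMap (R ⧸ p) S) := RingHom.kerLift_injective _
  have h1 : Module.Finite (R ⧸ p) (integralClosure (R ⧸ p) S) :=
    finite_integralClosure_of_isN2_of_injective (R ⧸ p) (hN2 p) S hinj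
  have h2 : Module.Finite R (integralClosure (R ⧸ p) S) := Module.Finite.trans (R ⧸ p) _
  have hN : IsNoetherian R (integralClosure (R ⧸ p) S) :=
    isNoetherian_of_isNoetherianRing_of_finite R _
  let f : integralClosure R S →ₗ[R] integralClosure (R ⧸ p) S :=
    { toFun := fun x => ⟨x.1, x.2.tower_top⟩
      map_add' := fun _ _ => rfl
      map_smul' := fun r x => Subtype.ext (by
        change r • x.1 = (r • (⟨x.1, x.2.tower_top⟩ : integralClosure (R ⧸ p) S)).1
        rfl) }
  refine Module.Finite.of_injective f (fun x y hxy => ?_)
  have h' : (f x).1 = (f y).1 := congrArg Subtype.val hxy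
  exact Subtype.ext h'

/-- The integral closure of a Nagata ring in a reduced algebra of finite type is finite. -/
theorem finite_integralClosure_of_isNagata (R : Type u) [CommRing R]
    (hR : CAlg.IsNagata R) (S : Type u) [CommRing S] [IsReduced S] [Algebra R S]
    [Algebra.FiniteType R S] : Module.Finite R (integralClosure R S) := by
  have hnoeth : IsNoetherianRing R := hR.1
  have hSnoeth : IsNoetherianRing S := Algebra.FiniteType.isNoetherianRing R S
  have hfinite : (minimalPrimes S).Finite := minimalPrimes.finite_of_isNoetherianRing S
  have : Finite (minimalPrimes S) := hfinite.to_subtype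
  have hprime : ∀ q : minimalPrimes S, (q : Ideal S).IsPrime := fun q => q.2.1.1
  have hfin : ∀ q : minimalPrimes S, Module.Finite R (integralClosure R (S ⧸ (q : Ideal S))) :=
    fun q => finite_integralClosure_of_isNagata_of_isDomain R hR (S ⧸ (q : Ideal S))
  have hpi : Module.Finite R (∀ q : minimalPrimes S, integralClosure R (S ⧸ (q : Ideal S))) :=
    Module.Finite.pi
  have hN : IsNoetherian R (∀ q : minimalPrimes S, integralClosure R (S ⧸ (q : Ideal S))) :=
    isNoetherian_of_isNoetherianRing_of_finite R _
  let f : integralClosure R S →ₗ[R] ∀ q : minimalPrimes S, integralClosure R (S ⧸ (q : Ideal S)) :=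
    { toFun := fun x q => ⟨Ideal.Quotient.mk (q : Ideal S) x.1,
        x.2.map (Ideal.Quotient.mkₐ R (q : Ideal S))⟩
      map_add' := fun x y => by
        funext q
        exact Subtype.ext (map_add (Ideal.Quotient.mk (q : Ideal S)) x.1 y.1)
      map_smul' := fun r x => by
        funext q
        exact Subtype.ext (map_smul (Ideal.Quotient.mkₐ R (q : Ideal S)) r x.1) }
  refine Module.Finite.of_injective f (fun x y hxy => ?_)
  apply Subtype.ext
  have hmem : x.1 - y.1 ∈ sInf (minimalPrimes S) := by
    rw [Ideal.mem_sInf]
    intro q hq
    have h1 := congrFun hxy ⟨q, hq⟩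
    have h2 : Ideal.Quotient.mk q x.1 = Ideal.Quotient.mk q y.1 := congrArg Subtype.val h1
    rw [← Ideal.Quotient.eq]
    exact h2
  rw [minimalPrimes, Ideal.sInf_minimalPrimes] at hmem
  have hnil : (⊥ : Ideal S).radical = ⊥ := by
    have := nilradical_eq_zero S
    rwa [nilradical] at this
  rw [hnil, Ideal.mem_bot, sub_eq_zero] at hmem
  exact hmem

end Groth.Agent.H73.NagataFin
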