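import Groth.Agent.H73.NagataNormz
import Groth.Agent.H73.NagataField

set_option autoImplicit false
universe u
open CategoryTheory CategoryTheory.Limits AlgebraicGeometry TopologicalSpace

namespace Groth.Agent.H73.NagataFin

/-- The residue field at a point of an affine open consists of fractions of evaluations. -/
theorem exists_evaluation_fraction {S : Scheme.{u}} {U : S.Opens} (hU : IsAffineOpen U) (s : S)
    (hs : s ∈ U) (z : S.residueField s) :
    ∃ a b : Γ(S, U), S.evaluation U s hs b ≠ 0 ∧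
      z * S.evaluation U s hs b = S.evaluation U s hs a := by
  obtain ⟨σ, rfl⟩ := S.residue_surjective s z
  letI : Algebra Γ(S, U) (S.presheaf.stalk s) := S.presheaf.algebra_section_stalk ⟨s, hs⟩
  haveI : IsLocalization.AtPrime (S.presheaf.stalk s) (hU.primeIdealOf ⟨s, hs⟩).asIdeal :=
    hU.isLocalization_stalk ⟨s, hs⟩
  obtain ⟨⟨a, b⟩, hab⟩ := IsLocalization.surj (hU.primeIdealOf ⟨s, hs⟩).asIdeal.primeCompl σ
  have hbu : IsUnit (algebraMap Γ(S, U) (S.presheaf.stalk s) b.1) :=
    IsLocalization.map_units (S.presheaf.stalk s) b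
  refine ⟨a, b.1, ?_, ?_⟩
  · change (S.residue s).hom (algebraMap Γ(S, U) (S.presheaf.stalk s) b.1) ≠ 0
    exact (hbu.map (S.residue s).hom).ne_zero
  · change (S.residue s).hom σ * (S.residue s).hom (algebraMap Γ(S, U) (S.presheaf.stalk s) b.1) =
      (S.residue s).hom (algebraMap Γ(S, U) (S.presheaf.stalk s) a)
    rw [← map_mul, hab]

/-- The chart statement for a reduced source with locally finitely many irreducible components
whose generic points have essentially finitely generated residue field extensions. -/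
theorem finite_integralClosure_sections_of_residue {X S : Scheme.{u}} (f : X ⟶ S)
    [QuasiCompact f] [IsReduced X] {U : S.Opens} (hU : IsAffineOpen U)
    (hN : CAlg.IsNagata Γ(S, U))
    (hfin : LocallyFinite (fun Z : ↥(irreducibleComponents ↥X) => (Z : Set ↥X)))
    (hres : ∀ x : X, closure {x} ∈ irreducibleComponents ↥X →
      (f.residueFieldMap x).hom.EssFiniteType) :
    letI := (f.app U).hom.toAlgebra
    Module.Finite Γ(S, U) (integralClosure Γ(S, U) Γ(X, f ⁻¹ᵁ U)) := by
  letI algAB := (f.app U).hom.toAlgebra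
  have hnoeth : IsNoetherianRing Γ(S, U) := hN.1
  have hcpt : IsCompact ((f ⁻¹ᵁ U : X.Opens) : Set X) := f.isCompact_preimage hU.isCompact
  let I := {ξ : X // closure {ξ} ∈ irreducibleComponents ↥X ∧ ξ ∈ f ⁻¹ᵁ U}
  have hIfin : Finite I := by
    have h1 : {Z : ↥(irreducibleComponents ↥X) |
        ((Z : Set ↥X) ∩ ((f ⁻¹ᵁ U : X.Opens) : Set X)).Nonempty}.Finite :=
      hfin.finite_nonempty_inter_compact hcpt
    haveI := h1.to_subtype
    let g : I → {Z : ↥(irreducibleComponents ↥X) |
        ((Z : Set ↥X) ∩ ((f ⁻¹ᵁ U : X.Opens) : Set X)).Nonempty} :=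
      fun ξ => ⟨⟨closure {ξ.1}, ξ.2.1⟩, ⟨ξ.1, subset_closure rfl, ξ.2.2⟩⟩
    refine Finite.of_injective g (fun ξ ξ' h => ?_)
    have h2 : closure ({ξ.1} : Set X) = closure {ξ'.1} :=
      congrArg (fun Z => ((Z.1 : ↥(irreducibleComponents ↥X)) : Set X)) h
    exact Subtype.ext ((inseparable_iff_closure_eq.mpr h2).eq)
  letI algL : ∀ ξ : I, Algebra Γ(S, U) (X.residueField ξ.1) := fun ξ =>
    (f.app U ≫ X.evaluation (f ⁻¹ᵁ U) ξ.1 ξ.2.2).hom.toAlgebra
  let ρ : ∀ ξ : I, Γ(X, f ⁻¹ᵁ U) →ₐ[Γ(S, U)] X.residueField ξ.1 := fun ξ =>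
    { (X.evaluation (f ⁻¹ᵁ U) ξ.1 ξ.2.2).hom with
      commutes' := fun r => rfl }
  refine finite_integralClosure_of_cover (fun ξ : I => X.residueField ξ.1) ρ ?_ ?_
  · intro x y hxy
    rw [← sub_eq_zero]
    rw [← basicOpen_eq_bot_iff]
    by_contra hne
    obtain ⟨w, hw⟩ : ∃ w, w ∈ X.basicOpen (x - y) := by
      by_contra hcon
      push Not at hcon
      apply hne
      ext w
      simp only [hcon w, Opens.coe_bot, Set.mem_empty_iff_false]
      exact iff_of_false (hcon w) (fun h => h)
    obtain ⟨Z, hZ, hwZ⟩ := exists_mem_irreducibleComponents_subset_of_isIrreducible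
      ({w} : Set X) isIrreducible_singleton
    obtain ⟨ξ, hξ⟩ := QuasiSober.sober hZ.1 (isClosed_of_mem_irreducibleComponents Z hZ)
    have hξZ : closure ({ξ} : Set X) = Z := hξ.def
    have hξw : ξ ⤳ w := by
      rw [specializes_iff_mem_closure, hξZ]
      exact hwZ rfl
    have hξb : ξ ∈ X.basicOpen (x - y) := hξw.mem_open (X.basicOpen (x - y)).2 hw
    have hξW : ξ ∈ f ⁻¹ᵁ U := X.basicOpen_le _ hξb
    let ξ' : I := ⟨ξ, hξZ ▸ hZ, hξW⟩
    have h1 : X.evaluation (f ⁻¹ᵁ U) ξ hξW (x - y) ≠ 0 :=
      (X.evaluation_ne_zero_iff_mem_basicOpen ξ hξW (x - y)).mpr hξb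
    apply h1
    rw [map_sub, sub_eq_zero]
    exact hxy ξ'
  · intro ξ
    have hs : f ξ.1 ∈ U := ξ.2.2
    letI algK : Algebra Γ(S, U) (S.residueField (f ξ.1)) :=
      (S.evaluation U (f ξ.1) hs).hom.toAlgebra
    letI algKL : Algebra (S.residueField (f ξ.1)) (X.residueField ξ.1) :=
      (f.residueFieldMap ξ.1).hom.toAlgebra
    haveI : IsScalarTower Γ(S, U) (S.residueField (f ξ.1)) (X.residueField ξ.1) :=
      IsScalarTower.of_algebraMap_eq (fun r =>
        (Scheme.evaluation_naturality_apply f ξ.1 hs r).symm)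
    haveI : Algebra.EssFiniteType (S.residueField (f ξ.1)) (X.residueField ξ.1) :=
      hres ξ.1 ξ.2.1
    exact finite_integralClosure_of_isNagata_field Γ(S, U) hN (S.residueField (f ξ.1))
      (X.residueField ξ.1) (exists_evaluation_fraction hU (f ξ.1) hs)

/-- Finiteness of the relative normalization over a scheme with Nagata affine opens, for a reduced
source with locally finitely many irreducible components and essentially finitely generated
residue field extensions at the generic points. -/
theorem isFinite_fromNormalization_of_residue {X S : Scheme.{u}} (f : X ⟶ S)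
    [QuasiCompact f] [QuasiSeparated f] [IsReduced X]
    (hS : ∀ U : S.affineOpens, CAlg.IsNagata Γ(S, U))
    (hfin : LocallyFinite (fun Z : ↥(irreducibleComponents ↥X) => (Z : Set ↥X)))
    (hres : ∀ x : X, closure {x} ∈ irreducibleComponents ↥X →
      (f.residueFieldMap x).hom.EssFiniteType) : IsFinite f.fromNormalization := by
  refine { toIsAffineHom := inferInstance, finite_app := fun U hU => ?_ }
  letI := (f.app U).hom.toAlgebra
  have hfin' : Module.Finite Γ(S, U) (integralClosure Γ(S, U) Γ(X, f ⁻¹ᵁ U)) :=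
    finite_integralClosure_sections_of_residue f hU (hS ⟨U, hU⟩) hfin hres
  rw [f.fromNormalization_app hU]
  change ((f.normalizationObjIso hU).inv.hom.comp
    (algebraMap Γ(S, U) (integralClosure Γ(S, U) Γ(X, f ⁻¹ᵁ U)))).Finite
  refine RingHom.Finite.comp ?_ ?_
  · exact RingHom.Finite.of_surjective _
      (ConcreteCategory.bijective_of_isIso (f.normalizationObjIso hU).inv).2
  · exact RingHom.finite_algebraMap.mpr hfin'

end Groth.Agent.H73.NagataFin
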