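import Mathlib
import Groth.Agent.H54.ZMT

set_option autoImplicit false
universe u

namespace Groth.Agent.H73.NormalPoint

open AlgebraicGeometry CategoryTheory TopologicalSpace Opposite

variable {X Y : Scheme.{u}}

/-- An element of the function field, integral over the sections on an affine open `U ∋ x`, with
`O_{X,x}` integrally closed, has the form `a / s` with `s` invertible at `x`. -/
theorem exists_mul_germ_eq [IsIntegral X] (x : X) (hx : IsIntegrallyClosed (X.presheaf.stalk x))
    {U : X.Opens} (hU : IsAffineOpen U) (hxU : x ∈ U)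
    (y₀ : X) (h₀ : y₀ = genericPoint X) (hy₀ : y₀ ∈ U) (β : X.presheaf.stalk y₀)
    (p : Polynomial Γ(X, U)) (hp : p.Monic)
    (hβ : Polynomial.eval₂ (X.presheaf.germ U y₀ hy₀).hom β p = 0) :
    ∃ s a : Γ(X, U), x ∈ X.basicOpen s ∧
      X.presheaf.germ U y₀ hy₀ s * β = X.presheaf.germ U y₀ hy₀ a := by
  subst h₀
  haveI : Nonempty U := ⟨⟨x, hxU⟩⟩
  letI := X.presheaf.algebra_section_stalk (⟨x, hxU⟩ : U)
  haveI := functionField_isScalarTower X U ⟨x, hxU⟩
  have hint : _root_.IsIntegral Γ(X, U) (β : X.functionField) := ⟨p, hp, hβ⟩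
  have hint' : _root_.IsIntegral (X.presheaf.stalk x) (β : X.functionField) := hint.tower_top
  obtain ⟨β₀, hβ₀⟩ := IsIntegrallyClosed.isIntegral_iff.mp hint'
  haveI := hU.isLocalization_stalk ⟨x, hxU⟩
  obtain ⟨⟨a, s⟩, has⟩ := IsLocalization.surj (hU.primeIdealOf ⟨x, hxU⟩).asIdeal.primeCompl β₀
  refine ⟨s.1, a, ?_, ?_⟩
  · rw [Scheme.mem_basicOpen X s.1 x hxU]
    exact IsLocalization.map_units (M := (hU.primeIdealOf ⟨x, hxU⟩).asIdeal.primeCompl)
      (X.presheaf.stalk x) s
  · have h1 := congrArg (algebraMap (X.presheaf.stalk x) X.functionField) has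
    rw [map_mul, hβ₀, ← IsScalarTower.algebraMap_apply, ← IsScalarTower.algebraMap_apply] at h1
    rw [mul_comm]
    exact h1


/-- Birational `f : Y ⟶ X` of integral schemes, `x` a normal point of `X`, `U ∋ x` affine: every
section of `Y` over `f⁻¹ U` integral over `Γ(X, U)` has the form `a / s` with `s` invertible at `x`. -/
theorem exists_mul_eq_of_isIntegralElem [IsIntegral X] [IsIntegral Y] (f : Y ⟶ X)
    (hgen : f (genericPoint Y) = genericPoint X)
    (hbir : Function.Bijective (f.stalkMap (genericPoint Y)))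
    (x : X) (hx : IsIntegrallyClosed (X.presheaf.stalk x))
    {U : X.Opens} (hU : IsAffineOpen U) (hxU : x ∈ U)
    (b : Γ(Y, f ⁻¹ᵁ U)) (hb : (f.app U).hom.IsIntegralElem b) :
    ∃ s a : Γ(X, U), x ∈ X.basicOpen s ∧ f.app U s * b = f.app U a := by
  have hηU : f (genericPoint Y) ∈ U := by
    rw [hgen]
    exact ((genericPoint_spec X).mem_open_set_iff U.2).mpr ⟨x, trivial, hxU⟩
  have hgY := germ_injective_of_isIntegral Y (genericPoint Y) (U := f ⁻¹ᵁ U) hηU
  have hcomp : ∀ a : Γ(X, U),
      f.stalkMap (genericPoint Y) (X.presheaf.germ _ (f (genericPoint Y)) hηU a) =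
        Y.presheaf.germ (f ⁻¹ᵁ U) (genericPoint Y) hηU (f.app U a) :=
    fun a => f.germ_stalkMap_apply U (genericPoint Y) hηU a
  obtain ⟨p, hp, hpb⟩ := hb
  obtain ⟨β, hβ⟩ := hbir.2 (Y.presheaf.germ (f ⁻¹ᵁ U) (genericPoint Y) hηU b)
  have hβ' : Polynomial.eval₂ (X.presheaf.germ U (f (genericPoint Y)) hηU).hom β p = 0 := by
    apply hbir.1
    rw [map_zero]
    have e1 := Polynomial.hom_eval₂ p (X.presheaf.germ U (f (genericPoint Y)) hηU).hom
      (f.stalkMap (genericPoint Y)).hom β
    have e2 := Polynomial.hom_eval₂ p (f.app U).hom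
      (Y.presheaf.germ (f ⁻¹ᵁ U) (genericPoint Y) hηU).hom b
    have e3 : (f.stalkMap (genericPoint Y)).hom.comp
        (X.presheaf.germ U (f (genericPoint Y)) hηU).hom =
        (Y.presheaf.germ (f ⁻¹ᵁ U) (genericPoint Y) hηU).hom.comp (f.app U).hom :=
      RingHom.ext hcomp
    have e1' : f.stalkMap (genericPoint Y)
        (Polynomial.eval₂ (X.presheaf.germ U (f (genericPoint Y)) hηU).hom β p) = _ := e1
    rw [e1', e3]
    have hβ'' : (f.stalkMap (genericPoint Y)).hom β =
        (Y.presheaf.germ (f ⁻¹ᵁ U) (genericPoint Y) hηU).hom b := hβ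
    rw [hβ'', ← e2, hpb, map_zero]
  obtain ⟨s, a, hs, hsa⟩ := exists_mul_germ_eq x hx hU hxU _ hgen hηU β p hp hβ'
  refine ⟨s, a, hs, ?_⟩
  apply hgY
  rw [map_mul, ← hcomp, ← hcomp, ← hβ, ← map_mul, hsa]


/-- Sections of the relative normalization of `S` in `X` over the preimage of an affine `U ∋ s₀`,
when `f : X ⟶ S` is birational and `s₀` is a normal point, have the form `a / s`. -/
theorem exists_mul_eq_normalization {S : Scheme.{u}} [IsIntegral X] [IsIntegral S] (f : X ⟶ S)
    [QuasiCompact f] [QuasiSeparated f]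
    (hgen : f (genericPoint X) = genericPoint S)
    (hbir : Function.Bijective (f.stalkMap (genericPoint X)))
    (s₀ : S) (hs₀ : IsIntegrallyClosed (S.presheaf.stalk s₀))
    {U : S.Opens} (hU : IsAffineOpen U) (hsU : s₀ ∈ U)
    (c : Γ(f.normalization, f.fromNormalization ⁻¹ᵁ U)) :
    ∃ s a : Γ(S, U), s₀ ∈ S.basicOpen s ∧
      f.fromNormalization.app U s * c = f.fromNormalization.app U a := by
  letI := (f.app U).hom.toAlgebra
  let e := f.normalizationObjIso hU
  have hb : (f.app U).hom.IsIntegralElem ((e.hom c).1) := (e.hom c).2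
  obtain ⟨s, a, hs, hsa⟩ := exists_mul_eq_of_isIntegralElem f hgen hbir s₀ hs₀ hU hsU _ hb
  refine ⟨s, a, hs, ?_⟩
  have h1 : algebraMap Γ(S, U) (integralClosure Γ(S, U) Γ(X, f ⁻¹ᵁ U)) s * e.hom c =
      algebraMap Γ(S, U) (integralClosure Γ(S, U) Γ(X, f ⁻¹ᵁ U)) a := Subtype.ext hsa
  have h2 := congrArg e.inv h1
  rw [map_mul] at h2
  have h3 : e.inv (e.hom c) = c := by
    rw [← ConcreteCategory.comp_apply, e.hom_inv_id]; rfl
  rw [h3] at h2
  rw [f.fromNormalization_app hU]
  exact h2

/-- The fibre of the relative normalization over a normal point is at most a singleton, for a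
birational morphism of integral schemes. -/
theorem fromNormalization_injOn_fibre {S : Scheme.{u}} [IsIntegral X] [IsIntegral S] (f : X ⟶ S)
    [QuasiCompact f] [QuasiSeparated f]
    (hgen : f (genericPoint X) = genericPoint S)
    (hbir : Function.Bijective (f.stalkMap (genericPoint X)))
    (s₀ : S) (hs₀ : IsIntegrallyClosed (S.presheaf.stalk s₀))
    (z z' : f.normalization) (hz : f.fromNormalization z = s₀) (hz' : f.fromNormalization z' = s₀) :
    z = z' := by
  obtain ⟨_, ⟨U, hU, rfl⟩, hsU, -⟩ := S.isBasis_affineOpens.exists_subset_of_mem_open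
    (Set.mem_univ s₀) isOpen_univ
  have hU' : IsAffineOpen (f.fromNormalization ⁻¹ᵁ U) := hU.preimage f.fromNormalization
  have key : ∀ w w' : f.normalization, f.fromNormalization w = s₀ → f.fromNormalization w' = s₀ →
      ∀ O : f.normalization.Opens, w ∈ O → w' ∈ O := by
    intro w w' hw hw' O hwO
    have hwU : w ∈ f.fromNormalization ⁻¹ᵁ U := by
      change f.fromNormalization w ∈ U; rw [hw]; exact hsU
    obtain ⟨c, hcO, hwc⟩ := hU'.exists_basicOpen_le ⟨w, hwO⟩ hwU
    obtain ⟨s, a, hs, hsa⟩ := exists_mul_eq_normalization f hgen hbir s₀ hs₀ hU hsU c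
    apply hcO
    have h1 : ∀ v : f.normalization, f.fromNormalization v = s₀ →
        (v ∈ f.normalization.basicOpen c ↔ s₀ ∈ S.basicOpen a) := by
      intro v hv
      have hvs : v ∈ f.normalization.basicOpen (f.fromNormalization.app U s) := by
        rw [← Scheme.preimage_basicOpen]
        change f.fromNormalization v ∈ S.basicOpen s
        rw [hv]; exact hs
      have : (v ∈ f.normalization.basicOpen (f.fromNormalization.app U a)) ↔
          s₀ ∈ S.basicOpen a := by
        rw [← Scheme.preimage_basicOpen]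
        change f.fromNormalization v ∈ S.basicOpen a ↔ s₀ ∈ S.basicOpen a
        rw [hv]
      rw [← this, ← hsa, Scheme.basicOpen_mul]
      exact ⟨fun h => ⟨hvs, h⟩, fun h => h.2⟩
    exact (h1 w' hw').mpr ((h1 w hw).mp hwc)
  have hins : Inseparable z z' := by
    rw [inseparable_iff_forall_isOpen]
    intro O hO
    exact ⟨key z z' hz hz' ⟨O, hO⟩, key z' z hz' hz ⟨O, hO⟩⟩
  exact hins.eq

end Groth.Agent.H73.NormalPoint
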