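import Groth.Agent.H73.IntClosureChart
import Groth.Agent.H73.AnClosed
import Mathlib.AlgebraicGeometry.Normalization

/-!
# Affine charts of the normalization of a scheme in the spectrum of a field
-/

set_option autoImplicit false
universe u
open CategoryTheory CategoryTheory.Limits AlgebraicGeometry TopologicalSpace

namespace Groth.Agent.H73.Normz

open Groth.Agent.H73.AnClosed

variable {X : Scheme.{u}} {K : Type u} [Field K] (g : Spec (CommRingCat.of K) ⟶ X)

/-- The preimage of an open containing the image of the point is everything. -/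
lemma preimage_eq_top {U : X.Opens} (hη : g.base (IsLocalRing.closedPoint K) ∈ U) :
    g ⁻¹ᵁ U = ⊤ :=
  preimage_eq_top_of_closedPoint_mem (R := K) g U hη

/-- Sections of `Spec K` over the preimage of `U` are `K`. -/
noncomputable def secIso {U : X.Opens} (hη : g.base (IsLocalRing.closedPoint K) ∈ U) :
    CommRingCat.of K ≅ Γ(Spec (CommRingCat.of K), g ⁻¹ᵁ U) :=
  (Scheme.ΓSpecIso (CommRingCat.of K)).symm ≪≫
    (Spec (CommRingCat.of K)).presheaf.mapIso (eqToIso (preimage_eq_top g hη)).op

variable [QuasiCompact g] [QuasiSeparated g]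

/-- The structure map of the chart. -/
noncomputable def chartρ {U : X.Opens} (hη : g.base (IsLocalRing.closedPoint K) ∈ U) :
    Γ(X, U) →+* K := (g.app U ≫ (secIso g hη).inv).hom

lemma chart_le (U : X.Opens) :
    g ⁻¹ᵁ U ≤ g.toNormalization ⁻¹ᵁ (g.fromNormalization ⁻¹ᵁ U) := by
  rw [← Scheme.Hom.comp_preimage, Scheme.Hom.toNormalization_fromNormalization]

/-- The embedding of the chart into the field. -/
noncomputable def chartι {U : X.Opens} (hη : g.base (IsLocalRing.closedPoint K) ∈ U) :
    Γ(g.normalization, g.fromNormalization ⁻¹ᵁ U) →+* K :=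
  (g.toNormalization.appLE (g.fromNormalization ⁻¹ᵁ U) (g ⁻¹ᵁ U) (chart_le g U) ≫
    (secIso g hη).inv).hom

lemma chartι_comp {U : X.Opens} (hη : g.base (IsLocalRing.closedPoint K) ∈ U) :
    (chartι g hη).comp (g.fromNormalization.app U).hom = chartρ g hη := by
  have : g.fromNormalization.app U ≫
      g.toNormalization.appLE (g.fromNormalization ⁻¹ᵁ U) (g ⁻¹ᵁ U) (chart_le g U) = g.app U := by
    rw [Scheme.Hom.app_eq_appLE, Scheme.Hom.appLE_comp_appLE, Scheme.Hom.app_eq_appLE]
    congr 1
    exact Scheme.Hom.toNormalization_fromNormalization g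
  unfold chartι chartρ
  rw [← this]
  rfl

lemma toNormalization_appLE_eq {U : X.Opens} (hU : IsAffineOpen U) :
    letI := (g.app U).hom.toAlgebra
    g.toNormalization.appLE (g.fromNormalization ⁻¹ᵁ U) (g ⁻¹ᵁ U) (chart_le g U) =
      (g.normalizationObjIso hU).hom ≫ CommRingCat.ofHom (Subalgebra.val _).toRingHom :=
  (g.normalizationObjIso_hom_val hU).symm

lemma chartι_injective {U : X.Opens} (hU : IsAffineOpen U)
    (hη : g.base (IsLocalRing.closedPoint K) ∈ U) : Function.Injective (chartι g hη) := by
  letI := (g.app U).hom.toAlgebra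
  unfold chartι
  rw [toNormalization_appLE_eq g hU]
  intro c₁ c₂ h
  have h1 : Function.Injective (secIso g hη).inv.hom :=
    (ConcreteCategory.bijective_of_isIso (secIso g hη).inv).1
  have h2 : Function.Injective (g.normalizationObjIso hU).hom.hom :=
    (ConcreteCategory.bijective_of_isIso (g.normalizationObjIso hU).hom).1
  apply h2
  apply Subtype.val_injective
  apply h1
  exact h

lemma secIso_hom_comp_chartρ {U : X.Opens} (hη : g.base (IsLocalRing.closedPoint K) ∈ U) :
    (secIso g hη).hom.hom.comp (chartρ g hη) = (g.app U).hom := by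
  unfold chartρ
  ext r
  change (secIso g hη).hom.hom ((secIso g hη).inv.hom ((g.app U).hom r)) = _
  rw [← CommRingCat.comp_apply, Iso.inv_hom_id]
  rfl

lemma chartι_range {U : X.Opens} (hU : IsAffineOpen U)
    (hη : g.base (IsLocalRing.closedPoint K) ∈ U) (y : K) :
    (∃ c, chartι g hη c = y) ↔ (chartρ g hη).IsIntegralElem y := by
  letI := (g.app U).hom.toAlgebra
  have hinv : ∀ a, (secIso g hη).hom.hom ((secIso g hη).inv.hom a) = a := fun a => by
    rw [← CommRingCat.comp_apply, Iso.inv_hom_id]; rfl
  have hinv' : ∀ a, (secIso g hη).inv.hom ((secIso g hη).hom.hom a) = a := fun a => by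
    rw [← CommRingCat.comp_apply, Iso.hom_inv_id]; rfl
  have hι : ∀ c, chartι g hη c =
      (secIso g hη).inv.hom (((g.normalizationObjIso hU).hom.hom c :
        integralClosure Γ(X, U) Γ(Spec (CommRingCat.of K), g ⁻¹ᵁ U)) :
          Γ(Spec (CommRingCat.of K), g ⁻¹ᵁ U)) := by
    intro c
    unfold chartι
    rw [toNormalization_appLE_eq g hU]
    rfl
  constructor
  · rintro ⟨c, rfl⟩
    rw [hι]
    obtain ⟨p, hp, hpe⟩ := ((g.normalizationObjIso hU).hom.hom c).2
    refine ⟨p, hp, ?_⟩
    have h1 : (secIso g hη).inv.hom.comp (g.app U).hom = chartρ g hη := rfl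
    rw [← h1, ← Polynomial.hom_eval₂]
    have : Polynomial.eval₂ (g.app U).hom
        (((g.normalizationObjIso hU).hom.hom c :
          integralClosure Γ(X, U) Γ(Spec (CommRingCat.of K), g ⁻¹ᵁ U)) :
            Γ(Spec (CommRingCat.of K), g ⁻¹ᵁ U)) p = 0 := hpe
    rw [this, map_zero]
  · rintro ⟨p, hp, hpe⟩
    have hint : IsIntegral Γ(X, U) ((secIso g hη).hom.hom y) := by
      refine ⟨p, hp, ?_⟩
      change Polynomial.eval₂ (g.app U).hom ((secIso g hη).hom.hom y) p = 0
      rw [← secIso_hom_comp_chartρ g hη, ← Polynomial.hom_eval₂, hpe, map_zero]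
    let b : integralClosure Γ(X, U) Γ(Spec (CommRingCat.of K), g ⁻¹ᵁ U) :=
      ⟨(secIso g hη).hom.hom y, hint⟩
    refine ⟨(g.normalizationObjIso hU).inv.hom b, ?_⟩
    rw [hι]
    have : (g.normalizationObjIso hU).hom.hom ((g.normalizationObjIso hU).inv.hom b) = b := by
      rw [← CommRingCat.comp_apply, Iso.inv_hom_id]; rfl
    rw [this]
    exact hinv' y

/-- The chart of the normalization over an affine open `U` containing the image of the point
is the integral closure of `Γ(X, U)` in `K`. -/
theorem chart_isIntegralClosure {U : X.Opens} (hU : IsAffineOpen U)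
    (hη : g.base (IsLocalRing.closedPoint K) ∈ U) :
    letI := (g.fromNormalization.app U).hom.toAlgebra
    letI := (chartρ g hη).toAlgebra
    letI := (chartι g hη).toAlgebra
    IsScalarTower Γ(X, U) Γ(g.normalization, g.fromNormalization ⁻¹ᵁ U) K ∧
      IsIntegralClosure Γ(g.normalization, g.fromNormalization ⁻¹ᵁ U) Γ(X, U) K := by
  letI := (g.fromNormalization.app U).hom.toAlgebra
  letI := (chartρ g hη).toAlgebra
  letI := (chartι g hη).toAlgebra
  refine ⟨IsScalarTower.of_algebraMap_eq' (chartι_comp g hη).symm, ⟨chartι_injective g hU hη, ?_⟩⟩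
  intro y
  exact (chartι_range g hU hη y).symm

end Groth.Agent.H73.Normz
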