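import Groth.Agent.H73.NormzBasic

/-!
# The function field of the normalization in a field extension
-/

set_option autoImplicit false
universe u
open CategoryTheory CategoryTheory.Limits AlgebraicGeometry TopologicalSpace

namespace Groth.Agent.H73.Normz

/-- Algebraic core: the fraction field of the integral closure of `R` in `K` is the algebraic
closure of `Frac R` in `K`. -/
theorem range_eq_integral {R C F K 𝒪 : Type*} [CommRing R] [IsDomain R] [CommRing C] [Field F]
    [Field K] [Field 𝒪] [Algebra R F] [IsFractionRing R F] [Algebra F K] [Algebra R K]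
    [IsScalarTower R F K]
    (ι : C →+* K) (hι : ∀ y, (∃ c, ι c = y) ↔ IsIntegral R y)
    (germ : C →+* 𝒪) (σ : 𝒪 →+* K) (hσ : σ.comp germ = ι)
    (hloc : ∀ t : 𝒪, ∃ c s : C, germ s ≠ 0 ∧ t * germ s = germ c) :
    Set.range σ = {y | IsIntegral F y} := by
  have hσι : ∀ c, σ (germ c) = ι c := fun c => RingHom.congr_fun hσ c
  ext y
  constructor
  · rintro ⟨t, rfl⟩
    obtain ⟨c, s, hs, hts⟩ := hloc t
    have h1 : σ t * ι s = ι c := by rw [← hσι, ← hσι, ← map_mul, hts]
    have hs' : ι s ≠ 0 := by
      rw [← hσι]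
      exact (map_ne_zero σ).mpr hs
    have hc : IsIntegral F (ι c) := ((hι _).mp ⟨c, rfl⟩).tower_top
    have hsI : IsIntegral F (ι s) := ((hι _).mp ⟨s, rfl⟩).tower_top
    have : σ t = ι c * (ι s)⁻¹ := by
      rw [← h1, mul_assoc, mul_inv_cancel₀ hs', mul_one]
    change IsIntegral F (σ t)
    rw [this]
    exact hc.mul hsI.inv
  · intro hy
    have hy : IsIntegral F y := hy
    have halg : IsAlgebraic R y :=
      (IsFractionRing.isAlgebraic_iff R F K).mpr hy.isAlgebraic
    obtain ⟨r, hr0, hry⟩ := halg.exists_integral_multiple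
    obtain ⟨c, hc⟩ := (hι _).mpr hry
    obtain ⟨d, hd⟩ := (hι _).mpr (isIntegral_algebraMap (R := R) (A := K) (x := r))
    have hinj : Function.Injective (algebraMap R K) := by
      rw [IsScalarTower.algebraMap_eq R F K]
      exact (algebraMap F K).injective.comp (IsFractionRing.injective R F)
    have hd0 : ι d ≠ 0 := by
      rw [hd]
      exact (map_ne_zero_iff _ hinj).mpr hr0
    have hgd : germ d ≠ 0 := by
      intro h
      apply hd0
      rw [← hσι, h, map_zero]
    refine ⟨germ c * (germ d)⁻¹, ?_⟩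
    rw [map_mul, map_inv₀, hσι, hσι, hc, hd, Algebra.smul_def, mul_comm, ← mul_assoc,
      inv_mul_cancel₀ (by rw [← hd]; exact hd0), one_mul]

end Groth.Agent.H73.Normz
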