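import Groth.Agent.H73.NormzIso
import Groth.Prelude.Def_Found

/-!
# Finiteness of the normalization from finiteness of integral closures on charts
-/

set_option autoImplicit false
universe u
open CategoryTheory CategoryTheory.Limits AlgebraicGeometry TopologicalSpace

namespace Groth.Agent.H73.Normz

variable {X : Scheme.{u}} [IsIntegral X]

/-- Finiteness of a chart of the normalization in a field `K` from finiteness of the integral
closure. Here `K` is an algebra over the function field via `φ`. -/
theorem finite_app_of_finite_integralClosure {K : Type u} [Field K]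
    (φ : X.functionField →+* K)
    [QuasiCompact (Spec.map (CommRingCat.ofHom φ) ≫ X.fromSpecStalk (genericPoint X))]
    [QuasiSeparated (Spec.map (CommRingCat.ofHom φ) ≫ X.fromSpecStalk (genericPoint X))]
    {U : X.Opens} (hU : IsAffineOpen U) [Nonempty U]
    (hfin : letI := (φ.comp (X.germToFunctionField U).hom).toAlgebra
      Module.Finite Γ(X, U) (integralClosure Γ(X, U) K)) :
    ((Spec.map (CommRingCat.ofHom φ) ≫
      X.fromSpecStalk (genericPoint X)).fromNormalization.app U).hom.Finite := by
  set g := Spec.map (CommRingCat.ofHom φ) ≫ X.fromSpecStalk (genericPoint X) with hgdef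
  have hgη : g.base (IsLocalRing.closedPoint K) = genericPoint X := specGen_closedPoint φ
  obtain ⟨⟨u, hu⟩⟩ := ‹Nonempty U›
  have hηU : genericPoint X ∈ U :=
    ((genericPoint_spec X).mem_open_set_iff U.2).mpr ⟨u, trivial, hu⟩
  have hη : g.base (IsLocalRing.closedPoint K) ∈ U := hgη ▸ hηU
  have hρ : chartρ g hη = φ.comp (X.germToFunctionField U).hom := chartρ_spec φ hη
  have hfin' : letI := (chartρ g hη).toAlgebra
      Module.Finite Γ(X, U) (integralClosure Γ(X, U) K) := by
    rw [hρ]
    exact hfin
  letI algAB := (g.fromNormalization.app U).hom.toAlgebra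
  letI algAK := (chartρ g hη).toAlgebra
  letI algBK := (chartι g hη).toAlgebra
  obtain ⟨htower, hicl⟩ := chart_isIntegralClosure g hU hη
  let e := IsIntegralClosure.equiv Γ(X, U) (integralClosure Γ(X, U) K) K
    Γ(g.normalization, g.fromNormalization ⁻¹ᵁ U)
  exact Module.Finite.equiv e.toLinearEquiv

/-- Finiteness of the normalization in a field from finiteness of the integral closures over
nonempty affine opens. -/
theorem isFinite_fromNormalization_of_forall {K : Type u} [Field K]
    (φ : X.functionField →+* K) (g : Spec (CommRingCat.of K) ⟶ X)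
    (hg : g = Spec.map (CommRingCat.ofHom φ) ≫ X.fromSpecStalk (genericPoint X))
    [QuasiCompact g] [QuasiSeparated g]
    (h : ∀ (U : X.Opens), IsAffineOpen U → ∀ _ : Nonempty U,
      letI := (φ.comp (X.germToFunctionField U).hom).toAlgebra
      Module.Finite Γ(X, U) (integralClosure Γ(X, U) K)) :
    IsFinite g.fromNormalization := by
  subst hg
  refine { toIsAffineHom := inferInstance, finite_app := fun U hU => ?_ }
  by_cases hne : Nonempty U
  · exact finite_app_of_finite_integralClosure φ hU (h U hU hne)
  · have hU0 : U = ⊥ := by
      ext x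
      simp only [TopologicalSpace.Opens.coe_bot, Set.mem_empty_iff_false, iff_false]
      exact fun hx => hne ⟨⟨x, hx⟩⟩
    have : Subsingleton Γ((Spec.map (CommRingCat.ofHom φ) ≫
        X.fromSpecStalk (genericPoint X)).normalization,
        (Spec.map (CommRingCat.ofHom φ) ≫
        X.fromSpecStalk (genericPoint X)).fromNormalization ⁻¹ᵁ U) := by
      rw [hU0]
      exact inferInstanceAs (Subsingleton Γ((Spec.map (CommRingCat.ofHom φ) ≫
        X.fromSpecStalk (genericPoint X)).normalization, ⊥))
    letI := ((Spec.map (CommRingCat.ofHom φ) ≫
        X.fromSpecStalk (genericPoint X)).fromNormalization.app U).hom.toAlgebra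
    exact Module.Finite.of_finite

/-- The function-field version. -/
theorem isFinite_fromNormalization_gen_of_forall [QuasiCompact (gen X)] [QuasiSeparated (gen X)]
    (h : ∀ (U : X.Opens), IsAffineOpen U → ∀ _ : Nonempty U,
      Module.Finite Γ(X, U) (integralClosure Γ(X, U) X.functionField)) :
    IsFinite (gen X).fromNormalization := by
  refine isFinite_fromNormalization_of_forall (RingHom.id (X.functionField : Type u)) (gen X) ?_ ?_
  · rw [show CommRingCat.ofHom (RingHom.id (X.functionField : Type u)) = 𝟙 _ from rfl,
      Spec.map_id, Category.id_comp]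
  · intro U hU hne
    exact h U hU hne

attribute [local instance] FractionRing.liftAlgebra in
/-- `N-2` applied to an arbitrary fraction field. -/
theorem finite_integralClosure_of_isN2 (R : Type u) [CommRing R] [IsDomain R] (hR : CAlg.IsN2 R)
    (L : Type u) [Field L] [Algebra R L] [IsFractionRing R L] :
    Module.Finite R (integralClosure R L) := by
  have hF : FaithfulSMul R L :=
    (faithfulSMul_iff_algebraMap_injective _ _).mpr (IsFractionRing.injective R L)
  refine hR L ?_
  have hsurj : Function.Surjective (algebraMap (FractionRing R) L) := by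
    intro y
    obtain ⟨a, b, hb, rfl⟩ := IsFractionRing.div_surjective R y
    refine ⟨algebraMap R (FractionRing R) a / algebraMap R (FractionRing R) b, ?_⟩
    rw [map_div₀, ← IsScalarTower.algebraMap_apply, ← IsScalarTower.algebraMap_apply]
  exact Module.Finite.of_surjective (Algebra.linearMap (FractionRing R) L) hsurj

end Groth.Agent.H73.Normz
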