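import Mathlib

/-!
# The projective line `Proj k[X₀, X₁]`: charts
-/

set_option autoImplicit false
universe u

namespace Groth.Agent.H73.ProjLine

open MvPolynomial HomogeneousLocalization AlgebraicGeometry CategoryTheory

attribute [local instance] MvPolynomial.gradedAlgebra

variable (k : Type u) [Field k]

/-- The standard grading on `k[X₀, X₁]`. -/
abbrev gr : ℕ → Submodule k (MvPolynomial (Fin 2) k) := homogeneousSubmodule (Fin 2) k

lemma X_mem (i : Fin 2) : (X i : MvPolynomial (Fin 2) k) ∈ gr k 1 := isHomogeneous_X k i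

instance : IsScalarTower k (gr k 0) (MvPolynomial (Fin 2) k) :=
  IsScalarTower.of_algebraMap_eq (R := k) (S := gr k 0) (A := MvPolynomial (Fin 2) k) fun _ => rfl

instance : Algebra.FiniteType (gr k 0) (MvPolynomial (Fin 2) k) :=
  Algebra.FiniteType.of_restrictScalars_finiteType k (gr k 0) (MvPolynomial (Fin 2) k)

/-- The degree-zero part consists of the constants. -/
lemma algebraMap_zero_surjective : Function.Surjective (algebraMap k (gr k 0)) := by
  rintro ⟨z, hz⟩
  have hz' : z.IsHomogeneous 0 := hz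
  refine ⟨z.coeff 0, Subtype.ext ?_⟩
  change C (z.coeff 0) = z
  exact (totalDegree_eq_zero_iff_eq_C.mp
    (Nat.le_zero.mp (hz'.totalDegree_le))).symm

/-- The chart ring `k[X₀, X₁]_(X_i)`. -/
abbrev Ch (i : Fin 2) := Away (gr k) (X i : MvPolynomial (Fin 2) k)

/-- The constants in the chart ring. -/
noncomputable def cst (i : Fin 2) : k →+* Ch k i :=
  (algebraMap (gr k 0) (Ch k i)).comp (algebraMap k (gr k 0))

/-- The coordinate `X_j / X_i`. -/
noncomputable def tt (i j : Fin 2) : Ch k i :=
  Away.mk (gr k) (X_mem k i) 1 (X j) (by simpa using X_mem k j)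

/-- `k[T] → k[X₀, X₁]_(X_i)`, `T ↦ X_j / X_i`. -/
noncomputable def rho (i j : Fin 2) : Polynomial k →+* Ch k i :=
  Polynomial.eval₂RingHom (cst k i) (tt k i j)

/-- Dehomogenisation `X_i ↦ 1`, `X_j ↦ T`. -/
noncomputable def evA (i : Fin 2) : MvPolynomial (Fin 2) k →+* Polynomial k :=
  MvPolynomial.eval₂Hom Polynomial.C (fun l => if l = i then 1 else Polynomial.X)

lemma evA_X_self (i : Fin 2) : evA k i (X i) = 1 := by
  simp [evA]

lemma evA_X_ne (i j : Fin 2) (h : j ≠ i) : evA k i (X j) = Polynomial.X := by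
  simp [evA, h]

lemma evA_C (i : Fin 2) (c : k) : evA k i (C c) = Polynomial.C c := by
  simp [evA]

/-- Dehomogenisation on the localization. -/
noncomputable def evLoc (i : Fin 2) :
    Localization.Away (X i : MvPolynomial (Fin 2) k) →+* Polynomial k :=
  IsLocalization.Away.lift (X i) (g := evA k i) (by rw [evA_X_self]; exact isUnit_one)

lemma evLoc_mk (i : Fin 2) (x : MvPolynomial (Fin 2) k) (n : ℕ) :
    evLoc k i (Localization.mk x ⟨X i ^ n, n, rfl⟩) = evA k i x := by
  have h1 : Localization.mk x (⟨X i ^ n, n, rfl⟩ : Submonoid.powers (X i : MvPolynomial (Fin 2) k)) *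
      algebraMap (MvPolynomial (Fin 2) k) (Localization.Away (X i : MvPolynomial (Fin 2) k))
        (X i ^ n) = algebraMap (MvPolynomial (Fin 2) k)
        (Localization.Away (X i : MvPolynomial (Fin 2) k)) x := by
    rw [Localization.mk_eq_mk']
    exact IsLocalization.mk'_spec _ x
      (⟨X i ^ n, n, rfl⟩ : Submonoid.powers (X i : MvPolynomial (Fin 2) k))
  have h2 := congrArg (evLoc k i) h1
  rw [map_mul] at h2
  unfold evLoc at h2 ⊢
  rw [IsLocalization.Away.lift_eq, IsLocalization.Away.lift_eq, map_pow, evA_X_self, one_pow,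
    mul_one] at h2
  exact h2

/-- Dehomogenisation on the chart ring. -/
noncomputable def ev (i : Fin 2) : Ch k i →+* Polynomial k :=
  (evLoc k i).comp (algebraMap (Ch k i) (Localization.Away (X i : MvPolynomial (Fin 2) k)))

lemma ev_mk (i : Fin 2) (n : ℕ) (x : MvPolynomial (Fin 2) k) (hx : x ∈ gr k (n • 1)) :
    ev k i (Away.mk (gr k) (X_mem k i) n x hx) = evA k i x := by
  change evLoc k i (Away.mk (gr k) (X_mem k i) n x hx).val = _
  rw [Away.val_mk]
  exact evLoc_mk k i x n

lemma ev_cst (i : Fin 2) (c : k) : ev k i (cst k i c) = Polynomial.C c := by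
  change evLoc k i (Localization.mk (C c) 1) = _
  have := evLoc_mk k i (C c) 0
  simp only [pow_zero] at this
  rw [← evA_C k i c, ← this]
  rfl

lemma ev_tt (i j : Fin 2) (h : j ≠ i) : ev k i (tt k i j) = Polynomial.X := by
  unfold tt
  rw [ev_mk, evA_X_ne k i j h]

lemma ev_comp_rho (i j : Fin 2) (h : j ≠ i) : (ev k i).comp (rho k i j) = RingHom.id _ := by
  refine Polynomial.ringHom_ext (fun a => ?_) ?_
  · simp [rho, ev_cst]
  · simp [rho, ev_tt k i j h]

lemma rho_injective (i j : Fin 2) (h : j ≠ i) : Function.Injective (rho k i j) := by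
  intro a b hab
  have := congrArg (ev k i) hab
  rw [← RingHom.comp_apply, ← RingHom.comp_apply, ev_comp_rho k i j h] at this
  exact this

lemma adjoin_X :
    Algebra.adjoin (gr k 0) (Set.range (X : Fin 2 → MvPolynomial (Fin 2) k)) = ⊤ := by
  rw [_root_.eq_top_iff]
  intro a ha
  clear ha
  have h : a ∈ Algebra.adjoin k (Set.range (X : Fin 2 → MvPolynomial (Fin 2) k)) := by
    rw [MvPolynomial.adjoin_range_X]; trivial
  induction h using Algebra.adjoin_induction with
  | mem x hx => exact Algebra.subset_adjoin hx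
  | algebraMap r => exact Subalgebra.algebraMap_mem _ (algebraMap k (gr k 0) r)
  | add x y _ _ hx hy => exact add_mem hx hy
  | mul x y _ _ hx hy => exact mul_mem hx hy

lemma mk_prod_eq (i j : Fin 2) (h : j ≠ i) (a : ℕ) (ai : Fin 2 → ℕ)
    (hai : ∑ l, ai l • (1 : ℕ) = a • 1)
    (hmem : (∏ l, (X l : MvPolynomial (Fin 2) k) ^ ai l) ∈ gr k (a • 1)) :
    Away.mk (gr k) (X_mem k i) a (∏ l, (X l : MvPolynomial (Fin 2) k) ^ ai l) hmem =
      tt k i j ^ ai j := by
  rw [HomogeneousLocalization.ext_iff_val, Away.val_mk, val_pow]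
  unfold tt
  rw [Away.val_mk, Localization.mk_pow, Localization.mk_eq_mk_iff, Localization.r_iff_exists]
  refine ⟨1, ?_⟩
  simp only [Fin.sum_univ_two, smul_eq_mul, mul_one] at hai
  simp only [Fin.prod_univ_two, OneMemClass.coe_one, one_mul, SubmonoidClass.coe_pow, pow_one]
  subst hai
  fin_cases i <;> fin_cases j
  · exact absurd rfl h
  · simp only [Fin.zero_eta, Fin.mk_one]; ring
  · simp only [Fin.zero_eta, Fin.mk_one]; ring
  · exact absurd rfl h

lemma rho_surjective (i j : Fin 2) (h : j ≠ i) : Function.Surjective (rho k i j) := by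
  have key := Away.adjoin_mk_prod_pow_eq_top (X_mem k i) (Fin 2)
    (X : Fin 2 → MvPolynomial (Fin 2) k) (adjoin_X k) (fun _ => 1) (X_mem k)
  intro z
  have hz : z ∈ (⊤ : Subalgebra (gr k 0) (Ch k i)) := trivial
  rw [← key] at hz
  induction hz using Algebra.adjoin_induction with
  | mem x hx =>
    obtain ⟨a, ai, hai, -, rfl⟩ := hx
    refine ⟨Polynomial.X ^ ai j, ?_⟩
    rw [mk_prod_eq k i j h a ai hai]
    simp [rho]
  | algebraMap r =>
    obtain ⟨c, rfl⟩ := algebraMap_zero_surjective k r
    exact ⟨Polynomial.C c, by simp [rho, cst]⟩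
  | add x y _ _ hx hy =>
    obtain ⟨a, rfl⟩ := hx
    obtain ⟨b, rfl⟩ := hy
    exact ⟨a + b, map_add _ _ _⟩
  | mul x y _ _ hx hy =>
    obtain ⟨a, rfl⟩ := hx
    obtain ⟨b, rfl⟩ := hy
    exact ⟨a * b, map_mul _ _ _⟩

/-- The chart ring is a polynomial ring in one variable. -/
noncomputable def chartEquiv (i j : Fin 2) (h : j ≠ i) : Polynomial k ≃+* Ch k i :=
  RingEquiv.ofBijective (rho k i j) ⟨rho_injective k i j h, rho_surjective k i j h⟩

/-- The other index. -/
def other (i : Fin 2) : Fin 2 := if i = 0 then 1 else 0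

lemma other_ne (i : Fin 2) : other i ≠ i := by
  fin_cases i <;> simp [other]

instance (i : Fin 2) : IsDomain (Ch k i) :=
  MulEquiv.isDomain (Polynomial k) (chartEquiv k i (other i) (other_ne i)).symm.toMulEquiv

instance (i : Fin 2) : IsPrincipalIdealRing (Ch k i) :=
  IsPrincipalIdealRing.of_surjective (chartEquiv k i (other i) (other_ne i)).toRingHom
    (chartEquiv k i (other i) (other_ne i)).surjective

lemma not_isField (i : Fin 2) : ¬ IsField (Ch k i) := fun h =>
  Polynomial.not_isField k
    (MulEquiv.isField h (chartEquiv k i (other i) (other_ne i)).toMulEquiv)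

section Geometry

/-- The projective line over `k`. -/
noncomputable abbrev P1 : Scheme.{u} := Proj (gr k)

/-- The two standard charts. -/
noncomputable def chart (i : Fin 2) : Spec (CommRingCat.of (Ch k i)) ⟶ P1 k :=
  Proj.awayι (gr k) (X i) (X_mem k i) Nat.one_pos

instance (i : Fin 2) : IsOpenImmersion (chart k i) := by
  unfold chart; infer_instance

lemma iSup_opensRange_chart : ⨆ i, (chart k i).opensRange = ⊤ := by
  simp_rw [chart, Proj.opensRange_awayι]
  exact Proj.iSup_basicOpen_eq_top' (gr k) X (fun i => ⟨1, X_mem k i⟩) (adjoin_X k)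

lemma exists_chart (x : P1 k) : ∃ i, x ∈ Set.range (chart k i).base := by
  have hx : x ∈ (⨆ i, (chart k i).opensRange : (P1 k).Opens) := by
    rw [iSup_opensRange_chart]; trivial
  obtain ⟨i, hi⟩ := TopologicalSpace.Opens.mem_iSup.mp hx
  exact ⟨i, hi⟩

/-- The structure morphism. -/
noncomputable def toSpec : P1 k ⟶ Spec (CommRingCat.of k) :=
  Proj.toSpecZero (gr k) ≫ Spec.map (CommRingCat.ofHom (algebraMap k (gr k 0)))

lemma chart_toSpec (i : Fin 2) :
    chart k i ≫ toSpec k = Spec.map (CommRingCat.ofHom (cst k i)) := by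
  unfold chart toSpec
  rw [Proj.awayι_toSpecZero_assoc, ← Spec.map_comp]
  rfl

instance : IsProper (toSpec k) := by
  have h1 : IsClosedImmersion (Spec.map (CommRingCat.ofHom (algebraMap k (gr k 0)))) :=
    IsClosedImmersion.spec_of_surjective _ (algebraMap_zero_surjective k)
  unfold toSpec
  infer_instance

/-- A space covered by two irreducible open subsets with nonempty intersection is irreducible. -/
lemma irreducibleSpace_of_two {T : Type*} [TopologicalSpace T] (U V : Set T)
    (hV : IsOpen V) (hU : IsOpen U) (hUi : IsIrreducible U) (hVi : IsIrreducible V)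
    (hUV : (U ∩ V).Nonempty) (hcov : U ∪ V = Set.univ) : IrreducibleSpace T := by
  have key : ∀ w : Set T, IsOpen w → w.Nonempty → (U ∩ w).Nonempty ∧ (V ∩ w).Nonempty := by
    intro w hw ⟨x, hxw⟩
    have hx : x ∈ U ∪ V := hcov ▸ Set.mem_univ x
    rcases hx with hxU | hxV
    · have h1 : (U ∩ (w ∩ V)).Nonempty := hUi.2 w V hw hV ⟨x, hxU, hxw⟩ hUV
      obtain ⟨y, hyU, hyw, hyV⟩ := h1
      exact ⟨⟨x, hxU, hxw⟩, ⟨y, hyV, hyw⟩⟩
    · have h1 : (V ∩ (w ∩ U)).Nonempty :=
        hVi.2 w U hw hU ⟨x, hxV, hxw⟩ (by rwa [Set.inter_comm])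
      obtain ⟨y, hyV, hyw, hyU⟩ := h1
      exact ⟨⟨y, hyU, hyw⟩, ⟨x, hxV, hxw⟩⟩
  obtain ⟨x0, hx0, -⟩ := hUV
  refine { toPreirreducibleSpace := ⟨?_⟩, toNonempty := ⟨x0⟩ }
  intro u v hu hv ⟨a, _, ha⟩ ⟨b, _, hb⟩
  obtain ⟨h1, -⟩ := key u hu ⟨a, ha⟩
  obtain ⟨h2, -⟩ := key v hv ⟨b, hb⟩
  obtain ⟨z, hzU, hzuv⟩ := hUi.2 u v hu hv h1 h2
  exact ⟨z, Set.mem_univ z, hzuv⟩

lemma isIrreducible_range_chart (i : Fin 2) : IsIrreducible (Set.range (chart k i).base) := by
  rw [← Set.image_univ]
  exact (IrreducibleSpace.isIrreducible_univ _).image _ (chart k i).continuous.continuousOn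

lemma range_chart_inter_nonempty :
    (Set.range (chart k 0).base ∩ Set.range (chart k 1).base).Nonempty := by
  have h0 : ((chart k 0).opensRange ⊓ (chart k 1).opensRange : (P1 k).Opens) =
      Proj.basicOpen (gr k) (X 0 * X 1) := by
    simp_rw [chart, Proj.opensRange_awayι]
    exact (Proj.basicOpen_mul (gr k) _ _).symm
  have hmem : (X 0 * X 1 : MvPolynomial (Fin 2) k) ∈ gr k 2 :=
    (isHomogeneous_X k 0).mul (isHomogeneous_X k 1)
  let ι := Proj.awayι (gr k) (X 0 * X 1 : MvPolynomial (Fin 2) k) hmem (by norm_num)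
  have hne : Nontrivial (Away (gr k) (X 0 * X 1 : MvPolynomial (Fin 2) k)) := by
    refine ⟨0, 1, fun h => ?_⟩
    have h1 := congrArg HomogeneousLocalization.val h
    rw [val_zero, val_one] at h1
    have hle : Submonoid.powers (X 0 * X 1 : MvPolynomial (Fin 2) k) ≤
        nonZeroDivisors (MvPolynomial (Fin 2) k) :=
      Submonoid.powers_le.mpr (mem_nonZeroDivisors_of_ne_zero
        (mul_ne_zero (X_ne_zero 0) (X_ne_zero 1)))
    have : Nontrivial (Localization (Submonoid.powers (X 0 * X 1 : MvPolynomial (Fin 2) k))) :=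
      (IsLocalization.injective (Localization (Submonoid.powers
        (X 0 * X 1 : MvPolynomial (Fin 2) k))) hle).nontrivial
    exact zero_ne_one h1
  obtain ⟨y⟩ : Nonempty (Spec (CommRingCat.of (Away (gr k) (X 0 * X 1 : MvPolynomial (Fin 2) k)))) :=
    inferInstance
  have hy : ι.base y ∈ (Proj.basicOpen (gr k) (X 0 * X 1) : (P1 k).Opens) := by
    rw [← Proj.opensRange_awayι (gr k) _ hmem (by norm_num)]
    exact ⟨y, rfl⟩
  rw [← h0] at hy
  exact ⟨_, hy.1, hy.2⟩

instance : IrreducibleSpace (P1 k) := by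
  refine irreducibleSpace_of_two (Set.range (chart k 0).base) (Set.range (chart k 1).base)
    (chart k 1).isOpenEmbedding.isOpen_range (chart k 0).isOpenEmbedding.isOpen_range
    (isIrreducible_range_chart k 0) (isIrreducible_range_chart k 1)
    (range_chart_inter_nonempty k) ?_
  rw [Set.eq_univ_iff_forall]
  intro x
  obtain ⟨i, hi⟩ := exists_chart k x
  fin_cases i
  · exact Or.inl hi
  · exact Or.inr hi

instance : IsReduced (P1 k) := by
  have : ∀ x : P1 k, _root_.IsReduced ((P1 k).presheaf.stalk x) := fun x => by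
    have h1 : _root_.IsReduced (AtPrime (gr k) x.asHomogeneousIdeal.toIdeal) :=
      isReduced_of_injective
        (algebraMap _ (Localization x.asHomogeneousIdeal.toIdeal.primeCompl))
        (val_injective _)
    exact isReduced_of_injective (Proj.stalkIso (gr k) x).hom.hom
      ((ConcreteCategory.bijective_of_isIso (Proj.stalkIso (gr k) x).hom).1)
  exact isReduced_of_isReduced_stalk _

instance : IsIntegral (P1 k) := isIntegral_of_irreducibleSpace_of_isReduced _

/-- Local rings at closed points of the projective line have dimension one. -/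
theorem ringKrullDim_stalk_of_isClosed (x : P1 k) (hx : IsClosed ({x} : Set (P1 k))) :
    ringKrullDim ((P1 k).presheaf.stalk x) = 1 := by
  obtain ⟨i, y, rfl⟩ := exists_chart k x
  have e : (P1 k).presheaf.stalk ((chart k i).base y) ≃+*
      (Spec (CommRingCat.of (Ch k i))).presheaf.stalk y :=
    (asIso ((chart k i).stalkMap y)).commRingCatIsoToRingEquiv
  rw [ringKrullDim_eq_of_ringEquiv e]
  let _ : Algebra (Ch k i) ((Spec (CommRingCat.of (Ch k i))).presheaf.stalk y) :=
    StructureSheaf.stalkAlgebra (Ch k i) y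
  have : IsLocalization.AtPrime ((Spec (CommRingCat.of (Ch k i))).presheaf.stalk y) y.asIdeal :=
    StructureSheaf.IsLocalization.to_stalk _ y
  rw [IsLocalization.AtPrime.ringKrullDim_eq_height y.asIdeal _]
  have hy : IsClosed ({y} : Set (Spec (CommRingCat.of (Ch k i)))) := by
    have : ({y} : Set (Spec (CommRingCat.of (Ch k i)))) =
        (chart k i).base ⁻¹' {(chart k i).base y} := by
      ext z
      simp [(chart k i).isOpenEmbedding.injective.eq_iff]
    rw [this]
    exact hx.preimage (chart k i).continuous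
  have hmax : y.asIdeal.IsMaximal := (PrimeSpectrum.isClosed_singleton_iff_isMaximal y).mp hy
  rw [IsPrincipalIdealRing.height_eq_one_of_isMaximal y.asIdeal (not_isField k i)]
  rfl

end Geometry

section Embedding

variable (K : Type u) [Field K] [Algebra k K] (τ : K)

/-- The map from the first chart ring to `K` sending the coordinate to `τ`. -/
noncomputable def theta : Ch k 0 →+* K :=
  (Polynomial.eval₂RingHom (algebraMap k K) τ).comp
    (chartEquiv k 0 1 (by decide)).symm.toRingHom

lemma theta_rho (p : Polynomial k) :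
    theta k K τ (rho k 0 1 p) = Polynomial.eval₂ (algebraMap k K) τ p := by
  unfold theta
  simp only [RingEquiv.toRingHom_eq_coe, RingHom.coe_comp, RingHom.coe_coe, Function.comp_apply,
    Polynomial.coe_eval₂RingHom]
  congr 1
  exact (chartEquiv k 0 1 (by decide)).symm_apply_apply p

lemma theta_cst (c : k) : theta k K τ (cst k 0 c) = algebraMap k K c := by
  have : cst k 0 c = rho k 0 1 (Polynomial.C c) := by simp [rho]
  rw [this, theta_rho, Polynomial.eval₂_C]

lemma theta_tt : theta k K τ (tt k 0 1) = τ := by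
  have : tt k 0 1 = rho k 0 1 Polynomial.X := by simp [rho]
  rw [this, theta_rho, Polynomial.eval₂_X]

lemma theta_injective (hτ : Transcendental k τ) : Function.Injective (theta k K τ) := by
  unfold theta
  rw [RingHom.coe_comp]
  refine Function.Injective.comp (g := ⇑(Polynomial.eval₂RingHom (algebraMap k K) τ)) ?_
    (chartEquiv k 0 1 (by decide)).symm.injective
  exact transcendental_iff_injective.mp hτ

/-- The `K`-point of the projective line with coordinate `τ`. -/
noncomputable def gK : Spec (CommRingCat.of K) ⟶ P1 k :=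
  Spec.map (CommRingCat.ofHom (theta k K τ)) ≫ chart k 0

lemma gK_toSpec :
    gK k K τ ≫ toSpec k = Spec.map (CommRingCat.ofHom (algebraMap k K)) := by
  unfold gK
  rw [Category.assoc, chart_toSpec, ← Spec.map_comp]
  congr 2
  ext c
  exact theta_cst k K τ c

lemma gK_closedPoint (hτ : Transcendental k τ) :
    (gK k K τ).base (IsLocalRing.closedPoint K) = genericPoint (P1 k) := by
  have h1 : (Spec.map (CommRingCat.ofHom (theta k K τ))).base (IsLocalRing.closedPoint K) =
      genericPoint (Spec (CommRingCat.of (Ch k 0))) := by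
    rw [genericPoint_eq_bot_of_affine]
    apply PrimeSpectrum.ext
    change Ideal.comap (theta k K τ) (IsLocalRing.maximalIdeal K) = ⊥
    rw [IsLocalRing.maximalIdeal_eq_bot, ← RingHom.ker_eq_comap_bot]
    exact (RingHom.injective_iff_ker_eq_bot _).mp (theta_injective k K τ hτ)
  unfold gK
  rw [Scheme.Hom.comp_apply, h1]
  exact genericPoint_eq_of_isOpenImmersion (chart k 0)

lemma theta_mem_range (r : Ch k 0) :
    ∃ b : (P1 k).presheaf.stalk ((gK k K τ).base (IsLocalRing.closedPoint K)),
      (Scheme.stalkClosedPointTo (gK k K τ)).hom b = theta k K τ r := by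
  have h := Scheme.stalkClosedPointTo_comp (Spec.map (CommRingCat.ofHom (theta k K τ))) (chart k 0)
  have h2 := Scheme.germ_stalkClosedPointTo_Spec (CommRingCat.ofHom (theta k K τ))
  set y₀ := (Spec.map (CommRingCat.ofHom (theta k K τ))).base (IsLocalRing.closedPoint K) with hy₀
  let a := (Spec (CommRingCat.of (Ch k 0))).presheaf.germ ⊤ y₀ trivial
    ((Scheme.ΓSpecIso (CommRingCat.of (Ch k 0))).inv r)
  obtain ⟨b, hb⟩ := (ConcreteCategory.bijective_of_isIso ((chart k 0).stalkMap y₀)).2 a
  refine ⟨b, ?_⟩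
  change (Scheme.stalkClosedPointTo (Spec.map (CommRingCat.ofHom (theta k K τ)) ≫ chart k 0)).hom b
    = _
  rw [h]
  change (Scheme.stalkClosedPointTo (Spec.map (CommRingCat.ofHom (theta k K τ)))).hom
    (((chart k 0).stalkMap y₀).hom b) = _
  rw [show ((chart k 0).stalkMap y₀).hom b = a from hb]
  have h3 := congrArg (fun f => f.hom ((Scheme.ΓSpecIso (CommRingCat.of (Ch k 0))).inv r)) h2
  simp only [CommRingCat.hom_comp, RingHom.coe_comp, Function.comp_apply] at h3
  rw [h3]
  simp

end Embedding

end Groth.Agent.H73.ProjLine
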