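import Groth.Agent.H73.DVRExists

/-!
# A neighbourhood criterion for centres of valuations (ring-level core)
-/

set_option autoImplicit false
universe u

namespace Groth.Agent.H73.ProperNhd

open IsLocalRing Groth.Agent.H73.KA
open scoped Classical

variable {K : Type*} [Field K] {A₀ : Type*} [CommRing A₀] [Algebra A₀ K]

/-- A valuation ring is bad for the family `G` if it misses an element of each member. -/
def Bad {ι : Type*} (s : Finset ι) (G : ι → Finset K) (V : ValuationSubring K) : Prop :=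
  ∀ i ∈ s, ∃ b ∈ G i, b ∉ V

section Core

variable {ι : Type*} (s : Finset ι) (τ : (i : ι) → i ∈ s → K)

/-- The inverses of the chosen elements. -/
noncomputable def gens : Finset K := s.attach.image (fun i => (τ i.1 i.2)⁻¹)

lemma mem_gens (i : ι) (hi : i ∈ s) : (τ i hi)⁻¹ ∈ gens s τ :=
  Finset.mem_image.mpr ⟨⟨i, hi⟩, Finset.mem_attach _ _, rfl⟩

variable (A₀) in
/-- The subring generated by the inverses. -/
noncomputable def S : Subring K := (Algebra.adjoin A₀ (gens s τ : Set K)).toSubring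

lemma algebraMap_mem_S (a : A₀) : algebraMap A₀ K a ∈ S A₀ s τ :=
  Subalgebra.algebraMap_mem _ a

lemma gens_subset_S {g : K} (hg : g ∈ gens s τ) : g ∈ S A₀ s τ :=
  Algebra.subset_adjoin hg

variable (A₀) in
noncomputable def ψ : A₀ →+* S A₀ s τ :=
  (algebraMap A₀ K).codRestrict (S A₀ s τ) (algebraMap_mem_S s τ)

variable (A₀) in
noncomputable def Iτ : Ideal (S A₀ s τ) := Ideal.span {c | (c : K) ∈ gens s τ}

lemma exists_sub_mem (c : S A₀ s τ) : ∃ a : A₀, c - ψ A₀ s τ a ∈ Iτ A₀ s τ := by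
  obtain ⟨x, hx⟩ := c
  have hx' : x ∈ Algebra.adjoin A₀ (gens s τ : Set K) := hx
  induction hx' using Algebra.adjoin_induction with
  | mem x hxg =>
    refine ⟨0, ?_⟩
    rw [map_zero, sub_zero]
    exact Ideal.subset_span hxg
  | algebraMap r =>
    refine ⟨r, ?_⟩
    have : (⟨algebraMap A₀ K r, hx⟩ : S A₀ s τ) = ψ A₀ s τ r := Subtype.ext rfl
    rw [this, sub_self]
    exact Ideal.zero_mem _
  | add x y hx1 hy1 ihx ihy =>
    obtain ⟨a, ha⟩ := ihx hx1
    obtain ⟨b, hb⟩ := ihy hy1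
    refine ⟨a + b, ?_⟩
    have : (⟨x + y, hx⟩ : S A₀ s τ) - ψ A₀ s τ (a + b) =
        ((⟨x, hx1⟩ : S A₀ s τ) - ψ A₀ s τ a) + ((⟨y, hy1⟩ : S A₀ s τ) - ψ A₀ s τ b) := by
      apply Subtype.ext
      change x + y - algebraMap A₀ K (a + b) =
        (x - algebraMap A₀ K a) + (y - algebraMap A₀ K b)
      rw [map_add]
      ring
    rw [this]
    exact Ideal.add_mem _ ha hb
  | mul x y hx1 hy1 ihx ihy =>
    obtain ⟨a, ha⟩ := ihx hx1
    obtain ⟨b, hb⟩ := ihy hy1
    refine ⟨a * b, ?_⟩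
    have : (⟨x * y, hx⟩ : S A₀ s τ) - ψ A₀ s τ (a * b) =
        (⟨x, hx1⟩ : S A₀ s τ) * ((⟨y, hy1⟩ : S A₀ s τ) - ψ A₀ s τ b) +
          ψ A₀ s τ b * ((⟨x, hx1⟩ : S A₀ s τ) - ψ A₀ s τ a) := by
      apply Subtype.ext
      change x * y - algebraMap A₀ K (a * b) =
        x * (y - algebraMap A₀ K b) + algebraMap A₀ K b * (x - algebraMap A₀ K a)
      rw [map_mul]
      ring
    rw [this]
    exact Ideal.add_mem _ (Ideal.mul_mem_left _ _ hb) (Ideal.mul_mem_left _ _ ha)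

end Core

section Main

variable {ι : Type*} (s : Finset ι) (G : ι → Finset K)

lemma S_le_of_not_mem (τ : (i : ι) → i ∈ s → K) (V : ValuationSubring K)
    (hV : ∀ a, algebraMap A₀ K a ∈ V) (hτ : ∀ i hi, τ i hi ∉ V) :
    S A₀ s τ ≤ V.toSubring := by
  intro x hx
  have hx' : x ∈ Algebra.adjoin A₀ (gens s τ : Set K) := hx
  induction hx' using Algebra.adjoin_induction with
  | mem x hxg =>
    obtain ⟨i, -, rfl⟩ := Finset.mem_image.mp hxg
    exact (V.mem_or_inv_mem (τ i.1 i.2)).resolve_left (hτ i.1 i.2)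
  | algebraMap r => exact hV r
  | add x y hx1 hy1 ihx ihy => exact V.add_mem _ _ (ihx hx1) (ihy hy1)
  | mul x y hx1 hy1 ihx ihy => exact V.mul_mem _ _ (ihx hx1) (ihy hy1)

/-- If a valuation ring is bad, its centre on `A₀` contains one of the ideals `J_τ`. -/
theorem exists_le_of_bad (V : ValuationSubring K) (hV : ∀ a, algebraMap A₀ K a ∈ V)
    (p' : Ideal A₀) (hp' : ∀ a, V.valuation (algebraMap A₀ K a) < 1 ↔ a ∈ p')
    (hbad : Bad s G V) :
    ∃ τ ∈ Finset.pi s (fun i => (G i).erase 0), (Iτ A₀ s τ).comap (ψ A₀ s τ) ≤ p' := by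
  choose b hbG hbV using hbad
  have hb0 : ∀ i hi, b i hi ≠ 0 := fun i hi h0 => hbV i hi (h0 ▸ V.zero_mem)
  refine ⟨b, Finset.mem_pi.mpr fun i hi => Finset.mem_erase.mpr ⟨hb0 i hi, hbG i hi⟩, ?_⟩
  have hle : S A₀ s b ≤ V.toSubring := S_le_of_not_mem s b V hV hbV
  have hI : Iτ A₀ s b ≤ (maximalIdeal V).comap (Subring.inclusion hle) := by
    refine Ideal.span_le.mpr ?_
    rintro c hc
    obtain ⟨i, -, hi⟩ := Finset.mem_image.mp (show (c : K) ∈ gens s b from hc)
    change Subring.inclusion hle c ∈ maximalIdeal V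
    rw [V.valuation_lt_one_iff]
    change V.valuation (c : K) < 1
    rw [← hi, map_inv₀]
    have h1 : 1 < V.valuation (b i.1 i.2) := by
      by_contra hcon
      exact hbV i.1 i.2 ((V.valuation_le_one_iff _).mp (not_lt.mp hcon))
    exact inv_lt_one_of_one_lt₀ h1
  intro a ha
  have h2 : Subring.inclusion hle (ψ A₀ s b a) ∈ maximalIdeal V := hI ha
  rw [V.valuation_lt_one_iff] at h2
  exact (hp' a).mp h2

end Main

section Dvr

variable [IsNoetherianRing A₀] {ι : Type*} (s : Finset ι) (G : ι → Finset K)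

/-- If a prime `p` contains `J_τ`, there is a bad discrete valuation ring centred at `p`. -/
theorem exists_bad_dvr (hs : s.Nonempty) (t : Finset K)
    (ht : Subfield.closure (Set.range (algebraMap A₀ K) ∪ t) = ⊤)
    (p : Ideal A₀) [p.IsPrime] (τ : (i : ι) → i ∈ s → K)
    (hτ : τ ∈ Finset.pi s (fun i => (G i).erase 0))
    (hle : (Iτ A₀ s τ).comap (ψ A₀ s τ) ≤ p) :
    ∃ V : ValuationSubring K, IsDiscreteValuationRing V ∧ (∀ a, algebraMap A₀ K a ∈ V) ∧
      (∀ a, V.valuation (algebraMap A₀ K a) < 1 ↔ a ∈ p) ∧ Bad s G V := by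
  have hτG : ∀ i hi, τ i hi ≠ 0 ∧ τ i hi ∈ G i := fun i hi =>
    Finset.mem_erase.mp (Finset.mem_pi.mp hτ i hi)
  -- the prime `q` of `S` over `p` containing `Iτ`
  let g : A₀ →+* (S A₀ s τ ⧸ Iτ A₀ s τ) := (Ideal.Quotient.mk (Iτ A₀ s τ)).comp (ψ A₀ s τ)
  have hg : Function.Surjective g := by
    intro cb
    obtain ⟨c, rfl⟩ := Ideal.Quotient.mk_surjective cb
    obtain ⟨a, ha⟩ := exists_sub_mem s τ c
    exact ⟨a, (Ideal.Quotient.eq.mpr ha).symm⟩
  have hker : RingHom.ker g ≤ p := by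
    intro a ha
    apply hle
    rw [RingHom.mem_ker] at ha
    have ha' : Ideal.Quotient.mk (Iτ A₀ s τ) (ψ A₀ s τ a) = 0 := ha
    show ψ A₀ s τ a ∈ Iτ A₀ s τ
    exact Ideal.Quotient.eq_zero_iff_mem.mp ha'
  haveI hQ : (Ideal.map g p).IsPrime := Ideal.map_isPrime_of_surjective hg hker
  have hcomap : Ideal.comap g (Ideal.map g p) = p := by
    rw [Ideal.comap_map_of_surjective g hg]
    exact sup_eq_left.mpr hker
  let q : Ideal (S A₀ s τ) := (Ideal.map g p).comap (Ideal.Quotient.mk (Iτ A₀ s τ))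
  haveI hq : q.IsPrime := Ideal.comap_isPrime _ _
  have hIq : Iτ A₀ s τ ≤ q := by
    intro c hc
    change Ideal.Quotient.mk (Iτ A₀ s τ) c ∈ Ideal.map g p
    rw [Ideal.Quotient.eq_zero_iff_mem.mpr hc]
    exact Ideal.zero_mem _
  have hqp : q.comap (ψ A₀ s τ) = p := by
    rw [← hcomap]
    rfl
  haveI hSN : IsNoetherianRing (S A₀ s τ) := noeth_adjoin' (A := A₀) _ (gens s τ).finite_toSet
  let R₀ := LocalSubring.ofPrime (S A₀ s τ) q
  have hN : IsNoetherianRing R₀.toSubring :=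
    IsLocalization.isNoetherianRing q.primeCompl _ inferInstance
  obtain ⟨i₀, hi₀⟩ := hs
  have hgenq : ∀ i hi, (⟨(τ i hi)⁻¹, gens_subset_S s τ (mem_gens s τ i hi)⟩ : S A₀ s τ) ∈ q :=
    fun i hi => hIq (Ideal.subset_span (mem_gens s τ i hi))
  have hR₀ : maximalIdeal R₀.toSubring ≠ ⊥ := by
    intro hbot
    have := mem_maximalIdeal_ofPrime (S A₀ s τ) q _ (hgenq i₀ hi₀)
    rw [hbot, Submodule.mem_bot] at this
    have h0 : (τ i₀ hi₀)⁻¹ = 0 := congrArg (Subtype.val : R₀.toSubring → K) this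
    exact (hτG i₀ hi₀).1 (inv_eq_zero.mp h0)
  have hs' : Subfield.closure ((R₀.toSubring : Set K) ∪ t) = ⊤ := by
    rw [_root_.eq_top_iff, ← ht]
    apply Subfield.closure_mono
    apply Set.union_subset_union_left
    rintro _ ⟨a, rfl⟩
    exact LocalSubring.le_ofPrime (S A₀ s τ) q (algebraMap_mem_S s τ a)
  obtain ⟨V, hV, hVle⟩ := exists_dvr_ge R₀ hR₀ t hs'
  have hSV : S A₀ s τ ≤ V.toSubring :=
    (LocalSubring.le_ofPrime (S A₀ s τ) q).trans (LocalSubring.toSubring_mono hVle)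
  have hlt : ∀ z : S A₀ s τ, z ∈ q → V.valuation (z : K) < 1 := fun z hz =>
    val_lt_one_of_le hVle _ (mem_maximalIdeal_ofPrime (S A₀ s τ) q z hz)
  refine ⟨V, hV, fun a => hSV (algebraMap_mem_S s τ a), fun a => ⟨fun hlt1 => ?_, fun ha => ?_⟩, ?_⟩
  · -- `v (φ a) < 1 → a ∈ p`
    by_contra hap
    have hnq : ψ A₀ s τ a ∉ q := fun h => hap (hqp ▸ (show a ∈ q.comap (ψ A₀ s τ) from h))
    -- `ψ a` is a unit in `R₀`, hence in `V`
    have hunit : IsUnit (algebraMap (S A₀ s τ) R₀.toSubring (ψ A₀ s τ a)) := by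
      by_contra hnu
      have hmem : algebraMap (S A₀ s τ) R₀.toSubring (ψ A₀ s τ a) ∈
          maximalIdeal R₀.toSubring := hnu
      exact hnq ((IsLocalization.AtPrime.to_map_mem_maximal_iff R₀.toSubring q _).mp hmem)
    have hunitV : IsUnit (Subring.inclusion (LocalSubring.toSubring_mono hVle)
        (algebraMap (S A₀ s τ) R₀.toSubring (ψ A₀ s τ a))) := hunit.map _
    have h1 : V.valuation (algebraMap A₀ K a) = 1 :=
      (V.valuation_eq_one_iff _).mp hunitV
    exact hlt1.ne h1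
  · -- `a ∈ p → v (φ a) < 1`
    have : ψ A₀ s τ a ∈ q := by
      have : a ∈ q.comap (ψ A₀ s τ) := hqp ▸ ha
      exact this
    exact hlt _ this
  · intro i hi
    refine ⟨τ i hi, (hτG i hi).2, fun hmem => ?_⟩
    have h1 : V.valuation (τ i hi) ≤ 1 := (V.valuation_le_one_iff _).mpr hmem
    have h2 : V.valuation ((τ i hi)⁻¹) < 1 := hlt _ (hgenq i hi)
    have h3 : V.valuation (τ i hi) * V.valuation ((τ i hi)⁻¹) = 1 := by
      rw [← map_mul, mul_inv_cancel₀ (hτG i hi).1, map_one]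
    have h4 : V.valuation (τ i hi) * V.valuation ((τ i hi)⁻¹) < 1 := by
      calc V.valuation (τ i hi) * V.valuation ((τ i hi)⁻¹)
          ≤ 1 * V.valuation ((τ i hi)⁻¹) := mul_le_mul' h1 le_rfl
        _ = V.valuation ((τ i hi)⁻¹) := one_mul _
        _ < 1 := h2
    exact h4.ne h3

end Dvr

/-- **Ring-level core.** If no bad discrete valuation ring is centred at `p`, then there is an
open neighbourhood of `p` in `Spec A₀` over which no valuation ring at all is bad. -/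
theorem exists_ideal [IsNoetherianRing A₀] {ι : Type*} (s : Finset ι) (hs : s.Nonempty)
    (G : ι → Finset K) (t : Finset K)
    (ht : Subfield.closure (Set.range (algebraMap A₀ K) ∪ t) = ⊤)
    (p : Ideal A₀) [p.IsPrime]
    (hyp : ∀ V : ValuationSubring K, IsDiscreteValuationRing V →
      (∀ a, algebraMap A₀ K a ∈ V) →
      (∀ a, V.valuation (algebraMap A₀ K a) < 1 ↔ a ∈ p) → ¬ Bad s G V) :
    ∃ J : Ideal A₀, ¬ J ≤ p ∧ ∀ (p' : Ideal A₀) (V : ValuationSubring K),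
      (∀ a, algebraMap A₀ K a ∈ V) →
      (∀ a, V.valuation (algebraMap A₀ K a) < 1 ↔ a ∈ p') → ¬ J ≤ p' → ¬ Bad s G V := by
  refine ⟨(Finset.pi s (fun i => (G i).erase 0)).inf
    (fun τ => (Iτ A₀ s τ).comap (ψ A₀ s τ)), ?_, ?_⟩
  · intro hle
    obtain ⟨τ, hτ, hτle⟩ := (Ideal.IsPrime.inf_le' inferInstance).mp hle
    obtain ⟨V, hV, h1, h2, h3⟩ := exists_bad_dvr s G hs t ht p τ hτ hτle
    exact hyp V hV h1 h2 h3
  · intro p' V hV hp' hJ hbad
    obtain ⟨τ, hτ, hτle⟩ := exists_le_of_bad s G V hV p' hp' hbad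
    exact hJ ((Finset.inf_le hτ).trans hτle)

end Groth.Agent.H73.ProperNhd
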