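import Groth.Agent.H54.DVRProper
import Groth.Agent.H73.ProperNhdRing

/-!
# Properness over a neighbourhood of a point and discrete valuation rings of the function field
-/

set_option autoImplicit false
universe u
open CategoryTheory CategoryTheory.Limits AlgebraicGeometry IsLocalRing

namespace Groth.Agent.H73.ProperNhd

open CompositeVal Groth.Agent.H73.ValProper

variable {X Y : Scheme.{u}}

/-- Two morphisms from the spectrum of a local domain agreeing generically and mapping the
closed point into a common affine open are equal. -/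
theorem ext_of_closedPoint_mem {V : Type u} [CommRing V] [IsDomain V] [IsLocalRing V]
    {T : Scheme.{u}} (ι : T ⟶ Spec (CommRingCat.of V)) [IsDominant ι]
    (a b : Spec (CommRingCat.of V) ⟶ Y) (W : Y.Opens) (hW : IsAffineOpen W)
    (ha : a (closedPoint V) ∈ W) (hb : b (closedPoint V) ∈ W) (h : ι ≫ a = ι ≫ b) : a = b := by
  have hr : ∀ c : Spec (CommRingCat.of V) ⟶ Y, c (closedPoint V) ∈ W →
      Set.range c ⊆ Set.range W.ι := by
    rintro c hc _ ⟨t, rfl⟩
    rw [Scheme.Opens.range_ι]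
    exact ((specializes_closedPoint t).map c.continuous).mem_open W.2 hc
  have ea := IsOpenImmersion.lift_fac W.ι a (hr a ha)
  have eb := IsOpenImmersion.lift_fac W.ι b (hr b hb)
  haveI : IsAffine (W : Scheme.{u}) := hW
  have key : IsOpenImmersion.lift W.ι a (hr a ha) = IsOpenImmersion.lift W.ι b (hr b hb) := by
    apply ext_of_isDominant ι
    rw [← cancel_mono W.ι, Category.assoc, Category.assoc, ea, eb, h]
  rw [← ea, ← eb, key]

/-- The existence part of the valuative criterion for one square, from centres of valuation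
rings of the function field dominating the local ring of the image of the closed point. -/
theorem existence_local [IsIntegral X] [IsIntegral Y] (f : X ⟶ Y) [IsSeparated f]
    (S : ValuativeCommSq f) (W : Y.Opens) (hW : IsAffineOpen W)
    (hyW : S.i₂ (closedPoint S.R) ∈ W)
    (h : ∀ (R : ValuationSubring X.functionField)
        (hy : f.base (genericPoint X) ⤳ S.i₂ (closedPoint S.R)),
        ((∀ a : Y.presheaf.stalk (S.i₂ (closedPoint S.R)),
            (Y.presheaf.stalkSpecializes hy ≫ f.stalkMap (genericPoint X)).hom a ∈ R) ∧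
          ∀ a ∈ IsLocalRing.maximalIdeal (Y.presheaf.stalk (S.i₂ (closedPoint S.R))),
            R.valuation ((Y.presheaf.stalkSpecializes hy ≫ f.stalkMap (genericPoint X)).hom a) < 1) →
        ∃ x : X, f.base x = S.i₂ (closedPoint S.R) ∧
          (∀ a : X.presheaf.stalk x, algebraMap (X.presheaf.stalk x) X.functionField a ∈ R) ∧
          ∀ a ∈ IsLocalRing.maximalIdeal (X.presheaf.stalk x),
            R.valuation (algebraMap (X.presheaf.stalk x) X.functionField a) < 1) :
    S.commSq.HasLift := by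
  let ρ : S.R →+* S.K := algebraMap S.R S.K
  have hρ : Function.Injective ρ := IsFractionRing.injective S.R S.K
  let x₁ : X := S.i₁ (closedPoint S.K)
  let y₀ : Y := S.i₂ (closedPoint S.R)
  let ψ₁ : X.presheaf.stalk x₁ ⟶ CommRingCat.of S.K := Scheme.stalkClosedPointTo S.i₁
  let ψ₂ : Y.presheaf.stalk y₀ ⟶ CommRingCat.of S.R := Scheme.stalkClosedPointTo S.i₂
  have hspec : f x₁ ⤳ y₀ := by
    have h1 : f x₁ = S.i₂ (Spec.map (CommRingCat.ofHom ρ) (closedPoint S.K : Spec (.of S.K))) := by
      change (S.i₁ ≫ f) _ = (Spec.map (CommRingCat.ofHom ρ) ≫ S.i₂) _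
      rw [S.commSq.w]
    rw [h1]
    exact (specializes_closedPoint (R := S.R) _).map S.i₂.continuous
  have hC1 : (Y.presheaf.stalkSpecializes hspec ≫ f.stalkMap x₁) ≫ ψ₁ = ψ₂ ≫ CommRingCat.ofHom ρ := by
    apply Spec.map_injective
    rw [← cancel_mono (Y.fromSpecStalk y₀)]
    simp only [Spec.map_comp, Category.assoc]
    rw [Scheme.SpecMap_stalkSpecializes_fromSpecStalk, Scheme.SpecMap_stalkMap_fromSpecStalk, 
      Scheme.Spec_stalkClosedPointTo_fromSpecStalk_assoc, Scheme.Spec_stalkClosedPointTo_fromSpecStalk]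
    exact S.commSq.w
  have hξ₁ : genericPoint X ⤳ x₁ := (genericPoint_spec X).specializes trivial
  have hy : f (genericPoint X) ⤳ y₀ := (hξ₁.map f.continuous).trans hspec
  have hC2 : Y.presheaf.stalkSpecializes hy ≫ f.stalkMap (genericPoint X) =
      (Y.presheaf.stalkSpecializes hspec ≫ f.stalkMap x₁) ≫ X.presheaf.stalkSpecializes hξ₁ := by
    rw [Category.assoc, ← Scheme.Hom.stalkSpecializes_stalkMap, ← Category.assoc,
      TopCat.Presheaf.stalkSpecializes_comp]
  let α : X.presheaf.stalk x₁ →+* X.functionField := (X.presheaf.stalkSpecializes hξ₁).hom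
  haveI : IsLocalHom ψ₁.hom := Scheme.isLocalHom_stalkClosedPointTo S.i₁
  obtain ⟨V₁, V, hVV₁, ⟨hα₁, hloc₁⟩, hi, hii, hiii⟩ :=
    exists_composite α ψ₁.hom (rangeVS S.R S.K)
  have key : ∀ a, (Y.presheaf.stalkSpecializes hy ≫ f.stalkMap (genericPoint X)).hom a =
      α ((Y.presheaf.stalkSpecializes hspec ≫ f.stalkMap x₁).hom a) := by
    intro a; rw [hC2]; rfl
  have key2 : ∀ a, ψ₁.hom ((Y.presheaf.stalkSpecializes hspec ≫ f.stalkMap x₁).hom a) =
      ρ (ψ₂.hom a) := by
    intro a
    exact congrArg (fun g => g.hom a) hC1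
  have hdom : (∀ a : Y.presheaf.stalk y₀,
      (Y.presheaf.stalkSpecializes hy ≫ f.stalkMap (genericPoint X)).hom a ∈ V) ∧
      ∀ a ∈ IsLocalRing.maximalIdeal (Y.presheaf.stalk y₀),
        V.valuation ((Y.presheaf.stalkSpecializes hy ≫ f.stalkMap (genericPoint X)).hom a) < 1 := by
    constructor
    · intro a
      rw [key]
      apply hi
      rw [key2]
      exact ⟨_, rfl⟩
    · intro a ha
      rw [key]
      apply hii
      rw [key2]
      apply valuation_rangeVS_lt_one
      haveI : IsLocalHom ψ₂.hom := Scheme.isLocalHom_stalkClosedPointTo S.i₂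
      exact (mem_maximalIdeal _).mpr
        (fun hu => (mem_maximalIdeal _).mp ha (isUnit_of_map_unit ψ₂.hom a hu))
  obtain ⟨x, hfx, hx1, hx2⟩ := h V hy hdom
  have hξx : genericPoint X ⤳ x := (genericPoint_spec X).specializes trivial
  let αx : X.presheaf.stalk x →+* X.functionField := (X.presheaf.stalkSpecializes hξx).hom
  let j₁ : X.presheaf.stalk x₁ →+* V₁ := α.codRestrict V₁.toSubring hα₁
  let jx : X.presheaf.stalk x →+* V₁ := αx.codRestrict V₁.toSubring (fun a => hVV₁ (hx1 a))
  let g₁ : Spec (.of V₁) ⟶ X := Spec.map (CommRingCat.ofHom j₁) ≫ X.fromSpecStalk x₁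
  let g₂ : Spec (.of V₁) ⟶ X := Spec.map (CommRingCat.ofHom jx) ≫ X.fromSpecStalk x
  let ι : Spec (.of X.functionField) ⟶ Spec (.of V₁) := Spec.map (CommRingCat.ofHom V₁.subtype)
  haveI : IsDominant ι := isDominant_SpecMap_of_injective _ Subtype.val_injective
  have hg₁cl : g₁ (closedPoint V₁) = x₁ := by
    change (X.fromSpecStalk x₁) (Spec.map (CommRingCat.ofHom j₁) (closedPoint V₁)) = x₁
    rw [show Spec.map (CommRingCat.ofHom j₁) (closedPoint V₁) = closedPoint _ from
      comap_closedPoint j₁]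
    exact Scheme.fromSpecStalk_closedPoint
  have hg₂cl : g₂ (closedPoint V₁) ⤳ x := by
    have e2 : g₂ (closedPoint V₁) ∈ Set.range (X.fromSpecStalk x) := ⟨_, rfl⟩
    rw [Scheme.range_fromSpecStalk] at e2
    exact e2
  have hg : g₁ = g₂ := by
    have e1 : ι ≫ g₁ = X.fromSpecStalk (genericPoint X) := by
      rw [← Scheme.SpecMap_stalkSpecializes_fromSpecStalk hξ₁]
      simp only [ι, g₁, ← Category.assoc, ← Spec.map_comp]
      rfl
    have e2 : ι ≫ g₂ = X.fromSpecStalk (genericPoint X) := by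
      rw [← Scheme.SpecMap_stalkSpecializes_fromSpecStalk hξx]
      simp only [ι, g₂, ← Category.assoc, ← Spec.map_comp]
      rfl
    refine ext_of_isDominant_of_isSeparated f ?_ ι (e1.trans e2.symm)
    refine ext_of_closedPoint_mem ι (g₁ ≫ f) (g₂ ≫ f) W hW ?_ ?_ ?_
    · change f (g₁ (closedPoint V₁)) ∈ W
      rw [hg₁cl]
      exact hspec.mem_open W.2 hyW
    · change f (g₂ (closedPoint V₁)) ∈ W
      have h3 : f (g₂ (closedPoint V₁)) ⤳ f x := hg₂cl.map f.continuous
      rw [hfx] at h3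
      exact h3.mem_open W.2 hyW
    · rw [← Category.assoc ι g₁ f, ← Category.assoc ι g₂ f, e1, e2]
  have hx₁x : x₁ ⤳ x := by
    have e1 : g₁ (closedPoint V₁) = x₁ := by
      change (X.fromSpecStalk x₁) (Spec.map (CommRingCat.ofHom j₁) (closedPoint V₁)) = x₁
      rw [show Spec.map (CommRingCat.ofHom j₁) (closedPoint V₁) = closedPoint _ from
        comap_closedPoint j₁]
      exact Scheme.fromSpecStalk_closedPoint
    have e2 : g₂ (closedPoint V₁) ∈ Set.range (X.fromSpecStalk x) := ⟨_, rfl⟩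
    rw [Scheme.range_fromSpecStalk] at e2
    rw [← hg, e1] at e2
    exact e2
  let sp : X.presheaf.stalk x ⟶ X.presheaf.stalk x₁ := X.presheaf.stalkSpecializes hx₁x
  have hsp : ∀ a, α (sp.hom a) = αx a := by
    intro a
    change (sp ≫ X.presheaf.stalkSpecializes hξ₁).hom a = _
    rw [TopCat.Presheaf.stalkSpecializes_comp]
  have hmem : ∀ a, (ψ₁.hom.comp sp.hom) a ∈ ρ.range :=
    fun a => hiii _ (by rw [hsp]; exact hx1 a)
  let e : S.R ≃+* ρ.range := RingEquiv.ofBijective ρ.rangeRestrict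
    ⟨fun a b hab => hρ (congrArg Subtype.val hab), ρ.rangeRestrict_surjective⟩
  let lam : X.presheaf.stalk x →+* S.R :=
    e.symm.toRingHom.comp ((ψ₁.hom.comp sp.hom).codRestrict ρ.range hmem)
  have hlam : ∀ a, ρ (lam a) = ψ₁.hom (sp.hom a) := by
    intro a
    have : e (lam a) = ⟨_, hmem a⟩ := e.apply_symm_apply _
    exact congrArg Subtype.val this
  let l : Spec (.of S.R) ⟶ X := Spec.map (CommRingCat.ofHom lam) ≫ X.fromSpecStalk x
  have hl₁ : Spec.map (CommRingCat.ofHom ρ) ≫ l = S.i₁ := by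
    have : CommRingCat.ofHom lam ≫ CommRingCat.ofHom ρ = sp ≫ ψ₁ := by
      ext a; exact hlam a
    rw [← Category.assoc, ← Spec.map_comp, this, Spec.map_comp, Category.assoc,
      Scheme.SpecMap_stalkSpecializes_fromSpecStalk, Scheme.Spec_stalkClosedPointTo_fromSpecStalk]
  have hl₂ : l ≫ f = S.i₂ := by
    haveI : IsDominant (Spec.map (CommRingCat.ofHom ρ)) := isDominant_SpecMap_of_injective _ hρ
    refine ext_of_closedPoint_mem (Spec.map (CommRingCat.ofHom ρ)) (l ≫ f) S.i₂ W hW ?_ hyW ?_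
    · change f (l (closedPoint S.R)) ∈ W
      have e2 : l (closedPoint S.R) ∈ Set.range (X.fromSpecStalk x) := ⟨_, rfl⟩
      rw [Scheme.range_fromSpecStalk] at e2
      have h3 : f (l (closedPoint S.R)) ⤳ f x := (show _ ⤳ x from e2).map f.continuous
      rw [hfx] at h3
      exact h3.mem_open W.2 hyW
    · rw [← Category.assoc, hl₁]
      exact S.commSq.w
  exact ⟨⟨⟨l, hl₁, hl₂⟩⟩⟩


/-- The existence part of the valuative criterion for a restriction, from lifts of the squares
whose closed point lands in the open. -/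
theorem existence_morphismRestrict (f : X ⟶ Y) (U : Y.Opens)
    (hlift : ∀ S : ValuativeCommSq f, S.i₂ (closedPoint S.R) ∈ U → S.commSq.HasLift) :
    ValuativeCriterion.Existence (f ∣_ U) := by
  intro S'
  let S : ValuativeCommSq f :=
    { R := S'.R
      K := S'.K
      i₁ := S'.i₁ ≫ (f ⁻¹ᵁ U).ι
      i₂ := S'.i₂ ≫ U.ι
      commSq := ⟨by
        rw [Category.assoc, ← morphismRestrict_ι, ← Category.assoc, S'.commSq.w,
          Category.assoc]⟩ }
  have hmem : S.i₂ (closedPoint S.R) ∈ U := (S'.i₂ (closedPoint S'.R)).2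
  obtain ⟨⟨l, hl₁, hl₂⟩⟩ := hlift S hmem
  have hr : Set.range l ⊆ Set.range (f ⁻¹ᵁ U).ι := by
    rintro _ ⟨t, rfl⟩
    rw [Scheme.Opens.range_ι]
    change (l ≫ f) t ∈ U
    rw [hl₂]
    exact (S'.i₂ t).2
  refine ⟨⟨⟨IsOpenImmersion.lift (f ⁻¹ᵁ U).ι l hr, ?_, ?_⟩⟩⟩
  · rw [← cancel_mono (f ⁻¹ᵁ U).ι, Category.assoc, IsOpenImmersion.lift_fac]
    exact hl₁
  · rw [← cancel_mono U.ι, Category.assoc, morphismRestrict_ι, ← Category.assoc,
      IsOpenImmersion.lift_fac]
    exact hl₂

/-- A valuation ring of `K(X)` dominating `O_{Y,y}` and `O_{X,x}` forces `f x = y` when both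
`y` and `f x` lie in a common affine open. -/
theorem map_eq_of_dominates_local [IsIntegral X] [IsIntegral Y] (f : X ⟶ Y)
    (W : Y.Opens) (hW : IsAffineOpen W)
    (V : ValuationSubring X.functionField) (y : Y) (hyW : y ∈ W)
    (hy : f.base (genericPoint X) ⤳ y)
    (h1 : ∀ a : Y.presheaf.stalk y,
      (Y.presheaf.stalkSpecializes hy ≫ f.stalkMap (genericPoint X)).hom a ∈ V)
    (h2 : ∀ a ∈ maximalIdeal (Y.presheaf.stalk y),
      V.valuation ((Y.presheaf.stalkSpecializes hy ≫ f.stalkMap (genericPoint X)).hom a) < 1)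
    (x : X) (hxW : f x ∈ W)
    (hx1 : ∀ a : X.presheaf.stalk x, algebraMap (X.presheaf.stalk x) X.functionField a ∈ V)
    (hx2 : ∀ a ∈ maximalIdeal (X.presheaf.stalk x),
      V.valuation (algebraMap (X.presheaf.stalk x) X.functionField a) < 1) :
    f x = y := by
  have hξx : genericPoint X ⤳ x := (genericPoint_spec X).specializes trivial
  let φy : Y.presheaf.stalk y ⟶ X.functionField :=
    Y.presheaf.stalkSpecializes hy ≫ f.stalkMap (genericPoint X)
  let jy : Y.presheaf.stalk y →+* V := φy.hom.codRestrict V h1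
  let jx : X.presheaf.stalk x →+* V := (X.presheaf.stalkSpecializes hξx).hom.codRestrict V hx1
  haveI : IsLocalHom jy := ⟨fun a ha => by
    by_contra hna
    have hm : a ∈ maximalIdeal (Y.presheaf.stalk y) := hna
    have h3 := h2 a hm
    have h4 : V.valuation ((jy a : V) : X.functionField) = 1 := (V.valuation_eq_one_iff _).mp ha
    exact h3.ne h4⟩
  haveI : IsLocalHom jx := ⟨fun a ha => by
    by_contra hna
    have hm : a ∈ maximalIdeal (X.presheaf.stalk x) := hna
    have h3 := hx2 a hm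
    have h4 : V.valuation ((jx a : V) : X.functionField) = 1 := (V.valuation_eq_one_iff _).mp ha
    exact h3.ne h4⟩
  let g₁ : Spec (CommRingCat.of V) ⟶ Y := Spec.map (CommRingCat.ofHom jy) ≫ Y.fromSpecStalk y
  let g₂ : Spec (CommRingCat.of V) ⟶ Y :=
    Spec.map (CommRingCat.ofHom jx) ≫ X.fromSpecStalk x ≫ f
  let ι : Spec (CommRingCat.of X.functionField) ⟶ Spec (CommRingCat.of V) :=
    Spec.map (CommRingCat.ofHom V.subtype)
  haveI : IsDominant ι :=
    Groth.Agent.H73.ValProper.isDominant_SpecMap_of_injective _ Subtype.val_injective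
  have e1 : ι ≫ g₁ = X.fromSpecStalk (genericPoint X) ≫ f := by
    have e : CommRingCat.ofHom jy ≫ CommRingCat.ofHom V.subtype = φy :=
      CommRingCat.hom_ext (RingHom.ext fun a => rfl)
    change Spec.map (CommRingCat.ofHom V.subtype) ≫ Spec.map (CommRingCat.ofHom jy) ≫
      Y.fromSpecStalk y = _
    rw [← Category.assoc, ← Spec.map_comp, e]
    simp only [φy, Spec.map_comp, Category.assoc]
    rw [Scheme.SpecMap_stalkSpecializes_fromSpecStalk, Scheme.SpecMap_stalkMap_fromSpecStalk]
  have e2 : ι ≫ g₂ = X.fromSpecStalk (genericPoint X) ≫ f := by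
    have e : CommRingCat.ofHom jx ≫ CommRingCat.ofHom V.subtype =
        X.presheaf.stalkSpecializes hξx :=
      CommRingCat.hom_ext (RingHom.ext fun a => rfl)
    change Spec.map (CommRingCat.ofHom V.subtype) ≫ Spec.map (CommRingCat.ofHom jx) ≫
      X.fromSpecStalk x ≫ f = _
    rw [← Category.assoc, ← Spec.map_comp, e, ← Category.assoc,
      Scheme.SpecMap_stalkSpecializes_fromSpecStalk]
  have p1 : g₁ (closedPoint V) = y := by
    change (Y.fromSpecStalk y) (Spec.map (CommRingCat.ofHom jy) (closedPoint V)) = y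
    rw [show Spec.map (CommRingCat.ofHom jy) (closedPoint V) = closedPoint _ from
      comap_closedPoint jy]
    exact Scheme.fromSpecStalk_closedPoint
  have p2 : g₂ (closedPoint V) = f x := by
    change f ((X.fromSpecStalk x) (Spec.map (CommRingCat.ofHom jx) (closedPoint V))) = f x
    rw [show Spec.map (CommRingCat.ofHom jx) (closedPoint V) = closedPoint _ from
      comap_closedPoint jx]
    rw [Scheme.fromSpecStalk_closedPoint]
  have hg : g₁ = g₂ := ext_of_closedPoint_mem ι g₁ g₂ W hW (p1 ▸ hyW) (p2 ▸ hxW)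
    (e1.trans e2.symm)
  rw [← hg] at p2
  exact p2.symm.trans p1

section Bridge

variable [IsIntegral X] [IsIntegral Y] (f : X ⟶ Y) {W : Y.Opens} (hW : IsAffineOpen W)
  (hξW : f (genericPoint X) ∈ W)

/-- The map from the sections over an affine open of `Y` to the function field of `X`. -/
noncomputable def φW : Γ(Y, W) →+* X.functionField :=
  (Y.presheaf.germ W (f (genericPoint X)) hξW ≫ f.stalkMap (genericPoint X)).hom

omit [IsIntegral Y] in
lemma Φ_germ {y' : Y} (hy'W : y' ∈ W) (hy' : f.base (genericPoint X) ⤳ y') (a : Γ(Y, W)) :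
    (Y.presheaf.stalkSpecializes hy' ≫ f.stalkMap (genericPoint X)).hom
      ((Y.presheaf.germ W y' hy'W).hom a) = φW f hξW a := by
  change (Y.presheaf.germ W y' hy'W ≫ Y.presheaf.stalkSpecializes hy' ≫
    f.stalkMap (genericPoint X)).hom a = _
  rw [← Category.assoc, TopCat.Presheaf.germ_stalkSpecializes]
  rfl

include hW in
omit [IsIntegral Y] in
/-- Domination of the local ring implies the chart form of domination. -/
theorem core_of_stalk (V : ValuationSubring X.functionField) {y' : Y} (hy'W : y' ∈ W)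
    (hy' : f.base (genericPoint X) ⤳ y')
    (h1 : ∀ r : Y.presheaf.stalk y',
      (Y.presheaf.stalkSpecializes hy' ≫ f.stalkMap (genericPoint X)).hom r ∈ V)
    (h2 : ∀ r ∈ maximalIdeal (Y.presheaf.stalk y'),
      V.valuation ((Y.presheaf.stalkSpecializes hy' ≫ f.stalkMap (genericPoint X)).hom r) < 1) :
    (∀ a, φW f hξW a ∈ V) ∧
      ∀ a, V.valuation (φW f hξW a) < 1 ↔ a ∈ (hW.primeIdealOf ⟨y', hy'W⟩).asIdeal := by
  letI := Y.presheaf.algebra_section_stalk (⟨y', hy'W⟩ : W)
  haveI := hW.isLocalization_stalk ⟨y', hy'W⟩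
  have hmem : ∀ a, φW f hξW a ∈ V := fun a => by
    rw [← Φ_germ f hξW hy'W hy' a]
    exact h1 _
  refine ⟨hmem, fun a => ⟨fun hlt => ?_, fun ha => ?_⟩⟩
  · by_contra hna
    have hu : IsUnit ((Y.presheaf.germ W y' hy'W).hom a) :=
      (IsLocalization.AtPrime.isUnit_to_map_iff (Y.presheaf.stalk y')
        (hW.primeIdealOf ⟨y', hy'W⟩).asIdeal a).mpr hna
    let Φ : Y.presheaf.stalk y' →+* V :=
      (Y.presheaf.stalkSpecializes hy' ≫ f.stalkMap (genericPoint X)).hom.codRestrict V h1
    have hu' : IsUnit (Φ ((Y.presheaf.germ W y' hy'W).hom a)) := hu.map Φ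
    have h3 : V.valuation ((Φ ((Y.presheaf.germ W y' hy'W).hom a) : V) : X.functionField) = 1 :=
      (V.valuation_eq_one_iff _).mp hu'
    have h4 : ((Φ ((Y.presheaf.germ W y' hy'W).hom a) : V) : X.functionField) = φW f hξW a :=
      Φ_germ f hξW hy'W hy' a
    rw [h4] at h3
    exact hlt.ne h3
  · rw [← Φ_germ f hξW hy'W hy' a]
    apply h2
    exact (IsLocalization.AtPrime.to_map_mem_maximal_iff (Y.presheaf.stalk y')
      (hW.primeIdealOf ⟨y', hy'W⟩).asIdeal a).mpr ha

include hW in
omit [IsIntegral Y] in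
/-- The chart form of domination implies domination of the local ring. -/
theorem stalk_of_core (V : ValuationSubring X.functionField) {y' : Y} (hy'W : y' ∈ W)
    (hy' : f.base (genericPoint X) ⤳ y')
    (h1 : ∀ a, φW f hξW a ∈ V)
    (h2 : ∀ a, V.valuation (φW f hξW a) < 1 ↔ a ∈ (hW.primeIdealOf ⟨y', hy'W⟩).asIdeal) :
    (∀ r : Y.presheaf.stalk y',
      (Y.presheaf.stalkSpecializes hy' ≫ f.stalkMap (genericPoint X)).hom r ∈ V) ∧
    (∀ r ∈ maximalIdeal (Y.presheaf.stalk y'),
      V.valuation ((Y.presheaf.stalkSpecializes hy' ≫ f.stalkMap (genericPoint X)).hom r) < 1) := by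
  letI := Y.presheaf.algebra_section_stalk (⟨y', hy'W⟩ : W)
  haveI := hW.isLocalization_stalk ⟨y', hy'W⟩
  have key : ∀ r : Y.presheaf.stalk y', ∃ (a : Γ(Y, W)) (s : Γ(Y, W)),
      s ∉ (hW.primeIdealOf ⟨y', hy'W⟩).asIdeal ∧
      (r ∈ maximalIdeal (Y.presheaf.stalk y') → a ∈ (hW.primeIdealOf ⟨y', hy'W⟩).asIdeal) ∧
      (Y.presheaf.stalkSpecializes hy' ≫ f.stalkMap (genericPoint X)).hom r * φW f hξW s =
        φW f hξW a := by
    intro r
    obtain ⟨a, s, rfl⟩ := IsLocalization.exists_mk'_eq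
      (hW.primeIdealOf ⟨y', hy'W⟩).asIdeal.primeCompl r
    refine ⟨a, s.1, s.2, fun hr => ?_, ?_⟩
    · exact (IsLocalization.AtPrime.mk'_mem_maximal_iff (Y.presheaf.stalk y')
        (hW.primeIdealOf ⟨y', hy'W⟩).asIdeal a s).mp hr
    · rw [← Φ_germ f hξW hy'W hy' s.1, ← Φ_germ f hξW hy'W hy' a, ← map_mul]
      congr 1
      exact IsLocalization.mk'_spec _ a s
  have hval : ∀ r : Y.presheaf.stalk y', ∃ a : Γ(Y, W),
      (r ∈ maximalIdeal (Y.presheaf.stalk y') → a ∈ (hW.primeIdealOf ⟨y', hy'W⟩).asIdeal) ∧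
      V.valuation ((Y.presheaf.stalkSpecializes hy' ≫ f.stalkMap (genericPoint X)).hom r) =
        V.valuation (φW f hξW a) := by
    intro r
    obtain ⟨a, s, hs, ha, he⟩ := key r
    refine ⟨a, ha, ?_⟩
    have hs1 : V.valuation (φW f hξW s) = 1 := by
      apply le_antisymm ((V.valuation_le_one_iff _).mpr (h1 s))
      by_contra hlt
      exact hs ((h2 s).mp (not_le.mp hlt))
    rw [← he, map_mul, hs1, mul_one]
  constructor
  · intro r
    obtain ⟨a, -, he⟩ := hval r
    rw [← V.valuation_le_one_iff, he]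
    exact (V.valuation_le_one_iff _).mpr (h1 a)
  · intro r hr
    obtain ⟨a, ha, he⟩ := hval r
    rw [he]
    exact (h2 a).mpr (ha hr)

end Bridge

section Charts

variable [IsIntegral X] (f : X ⟶ Y) {W : Y.Opens} (hξW : f (genericPoint X) ∈ W)

lemma germ_appLE (U : X.Opens) (hξU : genericPoint X ∈ U) (hUW : U ≤ f ⁻¹ᵁ W) (a : Γ(Y, W)) :
    (X.presheaf.germ U (genericPoint X) hξU).hom ((f.appLE W U hUW).hom a) = φW f hξW a := by
  change (f.appLE W U hUW ≫ X.presheaf.germ U (genericPoint X) hξU).hom a = _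
  have : f.appLE W U hUW ≫ X.presheaf.germ U (genericPoint X) hξU =
      Y.presheaf.germ W (f (genericPoint X)) hξW ≫ f.stalkMap (genericPoint X) := by
    rw [Scheme.Hom.appLE, Category.assoc, TopCat.Presheaf.germ_res, Scheme.Hom.germ_stalkMap]
  rw [this]
  rfl

/-- If generators of the chart lie in the valuation ring, so does the whole chart. -/
theorem germ_mem_of_gens (U : X.Opens) (hξU : genericPoint X ∈ U) (hUW : U ≤ f ⁻¹ᵁ W)
    (gU : Finset Γ(X, U))
    (hg : letI := (f.appLE W U hUW).hom.toAlgebra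
      Algebra.adjoin Γ(Y, W) (gU : Set Γ(X, U)) = ⊤)
    (V : ValuationSubring X.functionField) (h1 : ∀ a, φW f hξW a ∈ V)
    (h2 : ∀ b ∈ gU, (X.presheaf.germ U (genericPoint X) hξU).hom b ∈ V) (c : Γ(X, U)) :
    (X.presheaf.germ U (genericPoint X) hξU).hom c ∈ V := by
  letI := (f.appLE W U hUW).hom.toAlgebra
  have hc : c ∈ Algebra.adjoin Γ(Y, W) (gU : Set Γ(X, U)) := hg ▸ Algebra.mem_top
  induction hc using Algebra.adjoin_induction with
  | mem x hx => exact h2 x hx
  | algebraMap r =>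
    have : algebraMap Γ(Y, W) Γ(X, U) r = (f.appLE W U hUW).hom r := rfl
    rw [this, germ_appLE f hξW U hξU hUW r]
    exact h1 r
  | add x y _ _ ihx ihy =>
    rw [map_add]
    exact V.add_mem _ _ ihx ihy
  | mul x y _ _ ihx ihy =>
    rw [map_mul]
    exact V.mul_mem _ _ ihx ihy

end Charts

end Groth.Agent.H73.ProperNhd
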