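import Groth.Agent.H73.ProperNhd

/-!
# Properness over a neighbourhood of a point from discrete valuation rings (EGA IV 15.7-type)
-/

set_option autoImplicit false
universe u
open CategoryTheory CategoryTheory.Limits AlgebraicGeometry IsLocalRing

namespace Groth.Agent.H73.ProperNhd

open Groth.Agent.H54.DVRProper

variable {X Y : Scheme.{u}}

/-- The function field is generated, as a field, by the image of the chart and finitely many
elements. -/
theorem exists_finset_closure_chart [IsIntegral X] [IsIntegral Y] (f : X ⟶ Y)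
    [LocallyOfFiniteType f] {W : Y.Opens} (hW : IsAffineOpen W) (y : Y) (hyW : y ∈ W)
    (hξ : f.base (genericPoint X) ⤳ y) (hξW : f (genericPoint X) ∈ W) :
    ∃ t : Finset X.functionField,
      Subfield.closure (Set.range (φW f hξW) ∪ t) = ⊤ := by
  obtain ⟨t, ht⟩ := exists_finset_closure f y hξ
  refine ⟨t, ?_⟩
  rw [_root_.eq_top_iff, ← ht, Subfield.closure_le]
  rintro z (hz | hz)
  · obtain ⟨r, rfl⟩ := hz
    letI := Y.presheaf.algebra_section_stalk (⟨y, hyW⟩ : W)
    haveI := hW.isLocalization_stalk ⟨y, hyW⟩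
    obtain ⟨a, s, rfl⟩ := IsLocalization.exists_mk'_eq
      (hW.primeIdealOf ⟨y, hyW⟩).asIdeal.primeCompl r
    have he : (Y.presheaf.stalkSpecializes hξ ≫ f.stalkMap (genericPoint X)).hom
        (IsLocalization.mk' (Y.presheaf.stalk y) a s) * φW f hξW s.1 = φW f hξW a := by
      rw [← Φ_germ f hξW hyW hξ s.1, ← Φ_germ f hξW hyW hξ a, ← map_mul]
      congr 1
      exact IsLocalization.mk'_spec _ a s
    have hu : IsUnit ((Y.presheaf.germ W y hyW).hom s.1) :=
      (IsLocalization.AtPrime.isUnit_to_map_iff (Y.presheaf.stalk y)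
        (hW.primeIdealOf ⟨y, hyW⟩).asIdeal s.1).mpr s.2
    have hs0 : φW f hξW s.1 ≠ 0 := by
      rw [← Φ_germ f hξW hyW hξ s.1]
      exact (hu.map (Y.presheaf.stalkSpecializes hξ ≫ f.stalkMap (genericPoint X)).hom).ne_zero
    change (Y.presheaf.stalkSpecializes hξ ≫ f.stalkMap (genericPoint X)).hom
        (IsLocalization.mk' (Y.presheaf.stalk y) a s) ∈ _
    rw [eq_div_of_mul_eq hs0 he]
    exact div_mem (Subfield.subset_closure (Or.inl ⟨a, rfl⟩))
      (Subfield.subset_closure (Or.inl ⟨s.1, rfl⟩))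
  · exact Subfield.subset_closure (Or.inr hz)

open scoped Classical in
/-- **(⇐)** If every discrete valuation ring of `K(X)` dominating `O_{Y,y}` has a centre on `X`
over `y`, then `f` is proper over a neighbourhood of `y`. -/
theorem exists_proper_nhd [IsIntegral X] [IsIntegral Y] [IsLocallyNoetherian Y] (f : X ⟶ Y)
    [IsSeparated f] [LocallyOfFiniteType f] [QuasiCompact f] (y : Y)
    (hξ : f.base (genericPoint X) ⤳ y)
    (hdvr : ∀ A : ValuationSubring X.functionField, IsDiscreteValuationRing A →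
      (∀ r : Y.presheaf.stalk y,
        (Y.presheaf.stalkSpecializes hξ ≫ f.stalkMap (genericPoint X)).hom r ∈ A) →
      (∀ r ∈ maximalIdeal (Y.presheaf.stalk y),
        A.valuation ((Y.presheaf.stalkSpecializes hξ ≫ f.stalkMap (genericPoint X)).hom r) < 1) →
      ∃ x : X, f.base x = y ∧
        (∀ r : X.presheaf.stalk x, algebraMap (X.presheaf.stalk x) X.functionField r ∈ A) ∧
        (∀ r ∈ maximalIdeal (X.presheaf.stalk x),
          A.valuation (algebraMap (X.presheaf.stalk x) X.functionField r) < 1)) :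
    ∃ U : Y.Opens, y ∈ U ∧ IsProper (f ∣_ U) := by
  obtain ⟨_, ⟨W, hW, rfl⟩, hyW, -⟩ :=
    Y.isBasis_affineOpens.exists_subset_of_mem_open (Set.mem_univ y) isOpen_univ
  have hyW' : y ∈ W := hyW
  have hξW : f (genericPoint X) ∈ W := hξ.mem_open W.2 hyW
  haveI : IsNoetherianRing Γ(Y, W) := IsLocallyNoetherian.component_noetherian ⟨W, hW⟩
  have hc : IsCompact ((f ⁻¹ᵁ W : X.Opens) : Set X) := f.isCompact_preimage hW.isCompact
  obtain ⟨s, hsfin, hs⟩ := (isCompact_and_isOpen_iff_finite_and_eq_biUnion_affineOpens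
    (U := ((f ⁻¹ᵁ W : X.Opens) : Set X))).mp ⟨hc, (f ⁻¹ᵁ W).2⟩
  have hUW : ∀ U ∈ s, (U : X.Opens) ≤ f ⁻¹ᵁ W := by
    intro U hU x hx
    have : x ∈ ⋃ i ∈ s, ((i : X.Opens) : Set X) := Set.mem_biUnion hU hx
    rw [← hs] at this
    exact this
  have hcover : ∀ x : X, f x ∈ W → ∃ U ∈ s, x ∈ (U : X.Opens) := by
    intro x hx
    have : x ∈ ((f ⁻¹ᵁ W : X.Opens) : Set X) := hx
    rw [hs] at this
    obtain ⟨U, hU, hxU⟩ := Set.mem_iUnion₂.mp this
    exact ⟨U, hU, hxU⟩
  have hfg : ∀ (U : X.affineOpens) (h : (U : X.Opens) ≤ f ⁻¹ᵁ W),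
      ∃ gU : Finset Γ(X, (U : X.Opens)),
        letI := (f.appLE W U h).hom.toAlgebra
        Algebra.adjoin Γ(Y, W) (gU : Set Γ(X, (U : X.Opens))) = ⊤ := by
    intro U h
    have hft : (f.appLE W U h).hom.FiniteType := f.finiteType_appLE hW U.2 h
    letI := (f.appLE W U h).hom.toAlgebra
    exact (show Algebra.FiniteType Γ(Y, W) Γ(X, (U : X.Opens)) from hft).out
  let s₁ : Finset X.affineOpens :=
    hsfin.toFinset.filter (fun U => genericPoint X ∈ (U : X.Opens))
  let G : X.affineOpens → Finset X.functionField := fun U =>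
    if h : genericPoint X ∈ (U : X.Opens) ∧ (U : X.Opens) ≤ f ⁻¹ᵁ W then
      (Classical.choose (hfg U h.2)).image (X.presheaf.germ U (genericPoint X) h.1).hom
    else ∅
  have hs₁ : s₁.Nonempty := by
    obtain ⟨U, hU, hxU⟩ := hcover (genericPoint X) hξW
    exact ⟨U, Finset.mem_filter.mpr ⟨hsfin.mem_toFinset.mpr hU, hxU⟩⟩
  obtain ⟨t, ht⟩ := exists_finset_closure_chart f hW y hyW' hξ hξW
  letI : Algebra Γ(Y, W) X.functionField := (φW f hξW).toAlgebra
  have hyp : ∀ V : ValuationSubring X.functionField, IsDiscreteValuationRing V →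
      (∀ a, algebraMap Γ(Y, W) X.functionField a ∈ V) →
      (∀ a, V.valuation (algebraMap Γ(Y, W) X.functionField a) < 1 ↔
        a ∈ (hW.primeIdealOf ⟨y, hyW'⟩).asIdeal) → ¬ Bad s₁ G V := by
    intro V hV h1 h2 hbad
    obtain ⟨hs1, hs2⟩ := stalk_of_core f hW hξW V hyW' hξ h1 h2
    obtain ⟨x, hfx, hx1, hx2⟩ := hdvr V hV hs1 hs2
    have hxW : f x ∈ W := hfx ▸ hyW'
    obtain ⟨U, hUs, hxU⟩ := hcover x hxW
    have hξU : genericPoint X ∈ (U : X.Opens) :=
      ((genericPoint_spec X).mem_open_set_iff (U : X.Opens).2).mpr ⟨x, trivial, hxU⟩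
    have hU₁ : U ∈ s₁ := Finset.mem_filter.mpr ⟨hsfin.mem_toFinset.mpr hUs, hξU⟩
    obtain ⟨b, hbG, hbV⟩ := hbad U hU₁
    have hGU : G U = (Classical.choose (hfg U (hUW U hUs))).image
        (X.presheaf.germ U (genericPoint X) hξU).hom := dif_pos ⟨hξU, hUW U hUs⟩
    rw [hGU] at hbG
    obtain ⟨c, -, rfl⟩ := Finset.mem_image.mp hbG
    exact hbV (germ_mem_of_dominated (U : X.Opens) hξU x hxU V hx1 c)
  obtain ⟨J, hJp, hJ⟩ := exists_ideal (A₀ := Γ(Y, W)) (K := X.functionField) s₁ hs₁ G t ht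
    (hW.primeIdealOf ⟨y, hyW'⟩).asIdeal hyp
  obtain ⟨j, hjJ, hjp⟩ := SetLike.not_le_iff_exists.mp hJp
  have hmemU' : ∀ (y' : Y) (hy'W : y' ∈ W),
      y' ∈ Y.basicOpen j ↔ j ∉ (hW.primeIdealOf ⟨y', hy'W⟩).asIdeal := by
    intro y' hy'W
    letI := Y.presheaf.algebra_section_stalk (⟨y', hy'W⟩ : W)
    haveI := hW.isLocalization_stalk ⟨y', hy'W⟩
    rw [Scheme.mem_basicOpen _ _ y' hy'W]
    exact IsLocalization.AtPrime.isUnit_to_map_iff (Y.presheaf.stalk y')
      (hW.primeIdealOf ⟨y', hy'W⟩).asIdeal j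
  refine ⟨Y.basicOpen j, (hmemU' y hyW').mpr hjp, ?_⟩
  have hex : ValuativeCriterion.Existence (f ∣_ Y.basicOpen j) := by
    apply existence_morphismRestrict
    intro S hS
    have hy₀W : S.i₂ (closedPoint S.R) ∈ W := Y.basicOpen_le j hS
    refine existence_local f S W hW hy₀W ?_
    rintro R hy ⟨hd1, hd2⟩
    obtain ⟨c1, c2⟩ := core_of_stalk f hW hξW R hy₀W hy hd1 hd2
    have hnJ : ¬ J ≤ (hW.primeIdealOf ⟨S.i₂ (closedPoint S.R), hy₀W⟩).asIdeal :=
      fun hle => (hmemU' _ hy₀W).mp hS (hle hjJ)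
    have hnb : ¬ Bad s₁ G R := hJ _ R c1 c2 hnJ
    unfold Bad at hnb
    push Not at hnb
    obtain ⟨U, hU₁, hUG⟩ := hnb
    obtain ⟨hUs', hξU⟩ := Finset.mem_filter.mp hU₁
    have hUs : U ∈ s := hsfin.mem_toFinset.mp hUs'
    have hGU : G U = (Classical.choose (hfg U (hUW U hUs))).image
        (X.presheaf.germ U (genericPoint X) hξU).hom := dif_pos ⟨hξU, hUW U hUs⟩
    have hall : ∀ c : Γ(X, (U : X.Opens)),
        (X.presheaf.germ U (genericPoint X) hξU).hom c ∈ R :=
      germ_mem_of_gens f hξW (U : X.Opens) hξU (hUW U hUs) _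
        (Classical.choose_spec (hfg U (hUW U hUs))) R c1
        (fun b hb => hUG _ (by rw [hGU]; exact Finset.mem_image_of_mem _ hb))
    obtain ⟨x, hxU, hx1, hx2⟩ := exists_dominated_of_germ_mem (U : X.Opens) U.2 hξU R hall
    exact ⟨x, map_eq_of_dominates_local f W hW R _ hy₀W hy hd1 hd2 x (hUW U hUs hxU) hx1 hx2,
      hx1, hx2⟩
  haveI : UniversallyClosed (f ∣_ Y.basicOpen j) := UniversallyClosed.of_valuativeCriterion _ hex
  exact {}

/-- **(⇒)** If `f` is proper over a neighbourhood of `y`, every valuation ring of `K(X)`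
dominating `O_{Y,y}` has a centre on `X` over `y`. -/
theorem exists_center_of_proper_nhd [IsIntegral X] [IsIntegral Y] (f : X ⟶ Y) (y : Y)
    (hξ : f.base (genericPoint X) ⤳ y) (U : Y.Opens) (hyU : y ∈ U) (hp : IsProper (f ∣_ U))
    (A : ValuationSubring X.functionField)
    (h1 : ∀ r : Y.presheaf.stalk y,
      (Y.presheaf.stalkSpecializes hξ ≫ f.stalkMap (genericPoint X)).hom r ∈ A)
    (h2 : ∀ r ∈ maximalIdeal (Y.presheaf.stalk y),
      A.valuation ((Y.presheaf.stalkSpecializes hξ ≫ f.stalkMap (genericPoint X)).hom r) < 1) :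
    ∃ x : X, f.base x = y ∧
      (∀ r : X.presheaf.stalk x, algebraMap (X.presheaf.stalk x) X.functionField r ∈ A) ∧
      (∀ r ∈ maximalIdeal (X.presheaf.stalk x),
        A.valuation (algebraMap (X.presheaf.stalk x) X.functionField r) < 1) := by
  let φy : Y.presheaf.stalk y ⟶ X.functionField :=
    Y.presheaf.stalkSpecializes hξ ≫ f.stalkMap (genericPoint X)
  let jy : Y.presheaf.stalk y →+* A := φy.hom.codRestrict A h1
  haveI : IsLocalHom jy := ⟨fun a ha => by
    by_contra hna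
    have hm : a ∈ maximalIdeal (Y.presheaf.stalk y) := hna
    have h3 := h2 a hm
    have h4 : A.valuation ((jy a : A) : X.functionField) = 1 := (A.valuation_eq_one_iff _).mp ha
    exact h3.ne h4⟩
  let g₂ : Spec (CommRingCat.of A) ⟶ Y := Spec.map (CommRingCat.ofHom jy) ≫ Y.fromSpecStalk y
  let ι : Spec (CommRingCat.of X.functionField) ⟶ Spec (CommRingCat.of A) :=
    Spec.map (CommRingCat.ofHom (algebraMap A X.functionField))
  have e1 : ι ≫ g₂ = X.fromSpecStalk (genericPoint X) ≫ f := by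
    have e : CommRingCat.ofHom jy ≫ CommRingCat.ofHom (algebraMap A X.functionField) = φy :=
      CommRingCat.hom_ext (RingHom.ext fun a => rfl)
    change Spec.map (CommRingCat.ofHom (algebraMap A X.functionField)) ≫
      Spec.map (CommRingCat.ofHom jy) ≫ Y.fromSpecStalk y = _
    rw [← Category.assoc, ← Spec.map_comp, e]
    simp only [φy, Spec.map_comp, Category.assoc]
    rw [Scheme.SpecMap_stalkSpecializes_fromSpecStalk, Scheme.SpecMap_stalkMap_fromSpecStalk]
  have p1 : g₂ (closedPoint A) = y := by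
    change (Y.fromSpecStalk y) (Spec.map (CommRingCat.ofHom jy) (closedPoint A)) = y
    rw [show Spec.map (CommRingCat.ofHom jy) (closedPoint A) = closedPoint _ from
      comap_closedPoint jy]
    exact Scheme.fromSpecStalk_closedPoint
  have hr₂ : Set.range g₂ ⊆ Set.range U.ι := by
    rintro _ ⟨t, rfl⟩
    rw [Scheme.Opens.range_ι]
    exact ((specializes_closedPoint t).map g₂.continuous).mem_open U.2 (p1 ▸ hyU)
  have hr₁ : Set.range (X.fromSpecStalk (genericPoint X)) ⊆ Set.range (f ⁻¹ᵁ U).ι := by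
    rintro _ ⟨t, rfl⟩
    rw [Scheme.Opens.range_ι]
    change (X.fromSpecStalk (genericPoint X) ≫ f) t ∈ U
    rw [← e1]
    have := hr₂ ⟨ι t, rfl⟩
    rw [Scheme.Opens.range_ι] at this
    exact this
  have e₂ := IsOpenImmersion.lift_fac U.ι g₂ hr₂
  have e₁ := IsOpenImmersion.lift_fac (f ⁻¹ᵁ U).ι (X.fromSpecStalk (genericPoint X)) hr₁
  let S : ValuativeCommSq (f ∣_ U) :=
    { R := A
      K := X.functionField
      i₁ := IsOpenImmersion.lift (f ⁻¹ᵁ U).ι (X.fromSpecStalk (genericPoint X)) hr₁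
      i₂ := IsOpenImmersion.lift U.ι g₂ hr₂
      commSq := ⟨by
        rw [← cancel_mono U.ι, Category.assoc, morphismRestrict_ι, ← Category.assoc, e₁,
          Category.assoc, e₂]
        exact e1.symm⟩ }
  have hex : ValuativeCriterion.Existence (f ∣_ U) := by
    have h3 : (ValuativeCriterion.Existence ⊓ @QuasiCompact) (f ∣_ U) := by
      rw [← UniversallyClosed.eq_valuativeCriterion]
      infer_instance
    exact h3.1
  obtain ⟨⟨l', hl₁, hl₂⟩⟩ := hex S
  let l : Spec (CommRingCat.of A) ⟶ X := l' ≫ (f ⁻¹ᵁ U).ι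
  have hl₁' : ι ≫ l = X.fromSpecStalk (genericPoint X) := by
    change ι ≫ l' ≫ (f ⁻¹ᵁ U).ι = _
    rw [← Category.assoc]
    have : ι ≫ l' = S.i₁ := hl₁
    rw [this]
    exact e₁
  have hl₂' : l ≫ f = g₂ := by
    change (l' ≫ (f ⁻¹ᵁ U).ι) ≫ f = _
    rw [Category.assoc, ← morphismRestrict_ι, ← Category.assoc]
    have : l' ≫ (f ∣_ U) = S.i₂ := hl₂
    rw [this]
    exact e₂
  let x : X := l (closedPoint A)
  have hξx : genericPoint X ⤳ x := (genericPoint_spec X).specializes trivial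
  let ψ : X.presheaf.stalk x ⟶ CommRingCat.of A := Scheme.stalkClosedPointTo l
  haveI : IsLocalHom ψ.hom := Scheme.isLocalHom_stalkClosedPointTo l
  have hψ : ψ ≫ CommRingCat.ofHom (algebraMap A X.functionField) =
      X.presheaf.stalkSpecializes hξx := by
    apply Spec.map_injective
    rw [← cancel_mono (X.fromSpecStalk x)]
    rw [Spec.map_comp, Category.assoc, Scheme.Spec_stalkClosedPointTo_fromSpecStalk,
      Scheme.SpecMap_stalkSpecializes_fromSpecStalk]
    exact hl₁'
  have hval : ∀ r : X.presheaf.stalk x,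
      algebraMap (X.presheaf.stalk x) X.functionField r = ((ψ.hom r : A) : X.functionField) := by
    intro r
    have := congrArg (fun g => g.hom r) hψ
    exact this.symm
  refine ⟨x, ?_, fun r => ?_, fun r hr => ?_⟩
  · change (l ≫ f) (closedPoint A) = y
    rw [hl₂']
    exact p1
  · rw [hval]
    exact (ψ.hom r).2
  · rw [hval]
    rw [← A.valuation_lt_one_iff]
    exact (mem_maximalIdeal _).mpr
      (fun hu => (mem_maximalIdeal _).mp hr (isUnit_of_map_unit ψ.hom r hu))

end Groth.Agent.H73.ProperNhd
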