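import Mathlib

/-!
# The rank of a valuation ring of a finitely generated field is finite

If `V` is a valuation ring (a domain) such that every element of `V` is a quotient of two elements
of the subring generated by a finite set `s ⊆ V`, then every chain of primes of `V` has length at
most `s.card + 1`.  (A weak form of Abhyankar's inequality `rank ≤ trdeg + 1`.)
-/

set_option autoImplicit false

namespace Groth.Agent.H73.ValRank

set_option linter.unusedSectionVars false

variable {V : Type*} [CommRing V] [IsDomain V] [ValuationRing V]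

/-- The "level" of an element: the radical of the principal ideal it generates. -/
noncomputable abbrev level (z : V) : Ideal V := Ideal.radical (Ideal.span {z})

theorem self_mem_level (z : V) : z ∈ level z :=
  Ideal.le_radical (Ideal.mem_span_singleton_self z)

theorem level_le_of_mem {z : V} {Q : Ideal V} (hQ : Q.IsPrime) (hz : z ∈ Q) : level z ≤ Q := by
  have h : Ideal.span {z} ≤ Q := (Ideal.span_singleton_le_iff_mem _).mpr hz
  exact (Ideal.radical_mono h).trans_eq hQ.radical

theorem level_isPrime {z : V} (hz : ¬ IsUnit z) : (level z).IsPrime := by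
  have hne : level z ≠ ⊤ := by
    rw [Ne, Ideal.radical_eq_top, Ideal.span_singleton_eq_top]
    exact hz
  refine ⟨hne, fun {a b} hab => ?_⟩
  rcases ValuationRing.dvd_total a b with ⟨c, rfl⟩ | ⟨c, rfl⟩
  · right
    apply Ideal.mem_radical_of_pow_mem (m := 2)
    have h : (a * c) ^ 2 = (a * (a * c)) * c := by ring
    rw [h]
    exact Ideal.mul_mem_right _ _ hab
  · left
    apply Ideal.mem_radical_of_pow_mem (m := 2)
    have h : (b * c) ^ 2 = (b * c * b) * c := by ring
    rw [h]
    exact Ideal.mul_mem_right _ _ hab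

/-- Monomials in elements of pairwise distinct levels with different exponents are not
associated. -/
theorem monomial_exponents_eq {ι : Type*} (z : ι → V) (e e' : ι → ℕ) :
    ∀ (n : ℕ) (T : Finset ι), T.card = n →
    (∀ i ∈ T, z i ≠ 0) → (∀ i ∈ T, ¬ IsUnit (z i)) →
    (∀ i ∈ T, ∀ j ∈ T, level (z i) = level (z j) → i = j) →
    ∀ u : Vˣ, ∏ i ∈ T, z i ^ e i = u * ∏ i ∈ T, z i ^ e' i → ∀ i ∈ T, e i = e' i := by
  classical
  intro n
  induction n with
  | zero =>
    intro T hT _ _ _ _ _ i hi
    rw [Finset.card_eq_zero] at hT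
    simp [hT] at hi
  | succ n ih =>
    intro T hT h0 hnu hinj u h
    have hTne : T.Nonempty := Finset.card_pos.mp (by omega)
    obtain ⟨i₀, hi₀, hmin⟩ := Finset.exists_min_image T (fun i => level (z i)) hTne
    have hQ : (level (z i₀)).IsPrime := level_isPrime (hnu i₀ hi₀)
    have hout : ∀ i ∈ T.erase i₀, z i ∉ level (z i₀) := by
      intro i hi hmem
      have hiT := Finset.mem_of_mem_erase hi
      have h1 : level (z i) ≤ level (z i₀) := level_le_of_mem hQ hmem
      have h2 := hmin i hiT
      exact (Finset.ne_of_mem_erase hi) (hinj i hiT i₀ hi₀ (le_antisymm h1 h2))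
    have hprod : ∀ f : ι → ℕ, ∏ i ∈ T.erase i₀, z i ^ f i ∉ level (z i₀) := by
      intro f hmem
      rw [hQ.prod_mem_iff] at hmem
      obtain ⟨i, hi, him⟩ := hmem
      exact hout i hi (hQ.mem_of_pow_mem _ him)
    have hz0 : z i₀ ≠ 0 := h0 i₀ hi₀
    rw [← Finset.mul_prod_erase T (fun i => z i ^ e i) hi₀,
      ← Finset.mul_prod_erase T (fun i => z i ^ e' i) hi₀] at h
    have hcard : (T.erase i₀).card = n := by
      rw [Finset.card_erase_of_mem hi₀, hT]
      rfl
    rcases lt_trichotomy (e i₀) (e' i₀) with hlt | heq | hgt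
    · exfalso
      obtain ⟨d, hd⟩ := Nat.exists_eq_add_of_lt hlt
      have hA : ∏ i ∈ T.erase i₀, z i ^ e i =
          z i₀ * (↑u * z i₀ ^ d * ∏ i ∈ T.erase i₀, z i ^ e' i) := by
        apply mul_left_cancel₀ (pow_ne_zero (e i₀) hz0)
        rw [h, hd]
        ring
      apply hprod e
      rw [hA]
      exact Ideal.mul_mem_right _ _ (self_mem_level _)
    · have hAB : ∏ i ∈ T.erase i₀, z i ^ e i = ↑u * ∏ i ∈ T.erase i₀, z i ^ e' i := by
        apply mul_left_cancel₀ (pow_ne_zero (e i₀) hz0)
        rw [h, heq]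
        ring
      have hrest := ih (T.erase i₀) hcard
        (fun i hi => h0 i (Finset.mem_of_mem_erase hi))
        (fun i hi => hnu i (Finset.mem_of_mem_erase hi))
        (fun i hi j hj hij => hinj i (Finset.mem_of_mem_erase hi) j (Finset.mem_of_mem_erase hj) hij)
        u hAB
      intro i hi
      by_cases hii : i = i₀
      · rw [hii]
        exact heq
      · exact hrest i (Finset.mem_erase.mpr ⟨hii, hi⟩)
    · exfalso
      obtain ⟨d, hd⟩ := Nat.exists_eq_add_of_lt hgt
      have hB : ↑u * ∏ i ∈ T.erase i₀, z i ^ e' i =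
          z i₀ * (z i₀ ^ d * ∏ i ∈ T.erase i₀, z i ^ e i) := by
        apply mul_left_cancel₀ (pow_ne_zero (e' i₀) hz0)
        have h' : z i₀ ^ e' i₀ * (↑u * ∏ i ∈ T.erase i₀, z i ^ e' i) =
            ↑u * (z i₀ ^ e' i₀ * ∏ i ∈ T.erase i₀, z i ^ e' i) := by ring
        rw [h', ← h, hd]
        ring
      apply hprod e'
      have hmem : ↑u * ∏ i ∈ T.erase i₀, z i ^ e' i ∈ level (z i₀) := by
        rw [hB]
        exact Ideal.mul_mem_right _ _ (self_mem_level _)
      exact (Ideal.unit_mul_mem_iff_mem _ u.isUnit).mp hmem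

/-- A nonempty sum of nonzero, pairwise non-associated elements of a valuation ring is nonzero. -/
theorem sum_ne_zero_of_not_associated {ι : Type*} (T : Finset ι) (hT : T.Nonempty) (t : ι → V)
    (h0 : ∀ i ∈ T, t i ≠ 0)
    (hna : ∀ i ∈ T, ∀ j ∈ T, i ≠ j → ∀ u : Vˣ, t i ≠ u * t j) :
    ∑ i ∈ T, t i ≠ 0 := by
  classical
  obtain ⟨i₀, hi₀, hmax⟩ := Finset.exists_max_image T (fun i => Ideal.span {t i}) hT
  have hdvd : ∀ i ∈ T, t i₀ ∣ t i := fun i hi =>
    Ideal.span_singleton_le_span_singleton.mp (hmax i hi)
  choose! w hw using hdvd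
  have hwnu : ∀ i ∈ T.erase i₀, w i ∈ IsLocalRing.maximalIdeal V := by
    intro i hi
    rw [IsLocalRing.mem_maximalIdeal, mem_nonunits_iff]
    intro hu
    have hiT := Finset.mem_of_mem_erase hi
    apply hna i hiT i₀ hi₀ (Finset.ne_of_mem_erase hi) hu.unit
    rw [hw i hiT, hu.unit_spec, mul_comm]
  have hsum : ∑ i ∈ T, t i = t i₀ * (1 + ∑ i ∈ T.erase i₀, w i) := by
    rw [← Finset.add_sum_erase T t hi₀, mul_add, mul_one, Finset.mul_sum]
    congr 1
    apply Finset.sum_congr rfl
    intro i hi
    exact hw i (Finset.mem_of_mem_erase hi)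
  rw [hsum]
  apply mul_ne_zero (h0 i₀ hi₀)
  intro h
  have hmem : ∑ i ∈ T.erase i₀, w i ∈ IsLocalRing.maximalIdeal V := Ideal.sum_mem _ hwnu
  have h1 : (1 : V) ∈ IsLocalRing.maximalIdeal V := by
    have h1 : (1 : V) = -(∑ i ∈ T.erase i₀, w i) := by linear_combination h
    rw [h1]
    exact neg_mem hmem
  exact (IsLocalRing.maximalIdeal.isMaximal V).ne_top ((Ideal.eq_top_iff_one _).mpr h1)

/-- There is a nonzero nonunit `π` such that every integer which is nonzero in `V` is a unit times
a power of `π` (provided `V` has a nonzero nonunit at all). -/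
theorem exists_uniformizer_int (x₀ : V) (hx0 : x₀ ≠ 0) (hxnu : ¬ IsUnit x₀) :
    ∃ π : V, π ≠ 0 ∧ ¬ IsUnit π ∧
      ∀ N : ℤ, (N : V) ≠ 0 → ∃ (u : Vˣ) (a : ℕ), (N : V) = u * π ^ a := by
  classical
  -- it suffices to treat natural numbers
  suffices hnat : ∃ π : V, π ≠ 0 ∧ ¬ IsUnit π ∧
      ∀ M : ℕ, (M : V) ≠ 0 → ∃ (u : Vˣ) (a : ℕ), (M : V) = u * π ^ a by
    obtain ⟨π, h1, h2, h3⟩ := hnat
    refine ⟨π, h1, h2, fun N hN => ?_⟩
    rcases Int.natAbs_eq N with h | h
    · rw [h, Int.cast_natCast] at hN ⊢
      exact h3 _ hN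
    · rw [h, Int.cast_neg, Int.cast_natCast] at hN ⊢
      obtain ⟨u, a, hua⟩ := h3 _ (neg_ne_zero.mp hN)
      exact ⟨-u, a, by rw [hua, Units.val_neg, neg_mul]⟩
  by_cases hcase : ∀ M : ℕ, (M : V) ≠ 0 → IsUnit (M : V)
  · exact ⟨x₀, hx0, hxnu, fun M hM => ⟨(hcase M hM).unit, 0, by simp⟩⟩
  · push Not at hcase
    obtain ⟨M₀, hM₀, hM₀nu⟩ := hcase
    have hex : ∃ M : ℕ, 0 < M ∧ ¬ IsUnit (M : V) := by
      refine ⟨M₀, ?_, hM₀nu⟩
      rcases Nat.eq_zero_or_pos M₀ with h | h
      · rw [h] at hM₀
        simp at hM₀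
      · exact h
    let p := Nat.find hex
    have hp : 0 < p ∧ ¬ IsUnit (p : V) := Nat.find_spec hex
    have hpmin : ∀ m : ℕ, 0 < m → m < p → IsUnit (m : V) := by
      intro m hm hmp
      by_contra hnu
      exact Nat.find_min hex hmp ⟨hm, hnu⟩
    have hpmem : (p : V) ∈ IsLocalRing.maximalIdeal V := by
      rw [IsLocalRing.mem_maximalIdeal, mem_nonunits_iff]
      exact hp.2
    have hdvd : ∀ M : ℕ, ¬ IsUnit (M : V) → p ∣ M := by
      intro M hM
      by_contra hnd
      have hr : 0 < M % p := Nat.pos_of_ne_zero (fun h => hnd (Nat.dvd_of_mod_eq_zero h))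
      have hru : IsUnit ((M % p : ℕ) : V) := hpmin _ hr (Nat.mod_lt _ hp.1)
      have hMmem : (M : V) ∈ IsLocalRing.maximalIdeal V := by
        rw [IsLocalRing.mem_maximalIdeal, mem_nonunits_iff]
        exact hM
      have hcast : ((M % p : ℕ) : V) = (M : V) - (p : V) * ((M / p : ℕ) : V) := by
        have h := Nat.div_add_mod M p
        have h' : ((p * (M / p) + M % p : ℕ) : V) = (M : V) := by rw [h]
        push_cast at h'
        linear_combination h'
      have hrmem : ((M % p : ℕ) : V) ∈ IsLocalRing.maximalIdeal V := by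
        rw [hcast]
        exact sub_mem hMmem (Ideal.mul_mem_right _ _ hpmem)
      rw [IsLocalRing.mem_maximalIdeal, mem_nonunits_iff] at hrmem
      exact hrmem hru
    have hp0 : (p : V) ≠ 0 := by
      obtain ⟨q, hq⟩ := hdvd M₀ hM₀nu
      intro h
      apply hM₀
      rw [hq, Nat.cast_mul, h, zero_mul]
    have hp2 : 2 ≤ p := by
      rcases Nat.lt_or_ge p 2 with h | h
      · exfalso
        have : p = 1 := by omega
        apply hp.2
        rw [this]
        simp
      · exact h
    refine ⟨(p : V), hp0, hp.2, ?_⟩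
    intro M
    induction M using Nat.strong_induction_on with
    | _ M ih =>
      intro hM
      by_cases hu : IsUnit (M : V)
      · exact ⟨hu.unit, 0, by simp⟩
      · obtain ⟨q, hq⟩ := hdvd M hu
        have hq0 : (q : V) ≠ 0 := by
          intro h
          apply hM
          rw [hq, Nat.cast_mul, h, mul_zero]
        have hqpos : 0 < q := by
          rcases Nat.eq_zero_or_pos q with h | h
          · rw [h] at hq0
            simp at hq0
          · exact h
        have hqlt : q < M := by
          rw [hq]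
          nlinarith
        obtain ⟨u, a, hua⟩ := ih q hqlt hq0
        refine ⟨u, a + 1, ?_⟩
        rw [hq, Nat.cast_mul, hua, pow_succ]
        ring

/-- **Bound on chains of primes.**  If every element of the valuation ring `V` is a quotient of
elements of the subring generated by the finite set `s`, then a strictly increasing chain of
`k + 1` primes of `V` has `k ≤ s.card + 1`. -/
theorem chain_length_le (s : Finset V)
    (hs : ∀ v : V, ∃ a b : V, a ∈ Subring.closure (s : Set V) ∧
      b ∈ Subring.closure (s : Set V) ∧ b ≠ 0 ∧ b * v = a)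
    (k : ℕ) (P : Fin (k + 1) → Ideal V) (hP : ∀ i, (P i).IsPrime) (hmono : StrictMono P) :
    k ≤ s.card + 1 := by
  classical
  rcases Nat.eq_zero_or_pos k with rfl | hkpos
  · omega
  have hy : ∀ i : Fin k, ∃ y : V, y ∈ P i.succ ∧ y ∉ P i.castSucc := by
    intro i
    have hlt : P i.castSucc < P i.succ := hmono Fin.castSucc_lt_succ
    obtain ⟨y, hy1, hy2⟩ := SetLike.exists_of_lt hlt
    exact ⟨y, hy1, hy2⟩
  choose y hy1 hy2 using hy
  have hy0 : ∀ i, y i ≠ 0 := fun i h => hy2 i (h ▸ zero_mem _)
  have hynu : ∀ i, ¬ IsUnit (y i) := fun i hu =>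
    (hP i.succ).ne_top (Ideal.eq_top_of_isUnit_mem _ (hy1 i) hu)
  have hlevel_lt : ∀ i j : Fin k, i < j → y j ∉ level (y i) := by
    intro i j hij hmem
    have h1 : level (y i) ≤ P i.succ := level_le_of_mem (hP _) (hy1 i)
    have h2 : P i.succ ≤ P j.castSucc := by
      apply hmono.monotone
      rw [Fin.le_iff_val_le_val]
      simp only [Fin.val_succ, Fin.val_castSucc]
      exact Nat.succ_le_of_lt hij
    exact hy2 j (h2 (h1 hmem))
  have hlevel_inj : ∀ i j : Fin k, level (y i) = level (y j) → i = j := by
    intro i j h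
    by_contra hne
    rcases lt_or_gt_of_ne hne with hij | hji
    · exact hlevel_lt i j hij (h ▸ self_mem_level (y j))
    · exact hlevel_lt j i hji (h.symm ▸ self_mem_level (y i))
  obtain ⟨π, hπ0, hπnu, hπ⟩ := exists_uniformizer_int (y ⟨0, hkpos⟩) (hy0 _) (hynu _)
  let J : Finset (Fin k) := Finset.univ.filter (fun i => ¬ level (y i) = level π)
  have hJcard : k ≤ J.card + 1 := by
    have hcompl : (Finset.univ.filter (fun i : Fin k => level (y i) = level π)).card ≤ 1 := by
      rw [Finset.card_le_one]
      intro a ha b hb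
      simp only [Finset.mem_filter, Finset.mem_univ, true_and] at ha hb
      exact hlevel_inj a b (ha.trans hb.symm)
    have h := Finset.card_filter_add_card_filter_not
      (s := (Finset.univ : Finset (Fin k))) (fun i => level (y i) = level π)
    simp only [Finset.card_univ, Fintype.card_fin] at h
    have hJ' : J.card =
        (Finset.univ.filter (fun i : Fin k => ¬ level (y i) = level π)).card := rfl
    omega
  let Z : Subring V := (Int.castRingHom V).range
  have hZmap : ∀ c : Z, algebraMap Z V c = c.1 := fun c => rfl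
  have hind : AlgebraicIndependent Z (fun j : J => y j.1) := by
    rw [algebraicIndependent_iff]
    intro p hp
    by_contra hp0
    have hsupp : p.support.Nonempty := MvPolynomial.support_nonempty.mpr hp0
    rw [MvPolynomial.aeval_def, MvPolynomial.eval₂_eq'] at hp
    refine sum_ne_zero_of_not_associated p.support hsupp
      (fun d => algebraMap Z V (p.coeff d) * ∏ j : J, y j.1 ^ d j) ?_ ?_ hp
    · intro d hd
      apply mul_ne_zero
      · have hc : p.coeff d ≠ 0 := MvPolynomial.mem_support_iff.mp hd
        intro h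
        apply hc
        exact Subtype.ext h
      · exact Finset.prod_ne_zero_iff.mpr (fun j _ => pow_ne_zero _ (hy0 _))
    · intro d hd d' hd' hne u heq
      have hc : ∀ d ∈ p.support, ∃ (v : Vˣ) (a : ℕ),
          algebraMap Z V (p.coeff d) = v * π ^ a := by
        intro d hd
        obtain ⟨N, hN⟩ := (p.coeff d).2
        have hN' : ((N : ℤ) : V) = (p.coeff d).1 := by
          rw [← hN]
          simp
        have hne0 : ((N : ℤ) : V) ≠ 0 := by
          intro h0
          apply MvPolynomial.mem_support_iff.mp hd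
          apply Subtype.ext
          rw [← hN', h0]
          rfl
        obtain ⟨v, a, hva⟩ := hπ N hne0
        exact ⟨v, a, by rw [hZmap, ← hN', hva]⟩
      obtain ⟨v, a, hva⟩ := hc d hd
      obtain ⟨v', a', hva'⟩ := hc d' hd'
      let zz : Option J → V := fun o => o.elim π (fun j => y j.1)
      let ee : Option J → ℕ := fun o => o.elim a (fun j => d j)
      let ee' : Option J → ℕ := fun o => o.elim a' (fun j => d' j)
      have hprod : ∏ o : Option J, zz o ^ ee o = π ^ a * ∏ j : J, y j.1 ^ d j := by
        rw [Fintype.prod_option]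
        rfl
      have hprod' : ∏ o : Option J, zz o ^ ee' o = π ^ a' * ∏ j : J, y j.1 ^ d' j := by
        rw [Fintype.prod_option]
        rfl
      have heq' : (v : V) * π ^ a * ∏ j : J, y j.1 ^ d j =
          u * ((v' : V) * π ^ a' * ∏ j : J, y j.1 ^ d' j) := by
        have := heq
        simp only [hva, hva'] at this
        exact this
      have hrel : ∏ o ∈ (Finset.univ : Finset (Option J)), zz o ^ ee o =
          ↑(v⁻¹ * u * v') * ∏ o ∈ (Finset.univ : Finset (Option J)), zz o ^ ee' o := by
        rw [hprod, hprod']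
        have h1 : π ^ a * ∏ j : J, y j.1 ^ d j =
            ↑v⁻¹ * ((v : V) * π ^ a * ∏ j : J, y j.1 ^ d j) := by
          rw [mul_assoc (v : V), ← mul_assoc ((v⁻¹ : Vˣ) : V), Units.inv_mul, one_mul]
        rw [h1, heq']
        push_cast
        ring
      have hall := monomial_exponents_eq zz ee ee' _ Finset.univ rfl ?_ ?_ ?_ _ hrel
      · apply hne
        ext j
        exact hall (some j) (Finset.mem_univ _)
      · intro o _
        cases o with
        | none => exact hπ0
        | some j => exact hy0 _
      · intro o _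
        cases o with
        | none => exact hπnu
        | some j => exact hynu _
      · intro o _ o' _ h
        cases o with
        | none =>
          cases o' with
          | none => rfl
          | some j' => exact absurd h.symm (Finset.mem_filter.mp j'.2).2
        | some j =>
          cases o' with
          | none => exact absurd h (Finset.mem_filter.mp j.2).2
          | some j' => exact congrArg some (Subtype.ext (hlevel_inj j.1 j'.1 h))
  have halg : Algebra.IsAlgebraic (Algebra.adjoin Z (s : Set V)) V := by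
    refine ⟨fun v => ?_⟩
    obtain ⟨a, b, ha, hb, hb0, hab⟩ := hs v
    have hle : Subring.closure (s : Set V) ≤ (Algebra.adjoin Z (s : Set V)).toSubring :=
      Subring.closure_le.mpr Algebra.subset_adjoin
    let a' : Algebra.adjoin Z (s : Set V) := ⟨a, hle ha⟩
    let b' : Algebra.adjoin Z (s : Set V) := ⟨b, hle hb⟩
    refine ⟨Polynomial.C b' * Polynomial.X - Polynomial.C a', ?_, ?_⟩
    · intro h
      have h1 := congrArg (fun q => Polynomial.coeff q 1) h
      simp at h1
      exact hb0 (congrArg Subtype.val h1)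
    · rw [map_sub, map_mul, Polynomial.aeval_C, Polynomial.aeval_X, Polynomial.aeval_C]
      show b * v - a = 0
      rw [hab, sub_self]
  have h1 := hind.lift_cardinalMk_le_trdeg
  have h2 := Algebra.IsAlgebraic.trdeg_le_cardinalMk Z (s : Set V)
  have h3 : (J.card : Cardinal) ≤ (s.card : Cardinal) := by
    simp only [Finset.coe_sort_coe, Cardinal.mk_coe_finset] at h2
    simp only [Cardinal.mk_fintype, Fintype.card_coe, Cardinal.lift_natCast,
      Cardinal.lift_uzero] at h1
    exact h1.trans h2
  have h4 : J.card ≤ s.card := by exact_mod_cast h3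
  omega

end Groth.Agent.H73.ValRank
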