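import Mathlib
import Groth.Agent.H73.ValRank

/-!
# Krull dimension of Prüfer domains with finitely generated fraction field; transport lemmas
-/

set_option autoImplicit false

namespace Groth.Agent.H73

/-- A domain all of whose localisations at primes are valuation rings and whose elements are
quotients of elements of the subring generated by a finite set `s` has Krull dimension
at most `s.card + 1`. -/
theorem ringKrullDim_lt_of_prufer (D : Type*) [CommRing D] [IsDomain D]
    (hD : ∀ (p : Ideal D) [p.IsPrime], ValuationRing (Localization.AtPrime p))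
    (s : Finset D)
    (hs : ∀ d : D, ∃ a b : D, a ∈ Subring.closure (s : Set D) ∧
      b ∈ Subring.closure (s : Set D) ∧ b ≠ 0 ∧ b * d = a) :
    ringKrullDim D < ((s.card + 2 : ℕ) : WithBot ℕ∞) := by
  classical
  unfold ringKrullDim
  rw [Order.krullDim_lt_coe_iff]
  intro l
  have hqprime : (l (Fin.last l.length)).asIdeal.IsPrime := (l (Fin.last l.length)).isPrime
  have hW : ValuationRing (Localization.AtPrime (l (Fin.last l.length)).asIdeal) := hD _
  have hdisj : ∀ i, Disjoint (((l (Fin.last l.length)).asIdeal.primeCompl : Submonoid D) : Set D)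
      ((l i).asIdeal : Set D) := by
    intro i
    rw [Set.disjoint_left]
    intro x hx hx'
    apply hx
    have hle : l i ≤ l (Fin.last l.length) := l.monotone (Fin.le_last i)
    exact (PrimeSpectrum.asIdeal_le_asIdeal _ _).mpr hle hx'
  have hPprime : ∀ i, (Ideal.map (algebraMap D
      (Localization.AtPrime (l (Fin.last l.length)).asIdeal)) (l i).asIdeal).IsPrime := fun i =>
    IsLocalization.isPrime_of_isPrime_disjoint (l (Fin.last l.length)).asIdeal.primeCompl _ _
      (l i).isPrime (hdisj i)
  have hPcomap : ∀ i, (Ideal.map (algebraMap D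
      (Localization.AtPrime (l (Fin.last l.length)).asIdeal)) (l i).asIdeal).comap
      (algebraMap D (Localization.AtPrime (l (Fin.last l.length)).asIdeal)) = (l i).asIdeal :=
    fun i => IsLocalization.under_map_of_isPrime_disjoint
      (l (Fin.last l.length)).asIdeal.primeCompl _ (l i).isPrime (hdisj i)
  have hPmono : StrictMono (fun i => Ideal.map (algebraMap D
      (Localization.AtPrime (l (Fin.last l.length)).asIdeal)) (l i).asIdeal) := by
    intro i j hij
    have hlt : l i < l j := l.strictMono hij
    refine lt_of_le_of_ne (Ideal.map_mono ((PrimeSpectrum.asIdeal_le_asIdeal _ _).mpr hlt.le)) ?_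
    intro heq
    have h : (l i).asIdeal = (l j).asIdeal := by
      rw [← hPcomap i, ← hPcomap j]
      exact congrArg _ heq
    exact hlt.ne (PrimeSpectrum.ext h)
  have hinj : Function.Injective
      (algebraMap D (Localization.AtPrime (l (Fin.last l.length)).asIdeal)) :=
    IsLocalization.injective _ (l (Fin.last l.length)).asIdeal.primeCompl_le_nonZeroDivisors
  have hsW : ∀ v : Localization.AtPrime (l (Fin.last l.length)).asIdeal, ∃ a b,
      a ∈ Subring.closure ((s.image (algebraMap D
        (Localization.AtPrime (l (Fin.last l.length)).asIdeal)) : Finset _) : Set _) ∧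
      b ∈ Subring.closure ((s.image (algebraMap D
        (Localization.AtPrime (l (Fin.last l.length)).asIdeal)) : Finset _) : Set _) ∧
      b ≠ 0 ∧ b * v = a := by
    intro v
    obtain ⟨d, t, rfl⟩ := IsLocalization.exists_mk'_eq (l (Fin.last l.length)).asIdeal.primeCompl v
    obtain ⟨a₁, b₁, ha₁, hb₁, hb₁0, h₁⟩ := hs d
    obtain ⟨a₂, b₂, ha₂, hb₂, hb₂0, h₂⟩ := hs (t : D)
    have hmap : ∀ x ∈ Subring.closure (s : Set D),
        algebraMap D (Localization.AtPrime (l (Fin.last l.length)).asIdeal) x ∈
          Subring.closure ((s.image (algebraMap D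
            (Localization.AtPrime (l (Fin.last l.length)).asIdeal)) : Finset _) : Set _) := by
      intro x hx
      have h : algebraMap D (Localization.AtPrime (l (Fin.last l.length)).asIdeal) x ∈
          (Subring.closure (s : Set D)).map
            (algebraMap D (Localization.AtPrime (l (Fin.last l.length)).asIdeal)) :=
        Subring.mem_map.mpr ⟨x, hx, rfl⟩
      rw [RingHom.map_closure] at h
      simpa using h
    have ht0 : (t : D) ≠ 0 := fun h => t.2 (h ▸ Ideal.zero_mem _)
    have ha₂0 : a₂ ≠ 0 := by
      rw [← h₂]
      exact mul_ne_zero hb₂0 ht0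
    refine ⟨algebraMap D _ (a₁ * b₂), algebraMap D _ (b₁ * a₂), hmap _ (mul_mem ha₁ hb₂),
      hmap _ (mul_mem hb₁ ha₂), ?_, ?_⟩
    · rw [Ne, map_eq_zero_iff _ hinj]
      exact mul_ne_zero hb₁0 ha₂0
    · have hv := IsLocalization.mk'_spec'
        (Localization.AtPrime (l (Fin.last l.length)).asIdeal) d t
      have e1 : algebraMap D (Localization.AtPrime (l (Fin.last l.length)).asIdeal) a₁ =
          algebraMap D _ b₁ * algebraMap D _ d := by rw [← map_mul, h₁]
      have e2 : algebraMap D (Localization.AtPrime (l (Fin.last l.length)).asIdeal) a₂ =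
          algebraMap D _ b₂ * algebraMap D _ (t : D) := by rw [← map_mul, h₂]
      rw [map_mul, map_mul, e1, e2]
      linear_combination (algebraMap D
        (Localization.AtPrime (l (Fin.last l.length)).asIdeal) b₁ * algebraMap D _ b₂) * hv
  have hk := ValRank.chain_length_le _ hsW l.length _ hPprime hPmono
  have hcard : (s.image (algebraMap D
      (Localization.AtPrime (l (Fin.last l.length)).asIdeal))).card ≤ s.card :=
    Finset.card_image_le
  omega

/-- The Prüfer property transports along ring isomorphisms. -/
theorem prufer_of_ringEquiv {A B : Type*} [CommRing A] [IsDomain A] [CommRing B] [IsDomain B]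
    (e : A ≃+* B)
    (hB : ∀ (p : Ideal B) [p.IsPrime], ValuationRing (Localization.AtPrime p)) :
    ∀ (p : Ideal A) [p.IsPrime], ValuationRing (Localization.AtPrime p) := by
  intro p hp
  have hq : (p.comap (e.symm : B →+* A)).IsPrime := Ideal.comap_isPrime _ _
  have hV := hB (p.comap (e.symm : B →+* A))
  have hmap : (p.comap (e.symm : B →+* A)).primeCompl.map e.symm.toMonoidHom = p.primeCompl := by
    ext x
    constructor
    · rintro ⟨y, hy, rfl⟩
      exact hy
    · intro hx
      refine ⟨e x, ?_, by simp⟩
      show e x ∉ p.comap (e.symm : B →+* A)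
      rw [Ideal.mem_comap]
      simpa using hx
  let f : Localization.AtPrime (p.comap (e.symm : B →+* A)) ≃+* Localization.AtPrime p :=
    IsLocalization.ringEquivOfRingEquiv (M := (p.comap (e.symm : B →+* A)).primeCompl)
      (T := p.primeCompl) _ _ e.symm hmap
  exact Function.Surjective.valuationRing f.toRingHom f.surjective

/-- Finiteness of the maximal spectrum transports along ring isomorphisms. -/
theorem finite_maximalSpectrum_of_ringEquiv {A B : Type*} [CommRing A] [CommRing B]
    (e : A ≃+* B) (hB : Finite (MaximalSpectrum B)) : Finite (MaximalSpectrum A) := by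
  let φ : MaximalSpectrum A → MaximalSpectrum B := fun m =>
    ⟨m.asIdeal.comap (e.symm : B →+* A),
      Ideal.comap_isMaximal_of_surjective (e.symm : B →+* A) e.symm.surjective (H := m.isMaximal)⟩
  have hφ : Function.Injective φ := by
    intro m m' h
    have h' : m.asIdeal.comap (e.symm : B →+* A) = m'.asIdeal.comap (e.symm : B →+* A) :=
      congrArg MaximalSpectrum.asIdeal h
    apply MaximalSpectrum.ext
    ext x
    have h1 : e x ∈ m.asIdeal.comap (e.symm : B →+* A) ↔ x ∈ m.asIdeal := by
      rw [Ideal.mem_comap]
      simp
    have h2 : e x ∈ m'.asIdeal.comap (e.symm : B →+* A) ↔ x ∈ m'.asIdeal := by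
      rw [Ideal.mem_comap]
      simp
    rw [← h1, ← h2, h']
  exact Finite.of_injective φ hφ

end Groth.Agent.H73
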