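import Groth.Agent.H73.PtFunSpec
import Groth.Prelude.Def_HTop2

/-!
# Seminormality from the extension property of pointwise functions (helper73)
-/

set_option autoImplicit false
universe u

open CategoryTheory AlgebraicGeometry W4c1hilbchowinc

namespace Groth.Agent.H73.PtFunSemi

open Groth.Agent.H73.PtFunSpec

variable {A : Type u} [CommRing A]

open Classical in
/-- The pointwise function `y / x` (zero where `x` vanishes). -/
noncomputable def cuspFun (xx yy : A) : PtFun (Spec (CommRingCat.of A)) :=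
  fun p => if xx ∈ PrimeSpectrum.asIdeal p then 0 else ev A p yy / ev A p xx

theorem cuspFun_of_mem (xx yy : A) (p : ↥(Spec (CommRingCat.of A)))
    (h : xx ∈ PrimeSpectrum.asIdeal p) : cuspFun xx yy p = 0 := by
  unfold cuspFun
  exact if_pos h

theorem cuspFun_of_notMem (xx yy : A) (p : ↥(Spec (CommRingCat.of A)))
    (h : xx ∉ PrimeSpectrum.asIdeal p) : cuspFun xx yy p = ev A p yy / ev A p xx := by
  unfold cuspFun
  exact if_neg h

/-- In a DVR, `x^3 = y^2` has a solution `r` with `r^2 = x`, `r * x = y`. -/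
theorem exists_sq_eq {R : Type*} [CommRing R] [IsDomain R] [IsDiscreteValuationRing R]
    (x y : R) (h : x ^ 3 = y ^ 2) : ∃ r : R, r ^ 2 = x ∧ r * x = y := by
  by_cases hx : x = 0
  · subst hx
    have hy : y = 0 := by
      have : y ^ 2 = 0 := by rw [← h]; ring
      exact pow_eq_zero_iff (two_ne_zero) |>.mp this
    exact ⟨0, by ring, by rw [hy]; ring⟩
  · let K := FractionRing R
    have hxK : algebraMap R K x ≠ 0 := by
      rwa [Ne, map_eq_zero_iff _ (IsFractionRing.injective R K)]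
    let t : K := algebraMap R K y / algebraMap R K x
    have ht2 : t ^ 2 = algebraMap R K x := by
      change (algebraMap R K y / algebraMap R K x) ^ 2 = _
      rw [div_pow, ← map_pow, ← h, map_pow, div_eq_iff (pow_ne_zero 2 hxK)]
      ring
    have hint : IsIntegral R t := by
      refine ⟨Polynomial.X ^ 2 - Polynomial.C x, Polynomial.monic_X_pow_sub_C x (two_ne_zero), ?_⟩
      rw [Polynomial.eval₂_sub, Polynomial.eval₂_pow, Polynomial.eval₂_X, Polynomial.eval₂_C, ht2,
        sub_self]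
    obtain ⟨r, hr⟩ := IsIntegrallyClosed.isIntegral_iff.mp hint
    refine ⟨r, ?_, ?_⟩
    · apply IsFractionRing.injective R K
      rw [map_pow, hr, ht2]
    · apply IsFractionRing.injective R K
      rw [map_mul, hr]
      change algebraMap R K y / algebraMap R K x * algebraMap R K x = _
      exact div_mul_cancel₀ _ hxK

theorem cuspFun_variesAlongDVR (xx yy : A) (h : xx ^ 3 = yy ^ 2) :
    (cuspFun xx yy).VariesAlongDVR := by
  intro R _ _ _ g
  obtain ⟨ψ, rfl⟩ : ∃ ψ : A →+* R, Spec.map (CommRingCat.ofHom ψ) = g :=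
    ⟨(Spec.preimage g).hom, Spec.map_preimage g⟩
  have h' : ψ xx ^ 3 = ψ yy ^ 2 := by rw [← map_pow, ← map_pow, h]
  obtain ⟨r, hr2, hrx⟩ := exists_sq_eq (ψ xx) (ψ yy) h'
  refine ⟨(Scheme.ΓSpecIso (CommRingCat.of R)).inv r, ?_⟩
  funext x
  rw [ofSection_inv]
  change ev R x r = (Spec.map (CommRingCat.ofHom ψ)).residueFieldMap x
    (cuspFun xx yy ((Spec.map (CommRingCat.ofHom ψ)) x))
  by_cases hx : ψ xx ∈ PrimeSpectrum.asIdeal x
  · have hx' : xx ∈ PrimeSpectrum.asIdeal ((Spec.map (CommRingCat.ofHom ψ)) x) := hx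
    rw [cuspFun_of_mem xx yy _ hx', map_zero, ev_eq_zero_iff]
    have : r ^ 2 ∈ PrimeSpectrum.asIdeal x := by rw [hr2]; exact hx
    exact (PrimeSpectrum.isPrime x).mem_of_pow_mem 2 this
  · have hx' : xx ∉ PrimeSpectrum.asIdeal ((Spec.map (CommRingCat.ofHom ψ)) x) := hx
    rw [cuspFun_of_notMem xx yy _ hx', map_div₀, residueFieldMap_ev, residueFieldMap_ev]
    have h0 : ev R x (ψ xx) ≠ 0 := fun h0 => hx ((ev_eq_zero_iff x _).mp h0)
    rw [eq_div_iff h0, ← map_mul, hrx]

theorem isSeminormalRing_of_forall [IsReduced A]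
    (h : ∀ f : PtFun (Spec (CommRingCat.of A)), f.VariesAlongDVR →
      ∃! a : Γ(Spec (CommRingCat.of A), ⊤), PtFun.ofSection (Spec (CommRingCat.of A)) a = f) :
    HTop.IsSeminormalRing A := by
  intro xx yy hxy
  obtain ⟨a, ha, hauniq⟩ := h (cuspFun xx yy) (cuspFun_variesAlongDVR xx yy hxy)
  let a₀ : A := (Scheme.ΓSpecIso (CommRingCat.of A)).hom a
  have hev : ∀ p : ↥(Spec (CommRingCat.of A)), ev A p a₀ = cuspFun xx yy p := by
    intro p
    rw [ev_ΓSpecIso_hom]
    exact congrFun ha p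
  have hred : ∀ c : A, (∀ p : ↥(Spec (CommRingCat.of A)), ev A p c = 0) → c = 0 := by
    intro c hc
    have h2 : IsNilpotent c := by
      rw [nilpotent_iff_mem_prime]
      intro J hJ
      exact (ev_eq_zero_iff (A := A) ⟨J, hJ⟩ _).mp (hc ⟨J, hJ⟩)
    exact h2.eq_zero
  have hcase : ∀ (p : ↥(Spec (CommRingCat.of A))) (c : A), ev A p c = cuspFun xx yy p →
      ev A p xx = ev A p c ^ 2 ∧ ev A p yy = ev A p c ^ 3 := by
    intro p c hc
    by_cases hx : xx ∈ PrimeSpectrum.asIdeal p
    · have hy : yy ∈ PrimeSpectrum.asIdeal p := by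
        have : yy ^ 2 ∈ PrimeSpectrum.asIdeal p := by
          rw [← hxy]
          exact Ideal.pow_mem_of_mem _ hx 3 (by norm_num)
        exact (PrimeSpectrum.isPrime p).mem_of_pow_mem 2 this
      rw [hc, cuspFun_of_mem xx yy p hx, (ev_eq_zero_iff p xx).mpr hx, (ev_eq_zero_iff p yy).mpr hy]
      constructor <;> ring
    · have h0 : ev A p xx ≠ 0 := fun h0 => hx ((ev_eq_zero_iff p _).mp h0)
      have hxy' : ev A p xx ^ 3 = ev A p yy ^ 2 := by rw [← map_pow, ← map_pow, hxy]
      rw [hc, cuspFun_of_notMem xx yy p hx]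
      constructor
      · rw [div_pow, ← hxy']
        field_simp
      · rw [div_pow]
        have : ev A p yy ^ 3 = ev A p yy * ev A p xx ^ 3 := by rw [hxy']; ring
        rw [this]
        field_simp
  refine ⟨a₀, ⟨?_, ?_⟩, ?_⟩
  · rw [← sub_eq_zero]
    apply hred
    intro p
    rw [map_sub, map_pow, (hcase p a₀ (hev p)).1, sub_self]
  · rw [← sub_eq_zero]
    apply hred
    intro p
    rw [map_sub, map_pow, (hcase p a₀ (hev p)).2, sub_self]
  · rintro a₁ ⟨h1, h2⟩
    have hkey : PtFun.ofSection (Spec (CommRingCat.of A))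
        ((Scheme.ΓSpecIso (CommRingCat.of A)).inv a₁) = cuspFun xx yy := by
      funext p
      rw [ofSection_inv]
      by_cases hx : xx ∈ PrimeSpectrum.asIdeal p
      · rw [cuspFun_of_mem xx yy p hx, ev_eq_zero_iff]
        have : a₁ ^ 2 ∈ PrimeSpectrum.asIdeal p := by rw [← h1]; exact hx
        exact (PrimeSpectrum.isPrime p).mem_of_pow_mem 2 this
      · have h0 : ev A p xx ≠ 0 := fun h0 => hx ((ev_eq_zero_iff p _).mp h0)
        rw [cuspFun_of_notMem xx yy p hx, eq_div_iff h0, ← map_mul, h1, h2]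
        congr 1
        ring
    have := hauniq _ hkey
    change a₁ = (Scheme.ΓSpecIso (CommRingCat.of A)).hom a
    rw [← this, Iso.inv_hom_id_apply]

end Groth.Agent.H73.PtFunSemi
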