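import Groth.Agent.S0385
import Groth.Agent.H73.FinitePtsAffine
import Mathlib.AlgebraicGeometry.Morphisms.QuasiFinite
import Mathlib.AlgebraicGeometry.Morphisms.Separated
import Mathlib.AlgebraicGeometry.Morphisms.FiniteType

/-!
# Finitely many points in a fibre of a separated locally quasi-finite morphism lie in an affine open
-/

set_option autoImplicit false
universe u

open CategoryTheory AlgebraicGeometry

namespace Groth.Agent.H73.QFinAF

theorem exists_affine {X S : Scheme.{u}} (f : X ⟶ S) [IsSeparated f] [LocallyQuasiFinite f]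
    [LocallyOfFiniteType f] (s : S) (d : ℕ) (x : Fin d → X) (hx : ∀ k, f (x k) = s) :
    ∃ U : X.Opens, IsAffineOpen U ∧ ∀ k, x k ∈ U := by
  classical
  obtain ⟨V, hV, hsV⟩ : ∃ V : S.Opens, IsAffineOpen V ∧ s ∈ V := by
    obtain ⟨_, ⟨V, hV', rfl⟩, hsV, -⟩ :=
      S.isBasis_affineOpens.exists_subset_of_mem_open (Set.mem_univ s) isOpen_univ
    exact ⟨V, hV', hsV⟩
  have hxV : ∀ k, x k ∈ f ⁻¹ᵁ V := fun k => by
    show f (x k) ∈ V
    rw [hx k]
    exact hsV
  have hex : ∀ k, ∃ Uk : X.Opens, IsAffineOpen Uk ∧ x k ∈ Uk ∧ Uk ≤ f ⁻¹ᵁ V := by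
    intro k
    obtain ⟨Uk, hUk, hk, hle⟩ := exists_isAffineOpen_mem_and_subset (hxV k)
    exact ⟨Uk, hUk, hk, hle⟩
  choose Uk hUk hxk hle using hex
  let U' : X.Opens := ⨆ k, Uk k
  have hU'le : U' ≤ f ⁻¹ᵁ V := iSup_le hle
  have hxU' : ∀ k, x k ∈ U' := fun k => TopologicalSpace.Opens.mem_iSup.mpr ⟨k, hxk k⟩
  have hcpt : IsCompact (U' : Set X) := by
    have : (U' : Set X) = ⋃ k, (Uk k : Set X) := by
      simp [U']
    rw [this]
    exact isCompact_iUnion fun k => (hUk k).isCompact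
  haveI : CompactSpace U'.toScheme := isCompact_iff_compactSpace.mp hcpt
  haveI : IsAffine V.toScheme := hV
  let f₁ : U'.toScheme ⟶ V.toScheme := f.resLE V U' hU'le
  obtain ⟨T, j, π, hj, -, hπ, hjπ⟩ := Groth.Agent.S0385.result f₁
  haveI : IsAffine T := isAffine_of_isAffineHom π
  let y : Fin d → U'.toScheme := fun k => ⟨x k, hxU' k⟩
  let pts : Set T := Set.range fun k => j (y k)
  have hpts : pts.Finite := Set.finite_range _
  obtain ⟨h, hh1, hh2⟩ := Groth.Agent.H73.FinitePts.exists_basicOpen_le_of_finite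
    (isAffineOpen_top T) j.opensRange pts hpts (fun _ _ => trivial)
    (by rintro _ ⟨k, rfl⟩; exact ⟨y k, rfl⟩)
  have hD : IsAffineOpen (T.basicOpen h) := (isAffineOpen_top T).basicOpen h
  have hjD : IsAffineOpen (j ⁻¹ᵁ T.basicOpen h) := by
    rw [← j.isAffineOpen_iff_of_isOpenImmersion, j.image_preimage_eq_opensRange_inf,
      inf_eq_right.mpr hh2]
    exact hD
  refine ⟨U'.ι ''ᵁ (j ⁻¹ᵁ T.basicOpen h), hjD.image_of_isOpenImmersion U'.ι, ?_⟩
  intro k
  refine ⟨y k, ?_, rfl⟩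
  exact hh1 _ ⟨k, rfl⟩

end Groth.Agent.H73.QFinAF
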