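import Mathlib
import Groth.Prelude.Def_SGA1
import Groth.Agent.S13602

set_option autoImplicit false

universe u

open CategoryTheory CategoryTheory.Limits AlgebraicGeometry

namespace Groth.Agent.H73.QuotGlue_SN

theorem exists_stable_affine_nhd {X : Scheme.{u}} {G : Type u} [Group G] [Finite G]
    (ρ : G →* Aut X)
    (h : ∀ x : X, ∃ U : X.Opens, IsAffineOpen U ∧ ∀ g : G, (ρ g).hom.base x ∈ U)
    (W : X.Opens) (hW : ∀ g : G, (ρ g).hom ⁻¹ᵁ W = W) (x : X) (hx : x ∈ W) :
    ∃ V : X.Opens, IsAffineOpen V ∧ (∀ g : G, (ρ g).hom ⁻¹ᵁ V = V) ∧ x ∈ V ∧ V ≤ W := by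
  classical
  have : Fintype G := Fintype.ofFinite G
  have memInf : ∀ (O : X.Opens) (y : X),
      y ∈ (⨅ g : G, (ρ g).hom ⁻¹ᵁ O : X.Opens) ↔ ∀ g : G, (ρ g).hom.base y ∈ O := by
    intro O y
    rw [← SetLike.mem_coe, TopologicalSpace.Opens.coe_iInf, Set.mem_iInter]
    rfl
  -- the action on points
  have hmul : ∀ (g k : G) (y : X), (ρ (g * k)).hom.base y = (ρ g).hom.base ((ρ k).hom.base y) := by
    intro g k y
    rw [map_mul, Aut.Aut_mul_def]
    rfl
  have hone : ∀ y : X, (ρ 1).hom.base y = y := by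
    intro y
    rw [map_one]
    rfl
  obtain ⟨U, hU, hUx⟩ := h x
  -- the stable open `U''`
  let U'' : X.Opens := W ⊓ ⨅ g : G, (ρ g).hom ⁻¹ᵁ U
  have hmemU'' : ∀ y : X, y ∈ U'' ↔ y ∈ W ∧ ∀ g : G, (ρ g).hom.base y ∈ U := by
    intro y
    change y ∈ W ∧ y ∈ (⨅ g : G, (ρ g).hom ⁻¹ᵁ U : X.Opens) ↔ _
    rw [memInf]
  have horbW : ∀ k : G, (ρ k).hom.base x ∈ W := by
    intro k
    have : x ∈ (ρ k).hom ⁻¹ᵁ W := by rw [hW k]; exact hx
    exact this
  have horb : ∀ k : G, (ρ k).hom.base x ∈ U'' := by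
    intro k
    rw [hmemU'']
    refine ⟨horbW k, fun g => ?_⟩
    rw [← hmul]
    exact hUx _
  -- a basic open of `U` containing the orbit, inside `U''`
  let e : G ≃ Fin (Fintype.card G) := Fintype.equivFin G
  obtain ⟨f, hfle, hfpt⟩ := Groth.Agent.S13602.exists_basicOpen_le_of_finite hU U''
    (fun i : Fin (Fintype.card G) => (ρ (e.symm i)).hom.base x) (fun i => hUx _) (fun i => horb _)
  have hforb : ∀ g : G, (ρ g).hom.base x ∈ X.basicOpen f := by
    intro g
    have := hfpt (e g)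
    rwa [Equiv.symm_apply_apply] at this
  set D : X.Opens := X.basicOpen f with hD
  have hDaff : IsAffineOpen D := hU.basicOpen f
  have hDU : ∀ g : G, D ≤ (ρ g).hom ⁻¹ᵁ U := by
    intro g y hy
    exact ((hmemU'' y).1 (hfle hy)).2 g
  -- the stable affine open
  let V : X.Opens := ⨅ g : G, (ρ g).hom ⁻¹ᵁ D
  have hmemV : ∀ y : X, y ∈ V ↔ ∀ g : G, (ρ g).hom.base y ∈ D := by
    intro y
    exact memInf D y
  have hVD : V ≤ D := by
    intro y hy
    have := (hmemV y).1 hy 1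
    rwa [hone] at this
  -- `V` is a basic open of `D`
  let s : G → Γ(X, D) := fun g => (ρ g).hom.appLE U D (hDU g) f
  have hs : ∀ g : G, X.basicOpen (s g) = D ⊓ (ρ g).hom ⁻¹ᵁ D := fun g =>
    Scheme.basicOpen_appLE _ _ _ _ _
  let F : Γ(X, D) := ∏ g : G, s g
  have hVF : V = X.basicOpen F := by
    ext y
    simp only [SetLike.mem_coe]
    constructor
    · intro hy
      have hyD : y ∈ D := hVD hy
      rw [Scheme.mem_basicOpen _ _ y hyD, map_prod, IsUnit.prod_univ_iff]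
      intro g
      rw [← Scheme.mem_basicOpen _ _ y hyD, hs g]
      exact ⟨hyD, (hmemV y).1 hy g⟩
    · intro hy
      have hyD : y ∈ D := Scheme.basicOpen_le _ _ hy
      rw [Scheme.mem_basicOpen _ _ y hyD, map_prod, IsUnit.prod_univ_iff] at hy
      rw [hmemV]
      intro g
      have := hy g
      rw [← Scheme.mem_basicOpen _ _ y hyD, hs g] at this
      exact this.2
  refine ⟨V, ?_, ?_, ?_, ?_⟩
  · rw [hVF]
    exact hDaff.basicOpen F
  · intro k
    ext y
    simp only [SetLike.mem_coe]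
    change (ρ k).hom.base y ∈ V ↔ y ∈ V
    rw [hmemV, hmemV]
    constructor
    · intro hy g
      have := hy (g * k⁻¹)
      rwa [← hmul, inv_mul_cancel_right] at this
    · intro hy g
      rw [← hmul]
      exact hy _
  · rw [hmemV]
    exact hforb
  · exact hVD.trans (hfle.trans (fun y hy => ((hmemU'' y).1 hy).1))

end Groth.Agent.H73.QuotGlue_SN
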