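import Mathlib

set_option autoImplicit false
universe u
open CategoryTheory CategoryTheory.Limits AlgebraicGeometry

namespace Groth.Agent.H73.RR_KPT

/-- (KPT) -/
theorem exists_kpoint {k : Type u} [Field k] [Infinite k] (n : ℕ)
    (V : (Spec (CommRingCat.of (MvPolynomial (Fin n) k))).Opens) (hV : (V : Set (Spec (CommRingCat.of (MvPolynomial (Fin n) k)))).Nonempty) :
    ∃ p : Spec (CommRingCat.of k) ⟶ (V : Scheme.{u}),
      p ≫ V.ι ≫ Spec.map (CommRingCat.ofHom (algebraMap k (MvPolynomial (Fin n) k))) = 𝟙 _ := by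
  obtain ⟨x, hx⟩ := hV
  let V' : TopologicalSpace.Opens (PrimeSpectrum (MvPolynomial (Fin n) k)) := V
  have hx' : (x : PrimeSpectrum (MvPolynomial (Fin n) k)) ∈ V' := hx
  obtain ⟨_, ⟨g, rfl⟩, hxg, hgV⟩ := TopologicalSpace.Opens.isBasis_iff_nbhd.1
    (PrimeSpectrum.isBasis_basic_opens (R := MvPolynomial (Fin n) k)) hx'
  have hg : g ≠ 0 := by
    rintro rfl
    rw [PrimeSpectrum.basicOpen_zero] at hxg
    exact hxg
  obtain ⟨c, hc⟩ : ∃ c : Fin n → k, MvPolynomial.eval c g ≠ 0 := by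
    by_contra hcon
    push Not at hcon
    apply hg
    apply MvPolynomial.funext
    intro c
    rw [hcon c, map_zero]
  let q : Spec (CommRingCat.of k) ⟶ Spec (CommRingCat.of (MvPolynomial (Fin n) k)) :=
    Spec.map (CommRingCat.ofHom (MvPolynomial.eval c))
  have hr : Set.range q ⊆ Set.range V.ι := by
    rintro _ ⟨y, rfl⟩
    rw [Scheme.Opens.range_ι]
    apply hgV
    show g ∉ Ideal.comap (MvPolynomial.eval c) (y : PrimeSpectrum k).asIdeal
    intro hmem
    have hy : (y : PrimeSpectrum k).asIdeal = ⊤ :=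
      Ideal.eq_top_of_isUnit_mem _ hmem (IsUnit.mk0 _ hc)
    exact (y : PrimeSpectrum k).isPrime.ne_top hy
  refine ⟨IsOpenImmersion.lift V.ι q hr, ?_⟩
  rw [← Category.assoc, IsOpenImmersion.lift_fac]
  simp only [q]
  rw [← Spec.map_comp, ← CommRingCat.ofHom_comp]
  have : (MvPolynomial.eval c).comp (algebraMap k (MvPolynomial (Fin n) k)) = RingHom.id k := by
    ext a; simp [MvPolynomial.algebraMap_eq]
  rw [this]
  exact Spec.map_id _

end Groth.Agent.H73.RR_KPT
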