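import Mathlib

set_option autoImplicit false
universe u
open CategoryTheory CategoryTheory.Limits AlgebraicGeometry

namespace Groth.Agent.H73.RR_LINE

section alg
variable {k K : Type u} [Field k] [Field K] [Algebra k K] (n : ℕ)

/-- the line through `u` and `v`. -/
noncomputable def ell (u v : Fin n → K) : MvPolynomial (Fin n) k →+* Polynomial K :=
  MvPolynomial.eval₂Hom ((Polynomial.C).comp (algebraMap k K))
    (fun i => Polynomial.C (u i) + Polynomial.X * Polynomial.C (v i - u i))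

theorem ell_comp_algebraMap (u v : Fin n → K) :
    (ell (k := k) n u v).comp (algebraMap k (MvPolynomial (Fin n) k)) =
      (algebraMap K (Polynomial K)).comp (algebraMap k K) := by
  ext c
  simp [ell, MvPolynomial.algebraMap_eq]

theorem eval_zero_comp_ell (φ : MvPolynomial (Fin n) k →+* K)
    (hφ : φ.comp (algebraMap k (MvPolynomial (Fin n) k)) = algebraMap k K) (v : Fin n → K) :
    (Polynomial.evalRingHom (0 : K)).comp (ell (k := k) n (fun i => φ (MvPolynomial.X i)) v) = φ := by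
  apply MvPolynomial.ringHom_ext
  · intro c
    have := RingHom.congr_fun hφ c
    simp only [RingHom.comp_apply, MvPolynomial.algebraMap_eq] at this
    simp [ell, this]
  · intro i
    simp [ell]

theorem eval_one_comp_ell (φ : MvPolynomial (Fin n) k →+* K)
    (hφ : φ.comp (algebraMap k (MvPolynomial (Fin n) k)) = algebraMap k K) (u : Fin n → K) :
    (Polynomial.evalRingHom (1 : K)).comp (ell (k := k) n u (fun i => φ (MvPolynomial.X i))) = φ := by
  apply MvPolynomial.ringHom_ext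
  · intro c
    have := RingHom.congr_fun hφ c
    simp only [RingHom.comp_apply, MvPolynomial.algebraMap_eq] at this
    simp [ell, this]
  · intro i
    simp [ell]

theorem point_data (V : (Spec (CommRingCat.of (MvPolynomial (Fin n) k))).Opens)
    (γ : Spec (CommRingCat.of K) ⟶ (V : Scheme.{u}))
    (hγ : γ ≫ V.ι ≫ Spec.map (CommRingCat.ofHom (algebraMap k (MvPolynomial (Fin n) k))) =
      Spec.map (CommRingCat.ofHom (algebraMap k K))) :
    ∃ φ : MvPolynomial (Fin n) k →+* K, Spec.map (CommRingCat.ofHom φ) = γ ≫ V.ι ∧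
      φ.comp (algebraMap k (MvPolynomial (Fin n) k)) = algebraMap k K := by
  refine ⟨(Spec.preimage (γ ≫ V.ι)).hom, ?_, ?_⟩
  · rw [CommRingCat.ofHom_hom]; exact Spec.map_preimage _
  · have h1 : Spec.map (CommRingCat.ofHom (algebraMap k (MvPolynomial (Fin n) k)) ≫
        Spec.preimage (γ ≫ V.ι)) = Spec.map (CommRingCat.ofHom (algebraMap k K)) := by
      rw [Spec.map_comp, Spec.map_preimage, Category.assoc]; exact hγ
    have h2 := Spec.map_injective h1
    have h3 := congrArg CommRingCat.Hom.hom h2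
    simpa using h3

end alg

/-- (LINE) -/
theorem exists_line {k K : Type u} [Field k] [Field K] [Algebra k K] (n : ℕ) (V : (Spec (CommRingCat.of (MvPolynomial (Fin n) k))).Opens) (α β : Spec (CommRingCat.of K) ⟶ (V : Scheme.{u})) (hα : α ≫ V.ι ≫ Spec.map (CommRingCat.ofHom (algebraMap k (MvPolynomial (Fin n) k))) = Spec.map (CommRingCat.ofHom (algebraMap k K))) (hβ : β ≫ V.ι ≫ Spec.map (CommRingCat.ofHom (algebraMap k (MvPolynomial (Fin n) k))) = Spec.map (CommRingCat.ofHom (algebraMap k K))) : ∃ (W : (Spec (CommRingCat.of (Polynomial K))).Opens) (h : (W : Scheme.{u}) ⟶ (V : Scheme.{u})) (a b : Spec (CommRingCat.of K) ⟶ (W : Scheme.{u})), h ≫ V.ι ≫ Spec.map (CommRingCat.ofHom (algebraMap k (MvPolynomial (Fin n) k))) = W.ι ≫ Spec.map (CommRingCat.ofHom (algebraMap K (Polynomial K))) ≫ Spec.map (CommRingCat.ofHom (algebraMap k K)) ∧ a ≫ W.ι ≫ Spec.map (CommRingCat.ofHom (algebraMap K (Polynomial K))) = 𝟙 _ ∧ b ≫ W.ι ≫ Spec.map (CommRingCat.ofHom (algebraMap K (Polynomial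 K))) = 𝟙 _ ∧ a ≫ h = α ∧ b ≫ h = β := by
  obtain ⟨φA, hA1, hA2⟩ := point_data n V α hα
  obtain ⟨φB, hB1, hB2⟩ := point_data n V β hβ
  let L : Spec (CommRingCat.of (Polynomial K)) ⟶ Spec (CommRingCat.of (MvPolynomial (Fin n) k)) :=
    Spec.map (CommRingCat.ofHom (ell (k := k) n (fun i => φA (MvPolynomial.X i))
      (fun i => φB (MvPolynomial.X i))))
  let z0 : Spec (CommRingCat.of K) ⟶ Spec (CommRingCat.of (Polynomial K)) :=
    Spec.map (CommRingCat.ofHom (Polynomial.evalRingHom (0 : K)))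
  let z1 : Spec (CommRingCat.of K) ⟶ Spec (CommRingCat.of (Polynomial K)) :=
    Spec.map (CommRingCat.ofHom (Polynomial.evalRingHom (1 : K)))
  have hz0 : z0 ≫ L = α ≫ V.ι := by
    rw [← hA1]
    simp only [z0, L]
    rw [← Spec.map_comp, ← CommRingCat.ofHom_comp, eval_zero_comp_ell n φA hA2]
  have hz1 : z1 ≫ L = β ≫ V.ι := by
    rw [← hB1]
    simp only [z1, L]
    rw [← Spec.map_comp, ← CommRingCat.ofHom_comp, eval_one_comp_ell n φB hB2]
  have hr : ∀ (z : Spec (CommRingCat.of K) ⟶ Spec (CommRingCat.of (Polynomial K)))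
      (γ : Spec (CommRingCat.of K) ⟶ (V : Scheme.{u})), z ≫ L = γ ≫ V.ι →
      Set.range z ⊆ Set.range (L ⁻¹ᵁ V).ι := by
    intro z γ hz
    rintro _ ⟨p, rfl⟩
    rw [Scheme.Opens.range_ι]
    show L (z p) ∈ V
    have e : (z ≫ L) p = (γ ≫ V.ι) p := by rw [hz]
    rw [Scheme.Hom.comp_apply, Scheme.Hom.comp_apply] at e
    rw [e]
    exact (γ p).2
  have hsec : ∀ c : K, Spec.map (CommRingCat.ofHom (Polynomial.evalRingHom c)) ≫
      Spec.map (CommRingCat.ofHom (algebraMap K (Polynomial K))) = 𝟙 _ := by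
    intro c
    rw [← Spec.map_comp, ← CommRingCat.ofHom_comp]
    have : (Polynomial.evalRingHom c).comp (algebraMap K (Polynomial K)) = RingHom.id K := by
      ext x; simp
    rw [this]
    exact Spec.map_id _
  refine ⟨L ⁻¹ᵁ V, L.resLE V (L ⁻¹ᵁ V) le_rfl, IsOpenImmersion.lift (L ⁻¹ᵁ V).ι z0 (hr z0 α hz0),
    IsOpenImmersion.lift (L ⁻¹ᵁ V).ι z1 (hr z1 β hz1), ?_, ?_, ?_, ?_, ?_⟩
  · rw [← Category.assoc, Scheme.Hom.resLE_comp_ι, Category.assoc]
    congr 1
    simp only [L]
    rw [← Spec.map_comp, ← Spec.map_comp, ← CommRingCat.ofHom_comp, ← CommRingCat.ofHom_comp,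
      ell_comp_algebraMap]
  · rw [← Category.assoc, IsOpenImmersion.lift_fac]
    exact hsec 0
  · rw [← Category.assoc, IsOpenImmersion.lift_fac]
    exact hsec 1
  · rw [← cancel_mono V.ι, Category.assoc, Scheme.Hom.resLE_comp_ι, ← Category.assoc,
      IsOpenImmersion.lift_fac]
    exact hz0
  · rw [← cancel_mono V.ι, Category.assoc, Scheme.Hom.resLE_comp_ι, ← Category.assoc,
      IsOpenImmersion.lift_fac]
    exact hz1

end Groth.Agent.H73.RR_LINE
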