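import Groth.Agent.H73.AnClosed
import Groth.Agent.H73.DVRInter
import Groth.Agent.H73.DVRSpec
import Groth.Agent.H73.Glue
import Mathlib.AlgebraicGeometry.SpreadingOut
import Mathlib.AlgebraicGeometry.Noetherian

/-!
# Extending a rational section through a normal point: valuative criterion (EGA II 7.3 / IV 20)
-/

set_option autoImplicit false
universe u
open CategoryTheory CategoryTheory.Limits AlgebraicGeometry TopologicalSpace

namespace Groth.Agent.H73.RatExt

open Groth.Agent.H73.AnClosed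

/-- In a Noetherian quasi-sober space, a point in the closure of a locally closed set `O ∩ C` is a
specialization of a point of `O ∩ C`. -/
theorem exists_specializes_of_mem_closure_inter {S : Type*} [TopologicalSpace S]
    [NoetherianSpace S] [QuasiSober S] {O C : Set S} (hO : IsOpen O) (hC : IsClosed C) {x : S}
    (hx : x ∈ closure (O ∩ C)) : ∃ p ∈ O ∩ C, p ⤳ x := by
  obtain ⟨𝒮, hfin, hcl, hirr, hCeq⟩ := NoetherianSpace.exists_finite_set_isClosed_irreducible hC
  have h1 : O ∩ C = ⋃ t ∈ 𝒮, O ∩ t := by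
    rw [hCeq, Set.sUnion_eq_biUnion, Set.inter_iUnion₂]
  rw [h1, hfin.closure_biUnion] at hx
  simp only [Set.mem_iUnion] at hx
  obtain ⟨t, ht, hxt⟩ := hx
  obtain ⟨g, hg⟩ := QuasiSober.sober (hirr t ht) (hcl t ht)
  have hxt' : x ∈ t := (hcl t ht).closure_subset_iff.mpr Set.inter_subset_right hxt
  have hne : (O ∩ t).Nonempty := by
    by_contra h
    rw [Set.not_nonempty_iff_eq_empty] at h
    rw [h, closure_empty] at hxt
    exact hxt
  have hgO : g ∈ O := (hg.mem_open_set_iff hO).mpr (by rwa [Set.inter_comm])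
  refine ⟨g, ⟨hgO, ?_⟩, hg.specializes hxt'⟩
  rw [hCeq]
  exact ⟨t, ht, hg.mem⟩

/-- Scheme version: in a locally Noetherian scheme, a point in the closure of a locally closed
set `O ∩ C` is a specialization of a point of `O ∩ C`. -/
theorem exists_specializes_of_mem_closure_inter_scheme {X : Scheme.{u}} [IsLocallyNoetherian X]
    {O C : Set X} (hO : IsOpen O) (hC : IsClosed C) {x : X} (hx : x ∈ closure (O ∩ C)) :
    ∃ p ∈ O ∩ C, p ⤳ x := by
  obtain ⟨N, hN, hxN, -⟩ := Opens.isBasis_iff_nbhd.mp X.isBasis_affineOpens (Opens.mem_top x)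
  have : IsNoetherianRing Γ(X, N) := IsLocallyNoetherian.component_noetherian ⟨N, hN⟩
  have : NoetherianSpace (N : Set X) := noetherianSpace_of_isAffineOpen N hN
  have : QuasiSober (N : Set X) := N.isOpenEmbedding'.quasiSober
  have hopen : IsOpenMap (Subtype.val : ↥(N : Set X) → X) := N.2.isOpenMap_subtype_val
  have hx' : (⟨x, hxN⟩ : ↥(N : Set X)) ∈ closure ((Subtype.val ⁻¹' O) ∩ (Subtype.val ⁻¹' C)) := by
    rw [← Set.preimage_inter, ← hopen.preimage_closure_eq_closure_preimage continuous_subtype_val]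
    exact hx
  obtain ⟨p, ⟨hpO, hpC⟩, hpx⟩ := exists_specializes_of_mem_closure_inter
    (hO.preimage continuous_subtype_val) (hC.preimage continuous_subtype_val) hx'
  exact ⟨p.1, ⟨hpO, hpC⟩, hpx.map continuous_subtype_val⟩

/-- Lifting a ring homomorphism through an injective one containing its image. -/
lemma exists_ringHom_lift {A B K : Type*} [CommRing A] [CommRing B] [CommRing K] (ι : A →+* K)
    (hι : Function.Injective ι) (φ : B →+* K) (h : ∀ b, φ b ∈ Set.range ι) :
    ∃ σ : B →+* A, ι.comp σ = φ := by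
  let e : A ≃+* ι.range :=
    RingEquiv.ofBijective ι.rangeRestrict
      ⟨fun a b hab => hι (congrArg Subtype.val hab), ι.rangeRestrict_surjective⟩
  refine ⟨e.symm.toRingHom.comp (φ.codRestrict ι.range h), ?_⟩
  ext b
  have : ι.rangeRestrict (e.symm (φ.codRestrict ι.range h b)) = φ.codRestrict ι.range h b :=
    e.apply_symm_apply _
  exact congrArg Subtype.val this

section GenericPoint

variable {X : Scheme.{u}} (x : X) [IsDomain (X.presheaf.stalk x)]

/-- The morphism from the spectrum of the fraction field of the local ring at `x`. -/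
noncomputable def jK : Spec (CommRingCat.of (FractionRing (X.presheaf.stalk x))) ⟶ X :=
  Spec.map (CommRingCat.ofHom (algebraMap (X.presheaf.stalk x)
    (FractionRing (X.presheaf.stalk x)))) ≫ X.fromSpecStalk x

/-- The generic point of `Spec 𝒪_{X,x}` specializes to every generization of `x`. -/
lemma jK_specializes {p : X} (hp : p ⤳ x) :
    (jK x).base (IsLocalRing.closedPoint (FractionRing (X.presheaf.stalk x))) ⤳ p := by
  have hp' : p ∈ Set.range (X.fromSpecStalk x).base := by
    rw [Scheme.range_fromSpecStalk]; exact hp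
  obtain ⟨p', rfl⟩ := hp'
  rw [jK, Scheme.Hom.comp_apply]
  apply Specializes.map _ (X.fromSpecStalk x).continuous
  refine (PrimeSpectrum.le_iff_specializes
    (PrimeSpectrum.comap (algebraMap (X.presheaf.stalk x) (FractionRing (X.presheaf.stalk x)))
      (IsLocalRing.closedPoint (FractionRing (X.presheaf.stalk x)))) p').mp ?_
  intro a ha
  have h1 : algebraMap (X.presheaf.stalk x) (FractionRing (X.presheaf.stalk x)) a ∈
      IsLocalRing.maximalIdeal (FractionRing (X.presheaf.stalk x)) := ha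
  rw [IsLocalRing.maximalIdeal_eq_bot, Ideal.mem_bot] at h1
  have h2 : a = 0 := (IsFractionRing.injective (X.presheaf.stalk x)
    (FractionRing (X.presheaf.stalk x))) (by rw [h1, map_zero])
  rw [h2]
  exact zero_mem _

lemma jK_preimage_eq_top_of_mem {U : X.Opens} {p : X} (hp : p ⤳ x) (hpU : p ∈ U) :
    (jK x) ⁻¹ᵁ U = ⊤ :=
  preimage_eq_top_of_closedPoint_mem (jK x) U ((jK_specializes x hp).mem_open U.2 hpU)

end GenericPoint

section Main

variable {X Y : Scheme.{u}} (q : Y ⟶ X) (U : X.Opens) (h : (U : Scheme.{u}) ⟶ Y)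

/-- The valuative condition: every DVR centered at `x` with generic point in `U` lifts to `Y`,
centered at `y₀` and compatible with the rational section `h`. -/
def DVRHyp (x : X) (y₀ : Y) : Prop :=
  ∀ (R : Type u) [CommRing R] [IsDomain R] [IsDiscreteValuationRing R]
    (u : Spec (CommRingCat.of R) ⟶ X), u.base (IsLocalRing.closedPoint R) = x →
    ∀ ub : Spec (CommRingCat.of (FractionRing R)) ⟶ (U : Scheme.{u}),
      ub ≫ U.ι = Spec.map (CommRingCat.ofHom (algebraMap R (FractionRing R))) ≫ u →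
      ∃ h₁ : Spec (CommRingCat.of R) ⟶ Y, h₁ ≫ q = u ∧
        h₁.base (IsLocalRing.closedPoint R) = y₀ ∧
        Spec.map (CommRingCat.ofHom (algebraMap R (FractionRing R))) ≫ h₁ = ub ≫ h

variable {q U h}

/-- The valuative condition for a discrete valuation subring of an arbitrary field. -/
theorem DVRHyp.valuationSubring {x : X} {y₀ : Y} (H : DVRHyp q U h x y₀) {K' : Type u} [Field K']
    (V : ValuationSubring K') [IsDiscreteValuationRing V]
    (u : Spec (CommRingCat.of V) ⟶ X) (hu : u.base (IsLocalRing.closedPoint V) = x)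
    (ubK : Spec (CommRingCat.of K') ⟶ (U : Scheme.{u}))
    (hub : ubK ≫ U.ι = Spec.map (CommRingCat.ofHom V.subtype) ≫ u) :
    ∃ h₁ : Spec (CommRingCat.of V) ⟶ Y, h₁ ≫ q = u ∧
      h₁.base (IsLocalRing.closedPoint V) = y₀ ∧
      Spec.map (CommRingCat.ofHom V.subtype) ≫ h₁ = ubK ≫ h := by
  let e : FractionRing V ≃ₐ[V] K' := FractionRing.algEquiv V K'
  have he : CommRingCat.ofHom (algebraMap V (FractionRing V)) =
      CommRingCat.ofHom V.subtype ≫ CommRingCat.ofHom (e.symm : K' →+* FractionRing V) := by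
    apply CommRingCat.hom_ext
    apply RingHom.ext
    intro a
    exact (e.symm.commutes a).symm
  have he' : CommRingCat.ofHom V.subtype =
      CommRingCat.ofHom (algebraMap V (FractionRing V)) ≫
        CommRingCat.ofHom (e : FractionRing V →+* K') := by
    apply CommRingCat.hom_ext
    apply RingHom.ext
    intro a
    exact (e.commutes a).symm
  have hee : CommRingCat.ofHom (e.symm : K' →+* FractionRing V) ≫
      CommRingCat.ofHom (e : FractionRing V →+* K') = 𝟙 _ := by
    apply CommRingCat.hom_ext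
    apply RingHom.ext
    intro a
    exact e.apply_symm_apply a
  obtain ⟨h₁, h1, h2, h3⟩ := H V u hu
    (Spec.map (CommRingCat.ofHom (e.symm : K' →+* FractionRing V)) ≫ ubK)
    (by rw [Category.assoc, hub, ← Spec.map_comp_assoc, ← he])
  refine ⟨h₁, h1, h2, ?_⟩
  rw [he', Spec.map_comp, Category.assoc, h3, ← Category.assoc, ← Category.assoc,
    ← Spec.map_comp, hee, Spec.map_id, Category.id_comp]

/-- Near `x`, the rational section `h` maps into any given neighbourhood `W` of `y₀`. -/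
theorem exists_open_nhds_map_into [IsLocallyNoetherian X] {x : X} {y₀ : Y}
    (H : DVRHyp q U h x y₀) (hxU : x ∉ U) (W : Y.Opens) (hW : y₀ ∈ W) :
    ∃ U₁ : X.Opens, x ∈ U₁ ∧ ∀ (p : X) (hp : p ∈ U), p ∈ U₁ → h.base ⟨p, hp⟩ ∈ W := by
  let G : X.Opens := U.ι ''ᵁ (h ⁻¹ᵁ W)
  have hG : ∀ (p : X) (hp : p ∈ U), p ∈ G → h.base ⟨p, hp⟩ ∈ W := by
    rintro p hp ⟨p', hp', hpp'⟩
    have : p' = ⟨p, hp⟩ := Subtype.ext hpp'
    rw [← this]
    exact hp'
  have hG' : ∀ (p : X) (hp : p ∈ U), h.base ⟨p, hp⟩ ∈ W → p ∈ G :=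
    fun p hp hpW => ⟨⟨p, hp⟩, hpW, rfl⟩
  have hx : x ∉ closure ((U : Set X) ∩ (G : Set X)ᶜ) := by
    intro hx
    obtain ⟨p, ⟨hpU, hpG⟩, hpx⟩ := exists_specializes_of_mem_closure_inter_scheme U.2
      G.2.isClosed_compl hx
    apply hpG
    have hne : x ≠ (𝟙 X : X ⟶ X).base p := by
      rintro rfl
      exact hxU hpU
    obtain ⟨A, uA, hA, hcl, hgen⟩ :=
      Groth.Agent.H73.KA.exists_dvr_through_specialization (𝟙 X) p x hpx hne
    rw [Category.comp_id] at hgen
    have hrange : Set.range (X.fromSpecResidueField p).base ⊆ Set.range U.ι.base := by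
      rw [Scheme.Opens.range_ι]
      rintro _ ⟨t, rfl⟩
      rw [Scheme.fromSpecResidueField_apply]
      exact hpU
    let ubκ : Spec (CommRingCat.of (X.residueField p)) ⟶ (U : Scheme.{u}) :=
      IsOpenImmersion.lift U.ι (X.fromSpecResidueField p) hrange
    have hubκ : ubκ ≫ U.ι = X.fromSpecResidueField p := IsOpenImmersion.lift_fac _ _ _
    obtain ⟨h₁, -, h2, h3⟩ := H.valuationSubring A uA hcl ubκ (by rw [hubκ, hgen])
    have hh₁W : h₁ ⁻¹ᵁ W = ⊤ := preimage_eq_top_of_closedPoint_mem h₁ W (by rw [h2]; exact hW)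
    have h4 : (Spec.map (CommRingCat.ofHom A.subtype) ≫ h₁).base
        (IsLocalRing.closedPoint (X.residueField p)) ∈ W := by
      rw [Scheme.Hom.comp_apply]
      have : (Spec.map (CommRingCat.ofHom A.subtype)).base
          (IsLocalRing.closedPoint (X.residueField p)) ∈ h₁ ⁻¹ᵁ W := by rw [hh₁W]; trivial
      exact this
    rw [h3, Scheme.Hom.comp_apply] at h4
    have h5 : ubκ.base (IsLocalRing.closedPoint (X.residueField p)) = ⟨p, hpU⟩ := by
      apply Subtype.ext
      have := congrArg (fun f => f.base (IsLocalRing.closedPoint (X.residueField p))) hubκ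
      simp only [Scheme.Hom.comp_apply] at this
      rw [Scheme.fromSpecResidueField_apply] at this
      exact this
    rw [h5] at h4
    exact hG' p hpU h4
  refine ⟨⟨(closure ((U : Set X) ∩ (G : Set X)ᶜ))ᶜ, isClosed_closure.isOpen_compl⟩, hx, ?_⟩
  intro p hp hp₁
  apply hG p hp
  by_contra hpG
  exact hp₁ (subset_closure ⟨hp, hpG⟩)

/-- The local section: under the valuative condition, there is a morphism from the spectrum of
the (normal) local ring of `X` at `x` to `Y`, over `X`, centered at `y₀` and generically given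
by `h`. -/
theorem exists_local_section [IsLocallyNoetherian X] (hU : Dense (U : Set X))
    (hh : h ≫ q = U.ι) {x : X} [IsDomain (X.presheaf.stalk x)]
    (hx : IsIntegrallyClosed (X.presheaf.stalk x)) (hxU : x ∉ U) {y₀ : Y} (hy₀ : q.base y₀ = x)
    (H : DVRHyp q U h x y₀) :
    (jK x) ⁻¹ᵁ U = ⊤ ∧ ∃ l : Spec (X.presheaf.stalk x) ⟶ Y,
      l ≫ q = X.fromSpecStalk x ∧
      l.base (IsLocalRing.closedPoint (X.presheaf.stalk x)) = y₀ ∧
      ∀ ubK : Spec (CommRingCat.of (FractionRing (X.presheaf.stalk x))) ⟶ (U : Scheme.{u}),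
        ubK ≫ U.ι = jK x →
        Spec.map (CommRingCat.ofHom (algebraMap (X.presheaf.stalk x)
          (FractionRing (X.presheaf.stalk x)))) ≫ l = ubK ≫ h := by
  -- a generization of `x` in `U`
  obtain ⟨p, ⟨hpU, -⟩, hpx⟩ : ∃ p ∈ (U : Set X) ∩ Set.univ, p ⤳ x :=
    exists_specializes_of_mem_closure_inter_scheme U.2 isClosed_univ
      (by rw [Set.inter_univ]; exact hU x)
  have hj : (jK x) ⁻¹ᵁ U = ⊤ := jK_preimage_eq_top_of_mem x hpx hpU
  refine ⟨hj, ?_⟩
  have hrange : Set.range (jK x).base ⊆ Set.range U.ι.base := by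
    rw [Scheme.Opens.range_ι]
    rintro _ ⟨t, rfl⟩
    have : t ∈ (jK x) ⁻¹ᵁ U := by rw [hj]; trivial
    exact this
  let ubK₀ : Spec (CommRingCat.of (FractionRing (X.presheaf.stalk x))) ⟶ (U : Scheme.{u}) :=
    IsOpenImmersion.lift U.ι (jK x) hrange
  have hubK₀ : ubK₀ ≫ U.ι = jK x := IsOpenImmersion.lift_fac _ _ _
  let ψ : Spec (CommRingCat.of (FractionRing (X.presheaf.stalk x))) ⟶ Y := ubK₀ ≫ h
  have hψq : ψ ≫ q = jK x := by rw [Category.assoc, hh, hubK₀]
  have hinj : Function.Injective (algebraMap (X.presheaf.stalk x)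
      (FractionRing (X.presheaf.stalk x))) := IsFractionRing.injective _ _
  -- the local ring is not a field
  have hφ : ∃ a ∈ IsLocalRing.maximalIdeal (X.presheaf.stalk x),
      algebraMap (X.presheaf.stalk x) (FractionRing (X.presheaf.stalk x)) a ≠ 0 := by
    by_contra hcon
    push Not at hcon
    apply hxU
    have h1 : (Spec.map (CommRingCat.ofHom (algebraMap (X.presheaf.stalk x)
        (FractionRing (X.presheaf.stalk x))))).base
        (IsLocalRing.closedPoint (FractionRing (X.presheaf.stalk x))) =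
        IsLocalRing.closedPoint (X.presheaf.stalk x) := by
      apply PrimeSpectrum.ext
      apply le_antisymm
      · intro a ha
        have h1 : algebraMap (X.presheaf.stalk x) (FractionRing (X.presheaf.stalk x)) a ∈
            IsLocalRing.maximalIdeal (FractionRing (X.presheaf.stalk x)) := ha
        rw [IsLocalRing.maximalIdeal_eq_bot, Ideal.mem_bot] at h1
        have h2 : a = 0 := hinj (by rw [h1, map_zero])
        rw [h2]
        exact zero_mem _
      · intro a ha
        have h1 : a ∈ IsLocalRing.maximalIdeal (X.presheaf.stalk x) := ha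
        change algebraMap (X.presheaf.stalk x) (FractionRing (X.presheaf.stalk x)) a ∈
            IsLocalRing.maximalIdeal (FractionRing (X.presheaf.stalk x))
        rw [hcon a h1]
        exact zero_mem _
    have h2 : (jK x).base (IsLocalRing.closedPoint (FractionRing (X.presheaf.stalk x))) = x := by
      rw [jK, Scheme.Hom.comp_apply, h1]
      exact Scheme.fromSpecStalk_closedPoint
    have h3 : (IsLocalRing.closedPoint (FractionRing (X.presheaf.stalk x)) :
        Spec (CommRingCat.of (FractionRing (X.presheaf.stalk x)))) ∈ (jK x) ⁻¹ᵁ U := by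
      rw [hj]; trivial
    rw [← h2]
    exact h3
  -- every dominating DVR lifts
  have key : ∀ (V : ValuationSubring (FractionRing (X.presheaf.stalk x)))
      [IsDiscreteValuationRing V]
      (hV : ∀ a, algebraMap (X.presheaf.stalk x) (FractionRing (X.presheaf.stalk x)) a ∈ V)
      (_ : ∀ a ∈ IsLocalRing.maximalIdeal (X.presheaf.stalk x), V.valuation
        (algebraMap (X.presheaf.stalk x) (FractionRing (X.presheaf.stalk x)) a) < 1),
      ∃ h₁ : Spec (CommRingCat.of V) ⟶ Y,
        h₁.base (IsLocalRing.closedPoint V) = y₀ ∧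
        Spec.map (CommRingCat.ofHom V.subtype) ≫ h₁ = ψ ∧
        (Spec.map (CommRingCat.ofHom ((algebraMap (X.presheaf.stalk x)
          (FractionRing (X.presheaf.stalk x))).codRestrict V hV))).base
            (IsLocalRing.closedPoint V) = IsLocalRing.closedPoint (X.presheaf.stalk x) := by
    intro V _ hV hdom
    let θ : X.presheaf.stalk x →+* V := (algebraMap (X.presheaf.stalk x)
      (FractionRing (X.presheaf.stalk x))).codRestrict V hV
    have hθloc : IsLocalHom θ := ⟨fun a ha => by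
      by_contra hna
      have hm : a ∈ IsLocalRing.maximalIdeal (X.presheaf.stalk x) := hna
      have h1 := hdom a hm
      have h2 : V.valuation ((θ a : V) : FractionRing (X.presheaf.stalk x)) = 1 :=
        (V.valuation_eq_one_iff _).mp ha
      exact h1.ne h2⟩
    let u : Spec (CommRingCat.of V) ⟶ X := Spec.map (CommRingCat.ofHom θ) ≫ X.fromSpecStalk x
    have hcp : (Spec.map (CommRingCat.ofHom θ)).base (IsLocalRing.closedPoint V) =
        IsLocalRing.closedPoint (X.presheaf.stalk x) := IsLocalRing.comap_closedPoint θ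
    have hu : u.base (IsLocalRing.closedPoint V) = x := by
      simp only [u, Scheme.Hom.comp_apply]
      rw [hcp]
      exact Scheme.fromSpecStalk_closedPoint
    have hub : ubK₀ ≫ U.ι = Spec.map (CommRingCat.ofHom V.subtype) ≫ u := by
      rw [hubK₀, jK]
      simp only [u]
      rw [← Spec.map_comp_assoc]
      rfl
    obtain ⟨h₁, -, h2, h3⟩ := H.valuationSubring V u hu ubK₀ hub
    exact ⟨h₁, h2, h3, hcp⟩
  have hcl : Subfield.closure (Set.range (algebraMap (X.presheaf.stalk x)
      (FractionRing (X.presheaf.stalk x))) ∪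
      ((∅ : Finset (FractionRing (X.presheaf.stalk x))) : Set (FractionRing (X.presheaf.stalk x))))
      = ⊤ := by
    rw [_root_.eq_top_iff]
    intro k _
    obtain ⟨a, b, hb, rfl⟩ := IsFractionRing.div_surjective (A := X.presheaf.stalk x) k
    exact div_mem (Subfield.subset_closure (Or.inl ⟨a, rfl⟩))
      (Subfield.subset_closure (Or.inl ⟨b, rfl⟩))
  obtain ⟨V₀, hV₀, hV₀mem, hV₀dom⟩ := Groth.Agent.H73.KA.exists_dvr_of_ringHom
    (algebraMap (X.presheaf.stalk x) (FractionRing (X.presheaf.stalk x))) hφ ∅ hcl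
  obtain ⟨h₁₀, h₁₀cl, h₁₀gen, hcp₀⟩ := key V₀ hV₀mem hV₀dom
  obtain ⟨W, hWaff, hy₀W, -⟩ := Opens.isBasis_iff_nbhd.mp Y.isBasis_affineOpens (Opens.mem_top y₀)
  have hW_of : ∀ (V : ValuationSubring (FractionRing (X.presheaf.stalk x)))
      [IsDiscreteValuationRing V] (h₁ : Spec (CommRingCat.of V) ⟶ Y),
      h₁.base (IsLocalRing.closedPoint V) = y₀ → h₁ ⁻¹ᵁ W = ⊤ := fun V _ h₁ h2 =>
    preimage_eq_top_of_closedPoint_mem h₁ W (by rw [h2]; exact hy₀W)
  have hψW : ψ ⁻¹ᵁ W = ⊤ := by
    rw [← h₁₀gen]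
    change (Spec.map (CommRingCat.ofHom V₀.subtype)) ⁻¹ᵁ (h₁₀ ⁻¹ᵁ W) = ⊤
    rw [hW_of V₀ h₁₀ h₁₀cl]
    rfl
  have hmemV : ∀ (V : ValuationSubring (FractionRing (X.presheaf.stalk x)))
      [IsDiscreteValuationRing V]
      (_ : ∀ a, algebraMap (X.presheaf.stalk x) (FractionRing (X.presheaf.stalk x)) a ∈ V)
      (_ : ∀ a ∈ IsLocalRing.maximalIdeal (X.presheaf.stalk x), V.valuation
        (algebraMap (X.presheaf.stalk x) (FractionRing (X.presheaf.stalk x)) a) < 1),
      ∀ b, (toAff ψ W hψW).hom b ∈ V := by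
    intro V _ hV hdom b
    obtain ⟨h₁, h2, h3, -⟩ := key V hV hdom
    have hh₁W := hW_of V h₁ h2
    have h3' : (Spec.map (CommRingCat.ofHom V.subtype) ≫ h₁) ⁻¹ᵁ W = ⊤ := by
      rw [h3]; exact hψW
    have e1 : toAff ψ W hψW = toAff h₁ W hh₁W ≫ CommRingCat.ofHom V.subtype := by
      rw [← toAff_comp_left _ h₁ W hh₁W h3']
      exact toAff_congr h3.symm W hψW h3'
    rw [e1]
    exact ((toAff h₁ W hh₁W).hom b).2
  have hrangeφ : ∀ b, (toAff ψ W hψW).hom b ∈ Set.range (algebraMap (X.presheaf.stalk x)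
      (FractionRing (X.presheaf.stalk x))) := by
    intro b
    by_contra hb
    have : IsIntegrallyClosed (X.presheaf.stalk x) := hx
    obtain ⟨V, hV, hVmem, hVdom, hbV⟩ :=
      Groth.Agent.H73.KA.exists_dvr_dominating_not_mem (A := X.presheaf.stalk x) _ hb
    exact hbV (hmemV V hVmem hVdom b)
  obtain ⟨σ, hσ⟩ := exists_ringHom_lift (algebraMap (X.presheaf.stalk x)
    (FractionRing (X.presheaf.stalk x))) hinj (toAff ψ W hψW).hom hrangeφ
  let l : Spec (X.presheaf.stalk x) ⟶ Y := Spec.map (CommRingCat.ofHom σ) ≫ hWaff.fromSpec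
  have hσ' : CommRingCat.ofHom σ ≫ CommRingCat.ofHom (algebraMap (X.presheaf.stalk x)
      (FractionRing (X.presheaf.stalk x))) = toAff ψ W hψW := by
    ext b
    exact RingHom.congr_fun hσ b
  have hla : Spec.map (CommRingCat.ofHom (algebraMap (X.presheaf.stalk x)
      (FractionRing (X.presheaf.stalk x)))) ≫ l = ψ := by
    have h1 := SpecMap_toAff_fromSpec ψ hWaff hψW
    rw [← hσ', Spec.map_comp, Category.assoc] at h1
    exact h1
  have hlW : l ⁻¹ᵁ W = ⊤ := by
    rw [_root_.eq_top_iff]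
    intro t _
    change (Spec.map (CommRingCat.ofHom σ) ≫ hWaff.fromSpec).base t ∈ (W : Set Y)
    rw [← hWaff.range_fromSpec, Scheme.Hom.comp_apply]
    exact Set.mem_range_self _
  have hlb : l.base (IsLocalRing.closedPoint (X.presheaf.stalk x)) = y₀ := by
    have e : Spec.map (CommRingCat.ofHom ((algebraMap (X.presheaf.stalk x)
        (FractionRing (X.presheaf.stalk x))).codRestrict V₀ hV₀mem)) ≫ l = h₁₀ := by
      refine eq_of_comp_eq_of_affine V₀.subtype Subtype.val_injective _ _ hWaff ?_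
        (hW_of V₀ h₁₀ h₁₀cl) ?_
      · change (Spec.map _) ⁻¹ᵁ (l ⁻¹ᵁ W) = ⊤
        rw [hlW]
        rfl
      · rw [h₁₀gen, ← Spec.map_comp_assoc]
        exact hla
    rw [← hcp₀, ← Scheme.Hom.comp_apply, e, h₁₀cl]
  have hlc : l ≫ q = X.fromSpecStalk x := by
    obtain ⟨N₀, hN₀, hxN₀, -⟩ :=
      Opens.isBasis_iff_nbhd.mp X.isBasis_affineOpens (Opens.mem_top x)
    refine eq_of_comp_eq_of_affine (algebraMap (X.presheaf.stalk x)
      (FractionRing (X.presheaf.stalk x))) hinj _ _ hN₀ ?_ ?_ ?_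
    · exact preimage_eq_top_of_closedPoint_mem (R := X.presheaf.stalk x) _ _
        (by rw [Scheme.Hom.comp_apply, hlb, hy₀]; exact hxN₀)
    · exact preimage_eq_top_of_closedPoint_mem (R := X.presheaf.stalk x) _ _
        (by rw [Scheme.fromSpecStalk_closedPoint]; exact hxN₀)
    · rw [← Category.assoc, hla, hψq]
      rfl
  refine ⟨l, hlc, hlb, ?_⟩
  intro ubK hubK
  have : ubK = ubK₀ := by rw [← cancel_mono U.ι, hubK, hubK₀]
  rw [this]
  exact hla

/-- **Valuative criterion for a rational section to be defined at a normal point.** -/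
theorem exists_extension [IsLocallyNoetherian X] [LocallyOfFiniteType q] (hU : Dense (U : Set X))
    (hh : h ≫ q = U.ι) {x : X} [IsDomain (X.presheaf.stalk x)]
    (hx : IsIntegrallyClosed (X.presheaf.stalk x)) (hxU : x ∉ U) {y₀ : Y} (hy₀ : q.base y₀ = x)
    (H : DVRHyp q U h x y₀) :
    ∃ (U' : X.Opens) (hUU' : U ≤ U') (hxU' : x ∈ U') (h' : (U' : Scheme.{u}) ⟶ Y),
      h' ≫ q = U'.ι ∧ X.homOfLE hUU' ≫ h' = h ∧ h'.base ⟨x, hxU'⟩ = y₀ := by
  obtain ⟨hj, l, hlc, hlb, hlgen⟩ := exists_local_section hU hh hx hxU hy₀ H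
  -- spread out
  obtain ⟨U'', hxU'', h'', hl'', hh''⟩ :=
    spread_out_of_isGermInjective' (sX := 𝟙 X) (sY := q) l (by rw [hlc, Category.comp_id])
  rw [Category.comp_id] at hh''
  have hcl'' : (U''.fromSpecStalkOfMem x hxU'').base
      (IsLocalRing.closedPoint (X.presheaf.stalk x)) = ⟨x, hxU''⟩ := by
    apply Subtype.ext
    have := congrArg (fun f => f.base (IsLocalRing.closedPoint (X.presheaf.stalk x)))
      (U''.fromSpecStalkOfMem_ι x hxU'')
    simp only [Scheme.Hom.comp_apply] at this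
    rw [Scheme.fromSpecStalk_closedPoint] at this
    exact this
  have hy'' : h''.base ⟨x, hxU''⟩ = y₀ := by
    rw [← hcl'', ← Scheme.Hom.comp_apply, ← hl'', hlb]
  obtain ⟨(W : Y.Opens), hWaff, hy₀W, -⟩ :=
    Opens.isBasis_iff_nbhd.mp Y.isBasis_affineOpens (Opens.mem_top y₀)
  obtain ⟨U₁, hxU₁, hU₁⟩ := exists_open_nhds_map_into H hxU W hy₀W
  -- an integral affine neighbourhood
  obtain ⟨N, hxN, hNaff, hNinj⟩ := X.exists_germ_injective x
  have hNdom : IsDomain Γ(X, N) := hNinj.isDomain (X.presheaf.germ N x hxN).hom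
  have hNint : IsIntegral (N : Scheme.{u}) := by
    have : IsAffine (N : Scheme.{u}) := hNaff
    have : Nonempty (N : Scheme.{u}) := ⟨⟨x, hxN⟩⟩
    have : IsDomain Γ((N : Scheme.{u}), ⊤) :=
      (N.topIso.commRingCatIsoToRingEquiv).toMulEquiv.isDomain_iff.mpr hNdom
    exact isIntegral_of_isAffine_of_isDomain _
  let U''' : X.Opens := U'' ⊓ U₁ ⊓ N ⊓ (U''.ι ''ᵁ (h'' ⁻¹ᵁ W))
  have hxU''' : x ∈ U''' :=
    ⟨⟨⟨hxU'', hxU₁⟩, hxN⟩, ⟨⟨x, hxU''⟩, by rw [← hy''] at hy₀W; exact hy₀W, rfl⟩⟩
  have hle'' : U''' ≤ U'' := inf_le_left.trans (inf_le_left.trans inf_le_left)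
  have hleN : U''' ≤ N := inf_le_left.trans inf_le_right
  let Z : X.Opens := U ⊓ U'''
  let s₁ : (Z : Scheme.{u}) ⟶ Y := X.homOfLE (inf_le_left : Z ≤ U) ≫ h
  let s₂ : (Z : Scheme.{u}) ⟶ Y := X.homOfLE ((inf_le_right : Z ≤ U''').trans hle'') ≫ h''
  have hs : s₁ = s₂ := by
    have hs₁W : s₁ ⁻¹ᵁ W = ⊤ := by
      rw [_root_.eq_top_iff]
      intro z _
      change h.base ((X.homOfLE (inf_le_left : Z ≤ U)).base z) ∈ W
      have hz : (X.homOfLE (inf_le_left : Z ≤ U)).base z = ⟨z.1, z.2.1⟩ :=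
        Subtype.ext (Scheme.homOfLE_apply _ _)
      rw [hz]
      exact hU₁ z.1 z.2.1 z.2.2.1.1.2
    have hs₂W : s₂ ⁻¹ᵁ W = ⊤ := by
      rw [_root_.eq_top_iff]
      intro z _
      change h''.base ((X.homOfLE ((inf_le_right : Z ≤ U''').trans hle'')).base z) ∈ W
      obtain ⟨w, hw, hwz⟩ := z.2.2.2
      have hz : (X.homOfLE ((inf_le_right : Z ≤ U''').trans hle'')).base z = w := by
        apply Subtype.ext
        rw [Scheme.homOfLE_apply]
        exact hwz.symm
      rw [hz]
      exact hw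
    have hr₁ : Set.range s₁.base ⊆ Set.range W.ι.base := by
      rw [Scheme.Opens.range_ι]
      rintro _ ⟨z, rfl⟩
      have : z ∈ s₁ ⁻¹ᵁ W := by rw [hs₁W]; trivial
      exact this
    have hr₂ : Set.range s₂.base ⊆ Set.range W.ι.base := by
      rw [Scheme.Opens.range_ι]
      rintro _ ⟨z, rfl⟩
      have : z ∈ s₂ ⁻¹ᵁ W := by rw [hs₂W]; trivial
      exact this
    let s₁' : (Z : Scheme.{u}) ⟶ (W : Scheme.{u}) := IsOpenImmersion.lift W.ι s₁ hr₁
    let s₂' : (Z : Scheme.{u}) ⟶ (W : Scheme.{u}) := IsOpenImmersion.lift W.ι s₂ hr₂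
    have hs₁' : s₁' ≫ W.ι = s₁ := IsOpenImmersion.lift_fac _ _ _
    have hs₂' : s₂' ≫ W.ι = s₂ := IsOpenImmersion.lift_fac _ _ _
    have hZred : IsReduced (Z : Scheme.{u}) :=
      isReduced_of_isOpenImmersion (X.homOfLE ((inf_le_right : Z ≤ U''').trans hleN))
    -- the generic point
    have hjZ : (jK x) ⁻¹ᵁ Z = ⊤ := by
      change (jK x) ⁻¹ᵁ U ⊓ (jK x) ⁻¹ᵁ U''' = ⊤
      rw [hj, jK_preimage_eq_top_of_mem x specializes_rfl hxU''', inf_top_eq]
    have hrZ : Set.range (jK x).base ⊆ Set.range Z.ι.base := by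
      rw [Scheme.Opens.range_ι]
      rintro _ ⟨t, rfl⟩
      have : t ∈ (jK x) ⁻¹ᵁ Z := by rw [hjZ]; trivial
      exact this
    let ιZ : Spec (CommRingCat.of (FractionRing (X.presheaf.stalk x))) ⟶ (Z : Scheme.{u}) :=
      IsOpenImmersion.lift Z.ι (jK x) hrZ
    have hιZ : ιZ ≫ Z.ι = jK x := IsOpenImmersion.lift_fac _ _ _
    have hdom : IsDominant ιZ := by
      refine ⟨fun z => ?_⟩
      have hg : IrreducibleSpace N.toScheme := inferInstance
      let g : X := N.ι.base (genericPoint N.toScheme)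
      have hgx : g ⤳ x :=
        (genericPoint_specializes (α := N.toScheme) ⟨x, hxN⟩).map N.ι.continuous
      have hzN : z.1 ∈ N := hleN z.2.2
      have hgz : g ⤳ z.1 :=
        (genericPoint_specializes (α := N.toScheme) ⟨z.1, hzN⟩).map N.ι.continuous
      have h1 : (jK x).base (IsLocalRing.closedPoint (FractionRing (X.presheaf.stalk x))) ⤳ z.1 :=
        (jK_specializes x hgx).trans hgz
      have h2 : ιZ.base (IsLocalRing.closedPoint (FractionRing (X.presheaf.stalk x))) ⤳ z := by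
        rw [← Z.ι.isEmbedding.isInducing.specializes_iff]
        rw [← Scheme.Hom.comp_apply, hιZ]
        exact h1
      exact closure_mono (Set.singleton_subset_iff.mpr (Set.mem_range_self _))
        (specializes_iff_mem_closure.mp h2)
    have hagree : ιZ ≫ s₁' = ιZ ≫ s₂' := by
      rw [← cancel_mono W.ι, Category.assoc, Category.assoc, hs₁', hs₂']
      have e1 : ιZ ≫ s₁ = Spec.map (CommRingCat.ofHom (algebraMap (X.presheaf.stalk x)
          (FractionRing (X.presheaf.stalk x)))) ≫ l := by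
        rw [hlgen (ιZ ≫ X.homOfLE (inf_le_left : Z ≤ U))
          (by rw [Category.assoc, Scheme.homOfLE_ι, hιZ])]
        simp only [s₁, Category.assoc]
      have e2 : ιZ ≫ s₂ = Spec.map (CommRingCat.ofHom (algebraMap (X.presheaf.stalk x)
          (FractionRing (X.presheaf.stalk x)))) ≫ l := by
        have e3 : ιZ ≫ X.homOfLE ((inf_le_right : Z ≤ U''').trans hle'') =
            Spec.map (CommRingCat.ofHom (algebraMap (X.presheaf.stalk x)
              (FractionRing (X.presheaf.stalk x)))) ≫ U''.fromSpecStalkOfMem x hxU'' := by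
          rw [← cancel_mono U''.ι, Category.assoc, Category.assoc, Scheme.homOfLE_ι, hιZ,
            Scheme.Opens.fromSpecStalkOfMem_ι]
          rfl
        simp only [s₂]
        rw [← Category.assoc, e3, Category.assoc, ← hl'']
      rw [e1, e2]
    have hWaff' : IsAffine (W : Scheme.{u}) := hWaff
    have hs' : s₁' = s₂' := ext_of_isDominant (ι := ιZ) hagree
    rw [← hs₁', ← hs₂', hs']
  obtain ⟨h', hh'1, hh'2⟩ := Groth.Agent.H73.Glue.exists_glue_two U U''' h
    (X.homOfLE hle'' ≫ h'') (by rw [Scheme.homOfLE_homOfLE_assoc]; exact hs)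
  refine ⟨U ⊔ U''', le_sup_left, Or.inr hxU''', h', ?_, hh'1, ?_⟩
  · apply Groth.Agent.H73.Glue.hom_ext_two U U'''
    · rw [← Category.assoc, hh'1, hh, Scheme.homOfLE_ι]
    · rw [← Category.assoc, hh'2, Category.assoc, hh'', Scheme.homOfLE_ι, Scheme.homOfLE_ι]
  · have h1 : (⟨x, Or.inr hxU'''⟩ : ↥(U ⊔ U''')) =
        (X.homOfLE (le_sup_right : U''' ≤ U ⊔ U''')).base ⟨x, hxU'''⟩ :=
      (Scheme.homOfLE_apply' (le_sup_right : U''' ≤ U ⊔ U''') x hxU''').symm
    rw [h1, ← Scheme.Hom.comp_apply, hh'2, Scheme.Hom.comp_apply, Scheme.homOfLE_apply', hy'']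

end Main

end Groth.Agent.H73.RatExt
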