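import Groth.Agent.H73.ZMTNormal

/-!
# Zariski's main theorem at a normal point: the isolated-point version
-/

set_option autoImplicit false

namespace Groth.Agent.H73.ZMT

/-- Variant of `zmt_normal` in which quasi-finiteness at `P₀` is replaced by the condition that
`P₀` is the only prime of `V(ker φ)` lying over the same prime of `A`. -/
theorem zmt_normal_isolated {A B 𝒪 K : Type*} [CommRing A] [CommRing B] [CommRing 𝒪] [IsDomain 𝒪]
    [IsLocalRing 𝒪] [IsIntegrallyClosed 𝒪] [Field K] [Algebra 𝒪 K] [IsFractionRing 𝒪 K]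
    (f : A →+* B) (hf : f.FiniteType) (P₀ : Ideal B) [P₀.IsPrime]
    (ρ : A →+* 𝒪) (hL1 : ∀ t : 𝒪, ∃ a s : A, IsUnit (ρ s) ∧ t * ρ s = ρ a)
    (hL2 : ∀ s, IsUnit (ρ s) → f s ∉ P₀) (hL3 : ∀ a, ¬ IsUnit (ρ a) → f a ∈ P₀)
    (φ : B →+* K) (hφ : φ.comp f = (algebraMap 𝒪 K).comp ρ) (hker : ∀ b, φ b = 0 → b ∈ P₀)
    (hiso : ∀ Q : Ideal B, Q.IsPrime → RingHom.ker φ ≤ Q → Q.comap f = P₀.comap f → Q = P₀) :
    ∀ b, φ b ∈ Set.range (algebraMap 𝒪 K) := by
  let I : Ideal B := RingHom.ker φ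
  let mk : B →+* B ⧸ I := Ideal.Quotient.mk I
  have hmk : Function.Surjective mk := Ideal.Quotient.mk_surjective
  have hIP : I ≤ P₀ := fun b hb => hker b hb
  let f' : A →+* B ⧸ I := mk.comp f
  have hf' : f'.FiniteType := hf.comp_surjective hmk
  let P' : Ideal (B ⧸ I) := P₀.map mk
  have hP' : P'.IsPrime := Ideal.map_isPrime_of_surjective hmk (by rw [Ideal.mk_ker]; exact hIP)
  have hcomap : P'.comap mk = P₀ := by
    rw [Ideal.comap_map_of_surjective mk hmk, ← RingHom.ker_eq_comap_bot, Ideal.mk_ker]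
    exact sup_eq_left.mpr hIP
  have hmem : ∀ b, mk b ∈ P' ↔ b ∈ P₀ := by
    intro b
    rw [← hcomap]
    rfl
  let φ' : B ⧸ I →+* K := RingHom.kerLift φ
  have hφ'mk : ∀ b, φ' (mk b) = φ b := fun b => RingHom.kerLift_mk φ b
  have hφ'inj : Function.Injective φ' := RingHom.kerLift_injective φ
  have hqf : f'.QuasiFiniteAt P' := by
    algebraize [f']
    change Algebra.QuasiFiniteAt A P'
    have hsub : ∀ Q' : PrimeSpectrum (B ⧸ I),
        Q'.comap (algebraMap A (B ⧸ I)) = (⟨P', hP'⟩ : PrimeSpectrum (B ⧸ I)).comap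
          (algebraMap A (B ⧸ I)) → Q' = ⟨P', hP'⟩ := by
      intro Q' hQ'
      have h1 : (Q'.asIdeal.comap mk).comap f = P₀.comap f := by
        have := congrArg PrimeSpectrum.asIdeal hQ'
        change (Q'.asIdeal.comap mk).comap f = (P'.comap mk).comap f at this
        rw [this, hcomap]
      have h2 : Q'.asIdeal.comap mk = P₀ := by
        refine hiso _ (Ideal.comap_isPrime mk Q'.asIdeal) ?_ h1
        intro b hb
        change mk b ∈ Q'.asIdeal
        have : mk b = 0 := Ideal.Quotient.eq_zero_iff_mem.mpr hb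
        rw [this]
        exact zero_mem _
      ext1
      change Q'.asIdeal = P'
      rw [← Ideal.map_comap_of_surjective mk hmk Q'.asIdeal, h2]
    refine Algebra.QuasiFiniteAt.of_isOpen_singleton_fiber (R := A) (⟨P', hP'⟩ : PrimeSpectrum (B ⧸ I)) ?_
    convert isOpen_univ
    ext ⟨Q', hQ'⟩
    simp only [Set.mem_singleton_iff, Set.mem_univ, iff_true]
    exact Subtype.ext (hsub Q' hQ')
  have hres := zmt_normal f' hf' P' hqf ρ hL1
    (fun s hs hsP => hL2 s hs ((hmem _).mp hsP))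
    (fun a ha => (hmem _).mpr (hL3 a ha)) φ'
    (by
      ext a
      change φ' (mk (f a)) = _
      rw [hφ'mk]
      exact RingHom.congr_fun hφ a)
    (by
      intro c hc
      have : c = 0 := hφ'inj (by rw [hc, map_zero])
      rw [this]
      exact zero_mem _)
  intro b
  rw [← hφ'mk]
  exact hres (mk b)

end Groth.Agent.H73.ZMT
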