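import Groth.Agent.H73.RatExtQF
import Groth.Agent.H73.ZMTIso

/-!
# Extending a rational section of a separated morphism of finite type through a normal point
at which the closure of the graph is isolated in its fibre.
-/

set_option autoImplicit false
universe u
open CategoryTheory CategoryTheory.Limits AlgebraicGeometry TopologicalSpace

namespace Groth.Agent.H73.RatExt

open Groth.Agent.H73.AnClosed

section Main

variable {X Y : Scheme.{u}} {q : Y ⟶ X}

/-- The local section in the isolated case. -/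
theorem exists_local_section_of_isolated [LocallyOfFiniteType q] {y₀ : Y}
    [IsDomain (X.presheaf.stalk (q.base y₀))]
    (hx : IsIntegrallyClosed (X.presheaf.stalk (q.base y₀)))
    (ψ : Spec (CommRingCat.of (FractionRing (X.presheaf.stalk (q.base y₀)))) ⟶ Y)
    (hψq : ψ ≫ q = jK (q.base y₀))
    (hψsp : ψ.base (IsLocalRing.closedPoint
      (FractionRing (X.presheaf.stalk (q.base y₀)))) ⤳ y₀)
    (W' : Y.Opens) (hy₀W' : y₀ ∈ W')
    (hiso : ∀ w ∈ W', ψ.base (IsLocalRing.closedPoint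
      (FractionRing (X.presheaf.stalk (q.base y₀)))) ⤳ w → q.base w = q.base y₀ → w = y₀) :
    ∃ l : Spec (X.presheaf.stalk (q.base y₀)) ⟶ Y,
      l ≫ q = X.fromSpecStalk (q.base y₀) ∧
      Spec.map (CommRingCat.ofHom (algebraMap (X.presheaf.stalk (q.base y₀))
          (FractionRing (X.presheaf.stalk (q.base y₀))))) ≫ l = ψ := by
  have hinj : Function.Injective (algebraMap (X.presheaf.stalk (q.base y₀))
      (FractionRing (X.presheaf.stalk (q.base y₀)))) := IsFractionRing.injective _ _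
  obtain ⟨(N₀ : X.Opens), hN₀, hxN₀, -⟩ :=
    Opens.isBasis_iff_nbhd.mp X.isBasis_affineOpens (Opens.mem_top (q.base y₀))
  obtain ⟨(W : Y.Opens), hWaff, hy₀W, hWle⟩ :=
    Opens.isBasis_iff_nbhd.mp Y.isBasis_affineOpens
      (show y₀ ∈ q ⁻¹ᵁ N₀ ⊓ W' from ⟨hxN₀, hy₀W'⟩)
  have hWN : W ≤ q ⁻¹ᵁ N₀ := fun w hw => (hWle hw).1
  have hWW' : W ≤ W' := fun w hw => (hWle hw).2
  have hψW : ψ ⁻¹ᵁ W = ⊤ :=
    preimage_eq_top_of_closedPoint_mem ψ W (hψsp.mem_open W.2 hy₀W)
  -- the algebraic data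
  have hf : (q.appLE N₀ W hWN).hom.FiniteType := q.finiteType_appLE hN₀ hWaff hWN
  have hmem : ∀ a : Γ(X, N₀), (q.appLE N₀ W hWN).hom a ∈ (hWaff.primeIdealOf ⟨y₀, hy₀W⟩).asIdeal ↔
      (X.presheaf.germ N₀ (q.base y₀) hxN₀).hom a ∈
        IsLocalRing.maximalIdeal (X.presheaf.stalk (q.base y₀)) := by
    intro a
    rw [← mem_primeIdealOf_iff hN₀ hxN₀,
      ← IsAffineOpen.comap_primeIdealOf_appLE N₀ hN₀ W hWaff hWN hy₀W]
    rfl
  have hL1 : ∀ t : X.presheaf.stalk (q.base y₀), ∃ a s : Γ(X, N₀),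
      IsUnit ((X.presheaf.germ N₀ (q.base y₀) hxN₀).hom s) ∧
      t * (X.presheaf.germ N₀ (q.base y₀) hxN₀).hom s =
        (X.presheaf.germ N₀ (q.base y₀) hxN₀).hom a := by
    intro t
    let _ := X.presheaf.algebra_section_stalk ⟨q.base y₀, hxN₀⟩
    have := hN₀.isLocalization_stalk ⟨q.base y₀, hxN₀⟩
    obtain ⟨⟨a, s⟩, hts⟩ := IsLocalization.surj
      (hN₀.primeIdealOf ⟨q.base y₀, hxN₀⟩).asIdeal.primeCompl t
    exact ⟨a, s.1, IsLocalization.map_units _ s, hts⟩
  have hL2 : ∀ s, IsUnit ((X.presheaf.germ N₀ (q.base y₀) hxN₀).hom s) →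
      (q.appLE N₀ W hWN).hom s ∉ (hWaff.primeIdealOf ⟨y₀, hy₀W⟩).asIdeal := by
    intro s hs hsP
    exact (IsLocalRing.mem_maximalIdeal _).mp ((hmem s).mp hsP) hs
  have hL3 : ∀ a, ¬ IsUnit ((X.presheaf.germ N₀ (q.base y₀) hxN₀).hom a) →
      (q.appLE N₀ W hWN).hom a ∈ (hWaff.primeIdealOf ⟨y₀, hy₀W⟩).asIdeal :=
    fun a ha => (hmem a).mpr ((IsLocalRing.mem_maximalIdeal _).mpr ha)
  have hpreN : (X.fromSpecStalk (q.base y₀)) ⁻¹ᵁ N₀ = ⊤ :=
    preimage_eq_top_of_closedPoint_mem (R := X.presheaf.stalk (q.base y₀)) _ _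
      (by rw [Scheme.fromSpecStalk_closedPoint]; exact hxN₀)
  have hφ : (toAff ψ W hψW).hom.comp (q.appLE N₀ W hWN).hom =
      (algebraMap (X.presheaf.stalk (q.base y₀))
        (FractionRing (X.presheaf.stalk (q.base y₀)))).comp
        (X.presheaf.germ N₀ (q.base y₀) hxN₀).hom := by
    have hpre1 : (ψ ≫ q) ⁻¹ᵁ N₀ = ⊤ := by
      rw [_root_.eq_top_iff]
      intro t _
      have : t ∈ ψ ⁻¹ᵁ W := by rw [hψW]; trivial
      exact hWN this
    have hpre2 : (jK (q.base y₀)) ⁻¹ᵁ N₀ = ⊤ := by rw [← hψq]; exact hpre1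
    have e1 : q.appLE N₀ W hWN ≫ toAff ψ W hψW = toAff (ψ ≫ q) N₀ hpre1 :=
      appLE_toAff ψ q N₀ W hWN hψW hpre1
    have e2 : toAff (ψ ≫ q) N₀ hpre1 = toAff (jK (q.base y₀)) N₀ hpre2 :=
      toAff_congr hψq N₀ hpre1 hpre2
    have e3 : toAff (jK (q.base y₀)) N₀ hpre2 =
        toAff (X.fromSpecStalk (q.base y₀)) N₀ hpreN ≫ CommRingCat.ofHom
          (algebraMap (X.presheaf.stalk (q.base y₀))
            (FractionRing (X.presheaf.stalk (q.base y₀)))) :=
      toAff_comp_left _ (X.fromSpecStalk (q.base y₀)) N₀ hpreN hpre2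
    rw [toAff_fromSpecStalk hN₀ hxN₀] at e3
    have e4 := e1.trans (e2.trans e3)
    exact congrArg CommRingCat.Hom.hom e4
  have hker : ∀ b, (toAff ψ W hψW).hom b = 0 → b ∈ (hWaff.primeIdealOf ⟨y₀, hy₀W⟩).asIdeal := by
    intro b hb
    by_contra hbP
    rw [mem_primeIdealOf_iff hWaff hy₀W, IsLocalRing.mem_maximalIdeal, mem_nonunits_iff,
      not_not] at hbP
    have h1 : y₀ ∈ Y.basicOpen b := (Scheme.mem_basicOpen _ _ y₀ hy₀W).mpr hbP
    have h2 := hψsp.mem_open (Y.basicOpen b).2 h1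
    exact not_mem_basicOpen_of_toAff_eq_zero ψ hψW b hb _ h2
  -- isolatedness, algebraically
  have hisoAlg : ∀ Q : Ideal Γ(Y, W), Q.IsPrime → RingHom.ker (toAff ψ W hψW).hom ≤ Q →
      Q.comap (q.appLE N₀ W hWN).hom = (hWaff.primeIdealOf ⟨y₀, hy₀W⟩).asIdeal.comap
        (q.appLE N₀ W hWN).hom → Q = (hWaff.primeIdealOf ⟨y₀, hy₀W⟩).asIdeal := by
    intro Q hQ hkQ hcomap
    let Qp : Spec Γ(Y, W) := ⟨Q, hQ⟩
    let w : Y := hWaff.fromSpec.base Qp
    have hwW : w ∈ W := by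
      change w ∈ (W : Set Y)
      rw [← hWaff.range_fromSpec]
      exact Set.mem_range_self _
    have hψpt : ψ.base (IsLocalRing.closedPoint
        (FractionRing (X.presheaf.stalk (q.base y₀)))) =
        hWaff.fromSpec.base ((Spec.map (toAff ψ W hψW)).base (IsLocalRing.closedPoint
          (FractionRing (X.presheaf.stalk (q.base y₀))))) := by
      rw [← Scheme.Hom.comp_apply, SpecMap_toAff_fromSpec]
    have hsp1 : (Spec.map (toAff ψ W hψW)).base (IsLocalRing.closedPoint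
          (FractionRing (X.presheaf.stalk (q.base y₀)))) ⤳ Qp := by
      refine (PrimeSpectrum.le_iff_specializes (R := Γ(Y, W)) _ _).mp ?_
      intro b hb
      apply hkQ
      have hb' : (toAff ψ W hψW).hom b ∈ IsLocalRing.maximalIdeal
        (FractionRing (X.presheaf.stalk (q.base y₀))) := hb
      rw [IsLocalRing.maximalIdeal_eq_bot, Ideal.mem_bot] at hb'
      exact hb'
    have hsp2 : ψ.base (IsLocalRing.closedPoint
        (FractionRing (X.presheaf.stalk (q.base y₀)))) ⤳ w := by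
      rw [hψpt]
      exact hsp1.map hWaff.fromSpec.continuous
    have hqw : q.base w = q.base y₀ := by
      have e := hN₀.SpecMap_appLE_fromSpec q hWaff hWN
      have e1 : q.base w = hN₀.fromSpec.base ((Spec.map (q.appLE N₀ W hWN)).base Qp) := by
        rw [← Scheme.Hom.comp_apply, ← Scheme.Hom.comp_apply, e]
      have e2 : q.base y₀ = hN₀.fromSpec.base ((Spec.map (q.appLE N₀ W hWN)).base
          (hWaff.primeIdealOf ⟨y₀, hy₀W⟩)) := by
        rw [← Scheme.Hom.comp_apply, e, Scheme.Hom.comp_apply, hWaff.fromSpec_primeIdealOf]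
      rw [e1, e2]
      congr 1
      exact PrimeSpectrum.ext hcomap
    have hwy : w = y₀ := hiso w (hWW' hwW) hsp2 hqw
    have h3 : hWaff.fromSpec.base Qp = hWaff.fromSpec.base (hWaff.primeIdealOf ⟨y₀, hy₀W⟩) := by
      rw [hWaff.fromSpec_primeIdealOf]
      exact hwy
    have h4 := hWaff.fromSpec.isOpenEmbedding.injective h3
    exact congrArg PrimeSpectrum.asIdeal h4
  have : IsIntegrallyClosed (X.presheaf.stalk (q.base y₀)) := hx
  have hrangeφ := Groth.Agent.H73.ZMT.zmt_normal_isolated (q.appLE N₀ W hWN).hom hf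
    (hWaff.primeIdealOf ⟨y₀, hy₀W⟩).asIdeal (X.presheaf.germ N₀ (q.base y₀) hxN₀).hom
    hL1 hL2 hL3 (toAff ψ W hψW).hom hφ hker hisoAlg
  obtain ⟨σ, hσ⟩ := exists_ringHom_lift (algebraMap (X.presheaf.stalk (q.base y₀))
    (FractionRing (X.presheaf.stalk (q.base y₀)))) hinj (toAff ψ W hψW).hom hrangeφ
  let l : Spec (X.presheaf.stalk (q.base y₀)) ⟶ Y :=
    Spec.map (CommRingCat.ofHom σ) ≫ hWaff.fromSpec
  have hσ' : CommRingCat.ofHom σ ≫ CommRingCat.ofHom (algebraMap (X.presheaf.stalk (q.base y₀))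
      (FractionRing (X.presheaf.stalk (q.base y₀)))) = toAff ψ W hψW := by
    ext b
    exact RingHom.congr_fun hσ b
  have hla : Spec.map (CommRingCat.ofHom (algebraMap (X.presheaf.stalk (q.base y₀))
      (FractionRing (X.presheaf.stalk (q.base y₀))))) ≫ l = ψ := by
    have h1 := SpecMap_toAff_fromSpec ψ hWaff hψW
    rw [← hσ', Spec.map_comp, Category.assoc] at h1
    exact h1
  have hlW : l ⁻¹ᵁ W = ⊤ := by
    rw [_root_.eq_top_iff]
    intro t _
    change (Spec.map (CommRingCat.ofHom σ) ≫ hWaff.fromSpec).base t ∈ (W : Set Y)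
    rw [← hWaff.range_fromSpec, Scheme.Hom.comp_apply]
    exact Set.mem_range_self _
  have hlc : l ≫ q = X.fromSpecStalk (q.base y₀) := by
    refine eq_of_comp_eq_of_affine (algebraMap (X.presheaf.stalk (q.base y₀))
      (FractionRing (X.presheaf.stalk (q.base y₀)))) hinj _ _ hN₀ ?_ hpreN ?_
    · rw [_root_.eq_top_iff]
      intro t _
      have : t ∈ l ⁻¹ᵁ W := by rw [hlW]; trivial
      exact hWN this
    · rw [← Category.assoc, hla, hψq]
      rfl
  exact ⟨l, hlc, hla⟩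

/-- A rational section of a separated morphism locally of finite type extends through a normal
point `x = q y₀` as soon as its value at the generic point specializes to `y₀` and `y₀` is
isolated in the fibre of the closure of that value. -/
theorem exists_extension_of_isolated {U : X.Opens} {h : (U : Scheme.{u}) ⟶ Y}
    [LocallyOfFiniteType q] [IsSeparated q] (hh : h ≫ q = U.ι) {y₀ : Y}
    [X.IsGermInjectiveAt (q.base y₀)]
    [IsDomain (X.presheaf.stalk (q.base y₀))]
    (hx : IsIntegrallyClosed (X.presheaf.stalk (q.base y₀)))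
    (hj : (jK (q.base y₀)) ⁻¹ᵁ U = ⊤)
    (hsp : ∀ ubK : Spec (CommRingCat.of (FractionRing (X.presheaf.stalk (q.base y₀)))) ⟶
        (U : Scheme.{u}), ubK ≫ U.ι = jK (q.base y₀) →
        (ubK ≫ h).base (IsLocalRing.closedPoint
          (FractionRing (X.presheaf.stalk (q.base y₀)))) ⤳ y₀)
    (W' : Y.Opens) (hy₀W' : y₀ ∈ W')
    (hiso : ∀ ubK : Spec (CommRingCat.of (FractionRing (X.presheaf.stalk (q.base y₀)))) ⟶
        (U : Scheme.{u}), ubK ≫ U.ι = jK (q.base y₀) → ∀ w ∈ W',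
        (ubK ≫ h).base (IsLocalRing.closedPoint
          (FractionRing (X.presheaf.stalk (q.base y₀)))) ⤳ w → q.base w = q.base y₀ → w = y₀) :
    ∃ (U' : X.Opens) (hUU' : U ≤ U') (h' : (U' : Scheme.{u}) ⟶ Y),
      q.base y₀ ∈ U' ∧ h' ≫ q = U'.ι ∧ X.homOfLE hUU' ≫ h' = h := by
  have hrange : Set.range (jK (q.base y₀)).base ⊆ Set.range U.ι.base := by
    rw [Scheme.Opens.range_ι]
    rintro _ ⟨t, rfl⟩
    have : t ∈ (jK (q.base y₀)) ⁻¹ᵁ U := by rw [hj]; trivial
    exact this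
  let ubK₀ : Spec (CommRingCat.of (FractionRing (X.presheaf.stalk (q.base y₀)))) ⟶
      (U : Scheme.{u}) := IsOpenImmersion.lift U.ι (jK (q.base y₀)) hrange
  have hubK₀ : ubK₀ ≫ U.ι = jK (q.base y₀) := IsOpenImmersion.lift_fac _ _ _
  have hψq : (ubK₀ ≫ h) ≫ q = jK (q.base y₀) := by rw [Category.assoc, hh, hubK₀]
  obtain ⟨l, hlc, hla⟩ := exists_local_section_of_isolated hx (ubK₀ ≫ h) hψq (hsp ubK₀ hubK₀)
    W' hy₀W' (hiso ubK₀ hubK₀)
  have hlgen : ∀ ubK : Spec (CommRingCat.of (FractionRing (X.presheaf.stalk (q.base y₀)))) ⟶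
        (U : Scheme.{u}), ubK ≫ U.ι = jK (q.base y₀) →
        Spec.map (CommRingCat.ofHom (algebraMap (X.presheaf.stalk (q.base y₀))
          (FractionRing (X.presheaf.stalk (q.base y₀))))) ≫ l = ubK ≫ h := by
    intro ubK hubK
    have : ubK = ubK₀ := by rw [← cancel_mono U.ι, hubK, hubK₀]
    rw [this]
    exact hla
  obtain ⟨U'', hxU'', h'', hl'', hh''⟩ :=
    spread_out_of_isGermInjective' (sX := 𝟙 X) (sY := q) l (by rw [hlc, Category.comp_id])
  rw [Category.comp_id] at hh''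
  obtain ⟨N, hxN, hNaff, hNinj⟩ := X.exists_germ_injective (q.base y₀)
  have hNdom : IsDomain Γ(X, N) := hNinj.isDomain (X.presheaf.germ N (q.base y₀) hxN).hom
  have hNint : IsIntegral (N : Scheme.{u}) := by
    have : IsAffine (N : Scheme.{u}) := hNaff
    have : Nonempty (N : Scheme.{u}) := ⟨⟨q.base y₀, hxN⟩⟩
    have : IsDomain Γ((N : Scheme.{u}), ⊤) :=
      (N.topIso.commRingCatIsoToRingEquiv).toMulEquiv.isDomain_iff.mpr hNdom
    exact isIntegral_of_isAffine_of_isDomain _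
  let U''' : X.Opens := U'' ⊓ N
  have hxU''' : q.base y₀ ∈ U''' := ⟨hxU'', hxN⟩
  have hle'' : U''' ≤ U'' := inf_le_left
  have hleN : U''' ≤ N := inf_le_right
  let Z : X.Opens := U ⊓ U'''
  let s₁ : (Z : Scheme.{u}) ⟶ Y := X.homOfLE (inf_le_left : Z ≤ U) ≫ h
  let s₂ : (Z : Scheme.{u}) ⟶ Y := X.homOfLE ((inf_le_right : Z ≤ U''').trans hle'') ≫ h''
  have hs : s₁ = s₂ := by
    have hZred : IsReduced (Z : Scheme.{u}) :=
      isReduced_of_isOpenImmersion (X.homOfLE ((inf_le_right : Z ≤ U''').trans hleN))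
    have hjZ : (jK (q.base y₀)) ⁻¹ᵁ Z = ⊤ := by
      change (jK (q.base y₀)) ⁻¹ᵁ U ⊓ (jK (q.base y₀)) ⁻¹ᵁ U''' = ⊤
      rw [hj, jK_preimage_eq_top_of_mem (q.base y₀) specializes_rfl hxU''', inf_top_eq]
    have hrZ : Set.range (jK (q.base y₀)).base ⊆ Set.range Z.ι.base := by
      rw [Scheme.Opens.range_ι]
      rintro _ ⟨t, rfl⟩
      have : t ∈ (jK (q.base y₀)) ⁻¹ᵁ Z := by rw [hjZ]; trivial
      exact this
    let ιZ : Spec (CommRingCat.of (FractionRing (X.presheaf.stalk (q.base y₀)))) ⟶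
        (Z : Scheme.{u}) := IsOpenImmersion.lift Z.ι (jK (q.base y₀)) hrZ
    have hιZ : ιZ ≫ Z.ι = jK (q.base y₀) := IsOpenImmersion.lift_fac _ _ _
    have hdom : IsDominant ιZ := by
      refine ⟨fun z => ?_⟩
      have hg : IrreducibleSpace N.toScheme := inferInstance
      let g : X := N.ι.base (genericPoint N.toScheme)
      have hgx : g ⤳ q.base y₀ :=
        (genericPoint_specializes (α := N.toScheme) ⟨q.base y₀, hxN⟩).map N.ι.continuous
      have hzN : z.1 ∈ N := hleN z.2.2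
      have hgz : g ⤳ z.1 :=
        (genericPoint_specializes (α := N.toScheme) ⟨z.1, hzN⟩).map N.ι.continuous
      have h1 : (jK (q.base y₀)).base (IsLocalRing.closedPoint
          (FractionRing (X.presheaf.stalk (q.base y₀)))) ⤳ z.1 :=
        (jK_specializes (q.base y₀) hgx).trans hgz
      have h2 : ιZ.base (IsLocalRing.closedPoint
          (FractionRing (X.presheaf.stalk (q.base y₀)))) ⤳ z := by
        rw [← Z.ι.isEmbedding.isInducing.specializes_iff]
        rw [← Scheme.Hom.comp_apply, hιZ]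
        exact h1
      exact closure_mono (Set.singleton_subset_iff.mpr (Set.mem_range_self _))
        (specializes_iff_mem_closure.mp h2)
    have hagree : ιZ ≫ s₁ = ιZ ≫ s₂ := by
      have e1 : ιZ ≫ s₁ = Spec.map (CommRingCat.ofHom (algebraMap
          (X.presheaf.stalk (q.base y₀))
          (FractionRing (X.presheaf.stalk (q.base y₀))))) ≫ l := by
        rw [hlgen (ιZ ≫ X.homOfLE (inf_le_left : Z ≤ U))
          (by rw [Category.assoc, Scheme.homOfLE_ι, hιZ])]
        simp only [s₁, Category.assoc]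
      have e2 : ιZ ≫ s₂ = Spec.map (CommRingCat.ofHom (algebraMap
          (X.presheaf.stalk (q.base y₀))
          (FractionRing (X.presheaf.stalk (q.base y₀))))) ≫ l := by
        have e3 : ιZ ≫ X.homOfLE ((inf_le_right : Z ≤ U''').trans hle'') =
            Spec.map (CommRingCat.ofHom (algebraMap (X.presheaf.stalk (q.base y₀))
              (FractionRing (X.presheaf.stalk (q.base y₀))))) ≫
              U''.fromSpecStalkOfMem (q.base y₀) hxU'' := by
          rw [← cancel_mono U''.ι, Category.assoc, Category.assoc, Scheme.homOfLE_ι, hιZ,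
            Scheme.Opens.fromSpecStalkOfMem_ι]
          rfl
        simp only [s₂]
        rw [← Category.assoc, e3, Category.assoc, ← hl'']
      rw [e1, e2]
    have hover : s₁ ≫ q = s₂ ≫ q := by
      simp only [s₁, s₂, Category.assoc]
      rw [hh, hh'', Scheme.homOfLE_ι, Scheme.homOfLE_ι]
    exact ext_of_isDominant_of_isSeparated q hover ιZ hagree
  obtain ⟨h', hh'1, hh'2⟩ := Groth.Agent.H73.Glue.exists_glue_two U U''' h
    (X.homOfLE hle'' ≫ h'') (by rw [Scheme.homOfLE_homOfLE_assoc]; exact hs)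
  refine ⟨U ⊔ U''', le_sup_left, h', Or.inr hxU''', ?_, hh'1⟩
  apply Groth.Agent.H73.Glue.hom_ext_two U U'''
  · rw [← Category.assoc, hh'1, hh, Scheme.homOfLE_ι]
  · rw [← Category.assoc, hh'2, Category.assoc, hh'', Scheme.homOfLE_ι, Scheme.homOfLE_ι]

end Main

end Groth.Agent.H73.RatExt
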