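import Groth.Agent.H73.RatExtIso

/-!
# Extending a rational section through a point whose local ring is a valuation ring
-/

set_option autoImplicit false
universe u
open CategoryTheory CategoryTheory.Limits AlgebraicGeometry TopologicalSpace

namespace Groth.Agent.H73.ZMT

/-- If `𝒪` is a valuation ring, no finiteness is needed: a point of `Spec B` over the closed
point of `𝒪` in the closure of a `K`-point forces the `K`-point to be integral over `𝒪`. -/
theorem range_le_of_valuationRing {A B 𝒪 K : Type*} [CommRing A] [CommRing B] [CommRing 𝒪]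
    [IsDomain 𝒪] [ValuationRing 𝒪] [Field K] [Algebra 𝒪 K] [IsFractionRing 𝒪 K]
    (f : A →+* B) (P₀ : Ideal B) [P₀.IsPrime]
    (ρ : A →+* 𝒪) (hL1 : ∀ t : 𝒪, ∃ a s : A, IsUnit (ρ s) ∧ t * ρ s = ρ a)
    (hL2 : ∀ s, IsUnit (ρ s) → f s ∉ P₀) (hL3 : ∀ a, ¬ IsUnit (ρ a) → f a ∈ P₀)
    (φ : B →+* K) (hφ : φ.comp f = (algebraMap 𝒪 K).comp ρ) (hker : ∀ b, φ b = 0 → b ∈ P₀) :
    ∀ b, φ b ∈ Set.range (algebraMap 𝒪 K) := by
  intro b
  have hφf : ∀ a, φ (f a) = algebraMap 𝒪 K (ρ a) := fun a => RingHom.congr_fun hφ a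
  rcases ValuationRing.isInteger_or_isInteger 𝒪 (φ b) with h | ⟨t, ht⟩
  · exact h
  by_cases hb0 : φ b = 0
  · exact ⟨0, by rw [map_zero, hb0]⟩
  by_cases htu : IsUnit t
  · obtain ⟨u, rfl⟩ := htu
    refine ⟨((u⁻¹ : 𝒪ˣ) : 𝒪), ?_⟩
    have h1 : algebraMap 𝒪 K ((u⁻¹ : 𝒪ˣ) : 𝒪) * algebraMap 𝒪 K (u : 𝒪) = 1 := by
      rw [← map_mul, Units.inv_mul, map_one]
    rw [ht] at h1
    have h2 : algebraMap 𝒪 K ((u⁻¹ : 𝒪ˣ) : 𝒪) = φ b := by
      have := congrArg (· * φ b) h1
      simp only [mul_assoc, inv_mul_cancel₀ hb0, mul_one, one_mul] at this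
      exact this
    exact h2
  exfalso
  obtain ⟨a, s, hs, hts⟩ := hL1 t
  have ha : ¬ IsUnit (ρ a) := by
    intro hu
    rw [← hts] at hu
    exact htu (isUnit_of_mul_isUnit_left hu)
  have haP : f a ∈ P₀ := hL3 a ha
  have h1 : φ (b * f a - f s) = 0 := by
    rw [map_sub, map_mul, hφf, hφf, ← hts, map_mul, ht, ← mul_assoc, mul_inv_cancel₀ hb0,
      one_mul, sub_self]
  have h2 : b * f a - f s ∈ P₀ := hker _ h1
  have h3 : f s ∈ P₀ := by
    have := P₀.sub_mem (P₀.mul_mem_left b haP) h2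
    rwa [sub_sub_cancel] at this
  exact hL2 s hs h3

end Groth.Agent.H73.ZMT

namespace Groth.Agent.H73.RatExt

open Groth.Agent.H73.AnClosed

section Main

variable {X Y : Scheme.{u}} {q : Y ⟶ X}

/-- The local section when the local ring is a valuation ring. -/
theorem exists_local_section_of_valuationRing {y₀ : Y}
    [IsDomain (X.presheaf.stalk (q.base y₀))]
    [ValuationRing (X.presheaf.stalk (q.base y₀))]
    (ψ : Spec (CommRingCat.of (FractionRing (X.presheaf.stalk (q.base y₀)))) ⟶ Y)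
    (hψq : ψ ≫ q = jK (q.base y₀))
    (hψsp : ψ.base (IsLocalRing.closedPoint
      (FractionRing (X.presheaf.stalk (q.base y₀)))) ⤳ y₀) :
    ∃ l : Spec (X.presheaf.stalk (q.base y₀)) ⟶ Y,
      l ≫ q = X.fromSpecStalk (q.base y₀) ∧
      Spec.map (CommRingCat.ofHom (algebraMap (X.presheaf.stalk (q.base y₀))
          (FractionRing (X.presheaf.stalk (q.base y₀))))) ≫ l = ψ := by
  have hinj : Function.Injective (algebraMap (X.presheaf.stalk (q.base y₀))
      (FractionRing (X.presheaf.stalk (q.base y₀)))) := IsFractionRing.injective _ _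
  obtain ⟨(N₀ : X.Opens), hN₀, hxN₀, -⟩ :=
    Opens.isBasis_iff_nbhd.mp X.isBasis_affineOpens (Opens.mem_top (q.base y₀))
  obtain ⟨(W : Y.Opens), hWaff, hy₀W, hWle⟩ :=
    Opens.isBasis_iff_nbhd.mp Y.isBasis_affineOpens
      (show y₀ ∈ q ⁻¹ᵁ N₀ from hxN₀)
  have hWN : W ≤ q ⁻¹ᵁ N₀ := hWle
  have hψW : ψ ⁻¹ᵁ W = ⊤ :=
    preimage_eq_top_of_closedPoint_mem ψ W (hψsp.mem_open W.2 hy₀W)
  -- the algebraic data
  have hmem : ∀ a : Γ(X, N₀), (q.appLE N₀ W hWN).hom a ∈ (hWaff.primeIdealOf ⟨y₀, hy₀W⟩).asIdeal ↔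
      (X.presheaf.germ N₀ (q.base y₀) hxN₀).hom a ∈
        IsLocalRing.maximalIdeal (X.presheaf.stalk (q.base y₀)) := by
    intro a
    rw [← mem_primeIdealOf_iff hN₀ hxN₀,
      ← IsAffineOpen.comap_primeIdealOf_appLE N₀ hN₀ W hWaff hWN hy₀W]
    rfl
  have hL1 : ∀ t : X.presheaf.stalk (q.base y₀), ∃ a s : Γ(X, N₀),
      IsUnit ((X.presheaf.germ N₀ (q.base y₀) hxN₀).hom s) ∧
      t * (X.presheaf.germ N₀ (q.base y₀) hxN₀).hom s =
        (X.presheaf.germ N₀ (q.base y₀) hxN₀).hom a := by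
    intro t
    let _ := X.presheaf.algebra_section_stalk ⟨q.base y₀, hxN₀⟩
    have := hN₀.isLocalization_stalk ⟨q.base y₀, hxN₀⟩
    obtain ⟨⟨a, s⟩, hts⟩ := IsLocalization.surj
      (hN₀.primeIdealOf ⟨q.base y₀, hxN₀⟩).asIdeal.primeCompl t
    exact ⟨a, s.1, IsLocalization.map_units _ s, hts⟩
  have hL2 : ∀ s, IsUnit ((X.presheaf.germ N₀ (q.base y₀) hxN₀).hom s) →
      (q.appLE N₀ W hWN).hom s ∉ (hWaff.primeIdealOf ⟨y₀, hy₀W⟩).asIdeal := by
    intro s hs hsP
    exact (IsLocalRing.mem_maximalIdeal _).mp ((hmem s).mp hsP) hs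
  have hL3 : ∀ a, ¬ IsUnit ((X.presheaf.germ N₀ (q.base y₀) hxN₀).hom a) →
      (q.appLE N₀ W hWN).hom a ∈ (hWaff.primeIdealOf ⟨y₀, hy₀W⟩).asIdeal :=
    fun a ha => (hmem a).mpr ((IsLocalRing.mem_maximalIdeal _).mpr ha)
  have hpreN : (X.fromSpecStalk (q.base y₀)) ⁻¹ᵁ N₀ = ⊤ :=
    preimage_eq_top_of_closedPoint_mem (R := X.presheaf.stalk (q.base y₀)) _ _
      (by rw [Scheme.fromSpecStalk_closedPoint]; exact hxN₀)
  have hφ : (toAff ψ W hψW).hom.comp (q.appLE N₀ W hWN).hom =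
      (algebraMap (X.presheaf.stalk (q.base y₀))
        (FractionRing (X.presheaf.stalk (q.base y₀)))).comp
        (X.presheaf.germ N₀ (q.base y₀) hxN₀).hom := by
    have hpre1 : (ψ ≫ q) ⁻¹ᵁ N₀ = ⊤ := by
      rw [_root_.eq_top_iff]
      intro t _
      have : t ∈ ψ ⁻¹ᵁ W := by rw [hψW]; trivial
      exact hWN this
    have hpre2 : (jK (q.base y₀)) ⁻¹ᵁ N₀ = ⊤ := by rw [← hψq]; exact hpre1
    have e1 : q.appLE N₀ W hWN ≫ toAff ψ W hψW = toAff (ψ ≫ q) N₀ hpre1 :=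
      appLE_toAff ψ q N₀ W hWN hψW hpre1
    have e2 : toAff (ψ ≫ q) N₀ hpre1 = toAff (jK (q.base y₀)) N₀ hpre2 :=
      toAff_congr hψq N₀ hpre1 hpre2
    have e3 : toAff (jK (q.base y₀)) N₀ hpre2 =
        toAff (X.fromSpecStalk (q.base y₀)) N₀ hpreN ≫ CommRingCat.ofHom
          (algebraMap (X.presheaf.stalk (q.base y₀))
            (FractionRing (X.presheaf.stalk (q.base y₀)))) :=
      toAff_comp_left _ (X.fromSpecStalk (q.base y₀)) N₀ hpreN hpre2
    rw [toAff_fromSpecStalk hN₀ hxN₀] at e3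
    have e4 := e1.trans (e2.trans e3)
    exact congrArg CommRingCat.Hom.hom e4
  have hker : ∀ b, (toAff ψ W hψW).hom b = 0 → b ∈ (hWaff.primeIdealOf ⟨y₀, hy₀W⟩).asIdeal := by
    intro b hb
    by_contra hbP
    rw [mem_primeIdealOf_iff hWaff hy₀W, IsLocalRing.mem_maximalIdeal, mem_nonunits_iff,
      not_not] at hbP
    have h1 : y₀ ∈ Y.basicOpen b := (Scheme.mem_basicOpen _ _ y₀ hy₀W).mpr hbP
    have h2 := hψsp.mem_open (Y.basicOpen b).2 h1
    exact not_mem_basicOpen_of_toAff_eq_zero ψ hψW b hb _ h2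
  have hrangeφ := Groth.Agent.H73.ZMT.range_le_of_valuationRing (q.appLE N₀ W hWN).hom
    (hWaff.primeIdealOf ⟨y₀, hy₀W⟩).asIdeal (X.presheaf.germ N₀ (q.base y₀) hxN₀).hom
    hL1 hL2 hL3 (toAff ψ W hψW).hom hφ hker
  obtain ⟨σ, hσ⟩ := exists_ringHom_lift (algebraMap (X.presheaf.stalk (q.base y₀))
    (FractionRing (X.presheaf.stalk (q.base y₀)))) hinj (toAff ψ W hψW).hom hrangeφ
  let l : Spec (X.presheaf.stalk (q.base y₀)) ⟶ Y :=
    Spec.map (CommRingCat.ofHom σ) ≫ hWaff.fromSpec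
  have hσ' : CommRingCat.ofHom σ ≫ CommRingCat.ofHom (algebraMap (X.presheaf.stalk (q.base y₀))
      (FractionRing (X.presheaf.stalk (q.base y₀)))) = toAff ψ W hψW := by
    ext b
    exact RingHom.congr_fun hσ b
  have hla : Spec.map (CommRingCat.ofHom (algebraMap (X.presheaf.stalk (q.base y₀))
      (FractionRing (X.presheaf.stalk (q.base y₀))))) ≫ l = ψ := by
    have h1 := SpecMap_toAff_fromSpec ψ hWaff hψW
    rw [← hσ', Spec.map_comp, Category.assoc] at h1
    exact h1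
  have hlW : l ⁻¹ᵁ W = ⊤ := by
    rw [_root_.eq_top_iff]
    intro t _
    change (Spec.map (CommRingCat.ofHom σ) ≫ hWaff.fromSpec).base t ∈ (W : Set Y)
    rw [← hWaff.range_fromSpec, Scheme.Hom.comp_apply]
    exact Set.mem_range_self _
  have hlc : l ≫ q = X.fromSpecStalk (q.base y₀) := by
    refine eq_of_comp_eq_of_affine (algebraMap (X.presheaf.stalk (q.base y₀))
      (FractionRing (X.presheaf.stalk (q.base y₀)))) hinj _ _ hN₀ ?_ hpreN ?_
    · rw [_root_.eq_top_iff]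
      intro t _
      have : t ∈ l ⁻¹ᵁ W := by rw [hlW]; trivial
      exact hWN this
    · rw [← Category.assoc, hla, hψq]
      rfl
  exact ⟨l, hlc, hla⟩


/-- From a local section at `x`, generically given by `h`, to an extension of `h` over a
neighbourhood of `x`. -/
theorem exists_extension_of_local_section {U : X.Opens} {h : (U : Scheme.{u}) ⟶ Y}
    [LocallyOfFiniteType q] [IsSeparated q] (hh : h ≫ q = U.ι) {x : X}
    [X.IsGermInjectiveAt x] [IsDomain (X.presheaf.stalk x)]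
    (hj : (jK x) ⁻¹ᵁ U = ⊤)
    (l : Spec (X.presheaf.stalk x) ⟶ Y) (hlc : l ≫ q = X.fromSpecStalk x)
    (hlgen : ∀ ubK : Spec (CommRingCat.of (FractionRing (X.presheaf.stalk x))) ⟶
        (U : Scheme.{u}), ubK ≫ U.ι = jK x →
        Spec.map (CommRingCat.ofHom (algebraMap (X.presheaf.stalk x)
          (FractionRing (X.presheaf.stalk x)))) ≫ l = ubK ≫ h) :
    ∃ (U' : X.Opens) (hUU' : U ≤ U') (h' : (U' : Scheme.{u}) ⟶ Y),
      x ∈ U' ∧ h' ≫ q = U'.ι ∧ X.homOfLE hUU' ≫ h' = h := by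
  obtain ⟨U'', hxU'', h'', hl'', hh''⟩ :=
    spread_out_of_isGermInjective' (sX := 𝟙 X) (sY := q) l (by rw [hlc, Category.comp_id])
  rw [Category.comp_id] at hh''
  obtain ⟨N, hxN, hNaff, hNinj⟩ := X.exists_germ_injective (x)
  have hNdom : IsDomain Γ(X, N) := hNinj.isDomain (X.presheaf.germ N (x) hxN).hom
  have hNint : IsIntegral (N : Scheme.{u}) := by
    have : IsAffine (N : Scheme.{u}) := hNaff
    have : Nonempty (N : Scheme.{u}) := ⟨⟨x, hxN⟩⟩
    have : IsDomain Γ((N : Scheme.{u}), ⊤) :=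
      (N.topIso.commRingCatIsoToRingEquiv).toMulEquiv.isDomain_iff.mpr hNdom
    exact isIntegral_of_isAffine_of_isDomain _
  let U''' : X.Opens := U'' ⊓ N
  have hxU''' : x ∈ U''' := ⟨hxU'', hxN⟩
  have hle'' : U''' ≤ U'' := inf_le_left
  have hleN : U''' ≤ N := inf_le_right
  let Z : X.Opens := U ⊓ U'''
  let s₁ : (Z : Scheme.{u}) ⟶ Y := X.homOfLE (inf_le_left : Z ≤ U) ≫ h
  let s₂ : (Z : Scheme.{u}) ⟶ Y := X.homOfLE ((inf_le_right : Z ≤ U''').trans hle'') ≫ h''
  have hs : s₁ = s₂ := by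
    have hZred : IsReduced (Z : Scheme.{u}) :=
      isReduced_of_isOpenImmersion (X.homOfLE ((inf_le_right : Z ≤ U''').trans hleN))
    have hjZ : (jK (x)) ⁻¹ᵁ Z = ⊤ := by
      change (jK (x)) ⁻¹ᵁ U ⊓ (jK (x)) ⁻¹ᵁ U''' = ⊤
      rw [hj, jK_preimage_eq_top_of_mem (x) specializes_rfl hxU''', inf_top_eq]
    have hrZ : Set.range (jK (x)).base ⊆ Set.range Z.ι.base := by
      rw [Scheme.Opens.range_ι]
      rintro _ ⟨t, rfl⟩
      have : t ∈ (jK (x)) ⁻¹ᵁ Z := by rw [hjZ]; trivial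
      exact this
    let ιZ : Spec (CommRingCat.of (FractionRing (X.presheaf.stalk (x)))) ⟶
        (Z : Scheme.{u}) := IsOpenImmersion.lift Z.ι (jK (x)) hrZ
    have hιZ : ιZ ≫ Z.ι = jK (x) := IsOpenImmersion.lift_fac _ _ _
    have hdom : IsDominant ιZ := by
      refine ⟨fun z => ?_⟩
      have hg : IrreducibleSpace N.toScheme := inferInstance
      let g : X := N.ι.base (genericPoint N.toScheme)
      have hgx : g ⤳ x :=
        (genericPoint_specializes (α := N.toScheme) ⟨x, hxN⟩).map N.ι.continuous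
      have hzN : z.1 ∈ N := hleN z.2.2
      have hgz : g ⤳ z.1 :=
        (genericPoint_specializes (α := N.toScheme) ⟨z.1, hzN⟩).map N.ι.continuous
      have h1 : (jK (x)).base (IsLocalRing.closedPoint
          (FractionRing (X.presheaf.stalk (x)))) ⤳ z.1 :=
        (jK_specializes (x) hgx).trans hgz
      have h2 : ιZ.base (IsLocalRing.closedPoint
          (FractionRing (X.presheaf.stalk (x)))) ⤳ z := by
        rw [← Z.ι.isEmbedding.isInducing.specializes_iff]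
        rw [← Scheme.Hom.comp_apply, hιZ]
        exact h1
      exact closure_mono (Set.singleton_subset_iff.mpr (Set.mem_range_self _))
        (specializes_iff_mem_closure.mp h2)
    have hagree : ιZ ≫ s₁ = ιZ ≫ s₂ := by
      have e1 : ιZ ≫ s₁ = Spec.map (CommRingCat.ofHom (algebraMap
          (X.presheaf.stalk (x))
          (FractionRing (X.presheaf.stalk (x))))) ≫ l := by
        rw [hlgen (ιZ ≫ X.homOfLE (inf_le_left : Z ≤ U))
          (by rw [Category.assoc, Scheme.homOfLE_ι, hιZ])]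
        simp only [s₁, Category.assoc]
      have e2 : ιZ ≫ s₂ = Spec.map (CommRingCat.ofHom (algebraMap
          (X.presheaf.stalk (x))
          (FractionRing (X.presheaf.stalk (x))))) ≫ l := by
        have e3 : ιZ ≫ X.homOfLE ((inf_le_right : Z ≤ U''').trans hle'') =
            Spec.map (CommRingCat.ofHom (algebraMap (X.presheaf.stalk (x))
              (FractionRing (X.presheaf.stalk (x))))) ≫
              U''.fromSpecStalkOfMem (x) hxU'' := by
          rw [← cancel_mono U''.ι, Category.assoc, Category.assoc, Scheme.homOfLE_ι, hιZ,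
            Scheme.Opens.fromSpecStalkOfMem_ι]
          rfl
        simp only [s₂]
        rw [← Category.assoc, e3, Category.assoc, ← hl'']
      rw [e1, e2]
    have hover : s₁ ≫ q = s₂ ≫ q := by
      simp only [s₁, s₂, Category.assoc]
      rw [hh, hh'', Scheme.homOfLE_ι, Scheme.homOfLE_ι]
    exact ext_of_isDominant_of_isSeparated q hover ιZ hagree
  obtain ⟨h', hh'1, hh'2⟩ := Groth.Agent.H73.Glue.exists_glue_two U U''' h
    (X.homOfLE hle'' ≫ h'') (by rw [Scheme.homOfLE_homOfLE_assoc]; exact hs)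
  refine ⟨U ⊔ U''', le_sup_left, h', Or.inr hxU''', ?_, hh'1⟩
  apply Groth.Agent.H73.Glue.hom_ext_two U U'''
  · rw [← Category.assoc, hh'1, hh, Scheme.homOfLE_ι]
  · rw [← Category.assoc, hh'2, Category.assoc, hh'', Scheme.homOfLE_ι, Scheme.homOfLE_ι]


/-- A rational section of a separated morphism locally of finite type extends through a point
`x = q y₀` whose local ring is a valuation ring as soon as its value at the generic point
specializes to `y₀`. -/
theorem exists_extension_of_valuationRing {U : X.Opens} {h : (U : Scheme.{u}) ⟶ Y}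
    [LocallyOfFiniteType q] [IsSeparated q] (hh : h ≫ q = U.ι) {y₀ : Y}
    [X.IsGermInjectiveAt (q.base y₀)]
    [IsDomain (X.presheaf.stalk (q.base y₀))]
    [ValuationRing (X.presheaf.stalk (q.base y₀))]
    (hj : (jK (q.base y₀)) ⁻¹ᵁ U = ⊤)
    (hsp : ∀ ubK : Spec (CommRingCat.of (FractionRing (X.presheaf.stalk (q.base y₀)))) ⟶
        (U : Scheme.{u}), ubK ≫ U.ι = jK (q.base y₀) →
        (ubK ≫ h).base (IsLocalRing.closedPoint
          (FractionRing (X.presheaf.stalk (q.base y₀)))) ⤳ y₀) :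
    ∃ (U' : X.Opens) (hUU' : U ≤ U') (h' : (U' : Scheme.{u}) ⟶ Y),
      q.base y₀ ∈ U' ∧ h' ≫ q = U'.ι ∧ X.homOfLE hUU' ≫ h' = h := by
  have hrange : Set.range (jK (q.base y₀)).base ⊆ Set.range U.ι.base := by
    rw [Scheme.Opens.range_ι]
    rintro _ ⟨t, rfl⟩
    have : t ∈ (jK (q.base y₀)) ⁻¹ᵁ U := by rw [hj]; trivial
    exact this
  let ubK₀ : Spec (CommRingCat.of (FractionRing (X.presheaf.stalk (q.base y₀)))) ⟶
      (U : Scheme.{u}) := IsOpenImmersion.lift U.ι (jK (q.base y₀)) hrange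
  have hubK₀ : ubK₀ ≫ U.ι = jK (q.base y₀) := IsOpenImmersion.lift_fac _ _ _
  have hψq : (ubK₀ ≫ h) ≫ q = jK (q.base y₀) := by rw [Category.assoc, hh, hubK₀]
  obtain ⟨l, hlc, hla⟩ := exists_local_section_of_valuationRing (ubK₀ ≫ h) hψq (hsp ubK₀ hubK₀)
  refine exists_extension_of_local_section hh hj l hlc ?_
  intro ubK hubK
  have : ubK = ubK₀ := by rw [← cancel_mono U.ι, hubK, hubK₀]
  rw [this]
  exact hla

omit q in
lemma isDominant_homOfLE_of_dense {U V : X.Opens} (hU : Dense (U : Set X)) (hUV : U ≤ V) :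
    IsDominant (X.homOfLE hUV) := by
  refine ⟨?_⟩
  rw [DenseRange, V.ι.isOpenEmbedding.isInducing.dense_iff]
  intro v
  have h1 : V.ι.base '' Set.range (X.homOfLE hUV).base = (U : Set X) := by
    rw [← Set.range_comp]
    change Set.range (X.homOfLE hUV ≫ V.ι).base = _
    rw [Scheme.homOfLE_ι, Scheme.Opens.range_ι]
  rw [h1]
  exact hU _

/-- Simultaneous extension over a set of points. -/
theorem exists_extension_of_forall [IsReduced X] [IsSeparated q] {U : X.Opens}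
    (hU : Dense (U : Set X)) {h : (U : Scheme.{u}) ⟶ Y} (hh : h ≫ q = U.ι) (T : Set X)
    (hT : ∀ x ∈ T, ∃ (U' : X.Opens) (hUU' : U ≤ U') (h' : (U' : Scheme.{u}) ⟶ Y),
      x ∈ U' ∧ h' ≫ q = U'.ι ∧ X.homOfLE hUU' ≫ h' = h) :
    ∃ (U'' : X.Opens) (hUU'' : U ≤ U'') (h'' : (U'' : Scheme.{u}) ⟶ Y),
      T ⊆ (U'' : Set X) ∧ h'' ≫ q = U''.ι ∧ X.homOfLE hUU'' ≫ h'' = h := by
  choose! U' hUU' h' hxU' hq' hext using hT
  let F : Option ↥T → X.Opens := fun i => i.elim U (fun x => U' x.1)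
  have hUF : ∀ i, U ≤ F i := by
    rintro (_ | x)
    · exact le_rfl
    · exact hUU' x.1 x.2
  let g : ∀ i, ((F i : X.Opens) : Scheme.{u}) ⟶ Y := fun i =>
    match i with
    | none => h
    | some x => h' x.1 x.2
  have hgq : ∀ i, g i ≫ q = (F i).ι := by
    rintro (_ | x)
    · exact hh
    · exact hq' x.1 x.2
  have hgU : ∀ i, X.homOfLE (hUF i) ≫ g i = h := by
    rintro (_ | x)
    · change X.homOfLE (le_refl U) ≫ h = h
      rw [Scheme.homOfLE_rfl, Category.id_comp]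
    · exact hext x.1 x.2
  have hle : ∀ i, F i ≤ ⨆ i, F i := fun i => le_iSup F i
  have hg : ∀ i j, X.homOfLE (inf_le_left : F i ⊓ F j ≤ F i) ≫ g i =
      X.homOfLE (inf_le_right : F i ⊓ F j ≤ F j) ≫ g j := by
    intro i j
    have hdom : IsDominant (X.homOfLE (le_inf (hUF i) (hUF j))) :=
      isDominant_homOfLE_of_dense hU _
    refine ext_of_isDominant_of_isSeparated q ?_ (X.homOfLE (le_inf (hUF i) (hUF j))) ?_
    · rw [Category.assoc, Category.assoc, hgq, hgq, Scheme.homOfLE_ι, Scheme.homOfLE_ι]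
    · rw [Scheme.homOfLE_homOfLE_assoc, Scheme.homOfLE_homOfLE_assoc, hgU, hgU]
  obtain ⟨c, hc⟩ := Groth.Agent.H73.Glue.exists_glue (⨆ i, F i) F hle le_rfl g hg
  refine ⟨⨆ i, F i, (hUF none).trans (hle none), c, ?_, ?_, ?_⟩
  · intro x hx
    exact Opens.mem_iSup.mpr ⟨some ⟨x, hx⟩, hxU' x hx⟩
  · refine Groth.Agent.H73.Glue.hom_ext_of_cover (⨆ i, F i) F hle le_rfl _ _ ?_
    intro i
    rw [← Category.assoc, hc, hgq, Scheme.homOfLE_ι]
  · exact hc none

end Main

end Groth.Agent.H73.RatExt
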