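import Mathlib

set_option autoImplicit false
universe u

namespace Groth.Agent.H73.ReflSpec

open AlgebraicGeometry CategoryTheory CategoryTheory.Limits TopologicalSpace Opposite TensorProduct

variable {X Y : Scheme.{u}}

/-- the hypothesis: reflecting specializations after every locally finite type base change. -/
def ReflectsLFT (f : Y ⟶ X) : Prop :=
  ∀ (X' : Scheme.{u}) (g : X' ⟶ X) [LocallyOfFiniteType g] (y₀ y₁ : ↥(pullback f g)),
    (pullback.snd f g).base y₁ ⤳ (pullback.snd f g).base y₀ → y₁ ⤳ y₀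

section
variable (R C B A : Type u) [CommRing R] [CommRing C] [CommRing B] [CommRing A]
  [Algebra R C] [Algebra R B] [Algebra R A] (ψ : A →ₐ[R] B)

/-- functoriality of `pullbackSpecIso` in the right factor. -/
theorem pullbackSpecIso_map :
    (pullbackSpecIso R C B).inv ≫
      pullback.map (Spec.map (CommRingCat.ofHom (algebraMap R C)))
        (Spec.map (CommRingCat.ofHom (algebraMap R B)))
        (Spec.map (CommRingCat.ofHom (algebraMap R C)))
        (Spec.map (CommRingCat.ofHom (algebraMap R A))) (𝟙 _)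
        (Spec.map (CommRingCat.ofHom ψ.toRingHom)) (𝟙 _) (by simp)
        (by rw [Category.comp_id, ← Spec.map_comp, ← CommRingCat.ofHom_comp]; congr 2
            exact (ψ.comp_algebraMap).symm) ≫
      (pullbackSpecIso R C A).hom =
    Spec.map (CommRingCat.ofHom (Algebra.TensorProduct.map (AlgHom.id R C) ψ).toRingHom) := by
  rw [← cancel_mono (pullbackSpecIso R C A).inv]
  simp only [Category.assoc, Iso.hom_inv_id, Category.comp_id]
  apply pullback.hom_ext
  · rw [Category.assoc, pullback.lift_fst, Category.comp_id, pullbackSpecIso_inv_fst,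
      Category.assoc, pullbackSpecIso_inv_fst, ← Spec.map_comp, ← CommRingCat.ofHom_comp]
    congr 2
    ext c
    simp
  · rw [Category.assoc, pullback.lift_snd, pullbackSpecIso_inv_snd_assoc,
      Category.assoc, pullbackSpecIso_inv_snd, ← Spec.map_comp, ← Spec.map_comp,
      ← CommRingCat.ofHom_comp, ← CommRingCat.ofHom_comp]
    congr 2

end


/-- Main lemma: affine-local form of the limit argument. -/
theorem specializes_of_reflectsLFT (f : Y ⟶ X) (h : ReflectsLFT f)
    (R C B : Type u) [CommRing R] [CommRing C] [CommRing B] [Algebra R C] [Algebra R B]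
    (iU : Spec (.of R) ⟶ X) (iV : Spec (.of C) ⟶ Y) [IsOpenImmersion iU] [IsOpenImmersion iV]
    (e₁ : Spec.map (CommRingCat.ofHom (algebraMap R C)) ≫ iU = iV ≫ f)
    (z₀ z₁ : ↥(pullback (Spec.map (CommRingCat.ofHom (algebraMap R C)))
      (Spec.map (CommRingCat.ofHom (algebraMap R B)))))
    (hz : (pullback.snd (Spec.map (CommRingCat.ofHom (algebraMap R C)))
        (Spec.map (CommRingCat.ofHom (algebraMap R B)))) z₁ ⤳
      (pullback.snd (Spec.map (CommRingCat.ofHom (algebraMap R C)))
        (Spec.map (CommRingCat.ofHom (algebraMap R B)))) z₀) : z₁ ⤳ z₀ := by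
  classical
  let e := pullbackSpecIso R C B
  suffices hsuff : e.hom z₁ ⤳ e.hom z₀ by
    have := hsuff.map e.inv.continuous
    rwa [← Scheme.Hom.comp_apply, ← Scheme.Hom.comp_apply, e.hom_inv_id] at this
  refine (PrimeSpectrum.le_iff_specializes (e.hom z₁) (e.hom z₀)).mp ?_
  intro t ht
  obtain ⟨S, hS⟩ := TensorProduct.exists_finset t
  let A := MvPolynomial (↥S) R
  let ψ : A →ₐ[R] B := MvPolynomial.aeval (fun i : ↥S => i.1.2)
  let t' : C ⊗[R] A := ∑ i : ↥S, i.1.1 ⊗ₜ[R] (MvPolynomial.X i : A)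
  have ht' : Algebra.TensorProduct.map (AlgHom.id R C) ψ t' = t := by
    rw [hS, map_sum, ← Finset.sum_coe_sort S]
    refine Finset.sum_congr rfl fun i _ => ?_
    simp only [Algebra.TensorProduct.map_tmul, AlgHom.coe_id, id_eq, ψ]
    rw [MvPolynomial.aeval_X]
  let g₀ : Spec (.of A) ⟶ X := Spec.map (CommRingCat.ofHom (algebraMap R A)) ≫ iU
  haveI : LocallyOfFiniteType (Spec.map (CommRingCat.ofHom (algebraMap R A))) := by
    rw [HasRingHomProperty.Spec_iff (P := @LocallyOfFiniteType)]
    exact RingHom.finiteType_algebraMap.mpr inferInstance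
  haveI : LocallyOfFiniteType g₀ := inferInstance
  let e' := pullbackSpecIso R C A
  let J' : pullback (Spec.map (CommRingCat.ofHom (algebraMap R C)))
      (Spec.map (CommRingCat.ofHom (algebraMap R A))) ⟶ pullback f g₀ :=
    pullback.map _ _ f g₀ iV (𝟙 _) iU e₁ (by simp [g₀])
  let Φ := pullback.map (Spec.map (CommRingCat.ofHom (algebraMap R C)))
        (Spec.map (CommRingCat.ofHom (algebraMap R B)))
        (Spec.map (CommRingCat.ofHom (algebraMap R C)))
        (Spec.map (CommRingCat.ofHom (algebraMap R A))) (𝟙 _)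
        (Spec.map (CommRingCat.ofHom ψ.toRingHom)) (𝟙 _) (by simp)
        (by rw [Category.comp_id, ← Spec.map_comp, ← CommRingCat.ofHom_comp]; congr 2
            exact (ψ.comp_algebraMap).symm)
  have hΦ : e.inv ≫ Φ ≫ e'.hom =
      Spec.map (CommRingCat.ofHom (Algebra.TensorProduct.map (AlgHom.id R C) ψ).toRingHom) :=
    pullbackSpecIso_map R C B A ψ
  have hsnd : ∀ z, (pullback.snd f g₀) (J' (Φ z)) = Spec.map (CommRingCat.ofHom ψ.toRingHom)
      ((pullback.snd (Spec.map (CommRingCat.ofHom (algebraMap R C)))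
        (Spec.map (CommRingCat.ofHom (algebraMap R B)))) z) := by
    intro z
    rw [← Scheme.Hom.comp_apply, ← Scheme.Hom.comp_apply, ← Scheme.Hom.comp_apply]
    congr 2
    simp only [J', Φ, pullback.lift_snd, Category.comp_id]
  have h1 : J' (Φ z₁) ⤳ J' (Φ z₀) := by
    apply h _ g₀
    rw [hsnd, hsnd]
    exact hz.map (Spec.map (CommRingCat.ofHom ψ.toRingHom)).continuous
  have h2 : Φ z₁ ⤳ Φ z₀ := J'.isOpenEmbedding.isInducing.specializes_iff.mp h1
  have h3 : e'.hom (Φ z₁) ⤳ e'.hom (Φ z₀) := h2.map e'.hom.continuous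
  have h4 := (PrimeSpectrum.le_iff_specializes (e'.hom (Φ z₁)) (e'.hom (Φ z₀))).mpr h3
  have hcomap : ∀ z, e'.hom (Φ z) = Spec.map (CommRingCat.ofHom
      (Algebra.TensorProduct.map (AlgHom.id R C) ψ).toRingHom) (e.hom z) := by
    intro z
    rw [← hΦ, Scheme.Hom.comp_apply, Scheme.Hom.comp_apply, ← Scheme.Hom.comp_apply e.hom e.inv,
      e.hom_inv_id]
    rfl
  have h5 : t' ∈ (e'.hom (Φ z₁)).asIdeal := by
    rw [hcomap]
    change Algebra.TensorProduct.map (AlgHom.id R C) ψ t' ∈ (e.hom z₁).asIdeal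
    rw [ht']; exact ht
  have h6 : t' ∈ (e'.hom (Φ z₀)).asIdeal := h4 h5
  rw [hcomap] at h6
  change Algebra.TensorProduct.map (AlgHom.id R C) ψ t' ∈ (e.hom z₀).asIdeal at h6
  rwa [ht'] at h6

end Groth.Agent.H73.ReflSpec
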