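import Mathlib

/-!
# Kernel of a quasi-compact morphism and injectivity on sections (helper73)
-/

set_option autoImplicit false

open CategoryTheory CategoryTheory.Limits AlgebraicGeometry TopologicalSpace Opposite

universe u

namespace Groth.Agent.H73.RelSpecImm

/-- If the kernel ideal sheaf of a quasi-compact morphism vanishes, the morphism is injective on
sections over affine opens. -/
theorem app_injective_of_ker_eq_bot_of_isAffineOpen {X Z : Scheme.{u}} (g : X ⟶ Z) [QuasiCompact g]
    (h : g.ker = ⊥) (V : Z.Opens) (hV : IsAffineOpen V) : Function.Injective (g.app V).hom := by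
  have h1 : g.ker.ideal ⟨V, hV⟩ = RingHom.ker (g.app V).hom := Scheme.Hom.ker_apply g ⟨V, hV⟩
  rw [h] at h1
  rw [RingHom.injective_iff_ker_eq_bot, ← h1]
  rfl

/-- If the kernel ideal sheaf of a quasi-compact morphism vanishes, the morphism is injective on
sections over all opens. -/
theorem app_injective_of_ker_eq_bot {X Z : Scheme.{u}} (g : X ⟶ Z) [QuasiCompact g]
    (h : g.ker = ⊥) (V : Z.Opens) : Function.Injective (g.app V).hom := by
  rw [injective_iff_map_eq_zero]
  intro x hx
  -- cover V by affine opens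
  let ι := {W : Z.affineOpens // W.1 ≤ V}
  let Wf : ι → Z.Opens := fun W => W.1.1
  have hcover : V ≤ ⨆ i, Wf i := by
    intro z hz
    obtain ⟨_, ⟨W, hW, rfl⟩, hzW, hWV⟩ := Z.isBasis_affineOpens.exists_subset_of_mem_open hz V.2
    exact Opens.mem_iSup.mpr ⟨⟨⟨W, hW⟩, hWV⟩, hzW⟩
  have key : ∀ i : ι, (Z.presheaf.map (homOfLE i.2).op).hom x =
      (Z.presheaf.map (homOfLE i.2).op).hom 0 := by
    intro i
    rw [map_zero]
    apply app_injective_of_ker_eq_bot_of_isAffineOpen g h i.1.1 i.1.2
    rw [map_zero]
    have hnat := congr($(g.naturality (homOfLE i.2).op).hom x)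
    simp only [CommRingCat.hom_comp, RingHom.comp_apply] at hnat
    rw [hnat, hx, map_zero]
  exact Z.sheaf.eq_of_locally_eq' Wf V (fun i => homOfLE i.2) hcover x 0 key

/-- Conversely, injectivity on a cover by affine opens forces the kernel to vanish. -/
theorem ker_eq_bot_of_injective {X Z : Scheme.{u}} (g : X ⟶ Z) [QuasiCompact g] {κ : Type*}
    (V : κ → Z.affineOpens) (hV : ⨆ k, (V k).1 = ⊤)
    (h : ∀ k, Function.Injective (g.app (V k).1).hom) : g.ker = ⊥ := by
  refine Scheme.IdealSheafData.ext_of_iSup_eq_top V hV fun k => ?_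
  rw [Scheme.Hom.ker_apply g (V k), (RingHom.injective_iff_ker_eq_bot _).mp (h k)]
  rfl

/-- A quasi-compact immersion with vanishing kernel is an open immersion. -/
theorem isOpenImmersion_of_ker_eq_bot {X Z : Scheme.{u}} (g : X ⟶ Z) [IsImmersion g]
    [QuasiCompact g] (h : g.ker = ⊥) : IsOpenImmersion g := by
  have h1 : IsIso g.imageι := by
    rw [Scheme.Hom.imageι, Scheme.isIso_subschemeι_iff_eq_bot]
    exact h
  have h2 : g.toImage ≫ g.imageι = g := g.toImage_imageι
  rw [← h2]
  infer_instance

end Groth.Agent.H73.RelSpecImm
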