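import Mathlib
import Groth.Prelude.Def_RelSpec
import Groth.Agent.H22.QCAlgSub
import Groth.Agent.H41.AffAlgPushout

/-!
# `specMap` on sections, and finite type subalgebras through given sections (helper73)
-/

set_option autoImplicit false
set_option linter.style.haveILetI false

open CategoryTheory CategoryTheory.Limits AlgebraicGeometry TopologicalSpace Opposite

universe u

namespace Groth.Agent.H73.RelSpecImm

open Groth.Agent.H22

theorem appLE_congr_hom {X Y : Scheme.{u}} {f₁ f₂ : X ⟶ Y} (h : f₁ = f₂) (U : Y.Opens)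
    (V : X.Opens) (e : V ≤ f₁ ⁻¹ᵁ U) : f₁.appLE U V e = f₂.appLE U V (h ▸ e) := by
  subst h; rfl

/-- `specMap φ` on sections over the preimage of an affine open is `φ`, through `gammaAff`. -/
theorem specMap_appLE_gammaAff {S : Scheme.{u}} {A B : RelSpec.QCAlg S} (φ : A ⟶ B) (U : S.Opens)
    (hU : IsAffineOpen U) :
    (RelSpec.QCAlg.specMap φ).appLE (A.π ⁻¹ᵁ U) (B.π ⁻¹ᵁ U)
      (by rw [← Scheme.Hom.comp_preimage, RelSpec.QCAlg.specMap_π]) ≫ B.gammaAff U hU =
      A.gammaAff U hU ≫ φ.hom.app (op U) := by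
  have h1 : (RelSpec.QCAlg.specMap φ).appLE (A.π ⁻¹ᵁ U) (B.π ⁻¹ᵁ U)
      (by rw [← Scheme.Hom.comp_preimage, RelSpec.QCAlg.specMap_π]) ≫
      (B.ι U hU).appLE (B.π ⁻¹ᵁ U) ⊤ (B.top_le_preimage U hU) =
      (B.ι U hU ≫ RelSpec.QCAlg.specMap φ).appLE (A.π ⁻¹ᵁ U) ⊤
        (by
          intro x _
          show (RelSpec.QCAlg.specMap φ) ((B.ι U hU) x) ∈ A.π ⁻¹ᵁ U
          have := B.top_le_preimage U hU (show x ∈ (⊤ : (Spec (B.presheaf.obj (op U))).Opens)
            from trivial)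
          show (A.π) ((RelSpec.QCAlg.specMap φ) ((B.ι U hU) x)) ∈ U
          rw [← Scheme.Hom.comp_apply, RelSpec.QCAlg.specMap_π]
          exact this) :=
    Scheme.Hom.appLE_comp_appLE ..
  have h2 := appLE_congr_hom (RelSpec.QCAlg.ι_specMap U hU φ) (A.π ⁻¹ᵁ U) ⊤
    (by
      intro x _
      show (RelSpec.QCAlg.specMap φ) ((B.ι U hU) x) ∈ A.π ⁻¹ᵁ U
      have := B.top_le_preimage U hU (show x ∈ (⊤ : (Spec (B.presheaf.obj (op U))).Opens)
        from trivial)
      show (A.π) ((RelSpec.QCAlg.specMap φ) ((B.ι U hU) x)) ∈ U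
      rw [← Scheme.Hom.comp_apply, RelSpec.QCAlg.specMap_π]
      exact this)
  have h3 : (A.ι U hU).appLE (A.π ⁻¹ᵁ U) ⊤ (A.top_le_preimage U hU) ≫
      (Spec.map (φ.hom.app (op U))).appLE ⊤ ⊤ le_top =
      (Spec.map (φ.hom.app (op U)) ≫ A.ι U hU).appLE (A.π ⁻¹ᵁ U) ⊤ _ :=
    Scheme.Hom.appLE_comp_appLE ..
  have h4 : (Spec.map (φ.hom.app (op U))).appLE ⊤ ⊤ le_top =
      (Spec.map (φ.hom.app (op U))).appTop := by
    rw [Scheme.Hom.appTop, Scheme.Hom.app_eq_appLE]; rfl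
  simp only [RelSpec.QCAlg.gammaAff]
  rw [reassoc_of% h1, h2, ← h3, h4, Category.assoc, Category.assoc]
  congr 1
  exact Scheme.ΓSpecIso_naturality _

/-- A quasi-coherent subalgebra of finite type through finitely many sections over finitely many
affine opens. -/
theorem exists_ft_subalgebra_sections {Y : Scheme.{u}} [CompactSpace Y] [QuasiSeparatedSpace Y]
    (C : RelSpec.QCAlg Y) (t : ∀ W : Y.affineOpens, Finset (C.presheaf.obj (op W.1)))
    (l : List Y.affineOpens) :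
    ∃ (C' : RelSpec.QCAlg Y) (φ : C' ⟶ C),
      (∀ V : Y.Opens, Function.Injective (φ.hom.app (op V)).hom) ∧
      (∀ V : Y.affineOpens, (C'.str.app (op (V : Y.Opens))).hom.FiniteType) ∧
      ∀ W ∈ l, ∀ x ∈ t W, x ∈ Set.range (φ.hom.app (op W.1)).hom := by
  haveI := toModule_isQuasicoherent C
  obtain ⟨K, hK, hft, hmem⟩ := SubSh.exists_through_sections (F := C.toModule)
    (fun W => (t W : Finset Γ(C.toModule, W.1))) l
  obtain ⟨C', φ, hφinj, hφft, hφrange⟩ := exists_subalgebra C K hK hft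
  exact ⟨C', φ, hφinj, hφft, fun W hW x hx => hφrange W.1 x (hmem W hW x hx)⟩

end Groth.Agent.H73.RelSpecImm
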