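import Mathlib
import Groth.Prelude.Def_RelSpec
import Groth.Prelude.Def_AffAlg
import Groth.Agent.H41.AffAlgPushout

/-!
# The canonical morphism `X ⟶ Spec (f_* O_X)` of a quasi-affine morphism is an immersion (helper73)
-/

set_option autoImplicit false
set_option linter.style.haveILetI false

open CategoryTheory CategoryTheory.Limits AlgebraicGeometry TopologicalSpace Opposite

universe u

namespace Groth.Agent.H73.RelSpecImm

open Groth.Agent.H41.AffAlgLib

/-- The canonical morphism `X ⟶ Spec (f_* O_X)`. -/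
theorem exists_canonical {X Y : Scheme.{u}} (f : X ⟶ Y) [QuasiCompact f] [QuasiSeparated f] :
    ∃ (g : X ⟶ (RelSpec.QCAlg.directImage f).spec) (w : g ≫ (RelSpec.QCAlg.directImage f).π = f),
      AffAlg.algHom (RelSpec.QCAlg.directImage f).π f g w =
        (RelSpec.QCAlg.directImage f).gammaMap := by
  obtain ⟨⟨g, w⟩, hg⟩ := (algOf_bijective (RelSpec.QCAlg.directImage f).π f).2
    ⟨(RelSpec.QCAlg.directImage f).gammaMap, (RelSpec.QCAlg.directImage f).π_c_gammaMap⟩
  exact ⟨g, w, congrArg Subtype.val hg⟩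

/-- A morphism to an affine scheme which is an isomorphism on global sections, from a quasi-affine
scheme, is an immersion. -/
theorem isImmersion_of_isIso_appTop {W T : Scheme.{u}} [IsAffine T] [W.IsQuasiAffine] (h : W ⟶ T)
    [IsIso h.appTop] : IsImmersion h := by
  have h1 : h ≫ T.toSpecΓ = W.toSpecΓ ≫ Spec.map h.appTop := Scheme.toSpecΓ_naturality h
  have h2 : IsImmersion (h ≫ T.toSpecΓ) := by rw [h1]; infer_instance
  exact IsImmersion.of_comp h T.toSpecΓ

/-- A morphism over `Y` into a relative spectrum which is an isomorphism on sections over preimages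
of affine opens, from a scheme quasi-affine over `Y`, is an immersion. -/
theorem isImmersion_of_isIso_appLE {X Y : Scheme.{u}} (f : X ⟶ Y)
    (hqa : ∀ V : Y.Opens, IsAffineOpen V → Scheme.IsQuasiAffine (f ⁻¹ᵁ V : Scheme.{u}))
    (C : RelSpec.QCAlg Y) (g : X ⟶ C.spec) (w : g ≫ C.π = f)
    (happ : ∀ (V : Y.Opens) (hV : IsAffineOpen V), IsIso (g.appLE (C.π ⁻¹ᵁ V) (f ⁻¹ᵁ V)
      (by rw [← Scheme.Hom.comp_preimage, w]))) : IsImmersion g := by
  have hsup : ⨆ V : Y.affineOpens, C.π ⁻¹ᵁ V.1 = ⊤ := by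
    rw [← Scheme.Hom.preimage_iSup, iSup_affineOpens_eq_top, Scheme.Hom.preimage_top]
  refine (IsZariskiLocalAtTarget.iff_of_iSup_eq_top (P := @IsImmersion)
    (fun V : Y.affineOpens => C.π ⁻¹ᵁ V.1) hsup).mpr fun V => ?_
  have eV : g ⁻¹ᵁ (C.π ⁻¹ᵁ V.1) = f ⁻¹ᵁ V.1 := by rw [← Scheme.Hom.comp_preimage, w]
  have hle : f ⁻¹ᵁ V.1 ≤ g ⁻¹ᵁ (C.π ⁻¹ᵁ V.1) := eV.ge
  rw [← Scheme.Hom.resLE_eq_morphismRestrict,
    Scheme.Hom.resLE_congr (f := g) (e := le_rfl) rfl eV @IsImmersion]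
  haveI : IsAffine (C.π ⁻¹ᵁ V.1).toScheme := V.2.preimage C.π
  haveI : Scheme.IsQuasiAffine (f ⁻¹ᵁ V.1).toScheme := hqa V.1 V.2
  haveI : IsIso (g.appLE (C.π ⁻¹ᵁ V.1) (f ⁻¹ᵁ V.1) hle) := happ V.1 V.2
  haveI : IsIso (g.resLE (C.π ⁻¹ᵁ V.1) (f ⁻¹ᵁ V.1) hle).appTop :=
    ((MorphismProperty.isomorphisms CommRingCat).arrow_mk_iso_iff
      (arrowResLEAppIso g (C.π ⁻¹ᵁ V.1) (f ⁻¹ᵁ V.1) hle)).mpr
      (inferInstanceAs (IsIso (g.appLE (C.π ⁻¹ᵁ V.1) (f ⁻¹ᵁ V.1) hle)))
  exact isImmersion_of_isIso_appTop _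

/-- For a quasi-affine morphism the canonical morphism to the relative spectrum of the direct image
algebra is an immersion. -/
theorem isImmersion_canonical {X Y : Scheme.{u}} (f : X ⟶ Y) [QuasiCompact f] [QuasiSeparated f]
    (hqa : ∀ V : Y.Opens, IsAffineOpen V → Scheme.IsQuasiAffine (f ⁻¹ᵁ V : Scheme.{u}))
    (g : X ⟶ (RelSpec.QCAlg.directImage f).spec) (w : g ≫ (RelSpec.QCAlg.directImage f).π = f)
    (hg : AffAlg.algHom (RelSpec.QCAlg.directImage f).π f g w =
      (RelSpec.QCAlg.directImage f).gammaMap) : IsImmersion g := by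
  have hiso : IsIso (RelSpec.QCAlg.directImage f).gammaMap :=
    Groth.Agent.S8255.result (RelSpec.QCAlg.directImage f)
  refine isImmersion_of_isIso_appLE f hqa (RelSpec.QCAlg.directImage f) g w fun V hV => ?_
  have happ : g.appLE ((RelSpec.QCAlg.directImage f).π ⁻¹ᵁ V) (f ⁻¹ᵁ V)
      (by rw [← Scheme.Hom.comp_preimage, w]) =
      (RelSpec.QCAlg.directImage f).gammaMap.app (op V) := by
    rw [← algHom_app (RelSpec.QCAlg.directImage f).π f g w V, hg]
  have h2 : IsIso ((RelSpec.QCAlg.directImage f).gammaMap.app (op V)) := inferInstance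
  rw [happ]
  exact h2

/-- An affine morphism whose algebra is of finite type on affine opens is locally of finite
type. -/
theorem locallyOfFiniteType_π {Y : Scheme.{u}} (C : RelSpec.QCAlg Y)
    (hft : ∀ U : Y.affineOpens, (C.str.app (op (U : Y.Opens))).hom.FiniteType) :
    LocallyOfFiniteType C.π := by
  have hiso : IsIso C.gammaMap := Groth.Agent.S8255.result C
  have hsup : ⨆ V : Y.affineOpens, V.1 = ⊤ := iSup_affineOpens_eq_top Y
  refine (IsZariskiLocalAtTarget.iff_of_iSup_eq_top (P := @LocallyOfFiniteType)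
    (fun V : Y.affineOpens => V.1) hsup).mpr fun U => ?_
  haveI : IsAffine U.1.toScheme := U.2
  haveI : IsAffine (C.π ⁻¹ᵁ U.1).toScheme := U.2.preimage C.π
  rw [HasRingHomProperty.iff_of_isAffine (P := @LocallyOfFiniteType),
    ← Scheme.Hom.resLE_eq_morphismRestrict]
  haveI := RingHom.toMorphismProperty_respectsIso_iff.mp RingHom.finiteType_respectsIso
  have h3 := (RingHom.toMorphismProperty (fun f => RingHom.FiniteType f)).arrow_mk_iso_iff
      (arrowResLEAppIso C.π U.1 (C.π ⁻¹ᵁ U.1) le_rfl)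
  rw [Scheme.Hom.appLE_eq_app] at h3
  refine h3.mpr ?_
  have h1 : C.π.app U.1 ≫ C.gammaAff U.1 U.2 = C.str.app (op U.1) := C.π_app_gammaAff U.1 U.2
  haveI : IsIso (C.gammaAff U.1 U.2) := by
    rw [← C.gammaMap_app U.1 U.2]; infer_instance
  have h5 : C.π.app U.1 = C.str.app (op U.1) ≫ inv (C.gammaAff U.1 U.2) := by
    rw [← h1, Category.assoc, IsIso.hom_inv_id, Category.comp_id]
  show (C.π.app U.1).hom.FiniteType
  rw [h5, CommRingCat.hom_comp]
  exact RingHom.finiteType_respectsIso.cancel_right_isIso _ _ |>.mpr (hft U)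

end Groth.Agent.H73.RelSpecImm
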