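import Mathlib

set_option autoImplicit false
universe u

namespace Groth.Agent.H73.RestrictIso

open AlgebraicGeometry CategoryTheory TopologicalSpace Opposite

variable {X Y : Scheme.{u}}

set_option backward.isDefEq.respectTransparency false in
/-- finiteness of a restriction passes to smaller opens. -/
theorem isFinite_morphismRestrict_of_le (f : Y ⟶ X) {V₀ W : X.Opens} (h : IsFinite (f ∣_ V₀))
    (hle : W ≤ V₀) : IsFinite (f ∣_ W) := by
  have h1 : IsFinite (f ∣_ V₀ ∣_ (V₀.ι ⁻¹ᵁ W)) := IsZariskiLocalAtTarget.restrict h _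
  rw [MorphismProperty.arrow_mk_iso_iff @IsFinite (morphismRestrictRestrict f V₀ _)] at h1
  have e : V₀.ι ''ᵁ (V₀.ι ⁻¹ᵁ W) = W := by
    rw [Scheme.Hom.image_preimage_eq_opensRange_inf, Scheme.Opens.opensRange_ι]
    exact inf_eq_right.mpr hle
  rwa [MorphismProperty.arrow_mk_iso_iff @IsFinite (morphismRestrictEq f e)] at h1

/-- If `f ∣_ V` is finite and `V` is affine then `f ⁻¹ V` is affine and the map on sections is
finite. -/
theorem isAffineOpen_preimage_of_isFinite (f : Y ⟶ X) {V : X.Opens} (h : IsFinite (f ∣_ V))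
    (hV : IsAffineOpen V) : IsAffineOpen (f ⁻¹ᵁ V) := by
  haveI : IsAffine V.toScheme := hV
  exact isAffine_of_isAffineHom (f ∣_ V)

theorem finite_app_of_isFinite (f : Y ⟶ X) {V : X.Opens} (h : IsFinite (f ∣_ V))
    (hV : IsAffineOpen V) : (f.app V).hom.Finite := by
  haveI : IsAffine V.toScheme := hV
  have h1 := (f ∣_ V).finite_app ⊤ (isAffineOpen_top _)
  rw [← Scheme.Hom.resLE_eq_morphismRestrict] at h1
  rw [← Scheme.Hom.appLE_eq_app (f := f)]
  exact (RingHom.finite_respectsIso.arrow_mk_iso_iff (arrowResLEAppIso f V (f ⁻¹ᵁ V) le_rfl)).mp h1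

set_option backward.isDefEq.respectTransparency false in
/-- restriction over an affine open with affine preimage and bijective map on sections is an
isomorphism. -/
theorem isIso_morphismRestrict_of_isIso_app (f : Y ⟶ X) {V : X.Opens} (hV : IsAffineOpen V)
    (hV' : IsAffineOpen (f ⁻¹ᵁ V)) (h : IsIso (f.app V)) : IsIso (f ∣_ V) := by
  haveI : IsAffine V.toScheme := hV
  haveI : IsAffine (f ⁻¹ᵁ V).toScheme := hV'
  have h1 : IsIso (f ∣_ V).appTop := by
    rw [← Scheme.Hom.resLE_eq_morphismRestrict]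
    have := (MorphismProperty.isomorphisms CommRingCat).arrow_mk_iso_iff
      (arrowResLEAppIso f V (f ⁻¹ᵁ V) le_rfl)
    rw [Scheme.Hom.appLE_eq_app] at this
    exact this.mpr h
  exact (HasAffineProperty.iff_of_isAffine (P := .isomorphisms _)).mpr ⟨inferInstance, h1⟩

end Groth.Agent.H73.RestrictIso
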