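import Mathlib
import Groth.Prelude.Def_FEt
import Groth.Agent.H69.Sec.S1

set_option autoImplicit false

universe u

open CategoryTheory CategoryTheory.Limits AlgebraicGeometry

namespace Groth.Agent.H73.Sec_DJ

theorem disjoint_of_free {X : Scheme.{u}} (Y : FEt.Cat X) (G : Type u) [Group G] (ρ : G →* Aut Y)
    (hfree : ∀ g : G, g ≠ 1 → ∀ (K : Type u) [Field K] (y : Spec (CommRingCat.of K) ⟶ Y.left),
      y ≫ (ρ g).hom.left ≠ y) (g h : G) (hgh : g ≠ h) :
    Disjoint
      (Set.range (pullback.lift (𝟙 Y.left) (ρ g).hom.left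
        ((Category.id_comp Y.hom).trans (Over.w (ρ g).hom.hom).symm) :
          Y.left ⟶ pullback Y.hom Y.hom).base)
      (Set.range (pullback.lift (𝟙 Y.left) (ρ h).hom.left
        ((Category.id_comp Y.hom).trans (Over.w (ρ h).hom.hom).symm) :
          Y.left ⟶ pullback Y.hom Y.hom).base) := by
  have hfin : IsFinite Y.hom := Y.prop.1
  have het : Etale Y.hom := Y.prop.2
  set σg : Y.left ⟶ pullback Y.hom Y.hom := pullback.lift (𝟙 Y.left) (ρ g).hom.left
    ((Category.id_comp Y.hom).trans (Over.w (ρ g).hom.hom).symm) with hσg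
  set σh : Y.left ⟶ pullback Y.hom Y.hom := pullback.lift (𝟙 Y.left) (ρ h).hom.left
    ((Category.id_comp Y.hom).trans (Over.w (ρ h).hom.hom).symm) with hσh
  have hg1 : σg ≫ pullback.fst Y.hom Y.hom = 𝟙 _ := pullback.lift_fst _ _ _
  have hh1 : σh ≫ pullback.fst Y.hom Y.hom = 𝟙 _ := pullback.lift_fst _ _ _
  have hg2 : σg ≫ pullback.snd Y.hom Y.hom = (ρ g).hom.left := pullback.lift_snd _ _ _
  have hh2 : σh ≫ pullback.snd Y.hom Y.hom = (ρ h).hom.left := pullback.lift_snd _ _ _
  have : IsOpenImmersion σg :=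
    Groth.Agent.H69.Sec.isOpenImmersion_of_section (pullback.fst Y.hom Y.hom) σg hg1
  have : IsOpenImmersion σh :=
    Groth.Agent.H69.Sec.isOpenImmersion_of_section (pullback.fst Y.hom Y.hom) σh hh1
  rw [Set.disjoint_iff]
  rintro z ⟨hzg, hzh⟩
  let P := pullback Y.hom Y.hom
  let zt : Spec (P.residueField z) ⟶ P := P.fromSpecResidueField z
  have hrange : Set.range zt.base = {z} := Scheme.range_fromSpecResidueField z
  let a : Spec (P.residueField z) ⟶ Y.left :=
    IsOpenImmersion.lift σg zt (by rw [hrange]; exact Set.singleton_subset_iff.2 hzg)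
  let b : Spec (P.residueField z) ⟶ Y.left :=
    IsOpenImmersion.lift σh zt (by rw [hrange]; exact Set.singleton_subset_iff.2 hzh)
  have ha : a ≫ σg = zt := IsOpenImmersion.lift_fac _ _ _
  have hb : b ≫ σh = zt := IsOpenImmersion.lift_fac _ _ _
  have hab : a = b := by
    have h1 : a = zt ≫ pullback.fst Y.hom Y.hom := by
      rw [← ha, Category.assoc, hg1, Category.comp_id]
    have h2 : b = zt ≫ pullback.fst Y.hom Y.hom := by
      rw [← hb, Category.assoc, hh1, Category.comp_id]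
    rw [h1, h2]
  have hkey : a ≫ (ρ g).hom.left = a ≫ (ρ h).hom.left := by
    rw [← hg2, ← hh2, ← Category.assoc, ← Category.assoc, ha]
    conv_rhs => rw [hab, hb]
  -- the element `k = g * h⁻¹` fixes the point `a ≫ ρ h`
  have hk : g * h⁻¹ ≠ 1 := fun hk => hgh (mul_inv_eq_one.mp hk)
  have hρk : (ρ (g * h⁻¹)).hom = (ρ h).inv ≫ (ρ g).hom := by
    rw [map_mul, map_inv, Aut.Aut_mul_def, Aut.Aut_inv_def]
    rfl
  refine hfree (g * h⁻¹) hk (P.residueField z) (a ≫ (ρ h).hom.left) ?_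
  rw [hρk, Category.assoc]
  have : (ρ h).hom.left ≫ ((ρ h).inv ≫ (ρ g).hom).left = (ρ g).hom.left := by
    have e : (ρ h).hom ≫ ((ρ h).inv ≫ (ρ g).hom) = (ρ g).hom :=
      Iso.hom_inv_id_assoc (show Y ≅ Y from ρ h) _
    exact congrArg (fun φ : Y ⟶ Y => φ.left) e
  rw [this, hkey]

end Groth.Agent.H73.Sec_DJ
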