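import Mathlib

/-!
# Lifting units modulo the maximal ideals of a semilocal base

`A` with finitely many maximal ideals, `B` an integral `A`-algebra.  Every family of units
`w m ∈ ((A ⧸ m) ⊗[A] B)ˣ`, `m` running over the maximal ideals of `A`, is the family of images of a
single unit of `B`.
-/

set_option autoImplicit false
universe u
open scoped TensorProduct

namespace Groth.Agent.H73.SemiUnits

variable (A B : Type u) [CommRing A] [CommRing B] [Algebra A B]

/-- `b ↦ 1 ⊗ b` as a ring homomorphism -/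
noncomputable abbrev incR (m : Ideal A) : B →+* (A ⧸ m) ⊗[A] B :=
  RingHomClass.toRingHom (Algebra.TensorProduct.includeRight (R := A) (A := A ⧸ m) (B := B))

theorem incR_apply (m : Ideal A) (b : B) : incR A B m b = 1 ⊗ₜ[A] b := rfl

theorem incR_surjective (m : Ideal A) : Function.Surjective (incR A B m) := by
  intro x
  induction x using TensorProduct.induction_on with
  | zero => exact ⟨0, map_zero _⟩
  | tmul c b =>
    obtain ⟨a, rfl⟩ := Ideal.Quotient.mk_surjective c
    refine ⟨a • b, ?_⟩
    rw [incR_apply, TensorProduct.tmul_smul, TensorProduct.smul_tmul']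
    congr 1
    rw [Algebra.smul_def, mul_one]
    rfl
  | add x y hx hy =>
    obtain ⟨x', rfl⟩ := hx
    obtain ⟨y', rfl⟩ := hy
    exact ⟨x' + y', map_add _ _ _⟩

theorem incR_algebraMap_of_mem (m : Ideal A) {a : A} (ha : a ∈ m) :
    incR A B m (algebraMap A B a) = 0 := by
  rw [incR_apply, Algebra.algebraMap_eq_smul_one, TensorProduct.tmul_smul,
    TensorProduct.smul_tmul']
  have : a • (1 : A ⧸ m) = 0 := by
    rw [Algebra.smul_def, mul_one]
    exact Ideal.Quotient.eq_zero_iff_mem.mpr ha
  rw [this, TensorProduct.zero_tmul]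

/-- the ring map `(A ⧸ m) ⊗ B → B ⧸ M` for a maximal ideal `M` of `B` over `m` -/
noncomputable def toQuot (m : Ideal A) (M : Ideal B) (h : m ≤ M.comap (algebraMap A B)) :
    (A ⧸ m) ⊗[A] B →ₐ[A] B ⧸ M :=
  Algebra.TensorProduct.lift
    (Ideal.Quotient.liftₐ m (Algebra.ofId A (B ⧸ M)) (fun a ha => by
      show algebraMap A (B ⧸ M) a = 0
      rw [IsScalarTower.algebraMap_apply A B (B ⧸ M)]
      exact Ideal.Quotient.eq_zero_iff_mem.mpr (h ha)))
    (Ideal.Quotient.mkₐ A M) (fun _ _ => Commute.all _ _)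

theorem toQuot_incR (m : Ideal A) (M : Ideal B) (h : m ≤ M.comap (algebraMap A B)) (b : B) :
    toQuot A B m M h (incR A B m b) = Ideal.Quotient.mk M b := by
  rw [incR_apply, toQuot, Algebra.TensorProduct.lift_tmul, map_one, one_mul]
  rfl

/-- **Units lift from the closed fibres.** -/
theorem exists_unit [Finite (MaximalSpectrum A)] [Algebra.IsIntegral A B]
    (w : ∀ m : MaximalSpectrum A, ((A ⧸ m.asIdeal) ⊗[A] B)ˣ) :
    ∃ b : Bˣ, ∀ m : MaximalSpectrum A, incR A B m.asIdeal (b : B) = w m := by
  classical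
  let K : MaximalSpectrum A → Ideal B := fun m => RingHom.ker (incR A B m.asIdeal)
  have hK : Pairwise (Function.onFun IsCoprime K) := by
    intro m m' hne
    have hne' : m.asIdeal ≠ m'.asIdeal := fun h => hne (MaximalSpectrum.ext h)
    have hcop : IsCoprime m.asIdeal m'.asIdeal :=
      Ideal.isCoprime_iff_sup_eq.mpr (Ideal.IsMaximal.coprime_of_ne m.isMaximal m'.isMaximal hne')
    obtain ⟨a, ha, a', ha', haa'⟩ := Ideal.isCoprime_iff_exists.mp hcop
    show IsCoprime (K m) (K m')
    rw [Ideal.isCoprime_iff_exists]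
    refine ⟨algebraMap A B a, ?_, algebraMap A B a', ?_, ?_⟩
    · exact (RingHom.mem_ker).mpr (incR_algebraMap_of_mem A B _ ha)
    · exact (RingHom.mem_ker).mpr (incR_algebraMap_of_mem A B _ ha')
    · rw [← map_add, haa', map_one]
  choose x hx using fun m : MaximalSpectrum A => incR_surjective A B m.asIdeal (w m : _)
  obtain ⟨b, hb⟩ := Ideal.exists_forall_sub_mem_ideal hK x
  have hbw : ∀ m : MaximalSpectrum A, incR A B m.asIdeal b = w m := by
    intro m
    have h1 : incR A B m.asIdeal (b - x m) = 0 := (RingHom.mem_ker).mp (hb m)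
    rw [map_sub, sub_eq_zero] at h1
    rw [h1, hx]
  have hunit : IsUnit b := by
    by_contra hnu
    obtain ⟨M, hM, hbM⟩ := exists_max_ideal_of_mem_nonunits hnu
    have := hM
    have hm : (M.comap (algebraMap A B)).IsMaximal :=
      Ideal.isMaximal_comap_of_isIntegral_of_isMaximal (R := A) M
    let m : MaximalSpectrum A := ⟨M.comap (algebraMap A B), hm⟩
    have h1 : toQuot A B m.asIdeal M le_rfl (incR A B m.asIdeal b) = Ideal.Quotient.mk M b :=
      toQuot_incR A B _ M le_rfl b
    have h2 : Ideal.Quotient.mk M b = 0 := Ideal.Quotient.eq_zero_iff_mem.mpr hbM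
    have h3 : IsUnit (toQuot A B m.asIdeal M le_rfl (incR A B m.asIdeal b)) := by
      rw [hbw m]
      exact (w m).isUnit.map _
    rw [h1, h2] at h3
    have : Nontrivial (B ⧸ M) := Ideal.Quotient.nontrivial_iff.mpr hM.ne_top
    exact not_isUnit_zero h3
  exact ⟨hunit.unit, fun m => by rw [IsUnit.unit_spec]; exact hbw m⟩

end Groth.Agent.H73.SemiUnits
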