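import Mathlib.AlgebraicGeometry.Sites.Representability
import Mathlib.AlgebraicGeometry.Sites.BigZariski
import Mathlib.CategoryTheory.Comma.Over.Basic

/-!
# The absolute functor attached to a functor on `Over S`

For `F : (Over S)ᵒᵖ ⥤ Type u` we define `sig F : Schemeᵒᵖ ⥤ Type u`,
`T ↦ Σ t : T ⟶ S, F (T, t)`, and relate representability of `sig F` and of `F`.
-/

set_option autoImplicit false
universe u

open CategoryTheory CategoryTheory.Limits AlgebraicGeometry Opposite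

namespace Groth.Agent.H73.SigF

variable {S : Scheme.{u}} (F : (Over S)ᵒᵖ ⥤ Type u)

/-- restriction along a scheme morphism with explicit structure maps -/
def res {T T' : Scheme.{u}} (a : T' ⟶ T) {t : T ⟶ S} {t' : T' ⟶ S} (h : a ≫ t = t')
    (b : F.obj (op (Over.mk t))) : F.obj (op (Over.mk t')) :=
  F.map (Over.homMk a h : Over.mk t' ⟶ Over.mk t).op b

theorem res_res {T T' T'' : Scheme.{u}} (a : T' ⟶ T) (a' : T'' ⟶ T') {t : T ⟶ S} {t' : T' ⟶ S}
    {t'' : T'' ⟶ S} (h : a ≫ t = t') (h' : a' ≫ t' = t'') (b : F.obj (op (Over.mk t))) :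
    res F a' h' (res F a h b) = res F (a' ≫ a) (by rw [Category.assoc, h, h']) b := by
  unfold res
  rw [← FunctorToTypes.map_comp_apply, ← op_comp]
  rfl

theorem res_id {T : Scheme.{u}} {t : T ⟶ S} (h : 𝟙 T ≫ t = t) (b : F.obj (op (Over.mk t))) :
    res F (𝟙 T) h b = b := by
  unfold res
  have : (Over.homMk (𝟙 T) h : Over.mk t ⟶ Over.mk t) = 𝟙 _ := by
    apply Over.OverMorphism.ext
    rfl
  rw [this, op_id, FunctorToTypes.map_id_apply]

theorem res_congr {T T' : Scheme.{u}} {a a' : T' ⟶ T} (ha : a = a') {t : T ⟶ S} {t' : T' ⟶ S}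
    (h : a ≫ t = t') (b : F.obj (op (Over.mk t))) :
    res F a h b = res F a' (by rw [← ha]; exact h) b := by
  subst ha
  rfl

/-- `F.map` of an arbitrary morphism of `Over S` as a `res` -/
theorem map_eq_res {T T' : Over S} (a : T' ⟶ T) (b : F.obj (op T)) :
    F.map a.op b = res F a.left (Over.w a) b := rfl

theorem sig_ext {T : Scheme.{u}} {t t' : T ⟶ S} (h : t = t') (b : F.obj (op (Over.mk t)))
    (b' : F.obj (op (Over.mk t')))
    (hb : res F (𝟙 T) (show 𝟙 T ≫ t' = t by rw [Category.id_comp, h]) b' = b) :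
    (⟨t, b⟩ : Σ t : T ⟶ S, F.obj (op (Over.mk t))) = ⟨t', b'⟩ := by
  subst h
  rw [res_id] at hb
  rw [hb]

theorem sig_inj {T : Scheme.{u}} {t t' : T ⟶ S} {b : F.obj (op (Over.mk t))}
    {b' : F.obj (op (Over.mk t'))}
    (h : (⟨t, b⟩ : Σ t : T ⟶ S, F.obj (op (Over.mk t))) = ⟨t', b'⟩) :
    ∃ h : t = t', res F (𝟙 T) (show 𝟙 T ≫ t' = t by rw [Category.id_comp, h]) b' = b := by
  cases h
  exact ⟨rfl, res_id F _ _⟩

/-- the absolute functor -/
def sig : Scheme.{u}ᵒᵖ ⥤ Type u where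
  obj T := Σ t : T.unop ⟶ S, F.obj (op (Over.mk t))
  map {T T'} a := TypeCat.ofHom fun p => ⟨a.unop ≫ p.1, res F a.unop rfl p.2⟩
  map_id T := by
    apply ConcreteCategory.hom_ext
    rintro ⟨t, b⟩
    show (⟨𝟙 T.unop ≫ t, res F (𝟙 T.unop) rfl b⟩ : Σ t : T.unop ⟶ S, F.obj (op (Over.mk t))) = ⟨t, b⟩
    apply sig_ext F (Category.id_comp t)
    rfl
  map_comp {T T' T''} a a' := by
    apply ConcreteCategory.hom_ext
    rintro ⟨t, b⟩
    show (⟨(a'.unop ≫ a.unop) ≫ t, res F (a'.unop ≫ a.unop) rfl b⟩ :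
      Σ t : T''.unop ⟶ S, F.obj (op (Over.mk t))) =
      ⟨a'.unop ≫ a.unop ≫ t, res F a'.unop rfl (res F a.unop rfl b)⟩
    apply sig_ext F (Category.assoc _ _ _)
    rw [res_res, res_res]
    exact res_congr F (by rw [Category.id_comp]) _ b

theorem sig_map_apply {T T' : Scheme.{u}} (a : T' ⟶ T) (t : T ⟶ S) (b : F.obj (op (Over.mk t))) :
    (sig F).map a.op ⟨t, b⟩ = ⟨a ≫ t, res F a rfl b⟩ := rfl


/-- elements of `sig F` -/
def mk {T : Scheme.{u}} (t : T ⟶ S) (b : F.obj (op (Over.mk t))) : (sig F).obj (op T) := ⟨t, b⟩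

theorem mk_ext {T : Scheme.{u}} {t t' : T ⟶ S} (h : t = t') (b : F.obj (op (Over.mk t)))
    (b' : F.obj (op (Over.mk t')))
    (hb : res F (𝟙 T) (show 𝟙 T ≫ t' = t by rw [Category.id_comp, h]) b' = b) :
    mk F t b = mk F t' b' := sig_ext F h b b' hb

theorem mk_inj {T : Scheme.{u}} {t t' : T ⟶ S} {b : F.obj (op (Over.mk t))}
    {b' : F.obj (op (Over.mk t'))} (h : mk F t b = mk F t' b') :
    ∃ h : t = t', res F (𝟙 T) (show 𝟙 T ≫ t' = t by rw [Category.id_comp, h]) b' = b :=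
  sig_inj F h

theorem map_mk {T T' : Scheme.{u}} (a : T' ⟶ T) (t : T ⟶ S) (b : F.obj (op (Over.mk t))) :
    (sig F).map a.op (mk F t b) = mk F (a ≫ t) (res F a rfl b) := rfl

theorem eq_mk {T : Scheme.{u}} (p : (sig F).obj (op T)) : p = mk F p.1 p.2 := rfl

/-- changing the target structure map of a `res` along an equality -/
theorem res_cast {T T' : Scheme.{u}} (a : T' ⟶ T) {t : T ⟶ S} {t' t'' : T' ⟶ S} (h : a ≫ t = t')
    (e : t' = t'') (b : F.obj (op (Over.mk t))) :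
    res F (𝟙 T') (show 𝟙 T' ≫ t' = t'' by rw [Category.id_comp, e]) (res F a h b) =
      res F a (h.trans e) b := by
  subst e
  exact res_id F _ _

theorem res_id_injective {T : Scheme.{u}} {t t' : T ⟶ S} (h : 𝟙 T ≫ t = t') :
    Function.Injective (res F (𝟙 T) h) := by
  intro b b' hb
  have h1 := congrArg (res F (𝟙 T) (show 𝟙 T ≫ t' = t by
    rw [Category.id_comp] at h ⊢; exact h.symm)) hb
  rw [res_res, res_res] at h1
  have e : 𝟙 T ≫ 𝟙 T = 𝟙 T := Category.id_comp _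
  rw [res_congr F e, res_congr F e _ b', res_id, res_id] at h1
  exact h1

/-- equalities between `res`'s may be pulled back and reshaped -/
theorem res_transport {T₁ T₂ T' T'' : Scheme.{u}} {t₁ : T₁ ⟶ S} {t₂ : T₂ ⟶ S} {s : T' ⟶ S}
    {s'' : T'' ⟶ S} {a₁ : T' ⟶ T₁} {a₂ : T' ⟶ T₂} {h₁ : a₁ ≫ t₁ = s} {h₂ : a₂ ≫ t₂ = s}
    {b₁ : F.obj (op (Over.mk t₁))} {b₂ : F.obj (op (Over.mk t₂))}
    (H : res F a₁ h₁ b₁ = res F a₂ h₂ b₂) (e : T'' ⟶ T') (he : e ≫ s = s'')
    {a₁' : T'' ⟶ T₁} {a₂' : T'' ⟶ T₂} (e₁ : e ≫ a₁ = a₁') (e₂ : e ≫ a₂ = a₂') :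
    res F a₁' (by rw [← e₁, Category.assoc, h₁, he]) b₁ =
      res F a₂' (by rw [← e₂, Category.assoc, h₂, he]) b₂ := by
  subst e₁ e₂
  have := congrArg (res F e he) H
  rwa [res_res, res_res] at this

/-- representability of `F` from representability of `sig F` -/
theorem representableBy_of_sig {W : Scheme.{u}} (R : (sig F).RepresentableBy W) :
    ∃ w : W ⟶ S, Nonempty (F.RepresentableBy (Over.mk w)) := by
  have hex : ∃ (w : W ⟶ S) (ξ : F.obj (op (Over.mk w))), R.homEquiv (𝟙 W) = ⟨w, ξ⟩ :=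
    ⟨(R.homEquiv (𝟙 W)).1, (R.homEquiv (𝟙 W)).2, rfl⟩
  obtain ⟨w, ξ, hu⟩ := hex
  have hR : ∀ {T : Scheme.{u}} (a : T ⟶ W), R.homEquiv a = ⟨a ≫ w, res F a rfl ξ⟩ := by
    intro T a
    rw [R.homEquiv_eq, hu]
    rfl
  refine ⟨w, ⟨?_⟩⟩
  have hbij : ∀ T : Over S, Function.Bijective
      (fun c : T ⟶ Over.mk w => F.map c.op ξ) := by
    intro T
    constructor
    · intro c c' (h : F.map c.op ξ = F.map c'.op ξ)
      apply Over.OverMorphism.ext
      apply R.homEquiv.injective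
      rw [hR, hR]
      have hw : c.left ≫ w = c'.left ≫ w := (Over.w c).trans (Over.w c').symm
      apply sig_ext F hw
      rw [res_res]
      rw [map_eq_res, map_eq_res] at h
      have h1 := congrArg (res F (𝟙 T.left)
        (show 𝟙 T.left ≫ T.hom = c.left ≫ w by rw [Category.id_comp]; exact (Over.w c).symm)) h
      rw [res_res, res_res] at h1
      rw [res_congr F (Category.id_comp c'.left)]
      rw [res_congr F (Category.id_comp c.left), res_congr F (Category.id_comp c'.left)] at h1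
      exact h1.symm
    · intro b
      have hb : ∃ a : T.left ⟶ W, R.homEquiv a = ⟨T.hom, b⟩ := ⟨R.homEquiv.symm ⟨T.hom, b⟩, R.homEquiv.apply_symm_apply _⟩
      obtain ⟨a, ha⟩ := hb
      rw [hR] at ha
      obtain ⟨h, hb⟩ := sig_inj F ha
      refine ⟨Over.homMk a h, ?_⟩
      show F.map (Over.homMk a h : T ⟶ Over.mk w).op ξ = b
      rw [map_eq_res]
      apply res_id_injective F (show 𝟙 T.left ≫ T.hom = a ≫ w by rw [Category.id_comp, h])
      rw [res_res]
      rw [res_congr F (show 𝟙 T.left ≫ (Over.homMk a h : T ⟶ Over.mk w).left = a from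
        Category.id_comp a)]
      exact hb.symm
  exact
    { homEquiv := fun {T} => Equiv.ofBijective _ (hbij T)
      homEquiv_comp := fun {T T'} j c => by
        show F.map (j ≫ c).op ξ = F.map j.op (F.map c.op ξ)
        rw [op_comp, FunctorToTypes.map_comp_apply] }


/-- Zariski sheaf condition for a functor on `Over S`, phrased with `res`. -/
structure IsZarSheaf : Prop where
  sep : ∀ {T : Scheme.{u}} (t : T ⟶ S) (𝒰 : Scheme.OpenCover.{u + 1} T) (b b' : F.obj (op (Over.mk t))),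
    (∀ i, res F (𝒰.f i) rfl b = res F (𝒰.f i) rfl b') → b = b'
  glue : ∀ {T : Scheme.{u}} (t : T ⟶ S) (𝒰 : Scheme.OpenCover.{u + 1} T)
    (c : ∀ i, F.obj (op (Over.mk (𝒰.f i ≫ t))))
    (_ : ∀ i j, res F (pullback.fst (𝒰.f i) (𝒰.f j)) rfl (c i) =
        res F (pullback.snd (𝒰.f i) (𝒰.f j))
          (by rw [← Category.assoc, ← pullback.condition, Category.assoc]) (c j)),
    ∃ b : F.obj (op (Over.mk t)), ∀ i, res F (𝒰.f i) rfl b = c i

variable {F}

theorem isSheaf_sig (hF : IsZarSheaf F) :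
    Presheaf.IsSheaf Scheme.zariskiTopology.{u} (sig F) := by
  rw [isSheaf_iff_isSheaf_of_type, Scheme.zariskiTopology_eq, Presieve.isSheaf_pretopology]
  intro T R hR
  obtain ⟨𝒰, rfl⟩ := Scheme.mem_pretopology_iff.mp hR
  rw [Presieve.isSheafFor_arrows_iff]
  intro x hx
  have hcompat : ∀ i j, pullback.fst (𝒰.f i) (𝒰.f j) ≫ (x i).1 =
      pullback.snd (𝒰.f i) (𝒰.f j) ≫ (x j).1 := by
    intro i j
    exact congrArg Sigma.fst (hx i j _ (pullback.fst (𝒰.f i) (𝒰.f j))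
      (pullback.snd (𝒰.f i) (𝒰.f j)) pullback.condition)
  let t : T ⟶ S := Scheme.Cover.glueMorphisms 𝒰 (fun i => (x i).1) hcompat
  have ht : ∀ i, 𝒰.f i ≫ t = (x i).1 := fun i => Scheme.Cover.ι_glueMorphisms 𝒰 _ hcompat i
  let c : ∀ i, F.obj (op (Over.mk (𝒰.f i ≫ t))) := fun i =>
    res F (𝟙 _) (by rw [Category.id_comp, ht]) (x i).2
  have hc : ∀ i j, res F (pullback.fst (𝒰.f i) (𝒰.f j)) rfl (c i) =
        res F (pullback.snd (𝒰.f i) (𝒰.f j))
          (by rw [← Category.assoc, ← pullback.condition, Category.assoc]) (c j) := by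
    intro i j
    have h1 := hx i j _ (pullback.fst (𝒰.f i) (𝒰.f j))
      (pullback.snd (𝒰.f i) (𝒰.f j)) pullback.condition
    have h2 : (⟨pullback.fst (𝒰.f i) (𝒰.f j) ≫ (x i).1,
        res F (pullback.fst (𝒰.f i) (𝒰.f j)) rfl (x i).2⟩ :
        Σ t : pullback (𝒰.f i) (𝒰.f j) ⟶ S, F.obj (op (Over.mk t))) =
        ⟨pullback.snd (𝒰.f i) (𝒰.f j) ≫ (x j).1,
          res F (pullback.snd (𝒰.f i) (𝒰.f j)) rfl (x j).2⟩ := h1
    obtain ⟨h3, h4⟩ := sig_inj F h2
    rw [res_res] at h4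
    show res F _ _ (res F _ _ _) = res F _ _ (res F _ _ _)
    rw [res_res, res_res]
    exact res_transport F h4.symm (𝟙 _) (by rw [Category.id_comp, ht])
      (by rw [Category.id_comp, Category.comp_id])
      (by rw [Category.id_comp, Category.id_comp, Category.comp_id])
  obtain ⟨b, hb⟩ := hF.glue t 𝒰 c hc
  refine ⟨⟨t, b⟩, ?_, ?_⟩
  · intro i
    show (⟨𝒰.f i ≫ t, res F (𝒰.f i) rfl b⟩ : Σ t : 𝒰.X i ⟶ S, F.obj (op (Over.mk t))) = x i
    have : x i = ⟨(x i).1, (x i).2⟩ := rfl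
    rw [this]
    apply sig_ext F (ht i)
    rw [hb i]
  · rintro ⟨t', b'⟩ h
    have h' : ∀ i, (⟨𝒰.f i ≫ t', res F (𝒰.f i) rfl b'⟩ :
        Σ t : 𝒰.X i ⟶ S, F.obj (op (Over.mk t))) = ⟨(x i).1, (x i).2⟩ := fun i => h i
    have ht' : t' = t := by
      apply Scheme.Cover.hom_ext 𝒰
      intro i
      rw [ht i]
      exact (sig_inj F (h' i)).1
    subst ht'
    have : b' = b := by
      apply hF.sep _ 𝒰
      intro i
      rw [hb i]
      obtain ⟨h6, h7⟩ := sig_inj F (h' i)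
      exact h7.symm
    rw [this]

end Groth.Agent.H73.SigF
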