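import Groth.Agent.H73.SplitTower3
import Groth.Prelude.Def_Mor2

set_option autoImplicit false
universe u

open AlgebraicGeometry CategoryTheory Limits Polynomial TensorProduct

namespace Groth.Agent.H73.SplitTower

attribute [local instance] Module.finitePresentation_of_projective

theorem isFinLocFree_SpecMap (A A' : Type u) [CommRing A] [CommRing A'] [Algebra A A']
    [Module.Free A A'] [Module.Finite A A'] :
    Mor2.IsFinLocFree (Spec.map (CommRingCat.ofHom (algebraMap A A'))) := by
  refine ⟨?_, ?_, ?_⟩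
  · rw [IsFinite.SpecMap_iff]
    exact RingHom.finite_algebraMap.mpr inferInstance
  · rw [Flat.SpecMap_iff]
    exact RingHom.flat_algebraMap_iff.mpr inferInstance
  · rw [HasRingHomProperty.Spec_iff (P := @LocallyOfFinitePresentation)]
    exact RingHom.finitePresentation_algebraMap.mpr inferInstance

theorem surjective_SpecMap_of_lyingOver (A A' : Type u) [CommRing A] [CommRing A'] [Algebra A A']
    (h : LyingOver A A') : Surjective (Spec.map (CommRingCat.ofHom (algebraMap A A'))) := by
  refine ⟨fun x => ?_⟩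
  obtain ⟨q, hq, hqx⟩ := h x.asIdeal x.isPrime
  refine ⟨⟨q, hq⟩, ?_⟩
  apply PrimeSpectrum.ext
  exact hqx

theorem spec_case (A B : Type u) [CommRing A] [CommRing B] [Algebra A B] [Module.Finite A B] :
    ∃ (X' : Scheme.{u}) (b : X' ⟶ Spec (CommRingCat.of A)) (Z' : Scheme.{u}) (c : Z' ⟶ X')
      (i : pullback (Spec.map (CommRingCat.ofHom (algebraMap A B))) b ⟶ Z'),
      Mor2.IsFinLocFree b ∧ Surjective b ∧ Mor2.IsFinLocFree c ∧ IsClosedImmersion i ∧
      i ≫ c = pullback.snd (Spec.map (CommRingCat.ofHom (algebraMap A B))) b ∧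
      ∃ (m : ℕ) (Zj : Fin m → Scheme.{u}) (ιj : ∀ j, Zj j ⟶ Z'),
        (∀ j, IsClosedImmersion (ιj j)) ∧ (∀ j, IsIso (ιj j ≫ c)) ∧
        (⋃ j, Set.range (ιj j).base) = Set.univ := by
  classical
  obtain ⟨A', _, _, hfree, hfin, hlo, t, ht, hsplit⟩ := exists_split_generators A B
  letI : Algebra A' (B ⊗[A] A') := Algebra.TensorProduct.rightAlgebra
  haveI : IsScalarTower A A' (B ⊗[A] A') := Algebra.TensorProduct.right_isScalarTower
  have hspan : Submodule.span A' (Set.range (Algebra.TensorProduct.includeLeft :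
      B →ₐ[A] B ⊗[A] A')) = ⊤ := by
    rw [eq_top_iff]
    rintro x -
    induction x using TensorProduct.induction_on with
    | zero => exact zero_mem _
    | tmul y a =>
      have : y ⊗ₜ[A] a = a • (Algebra.TensorProduct.includeLeft (R := A) (S := A) (A := B)
          (B := A') y) := by
        rw [Algebra.smul_def, Algebra.TensorProduct.right_algebraMap_apply]
        simp
      rw [this]
      exact Submodule.smul_mem _ _ (Submodule.subset_span ⟨y, rfl⟩)
    | add y z hy hz => exact add_mem hy hz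
  obtain ⟨E, _, _, φ, S, hEfree, hEfin, hS, hcov, hφ⟩ :=
    exists_tower_of_split t ht hsplit (B ⊗[A] A') Algebra.TensorProduct.includeLeft hspan
  let c : Spec (CommRingCat.of E) ⟶ Spec (CommRingCat.of A') :=
    Spec.map (CommRingCat.ofHom (algebraMap A' E))
  let i : pullback (Spec.map (CommRingCat.ofHom (algebraMap A B)))
      (Spec.map (CommRingCat.ofHom (algebraMap A A'))) ⟶ Spec (CommRingCat.of E) :=
    (pullbackSpecIso A B A').hom ≫ Spec.map (CommRingCat.ofHom (φ : E →+* B ⊗[A] A'))
  have hci : IsClosedImmersion (Spec.map (CommRingCat.ofHom (φ : E →+* B ⊗[A] A'))) :=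
    IsClosedImmersion.spec_of_surjective _ hφ
  have hic : i ≫ c = pullback.snd _ _ := by
    show ((pullbackSpecIso A B A').hom ≫ Spec.map (CommRingCat.ofHom (φ : E →+* B ⊗[A] A'))) ≫
      Spec.map (CommRingCat.ofHom (algebraMap A' E)) = _
    rw [Category.assoc, ← Spec.map_comp, ← pullbackSpecIso_hom_snd]
    congr 2
    ext a
    exact φ.commutes a
  -- the sections
  let m := hS.toFinset.card
  let e : Fin m ≃ hS.toFinset := (Finset.equivFin _).symm
  let σ : Fin m → (E →ₐ[A'] A') := fun j => (e j).1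
  have hσS : ∀ j, σ j ∈ S := fun j => hS.mem_toFinset.mp (e j).2
  have hσsurj : ∀ j, Function.Surjective (σ j) := fun j a => ⟨algebraMap A' E a, by
    simpa using (σ j).commutes a⟩
  refine ⟨Spec (CommRingCat.of A'), Spec.map (CommRingCat.ofHom (algebraMap A A')),
    Spec (CommRingCat.of E), c, i, isFinLocFree_SpecMap A A',
    surjective_SpecMap_of_lyingOver A A' hlo, isFinLocFree_SpecMap A' E, inferInstance, hic,
    m, fun _ => Spec (CommRingCat.of A'),
    fun j => Spec.map (CommRingCat.ofHom ((σ j : E →ₐ[A'] A') : E →+* A')), ?_, ?_, ?_⟩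
  · intro j
    exact IsClosedImmersion.spec_of_surjective _ (hσsurj j)
  · intro j
    have : Spec.map (CommRingCat.ofHom ((σ j : E →ₐ[A'] A') : E →+* A')) ≫ c = 𝟙 _ := by
      show _ ≫ Spec.map (CommRingCat.ofHom (algebraMap A' E)) = _
      rw [← Spec.map_comp, ← Spec.map_id]
      congr 1
      ext a
      simpa using (σ j).commutes a
    rw [this]; infer_instance
  · rw [Set.eq_univ_iff_forall]
    intro z
    obtain ⟨τ, hτS, hτ⟩ := hcov z.asIdeal z.isPrime
    obtain ⟨j, hj⟩ : ∃ j, σ j = τ := by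
      refine ⟨e.symm ⟨τ, hS.mem_toFinset.mpr hτS⟩, ?_⟩
      simp [σ]
    rw [Set.mem_iUnion]
    refine ⟨j, ?_⟩
    have hr : Set.range (Spec.map (CommRingCat.ofHom ((σ j : E →ₐ[A'] A') : E →+* A'))).base =
        PrimeSpectrum.zeroLocus (RingHom.ker ((σ j : E →ₐ[A'] A') : E →+* A')) :=
      range_comap_of_surjective _ _ (hσsurj j)
    rw [hr, hj]
    exact hτ

end Groth.Agent.H73.SplitTower
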