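import Mathlib

set_option autoImplicit false
universe u

open Polynomial

namespace Groth.Agent.H73.SplitTower

/-- A family of sections `C → R` covers `Spec C`. -/
def Covers {R C : Type u} [CommRing R] [CommRing C] [Algebra R C] (S : Set (C →ₐ[R] R)) : Prop :=
  ∀ q : Ideal C, q.IsPrime → ∃ σ ∈ S, RingHom.ker (σ : C →+* R) ≤ q

/-- Lying over: every prime is a contraction. -/
def LyingOver (A A' : Type u) [CommRing A] [CommRing A'] [Algebra A A'] : Prop :=
  ∀ p : Ideal A, p.IsPrime → ∃ q : Ideal A', q.IsPrime ∧ q.comap (algebraMap A A') = p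

theorem eval_eq_zero_of_mem {R : Type u} [CommRing R] (s : Multiset R) (a : R) (ha : a ∈ s) :
    ((s.map fun b => X - Polynomial.C b).prod).eval a = 0 := by
  rw [Polynomial.eval_multiset_prod]
  apply Multiset.prod_eq_zero
  rw [Multiset.mem_map]
  refine ⟨X - Polynomial.C a, Multiset.mem_map.mpr ⟨a, ha, rfl⟩, by simp⟩

theorem step {R C D : Type u} [CommRing R] [CommRing C] [Algebra R C] [CommRing D] [Algebra R D]
    [Module.Free R C] [Module.Finite R C]
    (φ : C →ₐ[R] D) (S : Set (C →ₐ[R] R)) (hS : S.Finite) (hcov : Covers S)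
    (P : R[X]) (hP : P.Monic) (s : Multiset R) (hs : P = (s.map fun a => X - Polynomial.C a).prod)
    (d : D) (hd : aeval d P = 0) :
    ∃ (φ₁ : AdjoinRoot (P.map (algebraMap R C)) →ₐ[R] D)
      (S₁ : Set (AdjoinRoot (P.map (algebraMap R C)) →ₐ[R] R)),
      Module.Free R (AdjoinRoot (P.map (algebraMap R C))) ∧
      Module.Finite R (AdjoinRoot (P.map (algebraMap R C))) ∧ S₁.Finite ∧ Covers S₁ ∧
      d ∈ φ₁.range ∧ φ.range ≤ φ₁.range := by
  classical
  have hPm : (P.map (algebraMap R C)).Monic := hP.map _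
  haveI := hPm.free_adjoinRoot
  haveI := hPm.finite_adjoinRoot
  have hfree : Module.Free R (AdjoinRoot (P.map (algebraMap R C))) :=
    Module.Free.trans (R := R) (S := C)
  have hfin : Module.Finite R (AdjoinRoot (P.map (algebraMap R C))) :=
    Module.Finite.trans C _
  have hφd : (P.map (algebraMap R C)).eval₂ (φ : C →+* D) d = 0 := by
    rw [Polynomial.eval₂_map]
    have : (φ : C →+* D).comp (algebraMap R C) = algebraMap R D := φ.comp_algebraMap
    rw [this]
    exact hd
  let φ₁ : AdjoinRoot (P.map (algebraMap R C)) →ₐ[R] D :=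
    AdjoinRoot.liftAlgHom (P.map (algebraMap R C)) φ d hφd
  let g : (AdjoinRoot (P.map (algebraMap R C)) →ₐ[R] R) → (C →ₐ[R] R) × R :=
    fun τ => (τ.comp (AdjoinRoot.ofAlgHom R _), τ (AdjoinRoot.root _))
  have hg : Function.Injective g := by
    intro τ₁ τ₂ h
    have h1 : τ₁.comp (AdjoinRoot.ofAlgHom R _) = τ₂.comp (AdjoinRoot.ofAlgHom R _) :=
      congrArg Prod.fst h
    have h2 : τ₁ (AdjoinRoot.root _) = τ₂ (AdjoinRoot.root _) := congrArg Prod.snd h
    exact AdjoinRoot.algHom_ext' h1 h2
  let T : Set R := {a | a ∈ s}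
  have hT : T.Finite := by
    have : T = ↑s.toFinset := by ext a; simp [T]
    rw [this]; exact Finset.finite_toSet _
  let S₁ : Set (AdjoinRoot (P.map (algebraMap R C)) →ₐ[R] R) := g ⁻¹' (S ×ˢ T)
  have hS₁ : S₁.Finite := Set.Finite.preimage hg.injOn (hS.prod hT)
  refine ⟨φ₁, S₁, hfree, hfin, hS₁, ?_, ?_, ?_⟩
  · intro q hq
    -- the root satisfies P
    have hroot : aeval (AdjoinRoot.root (P.map (algebraMap R C))) P = 0 := by
      have h0 := AdjoinRoot.eval₂_root (P.map (algebraMap R C))
      rw [Polynomial.eval₂_map] at h0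
      rw [Polynomial.aeval_def]
      exact h0
    have hprod : ((s.map fun a => AdjoinRoot.root (P.map (algebraMap R C)) -
        algebraMap R _ a).prod) = 0 := by
      rw [← hroot]
      have h1 := congrArg (aeval (AdjoinRoot.root (P.map (algebraMap R C)))) hs
      rw [h1, map_multiset_prod, Multiset.map_map]
      congr 1
      apply Multiset.map_congr rfl
      intro a _
      simp
    have hmem : ((s.map fun a => AdjoinRoot.root (P.map (algebraMap R C)) -
        algebraMap R _ a).prod) ∈ q := by rw [hprod]; exact q.zero_mem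
    obtain ⟨y, hy, hyq⟩ := (hq.multiset_prod_mem_iff_exists_mem _).mp hmem
    obtain ⟨a, has, rfl⟩ := Multiset.mem_map.mp hy
    have hq₀ : (q.comap (AdjoinRoot.of (P.map (algebraMap R C)))).IsPrime := Ideal.comap_isPrime _ _
    obtain ⟨σ, hσS, hσ⟩ := hcov _ hq₀
    have hσa : (P.map (algebraMap R C)).eval₂ (σ : C →+* R) a = 0 := by
      rw [Polynomial.eval₂_map]
      have : (σ : C →+* R).comp (algebraMap R C) = algebraMap R R := σ.comp_algebraMap
      rw [this, Algebra.algebraMap_self, Polynomial.eval₂_id, hs]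
      exact eval_eq_zero_of_mem s a has
    let τ : AdjoinRoot (P.map (algebraMap R C)) →ₐ[R] R :=
      AdjoinRoot.liftAlgHom (P.map (algebraMap R C)) σ a hσa
    have hτof : ∀ c, τ (AdjoinRoot.of _ c) = σ c := fun c => AdjoinRoot.liftAlgHom_of _ _ _ _ _
    have hτroot : τ (AdjoinRoot.root _) = a := AdjoinRoot.liftAlgHom_root _ _ _ _
    refine ⟨τ, ⟨?_, ?_⟩, ?_⟩
    · show τ.comp (AdjoinRoot.ofAlgHom R _) ∈ S
      have : τ.comp (AdjoinRoot.ofAlgHom R _) = σ := by
        ext c; exact hτof c
      rw [this]; exact hσS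
    · show τ (AdjoinRoot.root _) ∈ s
      rw [hτroot]; exact has
    · -- ker τ ≤ q
      have heq : (Ideal.Quotient.mk q) =
          (Ideal.Quotient.mk q).comp ((algebraMap R (AdjoinRoot (P.map (algebraMap R C)))).comp
            (τ : AdjoinRoot (P.map (algebraMap R C)) →+* R)) := by
        apply AdjoinRoot.ringHom_ext
        · ext c
          simp only [RingHom.comp_apply]
          rw [Ideal.Quotient.eq]
          have h1 : (τ : AdjoinRoot (P.map (algebraMap R C)) →+* R) (AdjoinRoot.of _ c) = σ c :=
            hτof c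
          rw [h1]
          have h2 : algebraMap R (AdjoinRoot (P.map (algebraMap R C))) (σ c) =
              AdjoinRoot.of _ (algebraMap R C (σ c)) := rfl
          rw [h2, ← map_sub]
          apply hσ
          rw [RingHom.mem_ker, map_sub]
          have : (σ : C →+* R) (algebraMap R C (σ c)) = σ c := by
            have := σ.commutes (σ c)
            simpa using this
          rw [this]
          simp
        · simp only [RingHom.comp_apply]
          rw [Ideal.Quotient.eq]
          have h1 : (τ : AdjoinRoot (P.map (algebraMap R C)) →+* R) (AdjoinRoot.root _) = a :=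
            hτroot
          rw [h1]
          exact hyq
      intro x hx
      rw [RingHom.mem_ker] at hx
      have h1 := congrArg (fun h => h x) heq
      simp only [RingHom.comp_apply] at h1
      have hx' : (τ : AdjoinRoot (P.map (algebraMap R C)) →+* R) x = 0 := hx
      rw [hx', map_zero, map_zero] at h1
      exact Ideal.Quotient.eq_zero_iff_mem.mp h1
  · exact ⟨AdjoinRoot.root _, AdjoinRoot.liftAlgHom_root _ _ _ _⟩
  · rintro _ ⟨c, rfl⟩
    exact ⟨AdjoinRoot.of _ c, AdjoinRoot.liftAlgHom_of _ _ _ _ _⟩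

end Groth.Agent.H73.SplitTower
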