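import Groth.Agent.H73.SplitTower

set_option autoImplicit false
universe u

open Polynomial

namespace Groth.Agent.H73.SplitTower

theorem tower {R D : Type u} [CommRing R] [CommRing D] [Algebra R D] (l : List (R[X] × D))
    (hl : ∀ p ∈ l, p.1.Monic ∧
      (∃ s : Multiset R, p.1 = (s.map fun a => X - Polynomial.C a).prod) ∧ aeval p.2 p.1 = 0) :
    ∃ (E : Type u) (_ : CommRing E) (_ : Algebra R E) (φ : E →ₐ[R] D) (S : Set (E →ₐ[R] R)),
      Module.Free R E ∧ Module.Finite R E ∧ S.Finite ∧ Covers S ∧ ∀ p ∈ l, p.2 ∈ φ.range := by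
  induction l with
  | nil =>
    refine ⟨R, inferInstance, inferInstance, Algebra.ofId R D, {AlgHom.id R R}, inferInstance,
      inferInstance, Set.finite_singleton _, ?_, by simp⟩
    intro q hq
    refine ⟨AlgHom.id R R, rfl, ?_⟩
    intro x hx
    rw [RingHom.mem_ker] at hx
    have : x = 0 := hx
    rw [this]; exact q.zero_mem
  | cons p l ih =>
    obtain ⟨E, _, _, φ, S, hfree, hfin, hS, hcov, hr⟩ :=
      ih (fun p hp => hl p (List.mem_cons_of_mem _ hp))
    obtain ⟨hm, ⟨s, hs⟩, hd⟩ := hl p List.mem_cons_self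
    obtain ⟨φ₁, S₁, h1, h2, h3, h4, h5, h6⟩ := step φ S hS hcov p.1 hm s hs p.2 hd
    refine ⟨AdjoinRoot (p.1.map (algebraMap R E)), inferInstance, inferInstance, φ₁, S₁, h1, h2,
      h3, h4, ?_⟩
    intro p' hp'
    rcases List.mem_cons.mp hp' with rfl | hp'
    · exact h5
    · exact h6 (hr p' hp')

theorem injective_adjoinRoot {A : Type u} [CommRing A] (P : A[X]) (hP : P.Monic)
    (hd : 0 < P.natDegree) : Function.Injective (algebraMap A (AdjoinRoot P)) := by
  rw [injective_iff_map_eq_zero]
  intro a ha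
  by_contra h0
  have h1 : AdjoinRoot.mk P (Polynomial.C a) = 0 := ha
  rw [AdjoinRoot.mk_eq_zero] at h1
  have hC : Polynomial.C a ≠ 0 := by
    intro h; apply h0; exact Polynomial.C_eq_zero.mp h
  exact hP.not_dvd_of_natDegree_lt hC (by rw [Polynomial.natDegree_C]; exact hd) h1

theorem lyingOver_adjoinRoot {A : Type u} [CommRing A] (P : A[X]) (hP : P.Monic)
    (hd : 0 < P.natDegree) : LyingOver A (AdjoinRoot P) := by
  have hinj := injective_adjoinRoot P hP hd
  haveI := hP.finite_adjoinRoot
  haveI : Algebra.IsIntegral A (AdjoinRoot P) := Algebra.IsIntegral.of_finite A _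
  intro p hp
  obtain ⟨Q, -, hQ, hQp⟩ := Ideal.exists_ideal_over_prime_of_isIntegral p
    (⊥ : Ideal (AdjoinRoot P)) (by
      rw [Ideal.comap_bot_of_injective _ hinj]; exact bot_le)
  exact ⟨Q, hQ, hQp⟩

theorem lyingOver_self (A : Type u) [CommRing A] : LyingOver A A := by
  intro p hp
  exact ⟨p, hp, by simp⟩

theorem trans_props (A A₁ A' : Type u) [CommRing A] [CommRing A₁] [CommRing A'] [Algebra A A₁]
    [Algebra A₁ A'] [Algebra A A'] [IsScalarTower A A₁ A']
    (h1 : Module.Free A A₁) (h2 : Module.Finite A A₁) (h3 : LyingOver A A₁)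
    (h1' : Module.Free A₁ A') (h2' : Module.Finite A₁ A') (h3' : LyingOver A₁ A') :
    Module.Free A A' ∧ Module.Finite A A' ∧ LyingOver A A' := by
  refine ⟨Module.Free.trans (R := A) (S := A₁), Module.Finite.trans A₁ A', ?_⟩
  intro p hp
  obtain ⟨q₁, hq₁, hq₁p⟩ := h3 p hp
  obtain ⟨q, hq, hqq₁⟩ := h3' q₁ hq₁
  refine ⟨q, hq, ?_⟩
  rw [IsScalarTower.algebraMap_eq A A₁ A', ← Ideal.comap_comap, hqq₁, hq₁p]

theorem exists_split_one (n : ℕ) : ∀ (A : Type u) [CommRing A] (P : A[X]), P.Monic →
    P.natDegree = n →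
    ∃ (A' : Type u) (_ : CommRing A') (_ : Algebra A A'), Module.Free A A' ∧ Module.Finite A A' ∧
      LyingOver A A' ∧
      ∃ s : Multiset A', P.map (algebraMap A A') = (s.map fun a => X - Polynomial.C a).prod := by
  induction n with
  | zero =>
    intro A _ P hP hn
    refine ⟨A, inferInstance, inferInstance, inferInstance, inferInstance, lyingOver_self A, 0, ?_⟩
    have : P = 1 := hP.natDegree_eq_zero.mp hn
    rw [this]; simp
  | succ n ih =>
    intro A _ P hP hn
    let A₁ := AdjoinRoot P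
    let r : A₁ := AdjoinRoot.root P
    have hPm : (P.map (AdjoinRoot.of P)).Monic := hP.map _
    have hr : (P.map (AdjoinRoot.of P)).IsRoot r := AdjoinRoot.isRoot_root P
    have hQ : (X - Polynomial.C r) * (P.map (AdjoinRoot.of P) /ₘ (X - Polynomial.C r)) =
        P.map (AdjoinRoot.of P) := Polynomial.mul_divByMonic_eq_iff_isRoot.mpr hr
    set Q := P.map (AdjoinRoot.of P) /ₘ (X - Polynomial.C r) with hQdef
    have hQm : Q.Monic := Polynomial.Monic.of_mul_monic_left (Polynomial.monic_X_sub_C r)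
      (by rw [hQ]; exact hPm)
    haveI : Nontrivial A := by
      by_contra h
      rw [not_nontrivial_iff_subsingleton] at h
      have : P = 0 := Subsingleton.elim _ _
      rw [this] at hn; simp at hn
    haveI : Nontrivial A₁ := (injective_adjoinRoot P hP (by omega)).nontrivial
    have hQn : Q.natDegree = n := by
      have h1 := (Polynomial.monic_X_sub_C r).natDegree_mul hQm
      rw [hQ, hP.natDegree_map, hn, Polynomial.natDegree_X_sub_C] at h1
      omega
    obtain ⟨A', _, _, hfree, hfin, hlo, s, hs⟩ := ih A₁ Q hQm hQn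
    letI : Algebra A A' := ((algebraMap A₁ A').comp (algebraMap A A₁)).toAlgebra
    haveI : IsScalarTower A A₁ A' := IsScalarTower.of_algebraMap_eq (fun _ => rfl)
    obtain ⟨g1, g2, g3⟩ := trans_props A A₁ A' (hP.free_adjoinRoot) (hP.finite_adjoinRoot)
      (lyingOver_adjoinRoot P hP (by omega)) hfree hfin hlo
    refine ⟨A', inferInstance, inferInstance, g1, g2, g3, algebraMap A₁ A' r ::ₘ s, ?_⟩
    have h1 : P.map (algebraMap A A') = (P.map (AdjoinRoot.of P)).map (algebraMap A₁ A') := by
      rw [Polynomial.map_map]; rfl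
    rw [h1, ← hQ, Polynomial.map_mul, hs, Multiset.map_cons, Multiset.prod_cons]
    simp

theorem exists_split_list {A : Type u} [CommRing A] (l : List A[X]) (hl : ∀ P ∈ l, P.Monic) :
    ∃ (A' : Type u) (_ : CommRing A') (_ : Algebra A A'), Module.Free A A' ∧ Module.Finite A A' ∧
      LyingOver A A' ∧ ∀ P ∈ l,
      ∃ s : Multiset A', P.map (algebraMap A A') = (s.map fun a => X - Polynomial.C a).prod := by
  induction l with
  | nil =>
    exact ⟨A, inferInstance, inferInstance, inferInstance, inferInstance, lyingOver_self A,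
      by simp⟩
  | cons P l ih =>
    obtain ⟨A₁, _, _, hfree, hfin, hlo, hsp⟩ := ih (fun P hP => hl P (List.mem_cons_of_mem _ hP))
    have hPm : (P.map (algebraMap A A₁)).Monic := (hl P List.mem_cons_self).map _
    obtain ⟨A', _, _, hfree', hfin', hlo', s, hs⟩ :=
      exists_split_one _ A₁ (P.map (algebraMap A A₁)) hPm rfl
    letI : Algebra A A' := ((algebraMap A₁ A').comp (algebraMap A A₁)).toAlgebra
    haveI : IsScalarTower A A₁ A' := IsScalarTower.of_algebraMap_eq (fun _ => rfl)
    obtain ⟨g1, g2, g3⟩ := trans_props A A₁ A' hfree hfin hlo hfree' hfin' hlo'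
    refine ⟨A', inferInstance, inferInstance, g1, g2, g3, ?_⟩
    intro P' hP'
    have hmap : ∀ Q : A[X], Q.map (algebraMap A A') = (Q.map (algebraMap A A₁)).map
        (algebraMap A₁ A') := by
      intro Q; rw [Polynomial.map_map]; rfl
    rcases List.mem_cons.mp hP' with rfl | hP'
    · exact ⟨s, by rw [hmap, hs]⟩
    · obtain ⟨s', hs'⟩ := hsp P' hP'
      refine ⟨s'.map (algebraMap A₁ A'), ?_⟩
      rw [hmap, hs', Polynomial.map_multiset_prod, Multiset.map_map, Multiset.map_map]
      congr 1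
      apply Multiset.map_congr rfl
      intro a _
      simp

end Groth.Agent.H73.SplitTower
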