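import Groth.Agent.H73.SplitTower2

set_option autoImplicit false
universe u

open Polynomial

namespace Groth.Agent.H73.SplitTower

theorem exists_split_generators (A B : Type u) [CommRing A] [CommRing B] [Algebra A B]
    [Module.Finite A B] :
    ∃ (A' : Type u) (_ : CommRing A') (_ : Algebra A A'), Module.Free A A' ∧ Module.Finite A A' ∧
      LyingOver A A' ∧
      ∃ t : Finset B, Submodule.span A (t : Set B) = ⊤ ∧ ∀ b ∈ t, ∃ P : A[X], P.Monic ∧
        aeval b P = 0 ∧
        ∃ s : Multiset A', P.map (algebraMap A A') = (s.map fun a => X - Polynomial.C a).prod := by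
  obtain ⟨t, ht⟩ := (Module.Finite.fg_top (R := A) (M := B))
  haveI : Algebra.IsIntegral A B := Algebra.IsIntegral.of_finite A B
  have hint : ∀ b : B, ∃ P : A[X], P.Monic ∧ aeval b P = 0 := fun b =>
    Algebra.IsIntegral.isIntegral (R := A) b
  choose P hPm hP0 using hint
  obtain ⟨A', _, _, hfree, hfin, hlo, hsp⟩ := exists_split_list (t.toList.map P) (by
    intro Q hQ
    obtain ⟨b, -, rfl⟩ := List.mem_map.mp hQ
    exact hPm b)
  refine ⟨A', inferInstance, inferInstance, hfree, hfin, hlo, t, ht, ?_⟩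
  intro b hb
  exact ⟨P b, hPm b, hP0 b, hsp (P b) (List.mem_map.mpr ⟨b, Finset.mem_toList.mpr hb, rfl⟩)⟩

theorem exists_tower_of_split {A A' B : Type u} [CommRing A] [CommRing A'] [CommRing B]
    [Algebra A A'] [Algebra A B]
    (t : Finset B) (ht : Submodule.span A (t : Set B) = ⊤)
    (hsplit : ∀ b ∈ t, ∃ P : A[X], P.Monic ∧ aeval b P = 0 ∧
        ∃ s : Multiset A', P.map (algebraMap A A') = (s.map fun a => X - Polynomial.C a).prod)
    (D : Type u) [CommRing D] [Algebra A' D] [Algebra A D] [IsScalarTower A A' D] (ψ : B →ₐ[A] D)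
    (hspan : Submodule.span A' (Set.range ψ) = ⊤) :
    ∃ (E : Type u) (_ : CommRing E) (_ : Algebra A' E) (φ : E →ₐ[A'] D) (S : Set (E →ₐ[A'] A')),
      Module.Free A' E ∧ Module.Finite A' E ∧ S.Finite ∧ Covers S ∧ Function.Surjective φ := by
  classical
  let l : List (A'[X] × D) := t.attach.toList.map
    (fun b => ((hsplit b.1 b.2).choose.map (algebraMap A A'), ψ b.1))
  have hl : ∀ p ∈ l, p.1.Monic ∧
      (∃ s : Multiset A', p.1 = (s.map fun a => X - Polynomial.C a).prod) ∧ aeval p.2 p.1 = 0 := by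
    intro p hp
    obtain ⟨b, -, rfl⟩ := List.mem_map.mp hp
    obtain ⟨h1, h2, h3⟩ := (hsplit b.1 b.2).choose_spec
    refine ⟨h1.map _, h3, ?_⟩
    show aeval (ψ b.1) ((hsplit b.1 b.2).choose.map (algebraMap A A')) = 0
    rw [Polynomial.aeval_map_algebraMap, Polynomial.aeval_algHom_apply, h2, map_zero]
  obtain ⟨E, _, _, φ, S, hfree, hfin, hS, hcov, hr⟩ := tower l hl
  refine ⟨E, inferInstance, inferInstance, φ, S, hfree, hfin, hS, hcov, ?_⟩
  have hψt : ∀ b ∈ t, ψ b ∈ φ.range := by
    intro b hb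
    exact hr (_, ψ b) (List.mem_map.mpr ⟨⟨b, hb⟩, by simp, rfl⟩)
  have hψ : ∀ x : B, ψ x ∈ φ.range := by
    intro x
    have hx : x ∈ Submodule.span A (t : Set B) := by rw [ht]; trivial
    induction hx using Submodule.span_induction with
    | mem y hy => exact hψt y hy
    | zero => rw [map_zero]; exact zero_mem _
    | add y z _ _ hy hz => rw [map_add]; exact add_mem hy hz
    | smul a y _ hy =>
      rw [map_smul, ← algebraMap_smul A' a (ψ y)]
      exact Subalgebra.smul_mem _ hy _
  have htop : (⊤ : Submodule A' D) ≤ Subalgebra.toSubmodule φ.range := by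
    rw [← hspan, Submodule.span_le]
    rintro _ ⟨x, rfl⟩
    exact hψ x
  intro d
  have : d ∈ Subalgebra.toSubmodule φ.range := htop trivial
  exact this

end Groth.Agent.H73.SplitTower
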