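import Groth.Prelude.Def_W4c2submetdescSubtr
import Mathlib.AlgebraicGeometry.ValuativeCriterion
import Mathlib.RingTheory.Valuation.LocalSubring

set_option autoImplicit false
universe u

open CategoryTheory CategoryTheory.Limits AlgebraicGeometry IsLocalRing

namespace Groth.Agent.H73

/-- A specialization `y' ⤳ y` in a scheme is realised by a morphism from the spectrum of a valuation
ring: there are points `η ⤳ c` of `Spec V` mapping to `y'` and `y`. -/
theorem exists_valuationRing_of_specializes {Y : Scheme.{u}} {y y' : Y} (h : y' ⤳ y) :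
    ∃ (V : Type u) (_ : CommRing V) (_ : IsDomain V) (_ : ValuationRing V)
      (g : Spec (CommRingCat.of V) ⟶ Y) (η c : Spec (CommRingCat.of V)),
      η ⤳ c ∧ g η = y' ∧ g c = y := by
  let φ : Y.presheaf.stalk y ⟶ Y.residueField y' :=
    Y.presheaf.stalkSpecializes h ≫ Y.residue y'
  obtain ⟨A, hA, hA_local⟩ := exists_factor_valuationRing φ.hom
  let ψ : Y.presheaf.stalk y ⟶ CommRingCat.of A :=
    CommRingCat.ofHom (φ.hom.codRestrict _ hA)
  let ι : CommRingCat.of A ⟶ Y.residueField y' :=
    CommRingCat.ofHom (algebraMap A (Y.residueField y'))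
  have hw : ψ ≫ ι = φ := rfl
  let g : Spec (CommRingCat.of A) ⟶ Y := Spec.map ψ ≫ Y.fromSpecStalk y
  have hg : Spec.map ι ≫ g = Y.fromSpecResidueField y' := by
    simp only [g]
    rw [← Category.assoc, ← Spec.map_comp, hw]
    simp only [φ]
    rw [Spec.map_comp, Category.assoc, Scheme.SpecMap_stalkSpecializes_fromSpecStalk h]
    rfl
  let p : Spec (Y.residueField y') := closedPoint (Y.residueField y')
  refine ⟨A, inferInstance, inferInstance, inferInstance, g, Spec.map ι p, closedPoint A,
    specializes_closedPoint _, ?_, ?_⟩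
  · rw [← Scheme.Hom.comp_apply, hg, Scheme.fromSpecResidueField_apply]
  · have : Spec.map ψ (closedPoint A) = closedPoint (Y.presheaf.stalk y) :=
      comap_closedPoint (S := A) (φ.hom.codRestrict A.toSubring hA)
    simp only [g, Scheme.Hom.comp_base, TopCat.coe_comp, Function.comp_apply]
    rw [this, Y.fromSpecStalk_closedPoint]

/-- S-subtrusive morphisms are surjective. -/
theorem IsSSubtrusive.surjective {X Y : Scheme.{u}} {f : X ⟶ Y} (hf : Subtr.IsSSubtrusive f) :
    Function.Surjective f := by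
  intro y
  obtain ⟨x, _, _, hx, _⟩ := hf (specializes_rfl (x := y))
  exact ⟨x, hx⟩

/-- If all base changes to spectra of valuation rings are S-subtrusive, so is every base change. -/
theorem univSSubtrusive_of_valuationRing {X Y : Scheme.{u}} (f : X ⟶ Y)
    (H : ∀ (V : Type u) [CommRing V] [IsDomain V] [ValuationRing V]
      (g : Spec (CommRingCat.of V) ⟶ Y), Subtr.IsSSubtrusive (pullback.snd f g)) :
    Subtr.UnivSSubtrusive f := by
  intro X' Y' i₁ i₂ f' hpb y y' hyy'
  obtain ⟨V, _, _, _, g, η, c, hηc, hη, hc⟩ := exists_valuationRing_of_specializes hyy'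
  obtain ⟨x, x', hxx', hx, hx'⟩ := H V (g ≫ i₂) hηc
  let l : pullback f (g ≫ i₂) ⟶ X' :=
    hpb.lift (pullback.snd f (g ≫ i₂) ≫ g) (pullback.fst f (g ≫ i₂))
      (by rw [Category.assoc, ← pullback.condition])
  have hl : l ≫ f' = pullback.snd f (g ≫ i₂) ≫ g := hpb.lift_fst _ _ _
  refine ⟨l x, l x', hxx'.map l.continuous, ?_, ?_⟩
  · rw [← Scheme.Hom.comp_apply, hl, Scheme.Hom.comp_apply, hx, hc]
  · rw [← Scheme.Hom.comp_apply, hl, Scheme.Hom.comp_apply, hx', hη]

end Groth.Agent.H73
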