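import Groth.Agent.H73.ValRingSurj
import Groth.Agent.H73.GenericFibre
import Mathlib.AlgebraicGeometry.Morphisms.UniversallyOpen
import Mathlib.AlgebraicGeometry.Morphisms.Flat
import Mathlib.AlgebraicGeometry.IdealSheaf.Subscheme
import Mathlib.AlgebraicGeometry.Morphisms.ClosedImmersion
import Mathlib.AlgebraicGeometry.PullbackCarrier
import Mathlib.AlgebraicGeometry.ResidueField

set_option autoImplicit false
universe u

open CategoryTheory CategoryTheory.Limits AlgebraicGeometry IsLocalRing

namespace Groth.Agent.H73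

/-- A ring map out of (a ring isomorphic to) a valuation ring is flat as soon as nonzero elements
act as non-zero-divisors on some ring into which the target injects. -/
theorem ringHom_flat_of_valuationRing {A B C V : Type u} [CommRing A] [CommRing B] [CommRing C]
    [CommRing V] [IsDomain V] [ValuationRing V] (e : A ≃+* V) (φ : A →+* B) (ψ : B →+* C)
    (hψ : Function.Injective ψ)
    (hreg : ∀ a : A, a ≠ 0 → ∀ c : C, ψ (φ a) * c = 0 → c = 0) : φ.Flat := by
  have : IsDomain A := MulEquiv.isDomain V e.toMulEquiv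
  have : ValuationRing A :=
    Function.Surjective.valuationRing (R := V) e.symm.toRingHom e.symm.surjective
  let _ : Algebra A B := φ.toAlgebra
  show Module.Flat A B
  rw [Module.Flat.flat_iff_torsion_eq_bot_of_isBezout, eq_bot_iff]
  rintro m ⟨⟨r, hr⟩, h⟩
  have hr0 : r ≠ 0 := nonZeroDivisors.ne_zero hr
  have h' : φ r * m = 0 := h
  have h2 : ψ (φ r) * ψ m = 0 := by rw [← map_mul, h', map_zero]
  have h3 : ψ m = 0 := hreg r hr0 _ h2
  exact hψ (h3.trans (map_zero ψ).symm)

/-- If every point of `U` is mapped into the basic open of `s`, then the pullback of `s` to `U` is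
a unit. -/
theorem isUnit_appLE_of_forall_mem_basicOpen {Y S : Scheme.{u}} (h : Y ⟶ S) (U : Y.Opens)
    (s : Γ(S, ⊤)) (hs : ∀ y ∈ U, h y ∈ S.basicOpen s) :
    IsUnit ((h.appLE ⊤ U le_top).hom s) := by
  have h1 : Y.basicOpen ((h.appLE ⊤ U le_top).hom s) = U := by
    have := Scheme.basicOpen_appLE h U ⊤ le_top s
    rw [this]
    exact inf_eq_left.2 (fun y hy => hs y hy)
  refine RingedSpace.isUnit_of_isUnit_germ Y.toLocallyRingedSpace.toRingedSpace U _ ?_
  intro y hy
  have hy' : y ∈ Y.basicOpen ((h.appLE ⊤ U le_top).hom s) := by rw [h1]; exact hy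
  exact (Y.mem_basicOpen _ y hy).1 hy'

/-- Flat surjective morphisms are universally S-subtrusive. -/
theorem univSSubtrusive_of_flat_of_surjective {X Y : Scheme.{u}} (h : X ⟶ Y) [Flat h]
    [Surjective h] : Subtr.UnivSSubtrusive h := by
  intro X' Y' i₁ i₂ h' hpb y y' hyy'
  have hflat : Flat h' := MorphismProperty.of_isPullback (P := @Flat) hpb.flip inferInstance
  have hsurj : Surjective h' :=
    MorphismProperty.of_isPullback (P := @Surjective) hpb.flip inferInstance
  obtain ⟨x, rfl⟩ := hsurj.surj y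
  obtain ⟨x', hx'x, hx'⟩ := (Flat.generalizingMap h') hyy'
  exact ⟨x, x', hx'x, rfl, hx'⟩

/-- If `g ≫ f` is universally S-subtrusive then so is `f`. -/
theorem UnivSSubtrusive.of_comp {W X Y : Scheme.{u}} (g : W ⟶ X) (f : X ⟶ Y)
    (hgf : Subtr.UnivSSubtrusive (g ≫ f)) : Subtr.UnivSSubtrusive f := by
  intro X' Y' i₁ i₂ f' hpb y y' hyy'
  have hsnd : Subtr.IsSSubtrusive (pullback.snd (g ≫ f) i₂) :=
    hgf (pullback.fst (g ≫ f) i₂) i₂ (pullback.snd (g ≫ f) i₂)
      (IsPullback.of_hasPullback (g ≫ f) i₂).flip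
  obtain ⟨p, p', hpp', hp, hp'⟩ := hsnd hyy'
  let l : pullback (g ≫ f) i₂ ⟶ X' :=
    hpb.lift (pullback.snd (g ≫ f) i₂) (pullback.fst (g ≫ f) i₂ ≫ g)
      (by rw [Category.assoc, pullback.condition])
  have hl : l ≫ f' = pullback.snd (g ≫ f) i₂ := hpb.lift_fst _ _ _
  refine ⟨l p, l p', hpp'.map l.continuous, ?_, ?_⟩
  · rw [← Scheme.Hom.comp_apply, hl, hp]
  · rw [← Scheme.Hom.comp_apply, hl, hp']

/-- A morphism between spectra of valuation rings hitting the generic and the closed point is
surjective. -/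
theorem surjective_of_generic_closed {V W : Type u} [CommRing V] [IsDomain V] [ValuationRing V]
    [CommRing W] [IsDomain W] [ValuationRing W]
    (b : Spec (CommRingCat.of W) ⟶ Spec (CommRingCat.of V)) (η' c' : Spec (CommRingCat.of W))
    (hbη : b η' = (⟨⊥, Ideal.isPrime_bot⟩ : PrimeSpectrum V)) (hbc : b c' = closedPoint V) :
    Surjective b := by
  let c : Spec (CommRingCat.of V) := closedPoint V
  let φ : CommRingCat.of V ⟶ CommRingCat.of W := Spec.preimage b
  have hφ : Spec.map φ = b := Spec.map_preimage b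
  have hbcl : b (closedPoint W : PrimeSpectrum W) = c := by
    have h1 : c' ⤳ (closedPoint W : PrimeSpectrum W) := specializes_closedPoint (R := W) c'
    have h2 : b c' ⤳ b (closedPoint W : PrimeSpectrum W) := h1.map b.continuous
    rw [hbc] at h2
    have h3 : IsClosed ({c} : Set (Spec (CommRingCat.of V))) :=
      isClosed_singleton_closedPoint (R := V)
    exact h2.mem_closed h3 rfl
  have hcomap : ∀ z : PrimeSpectrum W, b z = PrimeSpectrum.comap φ.hom z := by
    intro z
    rw [← hφ]
    rfl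
  have hinj : Function.Injective φ.hom := by
    rw [injective_iff_map_eq_zero]
    intro v hv
    have h1 : v ∈ (PrimeSpectrum.comap φ.hom η').asIdeal := by
      show φ.hom v ∈ η'.asIdeal
      rw [hv]; exact zero_mem _
    rw [← hcomap η', hbη] at h1
    exact h1
  have hloc : IsLocalHom φ.hom := by
    rw [isLocalHom_iff_comap_closedPoint, ← hcomap]
    exact hbcl
  have hsurj := comap_surjective_of_valuationRing φ.hom hinj hloc
  constructor
  intro y
  obtain ⟨z, hz⟩ := hsurj y
  exact ⟨z, (hcomap z).trans hz⟩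

/-- If the spectrum of a valuation ring maps to `X` with surjective composite to `Spec V`, then
`X ⟶ Spec V` is universally S-subtrusive. -/
theorem univSSubtrusive_of_valuationRing_surjective {V W : Type u} [CommRing V] [IsDomain V]
    [ValuationRing V] [CommRing W] [IsDomain W] [ValuationRing W] {X : Scheme.{u}}
    (f : X ⟶ Spec (CommRingCat.of V)) (g : Spec (CommRingCat.of W) ⟶ X)
    (hs : Surjective (g ≫ f)) : Subtr.UnivSSubtrusive f := by
  apply UnivSSubtrusive.of_comp g f
  let φ : CommRingCat.of V ⟶ CommRingCat.of W := Spec.preimage (g ≫ f)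
  have hφ : Spec.map φ = g ≫ f := Spec.map_preimage (g ≫ f)
  obtain ⟨z, hz⟩ := hs.surj (⟨⊥, Ideal.isPrime_bot⟩ : PrimeSpectrum V)
  have hinj : Function.Injective φ.hom := by
    rw [injective_iff_map_eq_zero]
    intro v hv
    have h1 : v ∈ (PrimeSpectrum.comap φ.hom z).asIdeal := by
      show φ.hom v ∈ z.asIdeal
      rw [hv]; exact zero_mem _
    have h2 : PrimeSpectrum.comap φ.hom z = (g ≫ f) z := by rw [← hφ]; rfl
    rw [h2, hz] at h1
    exact h1
  have hflat : Flat (g ≫ f) := by
    rw [← hφ, HasRingHomProperty.Spec_iff (P := @Flat)]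
    refine ringHom_flat_of_valuationRing (RingEquiv.refl V) φ.hom (RingHom.id W)
      (fun _ _ h => h) (fun a ha c hc => ?_)
    have h1 : φ.hom a ≠ 0 := fun h0 => ha (hinj (h0.trans (map_zero _).symm))
    rcases mul_eq_zero.1 hc with h2 | h2
    · exact absurd h2 h1
    · exact h2
  exact univSSubtrusive_of_flat_of_surjective (g ≫ f)

/-- Given a specialization `x' ⤳ x` in `X` lying over the generic point and the closed point of
`Spec V`, the scheme-theoretic closure of `x'` is flat and surjective over `Spec V`. -/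
theorem exists_closed_flat_surjective {V : Type u} [CommRing V] [IsDomain V] [ValuationRing V]
    {X : Scheme.{u}} (f : X ⟶ Spec (CommRingCat.of V)) {x x' : X} (hxx' : x' ⤳ x)
    (hx : f x = closedPoint V) (hx' : f x' = (⟨⊥, Ideal.isPrime_bot⟩ : PrimeSpectrum V)) :
    ∃ (Z : Scheme.{u}) (i : Z ⟶ X), IsClosedImmersion i ∧ Flat (i ≫ f) ∧ Surjective (i ≫ f) := by
  let f₀ : Spec (X.residueField x') ⟶ X := X.fromSpecResidueField x'
  have : QuasiCompact f₀ := ⟨fun U _ _ => (Set.toFinite _).isCompact⟩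
  have hflat : Flat (f₀.imageι ≫ f) := by
    let U : X.affineOpens → f₀.image.affineOpens :=
      fun W => ⟨f₀.imageι ⁻¹ᵁ W.1, W.2.preimage f₀.imageι⟩
    have hU : ⨆ W, (U W : f₀.image.Opens) = ⊤ := by
      have h1 : (⨆ W, (U W : f₀.image.Opens)) =
          f₀.imageι ⁻¹ᵁ (⨆ W : X.affineOpens, (W : X.Opens)) :=
        (Scheme.Hom.preimage_iSup f₀.imageι _).symm
      rw [h1, iSup_affineOpens_eq_top]
      rfl
    refine HasRingHomProperty.of_iSup_eq_top (P := @Flat) U hU (fun W => ?_)
    let e : Γ(Spec (CommRingCat.of V), ⊤) ≃+* V :=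
      (Scheme.ΓSpecIso (CommRingCat.of V)).commRingCatIsoToRingEquiv
    refine ringHom_flat_of_valuationRing e _ (f₀.toImage.app (f₀.imageι ⁻¹ᵁ W.1)).hom
      (f₀.toImage_app_injective W) (fun a ha c hc => ?_)
    have key : (f₀.toImage.app (f₀.imageι ⁻¹ᵁ W.1)).hom
        (((f₀.imageι ≫ f).appLE ⊤ (U W).1 le_top).hom a) =
        ((f₀.toImage ≫ f₀.imageι ≫ f).appLE ⊤ (f₀.toImage ⁻¹ᵁ (f₀.imageι ⁻¹ᵁ W.1)) le_top).hom a := by
      rw [Scheme.Hom.app_eq_appLE,
        ← Scheme.Hom.appLE_comp_appLE f₀.toImage (f₀.imageι ≫ f) ⊤ (f₀.imageι ⁻¹ᵁ W.1) _ le_top le_rfl]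
      rfl
    rw [key] at hc
    refine (IsUnit.mul_right_eq_zero ?_).1 hc
    apply isUnit_appLE_of_forall_mem_basicOpen
    intro y _
    have hy : (f₀.toImage ≫ f₀.imageι ≫ f) y = f x' := by
      rw [Scheme.Hom.toImage_imageι_assoc, Scheme.Hom.comp_apply, Scheme.fromSpecResidueField_apply]
    rw [hy, hx', basicOpen_eq_of_affine']
    show (Scheme.ΓSpecIso (CommRingCat.of V)).hom.hom a ∉ (⊥ : Ideal V)
    intro h0
    exact ha (e.injective (h0.trans (map_zero e).symm))
  have hsurj : Surjective (f₀.imageι ≫ f) := by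
    have hgen : GeneralizingMap (f₀.imageι ≫ f) := Flat.generalizingMap _
    have hxr : x ∈ Set.range f₀.imageι := by
      rw [Scheme.IdealSheafData.range_subschemeι, Scheme.Hom.support_ker,
        Scheme.range_fromSpecResidueField]
      exact specializes_iff_mem_closure.1 hxx'
    obtain ⟨z, hz⟩ := hxr
    constructor
    intro y
    have hy : y ⤳ (f₀.imageι ≫ f) z := by
      rw [Scheme.Hom.comp_apply, hz, hx]
      exact specializes_closedPoint (R := V) y
    obtain ⟨z', _, hz'⟩ := hgen hy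
    exact ⟨z', hz'⟩
  exact ⟨f₀.image, f₀.imageι, inferInstance, hflat, hsurj⟩

end Groth.Agent.H73
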