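import Mathlib
import Groth.Prelude

set_option autoImplicit false
universe u
open CategoryTheory CategoryTheory.Limits AlgebraicGeometry

namespace Groth.Agent.H73.SurfBC_NC1

/-- In a quasi-sober space of Krull dimension one there are two distinct points, one specializing
to the other. -/
theorem exists_specializes_ne {T : Type*} [TopologicalSpace T] [QuasiSober T]
    (hdim : topologicalKrullDim T = 1) : ∃ x₀ x₁ : T, x₁ ⤳ x₀ ∧ x₁ ≠ x₀ := by
  have h1 : (1 : WithBot ℕ∞) ≤ Order.krullDim (TopologicalSpace.IrreducibleCloseds T) := by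
    have := hdim
    unfold topologicalKrullDim at this
    rw [this]
  obtain ⟨Z₀, Z₁, hlt⟩ := Order.one_le_krullDim_iff.1 h1
  have g₀ := Z₀.isIrreducible.isGenericPoint_genericPoint Z₀.isClosed
  have g₁ := Z₁.isIrreducible.isGenericPoint_genericPoint Z₁.isClosed
  refine ⟨Z₀.isIrreducible.genericPoint, Z₁.isIrreducible.genericPoint, ?_, ?_⟩
  · rw [specializes_iff_mem_closure, g₁.def]
    have hle : (Z₀ : Set T) ⊆ Z₁ := hlt.le
    apply hle
    have : Z₀.isIrreducible.genericPoint ∈ closure {Z₀.isIrreducible.genericPoint} :=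
      subset_closure rfl
    rw [g₀.def] at this
    exact this
  · intro h
    have h2 : (Z₁ : Set T) = Z₀ := by rw [← g₀.def, ← g₁.def, h]
    have : Z₁ = Z₀ := TopologicalSpace.IrreducibleCloseds.ext h2
    exact (ne_of_lt hlt) this.symm

/-- (NC1) -/
theorem range_nontrivial_of_surjective {X C : Scheme.{u}} [IsIntegral C] (hdim : topologicalKrullDim C = 1) (f : X ⟶ C) [Surjective f] : (Set.range f.base).Nontrivial := by
  have hr : Set.range f.base = Set.univ := Set.range_eq_univ.2 f.surjective
  rw [hr]
  obtain ⟨x₀, x₁, -, hne⟩ := exists_specializes_ne hdim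
  exact ⟨x₁, Set.mem_univ _, x₀, Set.mem_univ _, hne⟩

end Groth.Agent.H73.SurfBC_NC1
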