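import Mathlib
import Groth.Prelude
import Groth.Agent.H73.SurfBC_NC1

set_option autoImplicit false
universe u
open CategoryTheory CategoryTheory.Limits AlgebraicGeometry

namespace Groth.Agent.H73.SurfBC_NC2

/-- A locally quasi-finite morphism identifies no two distinct points related by specialization. -/
theorem ne_of_specializes_of_ne {X Y : Scheme.{u}} (ψ : X ⟶ Y) [LocallyQuasiFinite ψ]
    {x₀ x₁ : X} (hsp : x₁ ⤳ x₀) (hne : x₁ ≠ x₀) : ψ.base x₀ ≠ ψ.base x₁ := by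
  intro heq
  have hd := ψ.isDiscrete_preimage_singleton (ψ.base x₀)
  obtain ⟨u, hu, hux⟩ := isDiscrete_iff_forall_mem_exists_isOpen.1 hd x₀ rfl
  have h0 : x₀ ∈ u ∩ ψ ⁻¹' {ψ.base x₀} := by rw [hux]; rfl
  have h1 : x₁ ∈ u ∩ ψ ⁻¹' {ψ.base x₀} := ⟨hsp.mem_open hu h0.1, heq.symm⟩
  rw [hux] at h1
  exact hne h1

/-- (NC2) -/
theorem range_nontrivial_of_isFinite {C' C : Scheme.{u}} [IsIntegral C'] (hdim : topologicalKrullDim C' = 1) (ψ : C' ⟶ C) [IsFinite ψ] : (Set.range ψ.base).Nontrivial := by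
  obtain ⟨x₀, x₁, hsp, hne⟩ := Groth.Agent.H73.SurfBC_NC1.exists_specializes_ne hdim
  exact ⟨ψ.base x₀, ⟨x₀, rfl⟩, ψ.base x₁, ⟨x₁, rfl⟩, ne_of_specializes_of_ne ψ hsp hne⟩

end Groth.Agent.H73.SurfBC_NC2
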