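import Mathlib
import Groth.Prelude.Def_EtRam
import Groth.Agent.H10.UnramExt
import Groth.Agent.H73.NagataResidue

set_option autoImplicit false
set_option linter.style.haveILetI false
universe u
open CategoryTheory CategoryTheory.Limits AlgebraicGeometry TopologicalSpace IsLocalRing

namespace Groth.Agent.H73.TameProper

/-- A morphism from the spectrum of a local ring lands in any open containing the image of the
closed point. -/
theorem apply_mem_of_closedPoint_mem {R : Type u} [CommRing R] [IsLocalRing R] {X : Scheme.{u}}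
    (l : Spec (CommRingCat.of R) ⟶ X) (U : X.Opens) (h : l.base (closedPoint R) ∈ U)
    (p : Spec (CommRingCat.of R)) : l.base p ∈ U := by
  have h1 : p ⤳ closedPoint R := IsLocalRing.specializes_closedPoint p
  exact (h1.map l.continuous).mem_open U.2 h

/-- A morphism from the spectrum of a local ring factors through any affine open containing the
image of the closed point. -/
theorem exists_factor_affine {R : Type u} [CommRing R] [IsLocalRing R] {X : Scheme.{u}}
    (l : Spec (CommRingCat.of R) ⟶ X) {U : X.Opens} (hU : IsAffineOpen U)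
    (h : l.base (closedPoint R) ∈ U) :
    ∃ φ : Γ(X, U) ⟶ CommRingCat.of R, Spec.map φ ≫ hU.fromSpec = l := by
  have hr : Set.range l.base ⊆ Set.range hU.fromSpec.base := by
    rw [hU.range_fromSpec]
    rintro _ ⟨p, rfl⟩
    exact apply_mem_of_closedPoint_mem l U h p
  refine ⟨Spec.preimage (IsOpenImmersion.lift hU.fromSpec l hr), ?_⟩
  rw [Spec.map_preimage, IsOpenImmersion.lift_fac]

/-- Existence part of the valuative criterion for universally closed morphisms. -/
theorem existence_of_universallyClosed {X S : Scheme.{u}} (f : X ⟶ S) [UniversallyClosed f] :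
    ValuativeCriterion.Existence f := by
  have h2 : (ValuativeCriterion.Existence ⊓ @QuasiCompact) f := by
    rw [← UniversallyClosed.eq_valuativeCriterion]
    infer_instance
  exact h2.1

theorem isUnramifiedExt_of_lift
    {X Y : Scheme.{u}} (f : Y ⟶ X) [IsFinite f] [Etale f] (y : Y)
    (A : ValuationSubring (X.residueField (f.base y))) [IsDiscreteValuationRing A]
    (l : Spec (CommRingCat.of A) ⟶ X)
    (hl : Spec.map (CommRingCat.ofHom A.subtype) ≫ l = X.fromSpecResidueField (f.base y)) :
    EtRam.IsUnramifiedExt A ((f.residueFieldMap y).hom.comp A.subtype) := by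
  intro V hV
  letI algAV : Algebra A V :=
    (RingHom.codRestrict ((f.residueFieldMap y).hom.comp A.subtype) V hV.1).toAlgebra
  intro hloc
  obtain ⟨ψ, hψ⟩ : ∃ ψ : A →+* V, ψ = algebraMap A V := ⟨_, rfl⟩
  have hE := existence_of_universallyClosed f
  have hcomm : Y.fromSpecResidueField y ≫ f =
      Spec.map (CommRingCat.ofHom (algebraMap V (Y.residueField y))) ≫
        (Spec.map (CommRingCat.ofHom ψ) ≫ l) := by
    rw [← Scheme.Hom.SpecMap_residueFieldMap_fromSpecResidueField, ← hl, ← Spec.map_comp_assoc,
      ← Spec.map_comp_assoc, hψ]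
    rfl
  obtain ⟨lam, hlam₁, hlam₂⟩ : ∃ lam : Spec (CommRingCat.of V) ⟶ Y,
      Spec.map (CommRingCat.ofHom (algebraMap V (Y.residueField y))) ≫ lam =
        Y.fromSpecResidueField y ∧ lam ≫ f = Spec.map (CommRingCat.ofHom ψ) ≫ l := by
    let Sq : ValuativeCommSq f :=
      { R := V
        K := Y.residueField y
        i₁ := Y.fromSpecResidueField y
        i₂ := Spec.map (CommRingCat.ofHom ψ) ≫ l
        commSq := ⟨hcomm⟩ }
    obtain ⟨lam, h1, h2⟩ := (hE Sq).exists_lift
    exact ⟨lam, h1, h2⟩
  -- affine opens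
  obtain ⟨_, ⟨U, hU, rfl⟩, hxU, -⟩ := X.isBasis_affineOpens.exists_subset_of_mem_open
    (Set.mem_univ (l.base (closedPoint A))) isOpen_univ
  replace hU : IsAffineOpen U := hU
  have hlU : ∀ p, l.base p ∈ U := apply_mem_of_closedPoint_mem l U hxU
  have hy'U : lam.base (closedPoint V) ∈ f ⁻¹ᵁ U := by
    have h1 : f.base (lam.base (closedPoint V)) =
        l.base ((Spec.map (CommRingCat.ofHom ψ)).base (closedPoint V)) :=
      congrArg (fun g : Spec (CommRingCat.of V) ⟶ X => g.base (closedPoint V)) hlam₂
    show f.base (lam.base (closedPoint V)) ∈ U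
    rw [h1]
    exact hlU _
  obtain ⟨_, ⟨W', hW', rfl⟩, hyW', hW'U⟩ := Y.isBasis_affineOpens.exists_subset_of_mem_open
    hy'U (f ⁻¹ᵁ U).2
  replace hW' : IsAffineOpen W' := hW'
  have hlamW : ∀ p, lam.base p ∈ W' := apply_mem_of_closedPoint_mem lam W' hyW'
  have hyW : y ∈ W' := by
    obtain ⟨p⟩ : Nonempty ↥(Spec (Y.residueField y)) := ⟨closedPoint (Y.residueField y)⟩
    have h1 := hlamW ((Spec.map (CommRingCat.ofHom (algebraMap V (Y.residueField y)))).base p)
    have h2 : lam.base ((Spec.map (CommRingCat.ofHom (algebraMap V (Y.residueField y)))).base p) =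
        (Y.fromSpecResidueField y).base p :=
      congrArg (fun g : Spec (Y.residueField y) ⟶ Y => g.base p) hlam₁
    have h3 : (Y.fromSpecResidueField y).base p = y := Y.fromSpecResidueField_apply y p
    rw [h2, h3] at h1
    exact h1
  obtain ⟨φA, hφA⟩ := exists_factor_affine l hU hxU
  obtain ⟨φV, hφV⟩ := exists_factor_affine lam hW' hyW'
  have hcompat : f.appLE U W' hW'U ≫ φV = φA ≫ CommRingCat.ofHom ψ := by
    apply Spec.map_injective
    rw [← cancel_mono hU.fromSpec, Spec.map_comp, Spec.map_comp, Category.assoc, Category.assoc,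
      IsAffineOpen.SpecMap_appLE_fromSpec f hU hW' hW'U, reassoc_of% hφV, hφA, hlam₂]
  have heval : φV ≫ CommRingCat.ofHom (algebraMap V (Y.residueField y)) =
      Y.evaluation W' y hyW := by
    apply Spec.map_injective
    rw [← cancel_mono hW'.fromSpec, Spec.map_comp, Category.assoc, hφV, hlam₁,
      Scheme.fromSpecResidueField, ← hW'.fromSpecStalk_eq_fromSpecStalk hyW,
      IsAffineOpen.fromSpecStalk, ← Spec.map_comp_assoc]
    rfl
  -- algebra structures
  letI alg1 : Algebra Γ(X, U) Γ(Y, W') := (f.appLE U W' hW'U).hom.toAlgebra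
  letI alg2 : Algebra Γ(X, U) A := φA.hom.toAlgebra
  letI alg3 : Algebra Γ(Y, W') V := φV.hom.toAlgebra
  letI alg4 : Algebra Γ(X, U) V := (ψ.comp φA.hom).toAlgebra
  haveI : IsScalarTower Γ(X, U) A V := IsScalarTower.of_algebraMap_eq (fun r => by
    show ψ (φA.hom r) = algebraMap A V (φA.hom r)
    rw [hψ])
  haveI : IsScalarTower Γ(X, U) Γ(Y, W') V := IsScalarTower.of_algebraMap_eq (fun r => by
    have := congrArg (fun g => g.hom r) hcompat
    exact this.symm)
  have het : (f.appLE U W' hW'U).hom.Etale := f.etale_appLE hU hW' hW'U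
  haveI : Algebra.FormallyUnramified Γ(X, U) Γ(Y, W') := het.formallyUnramified
  haveI : Algebra.EssFiniteType Γ(X, U) Γ(Y, W') := by
    haveI : Algebra.FinitePresentation Γ(X, U) Γ(Y, W') := het.finitePresentation
    infer_instance
  have hgen : ∀ z : Y.residueField y, z ∈ Subfield.closure
      (Set.range ((algebraMap V (Y.residueField y)).comp (algebraMap A V)) ∪
        Set.range ((algebraMap V (Y.residueField y)).comp (algebraMap Γ(Y, W') V))) := by
    intro z
    obtain ⟨a, b, hb, hab⟩ := Groth.Agent.H73.NagataFin.exists_evaluation_fraction hW' y hyW z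
    have hmem : ∀ c : Γ(Y, W'), (Y.evaluation W' y hyW).hom c ∈ Subfield.closure
        (Set.range ((algebraMap V (Y.residueField y)).comp (algebraMap A V)) ∪
          Set.range ((algebraMap V (Y.residueField y)).comp (algebraMap Γ(Y, W') V))) := by
      intro c
      refine Subfield.subset_closure (Or.inr ⟨c, ?_⟩)
      have := congrArg (fun g => g.hom c) heval
      exact this
    have hz : z = (Y.evaluation W' y hyW).hom a / (Y.evaluation W' y hyW).hom b := by
      rw [eq_div_iff hb]; exact hab
    rw [hz]
    exact div_mem (hmem a) (hmem b)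
  obtain ⟨hfu, hess⟩ := Groth.Agent.H10.UnramExt.key Γ(X, U) Γ(Y, W') V (Y.residueField y) hgen
  haveI := hfu
  haveI := hess
  obtain ⟨h1, h2⟩ := Algebra.FormallyUnramified.iff_map_maximalIdeal_eq (R := A) (S := V) |>.mp hfu
  exact ⟨h2, h1⟩

/-- An unramified extension (with respect to a DVR `A`) is tamely ramified. -/
theorem isTamelyRamified_of_isUnramifiedExt (A : Type u) [CommRing A] [IsDomain A]
    [IsDiscreteValuationRing A] {L : Type u} [Field L] (g : A →+* L)
    (hg : Function.Injective g) (h : EtRam.IsUnramifiedExt A g) : EtRam.IsTamelyRamified A g := by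
  intro V hV
  letI algAV : Algebra A V := (RingHom.codRestrict g V hV.1).toAlgebra
  intro hloc
  obtain ⟨hwu, hsep⟩ := h V hV
  refine ⟨hsep, fun p hp _ => ?_⟩
  obtain ⟨π, hπ⟩ := IsDiscreteValuationRing.exists_irreducible A
  have hmap : (maximalIdeal A).map (algebraMap A V) = Ideal.span {algebraMap A V π} := by
    rw [hπ.maximalIdeal_eq, Ideal.map_span, Set.image_singleton]
  have hmV : maximalIdeal V = Ideal.span {algebraMap A V π} := by
    rw [← hmap]; exact hwu.symm
  have hπ0 : algebraMap A V π ≠ 0 := by
    intro h0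
    have h1 : g π = 0 := congrArg (fun v : V => (v : L)) h0
    exact hπ.ne_zero (hg (by rw [h1, map_zero]))
  have hπnu : ¬ IsUnit (algebraMap A V π) := by
    have : algebraMap A V π ∈ maximalIdeal V := by
      rw [hmV]; exact Ideal.mem_span_singleton_self _
    exact (mem_maximalIdeal _).mp this
  have he : Ideal.ramificationIdx' (maximalIdeal A) (maximalIdeal V) = 1 := by
    apply Ideal.ramificationIdx'_spec
    · rw [pow_one]; exact hwu.le
    · rw [hmap, hmV, Ideal.span_singleton_pow, Ideal.span_singleton_le_span_singleton]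
      rintro ⟨c, hc⟩
      have h2 : algebraMap A V π * (1 - algebraMap A V π * c) = 0 := by
        rw [mul_sub, mul_one, ← mul_assoc, ← pow_two, ← hc, sub_self]
      rcases mul_eq_zero.mp h2 with h3 | h3
      · exact hπ0 h3
      · exact hπnu (IsUnit.of_mul_eq_one c (sub_eq_zero.mp h3).symm)
  rw [he]
  exact hp.one_lt.ne' ∘ Nat.dvd_one.mp

end Groth.Agent.H73.TameProper
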