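import Mathlib
import Groth.Agent.H70.UnramUnibranchScheme
import Groth.Agent.H70.UnramUnibranchIrr
import Groth.Agent.H70.LocDomain
import Groth.Agent.H73.IntNbhd
import Groth.Agent.S2754
import Groth.Agent.S5049
import Groth.Agent.S5048
import Groth.Agent.S5067
import Groth.Agent.H51.Reduced

/-!
# Rational sections of unramified morphisms at geometrically unibranch points (EGA IV 18.10.x)
-/

set_option autoImplicit false
set_option linter.style.haveILetI false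
universe u

open AlgebraicGeometry CategoryTheory TopologicalSpace

namespace Groth.Agent.H73.UnramSection

open Groth.Agent.H48 Groth.Agent.H70.UnramUnibranchScheme

variable {X Y : Scheme.{u}}

/-- In-place version of `etale_nhd_of_unramified`: `Y` need not be integral, only an affine open
neighbourhood `V` of `f x` with `Γ(Y, V)` a domain is needed. -/
theorem etale_nhd_of_unramified' (f : X ⟶ Y) [LocallyOfFiniteType f] (x : X)
    (V : Y.Opens) (hV : IsAffineOpen V) [IsDomain Γ(Y, V)] (hxV : f x ∈ V)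
    (hY : CAlg2.IsGeomUnibranch (Y.presheaf.stalk (f x)))
    (hsp : ∃ x' : X, x' ⤳ x ∧ f x' = hV.fromSpec ⟨⊥, Ideal.isPrime_bot⟩)
    (hunr : ∃ U : X.Opens, x ∈ U ∧ FormallyUnramified (U.ι ≫ f)) :
    ∃ U : X.Opens, x ∈ U ∧ Etale (U.ι ≫ f) := by
  obtain ⟨W, hW, hxW, hWV⟩ :=
    exists_isAffineOpen_mem_and_subset (x := x) (U := f ⁻¹ᵁ V) hxV
  have hft := f.finiteType_appLE hV hW hWV
  algebraize [(f.appLE V W hWV).hom]
  let p := (hV.primeIdealOf ⟨f x, hWV hxW⟩).asIdeal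
  let q := (hW.primeIdealOf ⟨x, hxW⟩).asIdeal
  haveI : q.LiesOver p :=
    ⟨congr($(IsAffineOpen.comap_primeIdealOf_appLE V hV W hW hWV hxW).1).symm⟩
  haveI : Algebra.IsUnramifiedAt Γ(Y, V) q :=
    (formallyUnramified_stalkMap_iff V hV W hW hWV hxW).mp
      ((unramified_nhd_iff_aux f x V hV W hW hWV hxW).mp hunr)
  letI algSt : Algebra Γ(Y, V) (Y.presheaf.stalk (f x)) :=
    TopCat.Presheaf.algebra_section_stalk Y.presheaf (⟨f x, hWV hxW⟩ : V)
  haveI : IsLocalization.AtPrime (Y.presheaf.stalk (f x)) p :=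
    hV.isLocalization_stalk ⟨f x, hWV hxW⟩
  obtain ⟨x', hx'x, hx'η⟩ := hsp
  have hx'W : x' ∈ W := hx'x.mem_open W.isOpen hxW
  let q0 := (hW.primeIdealOf ⟨x', hx'W⟩).asIdeal
  have hq0le : q0 ≤ q := by
    have h1 : (⟨x', hx'W⟩ : W) ⤳ ⟨x, hxW⟩ := (subtype_specializes_iff _ _).mpr hx'x
    have h2 : hW.primeIdealOf ⟨x', hx'W⟩ ⤳ hW.primeIdealOf ⟨x, hxW⟩ :=
      h1.map hW.isoSpec.hom.continuous
    exact (PrimeSpectrum.le_iff_specializes _ _).mpr h2
  have hq0bot : q0.comap (algebraMap Γ(Y, V) Γ(X, W)) = ⊥ := by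
    have h1 := congr($(IsAffineOpen.comap_primeIdealOf_appLE V hV W hW hWV hx'W).1)
    have hmem : hV.fromSpec ⟨⊥, Ideal.isPrime_bot⟩ ∈ V :=
      Groth.Agent.H70.LocDomain.fromSpec_mem hV _
    have h2 : hV.primeIdealOf ⟨f x', hWV hx'W⟩ =
        hV.primeIdealOf ⟨hV.fromSpec ⟨⊥, Ideal.isPrime_bot⟩, hmem⟩ := by
      congr 1
      exact Subtype.ext hx'η
    have h3 := primeIdealOf_fromSpec hV ⟨⊥, Ideal.isPrime_bot⟩ hmem
    show Ideal.comap (f.appLE V W hWV).hom q0 = ⊥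
    rw [show Ideal.comap (f.appLE V W hWV).hom q0 =
      (hV.primeIdealOf ⟨f x', hWV hx'W⟩).asIdeal from h1, h2, h3]
  obtain ⟨g, hg, het⟩ := Groth.Agent.H70.UnramUnibranch.keystone' q p
    (Y.presheaf.stalk (f x)) hY ⟨q0, inferInstance, hq0le, hq0bot⟩
  exact etale_nhd_of_away f x V hV W hW hWV hxW g hg het



/-- a nonempty open inside an integral open of a reduced scheme is integral -/
theorem isIntegral_of_le [IsReduced Y] {V Y₀ : Y.Opens} (hle : V ≤ Y₀) [IsIntegral (Y₀ : Scheme.{u})]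
    (hne : (V : Set Y).Nonempty) : IsIntegral (V : Scheme.{u}) := by
  haveI : IrreducibleSpace ↥(Y₀ : Scheme.{u}) := inferInstance
  haveI : PreirreducibleSpace ↥(Y₀ : Set Y) := inferInstanceAs (PreirreducibleSpace ↥(Y₀ : Scheme.{u}))
  have h0 : IsPreirreducible (Y₀ : Set Y) := IsPreirreducible.of_subtype (s := (Y₀ : Set Y))
  have hirr : IsIrreducible (V : Set Y) := ⟨hne, h0.open_subset V.2 hle⟩
  haveI : IrreducibleSpace ↥(V : Scheme.{u}) := Subtype.irreducibleSpace hirr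
  exact isIntegral_of_irreducibleSpace_of_isReduced _

theorem isDomain_of_isIntegral_opens {V : Y.Opens} (hV : IsAffineOpen V)
    [IsIntegral (V : Scheme.{u})] : IsDomain Γ(Y, V) := by
  haveI : IsIntegral (Spec Γ(Y, V)) := isIntegral_of_isOpenImmersion hV.isoSpec.inv
  exact (affine_isIntegral_iff _).mp inferInstance

theorem bijective_residueFieldMap_congr {A B : Scheme.{u}} (g : A ⟶ B) {w w' : A} (e : w = w')
    (h : Function.Bijective (g.residueFieldMap w).hom) :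
    Function.Bijective (g.residueFieldMap w').hom := by
  subst e
  exact h


theorem exists_section_nhd [IsReduced Y]
    (hcomp : LocallyFinite (fun Z : ↥(irreducibleComponents ↥Y) => (Z : Set ↥Y)))
    (f : X ⟶ Y) [IsSeparated f] [LocallyOfFiniteType f] [FormallyUnramified f]
    (U : Y.Opens) (hU : Dense (U : Set ↥Y)) (u : (U : Scheme.{u}) ⟶ X) (hu : u ≫ f = U.ι)
    (y : Y) (hy : CAlg2.IsGeomUnibranch (Y.presheaf.stalk y))
    (hZ : (closure (Set.range u) ∩ f ⁻¹' {y}).Nonempty) :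
    ∃ (V : Y.Opens) (v : (V : Scheme.{u}) ⟶ X), y ∈ V ∧ v ≫ f = V.ι ∧
      Y.homOfLE (inf_le_left : U ⊓ V ≤ U) ≫ u = Y.homOfLE (inf_le_right : U ⊓ V ≤ V) ≫ v := by
  obtain ⟨x, hxcl, hxy⟩ := hZ
  have hxy' : f x = y := hxy
  subst hxy'
  -- Step A: the local ring is a domain
  haveI hdom : IsDomain (Y.presheaf.stalk (f x)) := by
    haveI := hy.1.1
    have hinj : Function.Injective (Ideal.Quotient.mk (nilradical (Y.presheaf.stalk (f x)))) := by
      rw [injective_iff_map_eq_zero]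
      intro a ha
      rw [Ideal.Quotient.eq_zero_iff_mem, nilradical_eq_zero, Ideal.zero_eq_bot, Ideal.mem_bot] at ha
      exact ha
    exact hinj.isDomain _
  -- Step B: integral affine neighbourhood
  obtain ⟨Y₀, hyY₀, hY₀int⟩ := IntNbhd.exists_isIntegral_opens hcomp (f x)
  obtain ⟨V, hV, hyV, hVY₀⟩ :=
    exists_isAffineOpen_mem_and_subset (x := f x) (U := Y₀) hyY₀
  haveI hVint : IsIntegral (V : Scheme.{u}) := isIntegral_of_le hVY₀ ⟨f x, hyV⟩
  haveI hVdom : IsDomain Γ(Y, V) := isDomain_of_isIntegral_opens hV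
  -- the generic point of V
  let η : Y := hV.fromSpec ⟨⊥, Ideal.isPrime_bot⟩
  have hηV : η ∈ V := Groth.Agent.H70.LocDomain.fromSpec_mem hV _
  have hηgen : ∀ t : Y, t ∈ V → η ⤳ t := by
    intro t ht
    apply Groth.Agent.H70.LocDomain.specializes_of_primeIdealOf_le hV ht hηV
    rw [Groth.Agent.H70.UnramUnibranchScheme.primeIdealOf_fromSpec hV ⟨⊥, Ideal.isPrime_bot⟩ hηV]
    exact bot_le
  obtain ⟨t, htV, htU⟩ := hU.inter_open_nonempty V V.2 ⟨f x, hyV⟩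
  have hηU : η ∈ U := (hηgen t htV).mem_open U.2 htU
  let ηU : ↥(U : Scheme.{u}) := ⟨η, hηU⟩
  let ξ : X := u ηU
  have hfu : ∀ w : ↥(U : Scheme.{u}), f (u w) = w.1 := by
    intro w
    have := congrArg (fun φ : (U : Scheme.{u}) ⟶ Y => φ w) hu
    exact this
  have hfξ : f ξ = η := hfu ηU
  -- ξ specializes to x
  have hξx : ξ ⤳ x := by
    rw [specializes_iff_mem_closure]
    have h1 : x ∈ closure (Set.range u ∩ (f ⁻¹ᵁ V : Set X)) := by
      have := (f ⁻¹ᵁ V).2.inter_closure (t := Set.range u) ⟨hyV, hxcl⟩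
      rwa [Set.inter_comm] at this
    refine closure_minimal ?_ isClosed_closure h1
    rintro _ ⟨⟨w, rfl⟩, hwV⟩
    have hwV' : w.1 ∈ V := by
      have : f (u w) ∈ V := hwV
      rwa [hfu w] at this
    have h2 : ηU ⤳ w := (subtype_specializes_iff _ _).mpr (hηgen w.1 hwV')
    exact specializes_iff_mem_closure.mp (h2.map u.continuous)
  -- Step 3: étale neighbourhood
  obtain ⟨W, hxW, hWet⟩ := etale_nhd_of_unramified' f x V hV hyV hy ⟨ξ, hξx, hfξ⟩
    ⟨⊤, trivial, MorphismProperty.comp_mem _ _ _ (inferInstanceAs (FormallyUnramified (⊤ : X.Opens).ι)) ‹FormallyUnramified f›⟩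
  -- Step 4: the étale neighbourhood as a scheme
  let e : (W : Scheme.{u}) ⟶ Y := W.ι ≫ f
  haveI : Etale e := hWet
  let xW : ↥(W : Scheme.{u}) := ⟨x, hxW⟩
  have hexW : e xW = f x := rfl
  haveI hdomW : IsDomain ((W : Scheme.{u}).presheaf.stalk xW) :=
    (Groth.Agent.S2754.result e xW hdom hy
      ⟨⊤, trivial, inferInstanceAs (Etale ((⊤ : (W : Scheme.{u}).Opens).ι ≫ e))⟩).1
  -- Step 5: integral neighbourhood in W
  haveI : IsReduced (W : Scheme.{u}) := Groth.Agent.H51.isReduced_of_smooth e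
  haveI : LocallyQuasiFinite e := Groth.Agent.S5067.locallyQuasiFinite_of_unramified e
  have hfinW := Groth.Agent.S5049.result e hcomp
  obtain ⟨W₁, hxW₁, hW₁int⟩ := IntNbhd.exists_isIntegral_opens hfinW xW
  -- Step 6: shrink into the preimage of V
  let W₂ : (W : Scheme.{u}).Opens := W₁ ⊓ e ⁻¹ᵁ V
  have hxW₂ : xW ∈ W₂ := ⟨hxW₁, hyV⟩
  haveI hW₂int : IsIntegral (W₂ : Scheme.{u}) := isIntegral_of_le inf_le_left ⟨xW, hxW₂⟩
  have hW₂V : W₂ ≤ e ⁻¹ᵁ V := inf_le_right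
  let g₂ : (W₂ : Scheme.{u}) ⟶ (V : Scheme.{u}) := e.resLE V W₂ hW₂V
  have hg₂ : g₂ ≫ V.ι = W₂.ι ≫ e := Scheme.Hom.resLE_comp_ι e hW₂V
  haveI : Etale g₂ := inferInstance
  let j : (W₂ : Scheme.{u}) ⟶ X := W₂.ι ≫ W.ι
  have hjf : j ≫ f = g₂ ≫ V.ι := by
    rw [hg₂]
    simp only [j, e, Category.assoc]
  haveI : IsSeparated (g₂ ≫ V.ι) := by
    rw [← hjf]
    infer_instance
  haveI : IsSeparated g₂ := IsSeparated.of_comp g₂ V.ι
  -- Step 7: the points
  let x₂ : ↥(W₂ : Scheme.{u}) := ⟨xW, hxW₂⟩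
  have hjx₂ : j x₂ = x := rfl
  have hξj : ξ ∈ Set.range j :=
    hξx.mem_open j.isOpenEmbedding.isOpen_range ⟨x₂, hjx₂⟩
  obtain ⟨ξ₂, hξ₂⟩ := hξj
  let ηV : ↥(V : Scheme.{u}) := ⟨η, hηV⟩
  have hg₂ξ₂ : g₂ ξ₂ = ηV := by
    apply V.ι.isOpenEmbedding.injective
    show V.ι (g₂ ξ₂) = η
    rw [← Scheme.Hom.comp_apply, ← hjf, Scheme.Hom.comp_apply, hξ₂, hfξ]
  have hηVgen : ηV = genericPoint ↥(V : Scheme.{u}) := by
    have h1 : IsGenericPoint ηV (⊤ : Set ↥(V : Scheme.{u})) := by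
      rw [IsGenericPoint]
      refine Set.eq_univ_of_forall fun t => ?_
      rw [← specializes_iff_mem_closure]
      exact (subtype_specializes_iff _ _).mpr (hηgen t.1 t.2)
    exact h1.eq (genericPoint_spec _)
  haveI : LocallyQuasiFinite g₂ := Groth.Agent.S5067.locallyQuasiFinite_of_unramified g₂
  have hξ₂gen : ξ₂ = genericPoint ↥(W₂ : Scheme.{u}) := by
    have h1 := (Groth.Agent.S5048.result g₂ ξ₂).mp (hg₂ξ₂.trans hηVgen)
    rw [irreducibleComponents_eq_singleton, Set.mem_singleton_iff] at h1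
    have h2 : IsGenericPoint ξ₂ (⊤ : Set ↥(W₂ : Scheme.{u})) := h1
    exact h2.eq (genericPoint_spec _)
  -- the section gives birationality
  let U₂ : (U : Scheme.{u}).Opens := u ⁻¹ᵁ j.opensRange
  let a : (U₂ : Scheme.{u}) ⟶ (W₂ : Scheme.{u}) := IsOpenImmersion.lift j (U₂.ι ≫ u) (by
    rintro _ ⟨w, rfl⟩
    exact w.2)
  have ha : a ≫ j = U₂.ι ≫ u := IsOpenImmersion.lift_fac _ _ _
  have hag : (a ≫ g₂) ≫ V.ι = U₂.ι ≫ U.ι := by
    rw [Category.assoc, ← hjf, ← Category.assoc, ha, Category.assoc, hu]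
  haveI : IsOpenImmersion ((a ≫ g₂) ≫ V.ι) := by
    rw [hag]
    infer_instance
  haveI : IsOpenImmersion (a ≫ g₂) := IsOpenImmersion.of_comp (a ≫ g₂) V.ι
  have hηU₂ : ηU ∈ U₂ := ⟨ξ₂, hξ₂⟩
  let t₂ : ↥(U₂ : Scheme.{u}) := ⟨ηU, hηU₂⟩
  have hat₂ : a t₂ = ξ₂ := by
    apply j.isOpenEmbedding.injective
    rw [← Scheme.Hom.comp_apply, ha, hξ₂]
    rfl
  have hbir0 : Function.Bijective (g₂.residueFieldMap (a t₂)).hom := by
    have hiso : IsIso ((a ≫ g₂).residueFieldMap t₂) := inferInstance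
    rw [Scheme.residueFieldMap_comp] at hiso
    have hbij := (ConcreteCategory.isIso_iff_bijective _).mp hiso
    have hψinj : Function.Injective (a.residueFieldMap t₂).hom :=
      (a.residueFieldMap t₂).hom.injective
    refine ⟨(g₂.residueFieldMap (a t₂)).hom.injective, fun b => ?_⟩
    obtain ⟨c, hc⟩ := hbij.2 ((a.residueFieldMap t₂).hom b)
    exact ⟨c, hψinj hc⟩
  have hbir : Function.Bijective (g₂.residueFieldMap (genericPoint ↥(W₂ : Scheme.{u}))).hom :=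
    bijective_residueFieldMap_congr g₂ (hat₂.trans hξ₂gen) hbir0
  have hgen : g₂.base (genericPoint ↥(W₂ : Scheme.{u})) = genericPoint ↥(V : Scheme.{u}) := by
    rw [← hξ₂gen, ← hηVgen]
    exact hg₂ξ₂
  haveI : IsOpenImmersion g₂ := Groth.Agent.S5067.result g₂ hgen hbir
  -- Step 8: the section
  let j' : (W₂ : Scheme.{u}) ⟶ Y := g₂ ≫ V.ι
  haveI : IsOpenImmersion j' := inferInstance
  let V' : Y.Opens := j'.opensRange
  let v : (V' : Scheme.{u}) ⟶ X := j'.isoOpensRange.inv ≫ j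
  have hvf : v ≫ f = V'.ι := by
    show (j'.isoOpensRange.inv ≫ j) ≫ f = _
    rw [Category.assoc, hjf]
    exact Scheme.Hom.isoOpensRange_inv_comp j'
  have hj'ξ₂ : j' ξ₂ = η := by
    show (g₂ ≫ V.ι) ξ₂ = η
    rw [Scheme.Hom.comp_apply, hg₂ξ₂]
    rfl
  have hyV' : f x ∈ V' := ⟨x₂, by
    show (g₂ ≫ V.ι) x₂ = f x
    rw [← hjf]
    rfl⟩
  refine ⟨V', v, hyV', hvf, ?_⟩
  -- Step 9: agreement on the overlap
  let E : Y.Opens := U ⊓ V'
  let a₀ : (E : Scheme.{u}) ⟶ X := Y.homOfLE (inf_le_left : U ⊓ V' ≤ U) ≫ u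
  let b₀ : (E : Scheme.{u}) ⟶ X := Y.homOfLE (inf_le_right : U ⊓ V' ≤ V') ≫ v
  show a₀ = b₀
  have ha₀f : a₀ ≫ f = E.ι := by
    show (Y.homOfLE _ ≫ u) ≫ f = _
    rw [Category.assoc, hu, Scheme.homOfLE_ι]
  have hb₀f : b₀ ≫ f = E.ι := by
    show (Y.homOfLE _ ≫ v) ≫ f = _
    rw [Category.assoc, hvf, Scheme.homOfLE_ι]
  let E₁ : (E : Scheme.{u}).Opens := a₀ ⁻¹ᵁ j.opensRange
  have hηE : η ∈ E := ⟨hηU, ξ₂, hj'ξ₂⟩
  let ηE : ↥(E : Scheme.{u}) := ⟨η, hηE⟩
  have hhom : (Y.homOfLE (inf_le_left : U ⊓ V' ≤ U)) ηE = ηU := by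
    apply U.ι.isOpenEmbedding.injective
    rw [← Scheme.Hom.comp_apply, Scheme.homOfLE_ι]
    rfl
  have ha₀η : a₀ ηE = ξ := by
    show (Y.homOfLE (inf_le_left : U ⊓ V' ≤ U) ≫ u) ηE = u ηU
    rw [Scheme.Hom.comp_apply, hhom]
  have hηE₁ : ηE ∈ E₁ := ⟨ξ₂, hξ₂.trans ha₀η.symm⟩
  -- E is irreducible
  have hV'irr : IsIrreducible (V' : Set Y) := by
    have : (V' : Set Y) = j' '' Set.univ := by
      rw [Set.image_univ]
      rfl
    rw [this]
    exact (IrreducibleSpace.isIrreducible_univ _).image j' j'.continuous.continuousOn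
  haveI : PreirreducibleSpace ↥(E : Scheme.{u}) :=
    Subtype.preirreducibleSpace (hV'irr.isPreirreducible.open_subset E.2 inf_le_right)
  haveI : IsDominant E₁.ι := by
    refine ⟨?_⟩
    rw [DenseRange, Scheme.Opens.range_ι]
    exact E₁.2.dense ⟨ηE, hηE₁⟩
  refine ext_of_isDominant_of_isSeparated f (ha₀f.trans hb₀f.symm) E₁.ι ?_
  let a₁ : (E₁ : Scheme.{u}) ⟶ (W₂ : Scheme.{u}) := IsOpenImmersion.lift j (E₁.ι ≫ a₀) (by
    rintro _ ⟨w, rfl⟩
    exact w.2)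
  have ha₁ : a₁ ≫ j = E₁.ι ≫ a₀ := IsOpenImmersion.lift_fac _ _ _
  let b₁ : (E₁ : Scheme.{u}) ⟶ (W₂ : Scheme.{u}) :=
    E₁.ι ≫ Y.homOfLE (inf_le_right : U ⊓ V' ≤ V') ≫ j'.isoOpensRange.inv
  have hb₁ : b₁ ≫ j = E₁.ι ≫ b₀ := by
    simp only [b₁, b₀, v, Category.assoc]
  have hab : a₁ = b₁ := by
    rw [← cancel_mono j']
    have h1 : a₁ ≫ j' = E₁.ι ≫ E.ι := by
      show a₁ ≫ (g₂ ≫ V.ι) = _
      rw [← hjf, ← Category.assoc, ha₁, Category.assoc, ha₀f]
    have h2 : b₁ ≫ j' = E₁.ι ≫ E.ι := by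
      show b₁ ≫ (g₂ ≫ V.ι) = _
      rw [← hjf, ← Category.assoc, hb₁, Category.assoc, hb₀f]
    rw [h1, h2]
  rw [← ha₁, ← hb₁, hab]


/-- the local ring at a geometrically unibranch point of a reduced scheme is a domain -/
theorem isDomain_stalk_of_isGeomUnibranch [IsReduced Y] (y : Y)
    (hy : CAlg2.IsGeomUnibranch (Y.presheaf.stalk y)) : IsDomain (Y.presheaf.stalk y) := by
  haveI := hy.1.1
  have hinj : Function.Injective (Ideal.Quotient.mk (nilradical (Y.presheaf.stalk y))) := by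
    rw [injective_iff_map_eq_zero]
    intro a ha
    rw [Ideal.Quotient.eq_zero_iff_mem, nilradical_eq_zero, Ideal.zero_eq_bot, Ideal.mem_bot] at ha
    exact ha
  exact hinj.isDomain _

/-- EGA IV 18.10.? : if images of closed irreducible subsets are closed, a rational section of a
separated unramified morphism is defined at every geometrically unibranch point. -/
theorem exists_section_nhd_of_closed [IsReduced Y]
    (hcomp : LocallyFinite (fun Z : ↥(irreducibleComponents ↥Y) => (Z : Set ↥Y)))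
    (f : X ⟶ Y) [IsSeparated f] [LocallyOfFiniteType f] [FormallyUnramified f]
    (U : Y.Opens) (hU : Dense (U : Set ↥Y)) (u : (U : Scheme.{u}) ⟶ X) (hu : u ≫ f = U.ι)
    (hcl : ∀ T : Set ↥X, IsClosed T → IsIrreducible T → IsClosed (f '' T))
    (y : Y) (hy : CAlg2.IsGeomUnibranch (Y.presheaf.stalk y)) :
    ∃ (V : Y.Opens) (v : (V : Scheme.{u}) ⟶ X), y ∈ V ∧ v ≫ f = V.ι ∧
      Y.homOfLE (inf_le_left : U ⊓ V ≤ U) ≫ u = Y.homOfLE (inf_le_right : U ⊓ V ≤ V) ≫ v := by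
  haveI hdom : IsDomain (Y.presheaf.stalk y) := isDomain_stalk_of_isGeomUnibranch y hy
  obtain ⟨Y₀, hyY₀, hY₀int⟩ := IntNbhd.exists_isIntegral_opens hcomp y
  let η₀ : ↥(Y₀ : Scheme.{u}) := genericPoint ↥(Y₀ : Scheme.{u})
  let η : Y := η₀.1
  obtain ⟨t, htY₀, htU⟩ := hU.inter_open_nonempty Y₀ Y₀.2 ⟨y, hyY₀⟩
  let tY : ↥(Y₀ : Scheme.{u}) := ⟨t, htY₀⟩
  let yY : ↥(Y₀ : Scheme.{u}) := ⟨y, hyY₀⟩
  have hηt : η ⤳ t := (subtype_specializes_iff η₀ tY).mp (genericPoint_specializes tY)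
  have hηy : η ⤳ y := (subtype_specializes_iff η₀ yY).mp (genericPoint_specializes yY)
  have hηU : η ∈ U := hηt.mem_open U.2 htU
  let ηU : ↥(U : Scheme.{u}) := ⟨η, hηU⟩
  have hfu : f (u ηU) = η := by
    have := congrArg (fun φ : (U : Scheme.{u}) ⟶ Y => φ ηU) hu
    exact this
  let T : Set X := closure {u ηU}
  have hTcl : IsClosed (f '' T) := hcl T isClosed_closure isIrreducible_singleton.closure
  have hηT : η ∈ f '' T := ⟨u ηU, subset_closure rfl, hfu⟩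
  obtain ⟨x, hxT, hxy⟩ := hηy.mem_closed hTcl hηT
  have hTsub : T ⊆ closure (Set.range u) :=
    closure_mono (Set.singleton_subset_iff.mpr ⟨ηU, rfl⟩)
  exact exists_section_nhd hcomp f U hU u hu y hy ⟨x, hTsub hxT, hxy⟩

end Groth.Agent.H73.UnramSection
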