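import Mathlib

set_option autoImplicit false
universe u

namespace Groth.Agent.H73.ValFibre

open AlgebraicGeometry CategoryTheory TopologicalSpace Opposite IsLocalRing

variable {X Y : Scheme.{u}}

/-- The stalk at a point equal to the generic point is a fraction ring of the stalk at any `y`,
via the specialization map. -/
theorem isFractionRing_stalkSpecializes [IsIntegral Y] (y η : Y) (h₀ : η = genericPoint Y)
    (hs : η ⤳ y) :
    @IsFractionRing (Y.presheaf.stalk y) _ (Y.presheaf.stalk η) _
      (Y.presheaf.stalkSpecializes hs).hom.toAlgebra := by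
  subst h₀
  exact inferInstanceAs (IsFractionRing (Y.presheaf.stalk y) Y.functionField)

/-- The ring map `O_{Y,y} → K(X)` for `f : X ⟶ Y` with `f ξ_X ⤳ y`. -/
noncomputable def toFunctionField [IsIntegral X] (f : X ⟶ Y) (y : Y)
    (h : f (genericPoint X) ⤳ y) : Y.presheaf.stalk y ⟶ X.presheaf.stalk (genericPoint X) :=
  Y.presheaf.stalkSpecializes h ≫ f.stalkMap (genericPoint X)

theorem isFractionRing_toFunctionField [IsIntegral X] [IsIntegral Y] (f : X ⟶ Y)
    (hgen : f (genericPoint X) = genericPoint Y)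
    (hbir : Function.Bijective (f.stalkMap (genericPoint X))) (y : Y)
    (h : f (genericPoint X) ⤳ y) :
    @IsFractionRing (Y.presheaf.stalk y) _ X.functionField _
      (toFunctionField f y h).hom.toAlgebra := by
  letI a1 : Algebra (Y.presheaf.stalk y) (Y.presheaf.stalk (f (genericPoint X))) :=
    (Y.presheaf.stalkSpecializes h).hom.toAlgebra
  letI a2 : Algebra (Y.presheaf.stalk y) X.functionField := (toFunctionField f y h).hom.toAlgebra
  haveI := isFractionRing_stalkSpecializes y _ hgen h
  let e : (Y.presheaf.stalk (f (genericPoint X))) ≃+* X.functionField :=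
    RingEquiv.ofBijective (f.stalkMap (genericPoint X)).hom hbir
  let e' : (Y.presheaf.stalk (f (genericPoint X))) ≃ₐ[Y.presheaf.stalk y] X.functionField :=
    AlgEquiv.ofRingEquiv (f := e) (fun r => rfl)
  exact IsLocalization.isLocalization_of_algEquiv _ e'


/-- If `O_{Y,y}` is a valuation ring and `f` is birational, every point `x'` over `y` has
`O_{Y,y} → O_{X,x'}` bijective. -/
theorem bijective_toStalk [IsIntegral X] [IsIntegral Y] (f : X ⟶ Y)
    (hgen : f (genericPoint X) = genericPoint Y)
    (hbir : Function.Bijective (f.stalkMap (genericPoint X))) (y : Y)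
    [ValuationRing (Y.presheaf.stalk y)] (x' : X) (h' : f x' = y) :
    Function.Bijective
      (Y.presheaf.stalkSpecializes (specializes_of_eq h') ≫ f.stalkMap x' :
        Y.presheaf.stalk y ⟶ X.presheaf.stalk x') := by
  have hηy : f (genericPoint X) ⤳ y := by
    rw [hgen]; exact genericPoint_specializes y
  set φ' : Y.presheaf.stalk y ⟶ X.presheaf.stalk x' :=
    Y.presheaf.stalkSpecializes (specializes_of_eq h') ≫ f.stalkMap x' with hφ'
  let ι' : X.presheaf.stalk x' ⟶ X.presheaf.stalk (genericPoint X) :=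
    X.presheaf.stalkSpecializes (genericPoint_specializes x')
  have hcomp : φ' ≫ ι' = toFunctionField f y hηy := by
    rw [hφ', Category.assoc, ← Scheme.Hom.stalkSpecializes_stalkMap, ← Category.assoc,
      TopCat.Presheaf.stalkSpecializes_comp]
    rfl
  have hcomp' : ∀ r, ι' (φ' r) = toFunctionField f y hηy r := fun r => by
    rw [← hcomp]; rfl
  have hιinj : Function.Injective ι' :=
    IsFractionRing.injective (X.presheaf.stalk x') X.functionField
  letI a2 : Algebra (Y.presheaf.stalk y) X.functionField := (toFunctionField f y hηy).hom.toAlgebra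
  haveI := isFractionRing_toFunctionField f hgen hbir y hηy
  have hloc : IsLocalHom φ'.hom := by
    haveI : IsIso (Y.presheaf.stalkSpecializes (specializes_of_eq h')) := by
      have : Y.presheaf.stalkSpecializes (specializes_of_eq h') =
          (Y.presheaf.stalkCongr (Inseparable.of_eq h'.symm)).hom := rfl
      rw [this]; infer_instance
    haveI : IsLocalHom (Y.presheaf.stalkSpecializes (specializes_of_eq h')).hom :=
      isLocalHom_of_isIso _
    rw [hφ', CommRingCat.hom_comp]
    exact RingHom.isLocalHom_comp _ _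
  refine ⟨fun r₁ r₂ hr => ?_, fun s => ?_⟩
  · apply IsFractionRing.injective (Y.presheaf.stalk y) X.functionField
    change toFunctionField f y hηy r₁ = toFunctionField f y hηy r₂
    rw [← hcomp', ← hcomp', hr]
  · rcases ValuationRing.isInteger_or_isInteger (Y.presheaf.stalk y) (ι' s) with ⟨r, hr⟩ | ⟨r, hr⟩
    · refine ⟨r, hιinj ?_⟩
      rw [hcomp']; exact hr
    · by_cases h0 : ι' s = 0
      · refine ⟨0, hιinj ?_⟩
        rw [map_zero, map_zero, h0]
      · have h1 : ι' (φ' r * s) = 1 := by
          rw [map_mul, hcomp']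
          change algebraMap (Y.presheaf.stalk y) X.functionField r * _ = 1
          rw [hr, inv_mul_cancel₀ h0]
        have h2 : φ' r * s = 1 := hιinj (by rw [h1, map_one])
        have h3 : IsUnit (φ' r) := IsUnit.of_mul_eq_one _ h2
        have h4 : IsUnit r := hloc.map_nonunit r h3
        obtain ⟨u, rfl⟩ := h4
        refine ⟨((u⁻¹ : (Y.presheaf.stalk y)ˣ) : Y.presheaf.stalk y), ?_⟩
        have h5 : φ' ((u⁻¹ : (Y.presheaf.stalk y)ˣ) : Y.presheaf.stalk y) * φ' (u : Y.presheaf.stalk y)
            = 1 := by rw [← map_mul, Units.inv_mul, map_one]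
        calc φ' ((u⁻¹ : (Y.presheaf.stalk y)ˣ) : Y.presheaf.stalk y)
            = φ' ((u⁻¹ : (Y.presheaf.stalk y)ˣ) : Y.presheaf.stalk y) * (φ' u * s) := by
              rw [h2, mul_one]
          _ = s := by rw [← mul_assoc, h5, one_mul]


/-- The lift `Spec O_{Y,y} ⟶ X` through a point `x'` over `y`. -/
theorem exists_lift [IsIntegral X] [IsIntegral Y] (f : X ⟶ Y)
    (hgen : f (genericPoint X) = genericPoint Y)
    (hbir : Function.Bijective (f.stalkMap (genericPoint X))) (y : Y)
    [ValuationRing (Y.presheaf.stalk y)] (hηy : f (genericPoint X) ⤳ y) (x' : X) (h' : f x' = y) :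
    ∃ l : Spec (Y.presheaf.stalk y) ⟶ X,
      Spec.map (toFunctionField f y hηy) ≫ l = X.fromSpecStalk (genericPoint X) ∧
      l ≫ f = Y.fromSpecStalk y ∧
      ∀ pt : ↥(Spec (Y.presheaf.stalk y)), pt = closedPoint (Y.presheaf.stalk y) → l pt = x' := by
  set φ' : Y.presheaf.stalk y ⟶ X.presheaf.stalk x' :=
    Y.presheaf.stalkSpecializes (specializes_of_eq h') ≫ f.stalkMap x' with hφ'
  have hbij := bijective_toStalk f hgen hbir y x' h'
  haveI : IsIso φ' := (ConcreteCategory.isIso_iff_bijective φ').mpr hbij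
  let ι' : X.presheaf.stalk x' ⟶ X.presheaf.stalk (genericPoint X) :=
    X.presheaf.stalkSpecializes (genericPoint_specializes x')
  have hcomp : φ' ≫ ι' = toFunctionField f y hηy := by
    rw [hφ', Category.assoc, ← Scheme.Hom.stalkSpecializes_stalkMap, ← Category.assoc,
      TopCat.Presheaf.stalkSpecializes_comp]
    rfl
  refine ⟨Spec.map (inv φ') ≫ X.fromSpecStalk x', ?_, ?_, ?_⟩
  · rw [← Spec.map_comp_assoc, ← hcomp, IsIso.inv_hom_id_assoc]
    exact Scheme.SpecMap_stalkSpecializes_fromSpecStalk _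
  · rw [Category.assoc, ← Scheme.SpecMap_stalkMap_fromSpecStalk,
      ← Scheme.SpecMap_stalkSpecializes_fromSpecStalk (specializes_of_eq h'),
      ← Spec.map_comp_assoc, ← Spec.map_comp_assoc]
    have e : (Y.presheaf.stalkSpecializes (specializes_of_eq h') ≫ f.stalkMap x') ≫ inv φ' = 𝟙 _ :=
      IsIso.hom_inv_id φ'
    rw [Category.assoc] at e
    rw [e, Spec.map_id, Category.id_comp]
  · intro pt hpt
    rw [Scheme.Hom.comp_apply]
    haveI : IsLocalHom (inv φ').hom := isLocalHom_of_isIso _
    have h3 : Spec.map (inv φ') pt = closedPoint (X.presheaf.stalk x') := by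
      rw [hpt]; exact IsLocalRing.comap_closedPoint (inv φ').hom
    rw [h3]
    exact Scheme.fromSpecStalk_closedPoint


/-- uniqueness of lifts in the valuative criterion, unbundled. -/
theorem lift_unique (f : X ⟶ Y) [IsSeparated f] (R K : Type u) [CommRing R] [IsDomain R]
    [ValuationRing R] [Field K] [Algebra R K] [IsFractionRing R K]
    (i₁ : Spec (.of K) ⟶ X) (i₂ : Spec (.of R) ⟶ Y) (l₁ l₂ : Spec (.of R) ⟶ X)
    (h₁ : Spec.map (CommRingCat.ofHom (algebraMap R K)) ≫ l₁ = i₁) (h₁' : l₁ ≫ f = i₂)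
    (h₂ : Spec.map (CommRingCat.ofHom (algebraMap R K)) ≫ l₂ = i₁) (h₂' : l₂ ≫ f = i₂) :
    l₁ = l₂ := by
  have hsq : CommSq i₁ (Spec.map (CommRingCat.ofHom (algebraMap R K))) f i₂ :=
    ⟨by rw [← h₁, Category.assoc, h₁']⟩
  have huniq := IsSeparated.valuativeCriterion f ⟨R, K, i₁, i₂, hsq⟩
  exact congrArg CommSq.LiftStruct.l
    (Subsingleton.elim (α := CommSq.LiftStruct hsq) ⟨l₁, h₁, h₁'⟩ ⟨l₂, h₂, h₂'⟩)

/-- For a separated birational morphism of integral schemes, the fibre over a point whose local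
ring is a valuation ring has at most one point. -/
theorem eq_of_map_eq_of_valuationRing [IsIntegral X] [IsIntegral Y] (f : X ⟶ Y) [IsSeparated f]
    (hgen : f (genericPoint X) = genericPoint Y)
    (hbir : Function.Bijective (f.stalkMap (genericPoint X))) (y : Y)
    [ValuationRing (Y.presheaf.stalk y)] (x₁ x₂ : X) (h₁ : f x₁ = y) (h₂ : f x₂ = y) : x₁ = x₂ := by
  have hηy : f (genericPoint X) ⤳ y := by
    rw [hgen]; exact genericPoint_specializes y
  obtain ⟨l₁, hl₁, hl₁', hp₁⟩ := exists_lift f hgen hbir y hηy x₁ h₁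
  obtain ⟨l₂, hl₂, hl₂', hp₂⟩ := exists_lift f hgen hbir y hηy x₂ h₂
  letI a2 : Algebra (Y.presheaf.stalk y) X.functionField := (toFunctionField f y hηy).hom.toAlgebra
  haveI := isFractionRing_toFunctionField f hgen hbir y hηy
  have hl : l₁ = l₂ := by
    haveI hd : IsDomain (Y.presheaf.stalk y) := inferInstance
    exact @lift_unique X Y f _ (Y.presheaf.stalk y) X.functionField _ hd _ _ a2 _
      (X.fromSpecStalk (genericPoint X)) (Y.fromSpecStalk y) l₁ l₂ hl₁ hl₁' hl₂ hl₂'
  rw [← hp₁ _ rfl, ← hp₂ _ rfl, hl]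

end Groth.Agent.H73.ValFibre
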