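import Mathlib.RingTheory.Valuation.ValuationSubring
import Mathlib.RingTheory.Localization.AsSubring
import Mathlib.RingTheory.Localization.AtPrime.Basic
import Mathlib.RingTheory.Ideal.Operations
import Mathlib.RingTheory.Spectrum.Maximal.Basic
import Mathlib.Algebra.Order.Ring.GeomSum

/-!
# Finite intersections of valuation rings of a field

A ring `B` embedded in a field `F` whose image is the intersection of finitely many valuation
subrings of `F` is a semilocal Prüfer domain with fraction field `F` (Matsumura, Theorem 12.2).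
-/

set_option autoImplicit false

namespace Groth.Agent.H73.ValInter

open Finset

section single

variable {F : Type*} [Field F] {Γ₀ : Type*} [LinearOrderedCommGroupWithZero Γ₀]
  (v : Valuation F Γ₀)

theorem val_geom_le_one {a : F} (ha : v a ≤ 1) (n : ℕ) : v (∑ j ∈ range n, a ^ j) ≤ 1 :=
  v.map_sum_le (fun j _ => by rw [map_pow]; exact pow_le_one' ha j)

theorem val_geom_of_one_lt {a : F} (ha : 1 < v a) (n : ℕ) :
    v (∑ j ∈ range (n + 1), a ^ j) = v a ^ n := by
  induction n with
  | zero => simp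
  | succ n ih =>
    rw [Finset.sum_range_succ]
    have h1 : v (∑ j ∈ range (n + 1), a ^ j) < v (a ^ (n + 1)) := by
      rw [ih, map_pow]
      exact pow_lt_pow_right₀ ha (Nat.lt_succ_self n)
    rw [v.map_add_eq_of_lt_right h1, map_pow]

theorem val_pow_sub_one_lt {x : F} (hx : v x ≤ 1) (hx1 : v (x - 1) < 1) (n : ℕ) :
    v (x ^ n - 1) < 1 := by
  rw [← geom_sum_mul, map_mul]
  exact lt_of_le_of_lt (mul_le_of_le_one_left' (val_geom_le_one v hx n)) hx1

theorem val_geom_eq_one {x : F} {s : ℕ} (hs : 0 < s) (hx : v x ≤ 1) (h1 : v (s : F) = 1)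
    (h2 : v x = 1 → v (x - 1) = 1 → v (x ^ s - 1) = 1) : v (∑ j ∈ range s, x ^ j) = 1 := by
  rcases lt_or_eq_of_le hx with hlt | heq
  · obtain ⟨n, rfl⟩ : ∃ n, s = n + 1 := ⟨s - 1, by omega⟩
    rw [Finset.sum_range_succ', pow_zero, add_comm]
    apply v.map_one_add_of_lt
    apply v.map_sum_lt one_ne_zero
    intro j _
    rw [map_pow]
    exact pow_lt_one' hlt (Nat.succ_ne_zero j)
  · have hx1 : v (x - 1) ≤ 1 := v.map_sub_le hx (by rw [map_one])
    rcases lt_or_eq_of_le hx1 with hlt1 | heq1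
    · have h3 : v (∑ j ∈ range s, x ^ j - (s : F)) < 1 := by
        have : ∑ j ∈ range s, x ^ j - (s : F) = ∑ j ∈ range s, (x ^ j - 1) := by
          rw [Finset.sum_sub_distrib, Finset.sum_const, Finset.card_range, nsmul_eq_mul, mul_one]
        rw [this]
        exact v.map_sum_lt one_ne_zero (fun j _ => val_pow_sub_one_lt v hx hlt1 j)
      have h4 : ∑ j ∈ range s, x ^ j = (s : F) + (∑ j ∈ range s, x ^ j - (s : F)) := by ring
      rw [h4, v.map_add_eq_of_lt_left (by rw [h1]; exact h3), h1]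
    · have h4 := h2 heq heq1
      rw [← geom_sum_mul, map_mul, heq1, mul_one] at h4
      exact h4

theorem val_succ_eq_one (hle : ∀ n : ℕ, v (n : F) ≤ 1) {c N : ℕ} (hcN : c ∣ N)
    (hcv : v (c : F) < 1 ∨ ∀ n : ℕ, 0 < n → v (n : F) = 1) : v ((N + 1 : ℕ) : F) = 1 := by
  rcases hcv with h | h
  · obtain ⟨k, rfl⟩ := hcN
    have h1 : v ((c * k : ℕ) : F) < 1 := by
      rw [Nat.cast_mul, map_mul]
      exact lt_of_le_of_lt (mul_le_of_le_one_right' (hle k)) h
    rw [Nat.cast_add, Nat.cast_one, add_comm]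
    exact v.map_one_add_of_lt h1
  · exact h _ (Nat.succ_pos N)

theorem val_pow_succ_sub_one_eq_one {x : F} (hx : v x = 1) (hx1 : v (x - 1) = 1) {d N : ℕ}
    (hdN : d ∣ N) (hdv : v (x ^ d - 1) < 1 ∨ ∀ n : ℕ, 0 < n → v (x ^ n - 1) = 1) :
    v (x ^ (N + 1) - 1) = 1 := by
  rcases hdv with h | h
  · obtain ⟨k, rfl⟩ := hdN
    have h1 : v (x ^ (d * k) - 1) < 1 := by
      rw [pow_mul, ← geom_sum_mul, map_mul]
      refine lt_of_le_of_lt (mul_le_of_le_one_left' (val_geom_le_one v ?_ k)) h
      rw [map_pow, hx, one_pow]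
    have h2 : x ^ (d * k + 1) - 1 = (x - 1) + x * (x ^ (d * k) - 1) := by ring
    rw [h2, v.map_add_eq_of_lt_left, hx1]
    rw [hx1, map_mul, hx, one_mul]
    exact h1
  · exact h _ (Nat.succ_pos N)

end single

section multi

variable {F : Type*} [Field F] {ι : Type*} [Finite ι] [Nonempty ι] (W : ι → ValuationSubring F)

/-- The key lemma: for `x : F` there is `u ≠ 0` with `u⁻¹` and `x u⁻¹` in all the `W i`, and such
that `u` is a unit of `W i` whenever `x ∈ W i`. -/
theorem exists_unit_denominator (x : F) :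
    ∃ u : F, u ≠ 0 ∧ (∀ i, u⁻¹ ∈ W i) ∧ (∀ i, x * u⁻¹ ∈ W i) ∧ (∀ i, x ∈ W i → u ∈ W i) := by
  classical
  cases nonempty_fintype ι
  have hnat : ∀ i (n : ℕ), (W i).valuation (n : F) ≤ 1 := fun i n =>
    ((W i).valuation_le_one_iff _).2 (natCast_mem _ n)
  have hc : ∀ i, ∃ c : ℕ, 0 < c ∧ ((W i).valuation (c : F) < 1 ∨
      ∀ n : ℕ, 0 < n → (W i).valuation (n : F) = 1) := by
    intro i
    by_cases h : ∃ n : ℕ, 0 < n ∧ (W i).valuation (n : F) < 1
    · obtain ⟨n, hn, hv⟩ := h
      exact ⟨n, hn, Or.inl hv⟩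
    · push Not at h
      exact ⟨1, one_pos, Or.inr fun n hn => le_antisymm (hnat i n) (h n hn)⟩
  have hd : ∀ i, ∃ d : ℕ, 0 < d ∧ ((W i).valuation (x ^ d - 1) < 1 ∨
      (x ∈ W i → ∀ n : ℕ, 0 < n → (W i).valuation (x ^ n - 1) = 1)) := by
    intro i
    by_cases h : ∃ n : ℕ, 0 < n ∧ (W i).valuation (x ^ n - 1) < 1
    · obtain ⟨n, hn, hv⟩ := h
      exact ⟨n, hn, Or.inl hv⟩
    · push Not at h
      refine ⟨1, one_pos, Or.inr fun hx n hn => le_antisymm ?_ (h n hn)⟩
      exact ((W i).valuation_le_one_iff _).2 (sub_mem (pow_mem hx n) (one_mem _))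
  choose c hc0 hc1 using hc
  choose d hd0 hd1 using hd
  set N : ℕ := ∏ i, c i * d i with hN
  have hNpos : 0 < N := Finset.prod_pos (fun i _ => Nat.mul_pos (hc0 i) (hd0 i))
  have hcN : ∀ i, c i ∣ N := fun i =>
    (Dvd.intro _ rfl).trans (Finset.dvd_prod_of_mem (fun i => c i * d i) (Finset.mem_univ i))
  have hdN : ∀ i, d i ∣ N := fun i =>
    (Dvd.intro_left _ rfl).trans (Finset.dvd_prod_of_mem (fun i => c i * d i) (Finset.mem_univ i))
  set u : F := ∑ j ∈ range (N + 1), x ^ j with hu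
  have key1 : ∀ i, x ∈ W i → (W i).valuation u = 1 := by
    intro i hx
    have hx' : (W i).valuation x ≤ 1 := ((W i).valuation_le_one_iff _).2 hx
    apply val_geom_eq_one _ (Nat.succ_pos N) hx'
    · exact val_succ_eq_one _ (hnat i) (hcN i) (hc1 i)
    · intro hx1 hx2
      refine val_pow_succ_sub_one_eq_one _ hx1 hx2 (hdN i) ?_
      rcases hd1 i with h | h
      · exact Or.inl h
      · exact Or.inr (h hx)
  have key2 : ∀ i, x ∉ W i → 1 < (W i).valuation x ∧
      (W i).valuation u = (W i).valuation x ^ N := by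
    intro i hx
    have hx' : 1 < (W i).valuation x := by
      rw [← not_le, (W i).valuation_le_one_iff]
      exact hx
    exact ⟨hx', val_geom_of_one_lt _ hx' N⟩
  have hu0 : u ≠ 0 := by
    obtain ⟨i₀⟩ := ‹Nonempty ι›
    intro h0
    by_cases hx : x ∈ W i₀
    · have := key1 i₀ hx
      rw [h0, map_zero] at this
      exact zero_ne_one this
    · obtain ⟨h1, h2⟩ := key2 i₀ hx
      rw [h0, map_zero] at h2
      have h3 : (W i₀).valuation x ≠ 0 := (zero_lt_one.trans h1).ne'
      exact pow_ne_zero N h3 h2.symm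
  refine ⟨u, hu0, fun i => ?_, fun i => ?_, fun i hx => ?_⟩
  · rw [← (W i).valuation_le_one_iff, map_inv₀]
    by_cases hx : x ∈ W i
    · rw [key1 i hx, inv_one]
    · obtain ⟨h1, h2⟩ := key2 i hx
      rw [h2]
      exact inv_le_one_of_one_le₀ (one_le_pow₀ h1.le)
  · rw [← (W i).valuation_le_one_iff, map_mul, map_inv₀]
    by_cases hx : x ∈ W i
    · rw [key1 i hx, inv_one, mul_one]
      exact ((W i).valuation_le_one_iff _).2 hx
    · obtain ⟨h1, h2⟩ := key2 i hx
      rw [h2]
      exact mul_inv_le_one_of_le₀ (le_self_pow₀ h1.le hNpos.ne') zero_le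
  · rw [← (W i).valuation_le_one_iff, key1 i hx]

variable {B : Type*} [CommRing B] [Algebra B F]
  (hinj : Function.Injective (algebraMap B F))
  (hrange : ∀ x : F, x ∈ (algebraMap B F).range ↔ ∀ i, x ∈ W i)

include hinj hrange

theorem isFractionRing : IsFractionRing B F := by
  have : IsDomain B := hinj.isDomain (algebraMap B F)
  rw [IsFractionRing, isLocalization_iff]
  refine ⟨fun y => ?_, fun z => ?_, fun {a b} h => ⟨1, by rw [hinj h]⟩⟩
  · have hy : (y : B) ≠ 0 := nonZeroDivisors.ne_zero y.2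
    exact IsUnit.mk0 _ (fun h0 => hy (hinj (h0.trans (map_zero _).symm)))
  · obtain ⟨u, hu0, hu1, hu2, -⟩ := exists_unit_denominator W z
    obtain ⟨b, hb⟩ := (hrange _).2 hu1
    obtain ⟨a, ha⟩ := (hrange _).2 hu2
    have hb0 : b ≠ 0 := by
      intro h0
      rw [h0, map_zero] at hb
      exact inv_ne_zero hu0 hb.symm
    refine ⟨(a, ⟨b, mem_nonZeroDivisors_of_ne_zero hb0⟩), ?_⟩
    show z * algebraMap B F b = algebraMap B F a
    rw [hb, ha]

omit hinj in
/-- The canonical map from `B` to the valuation ring `W i`. -/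
noncomputable def toW (i : ι) : B →+* ↥(W i) :=
  (algebraMap B F).codRestrict (W i) (fun b => (hrange _).1 ⟨b, rfl⟩ i)

omit hinj in
/-- The centre of `W i` on `B`. -/
noncomputable def centre (i : ι) : Ideal B :=
  Ideal.comap (toW W hrange i) (IsLocalRing.maximalIdeal ↥(W i))

omit hinj [Finite ι] [Nonempty ι] in
theorem toW_coe (i : ι) (b : B) : ((toW W hrange i b : ↥(W i)) : F) = algebraMap B F b := rfl

omit hinj [Finite ι] [Nonempty ι] in
theorem centre_isPrime (i : ι) : (centre W hrange i).IsPrime := by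
  unfold centre
  infer_instance

omit hinj [Finite ι] [Nonempty ι] in
theorem not_mem_centre_iff_isUnit (i : ι) (b : B) :
    b ∉ centre W hrange i ↔ IsUnit (toW W hrange i b) := by
  unfold centre
  rw [Ideal.mem_comap, IsLocalRing.mem_maximalIdeal, mem_nonunits_iff, not_not]

omit hinj [Finite ι] [Nonempty ι] in
theorem inv_mem_of_not_mem_centre (i : ι) (b : B) (hb : b ∉ centre W hrange i) :
    (algebraMap B F b)⁻¹ ∈ W i := by
  rw [not_mem_centre_iff_isUnit] at hb
  obtain ⟨w, hw⟩ := hb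
  have h2 : ((w⁻¹ : (↥(W i))ˣ) : ↥(W i)) * toW W hrange i b = 1 := by
    rw [← hw]; exact w.inv_mul
  have h3 : (((w⁻¹ : (↥(W i))ˣ) : ↥(W i)) : F) * algebraMap B F b = 1 := by
    have := congrArg (Subtype.val : ↥(W i) → F) h2
    rw [← toW_coe W hrange i b]
    exact this
  rw [← eq_inv_of_mul_eq_one_left h3]
  exact Subtype.property _

omit [Finite ι] [Nonempty ι] in
theorem not_mem_centre_of_inv_mem (i : ι) (b : B) (hb0 : b ≠ 0)
    (h : (algebraMap B F b)⁻¹ ∈ W i) : b ∉ centre W hrange i := by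
  rw [not_mem_centre_iff_isUnit]
  have hb0' : algebraMap B F b ≠ 0 := fun h0 => hb0 (hinj (h0.trans (map_zero _).symm))
  refine IsUnit.of_mul_eq_one ⟨(algebraMap B F b)⁻¹, h⟩ ?_
  apply Subtype.ext
  show algebraMap B F b * (algebraMap B F b)⁻¹ = 1
  exact mul_inv_cancel₀ hb0'

/-- Every proper ideal of `B` is contained in one of the centres. -/
theorem exists_le_centre (J : Ideal B) (hJ : J ≠ ⊤) : ∃ i, J ≤ centre W hrange i := by
  classical
  cases nonempty_fintype ι
  by_contra hcon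
  push Not at hcon
  obtain ⟨i₀⟩ := ‹Nonempty ι›
  have h1 : ¬ ((J : Set B) ⊆ ⋃ i ∈ ((Finset.univ : Finset ι) : Set ι), (centre W hrange i : Set B)) := by
    rw [Ideal.subset_union_prime i₀ i₀ (fun i _ _ _ => centre_isPrime W hrange i)]
    rintro ⟨i, -, hi⟩
    exact hcon i hi
  rw [Set.not_subset] at h1
  obtain ⟨a, haJ, ha⟩ := h1
  have ha' : ∀ i, a ∉ centre W hrange i := by
    intro i hi
    apply ha
    simp only [Finset.coe_univ, Set.mem_univ, Set.iUnion_true, Set.mem_iUnion, SetLike.mem_coe]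
    exact ⟨i, hi⟩
  have h2 : (algebraMap B F a)⁻¹ ∈ (algebraMap B F).range :=
    (hrange _).2 (fun i => inv_mem_of_not_mem_centre W hrange i a (ha' i))
  obtain ⟨a', ha'eq⟩ := h2
  have ha0 : a ≠ 0 := by
    intro h0
    apply ha' i₀
    rw [h0]
    exact zero_mem _
  have ha0' : algebraMap B F a ≠ 0 := fun h0 => ha0 (hinj (h0.trans (map_zero _).symm))
  have h3 : a * a' = 1 := by
    apply hinj
    rw [map_mul, ha'eq, map_one, mul_inv_cancel₀ ha0']
  apply hJ
  rw [Ideal.eq_top_iff_one, ← h3]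
  exact J.mul_mem_right _ haJ

omit [Finite ι] [Nonempty ι] hinj in
theorem centre_ne_top (i : ι) : centre W hrange i ≠ ⊤ := (centre_isPrime W hrange i).ne_top

/-- `B` has finitely many maximal ideals. -/
theorem finite_maximalSpectrum : Finite (MaximalSpectrum B) := by
  classical
  have h : ∀ M : MaximalSpectrum B, ∃ i, M.asIdeal = centre W hrange i := by
    intro M
    obtain ⟨i, hi⟩ := exists_le_centre W hinj hrange M.asIdeal M.isMaximal.ne_top
    exact ⟨i, M.isMaximal.eq_of_le (centre_ne_top W hrange i) hi⟩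
  choose g hg using h
  refine Finite.of_injective g (fun M M' hMM' => ?_)
  apply MaximalSpectrum.ext
  rw [hg M, hg M', hMM']

/-- `B` is a Prüfer domain: its localizations at primes are valuation rings. -/
theorem valuationRing_localization [IsDomain B] (P : Ideal B) [P.IsPrime] :
    ValuationRing (Localization.AtPrime P) := by
  have : IsFractionRing B F := isFractionRing W hinj hrange
  obtain ⟨i, hi⟩ := exists_le_centre W hinj hrange P (Ideal.IsPrime.ne_top ‹_›)
  have hS : P.primeCompl ≤ nonZeroDivisors B := P.primeCompl_le_nonZeroDivisors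
  let S : Subalgebra B F := Localization.subalgebra.ofField F P.primeCompl hS
  have hmem : ∀ y : F, y ∈ W i → y ∈ S := by
    intro y hy
    obtain ⟨u, hu0, hu1, hu2, hu3⟩ := exists_unit_denominator W y
    obtain ⟨b, hb⟩ := (hrange _).2 hu1
    obtain ⟨a, ha⟩ := (hrange _).2 hu2
    have hb0 : b ≠ 0 := by
      intro h0
      rw [h0, map_zero] at hb
      exact inv_ne_zero hu0 hb.symm
    have hbP : b ∈ P.primeCompl := by
      intro hbP
      have h1 : b ∈ centre W hrange i := hi hbP
      refine not_mem_centre_of_inv_mem W hinj hrange i b hb0 ?_ h1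
      rw [hb, inv_inv]
      exact hu3 i hy
    refine ⟨a, b, hbP, ?_⟩
    rw [ha, hb, inv_inv, mul_assoc, inv_mul_cancel₀ hu0, mul_one]
  have hval : ValuationRing S := by
    rw [ValuationRing.iff_isInteger_or_isInteger S F]
    intro y
    rcases (W i).mem_or_inv_mem y with hy | hy
    · exact Or.inl ⟨⟨y, hmem y hy⟩, rfl⟩
    · exact Or.inr ⟨⟨y⁻¹, hmem _ hy⟩, rfl⟩
  let e : S ≃ₐ[B] Localization.AtPrime P := IsLocalization.algEquiv P.primeCompl _ _
  exact Function.Surjective.valuationRing e.toRingEquiv.toRingHom e.surjective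

end multi

end Groth.Agent.H73.ValInter
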