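import Groth.Agent.H73.Subtr
import Mathlib.RingTheory.Flat.TorsionFree
import Mathlib.RingTheory.Flat.FaithfullyFlat.Algebra
import Mathlib.RingTheory.Valuation.ValuationRing

set_option autoImplicit false
universe u

open CategoryTheory CategoryTheory.Limits AlgebraicGeometry IsLocalRing

namespace Groth.Agent.H73

/-- An injective local homomorphism of valuation rings is surjective on spectra. -/
theorem comap_surjective_of_valuationRing {V V' : Type u} [CommRing V] [IsDomain V]
    [ValuationRing V] [CommRing V'] [IsDomain V'] [ValuationRing V'] (φ : V →+* V')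
    (hinj : Function.Injective φ) (hloc : IsLocalHom φ) :
    Function.Surjective (PrimeSpectrum.comap φ) := by
  let _ : Algebra V V' := φ.toAlgebra
  have hflat : Module.Flat V V' := by
    rw [Module.Flat.flat_iff_torsion_eq_bot_of_isBezout, eq_bot_iff]
    rintro m ⟨⟨r, hr⟩, h⟩
    have hr0 : r ≠ 0 := nonZeroDivisors.ne_zero hr
    have h' : φ r * m = 0 := h
    rcases mul_eq_zero.1 h' with h1 | h1
    · exact absurd (hinj (h1.trans (map_zero φ).symm)) hr0
    · exact h1
  have : IsLocalHom (algebraMap V V') := hloc
  have := Module.FaithfullyFlat.of_flat_of_isLocalHom (A := V) (B := V')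
  exact PrimeSpectrum.comap_surjective_of_faithfullyFlat (A := V) (B := V')

/-- Specialization is total on the spectrum of a valuation ring. -/
theorem specializes_total_of_valuationRing {V : Type u} [CommRing V] [IsDomain V]
    [ValuationRing V] (x y : PrimeSpectrum V) : x ⤳ y ∨ y ⤳ x := by
  rw [← PrimeSpectrum.le_iff_specializes, ← PrimeSpectrum.le_iff_specializes]
  have := (ValuationRing.iff_ideal_total (R := V)).1 inferInstance
  exact this.total x.asIdeal y.asIdeal

end Groth.Agent.H73
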