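import Groth.Agent.H73.WeilRes2

/-!
# The Weil restriction algebra of a finitely presented algebra is finitely presented
-/

set_option autoImplicit false
universe u

open TensorProduct

namespace Groth.Agent.H73.WeilRes

variable {A B : Type u} [CommRing A] [CommRing B] [Algebra A B]
variable {ι : Type} [Fintype ι] (b : Module.Basis ι A B)
variable (C : Type u) [CommRing C] [Algebra A C]

theorem map_map_tmul {D D' D'' : Type u} [CommRing D] [Algebra A D] [CommRing D'] [Algebra A D']
    [CommRing D''] [Algebra A D''] (f : D →ₐ[A] D') (g : D' →ₐ[A] D'') (x : D ⊗[A] B) :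
    Algebra.TensorProduct.map g (AlgHom.id A B) (Algebra.TensorProduct.map f (AlgHom.id A B) x) =
      Algebra.TensorProduct.map (g.comp f) (AlgHom.id A B) x := by
  induction x using TensorProduct.induction_on with
  | zero => simp
  | tmul d y => simp
  | add x y hx hy => rw [map_add, map_add, map_add, hx, hy]

section FP

variable {n : ℕ} (π : MvPolynomial (Fin n) A →ₐ[A] C)

/-- the polynomial ring on the coordinates of the generators -/
abbrev PF (A : Type u) [CommRing A] (n : ℕ) (ι : Type) : Type u := MvPolynomial (Fin n × ι) A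

/-- the generic point -/
noncomputable def gam : MvPolynomial (Fin n) A →ₐ[A] PF A n ι ⊗[A] B :=
  MvPolynomial.aeval (fun k => ∑ i, (MvPolynomial.X (k, i) : PF A n ι) ⊗ₜ[A] b i)

theorem gam_X (k : Fin n) :
    gam b (MvPolynomial.X k : MvPolynomial (Fin n) A) =
      ∑ i, (MvPolynomial.X (k, i) : PF A n ι) ⊗ₜ[A] b i := by
  unfold gam
  rw [MvPolynomial.aeval_X]

/-- the ideal of coordinates of the relations -/
noncomputable def K (s : Set (MvPolynomial (Fin n) A)) : Ideal (PF A n ι) :=
  Ideal.span ((fun p : MvPolynomial (Fin n) A × ι => coord b (PF A n ι) (gam b p.1) p.2) ''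
    (s ×ˢ (Set.univ : Set ι)))

theorem K_fg (s : Set (MvPolynomial (Fin n) A)) (hs : s.Finite) : (K b s).FG := by
  unfold K
  exact Submodule.fg_span ((hs.prod Set.finite_univ).image _)

theorem coord_mem_K (s : Set (MvPolynomial (Fin n) A)) (f : MvPolynomial (Fin n) A) (hf : f ∈ s)
    (i : ι) : coord b (PF A n ι) (gam b f) i ∈ K b s :=
  Ideal.subset_span ⟨(f, i), ⟨hf, Set.mem_univ _⟩, rfl⟩

/-- the map to the Weil restriction algebra, on polynomials -/
noncomputable def ψ₀ : PF A n ι →ₐ[A] R b C :=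
  MvPolynomial.aeval (fun ki : Fin n × ι => q b C (MvPolynomial.X (π (MvPolynomial.X ki.1), ki.2)))

theorem ψ₀_gam :
    (Algebra.TensorProduct.map (ψ₀ b C π) (AlgHom.id A B)).comp (gam b) = (univ b C).comp π := by
  apply MvPolynomial.algHom_ext
  intro k
  rw [AlgHom.comp_apply, AlgHom.comp_apply, gam_X, univ_apply, map_sum]
  apply Finset.sum_congr rfl
  intro i _
  rw [Algebra.TensorProduct.map_tmul]
  unfold ψ₀
  rw [MvPolynomial.aeval_X]
  rfl

theorem ψ₀_gam_apply (f : MvPolynomial (Fin n) A) :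
    Algebra.TensorProduct.map (ψ₀ b C π) (AlgHom.id A B) (gam b f) = univ b C (π f) :=
  congrArg (fun h => h f) (ψ₀_gam b C π)

variable (s : Set (MvPolynomial (Fin n) A)) (hs : Ideal.span s = RingHom.ker π.toRingHom)

include hs in
theorem ψ₀_mem (x : PF A n ι) (hx : x ∈ K b s) : ψ₀ b C π x = 0 := by
  have hle : K b s ≤ RingHom.ker (ψ₀ b C π : PF A n ι →+* R b C) := by
    unfold K
    rw [Ideal.span_le]
    rintro _ ⟨⟨f, i⟩, ⟨hf, -⟩, rfl⟩
    rw [SetLike.mem_coe, RingHom.mem_ker]
    show ψ₀ b C π (coord b (PF A n ι) (gam b f) i) = 0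
    rw [← coord_map, ψ₀_gam_apply]
    have hf0 : π f = 0 := by
      have : f ∈ RingHom.ker π.toRingHom := by
        rw [← hs]; exact Ideal.subset_span hf
      exact this
    rw [hf0, map_zero, coord_zero]
  exact hle hx

/-- the map to the Weil restriction algebra -/
noncomputable def ψ : (PF A n ι ⧸ K b s) →ₐ[A] R b C :=
  Ideal.Quotient.liftₐ (K b s) (ψ₀ b C π) (ψ₀_mem b C π s hs)

/-- the quotient map -/
noncomputable def q' : PF A n ι →ₐ[A] (PF A n ι ⧸ K b s) := Ideal.Quotient.mkₐ A (K b s)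

theorem ψ_q' (x : PF A n ι) : ψ b C π s hs (q' b s x) = ψ₀ b C π x := rfl

theorem ψ_comp_q' : (ψ b C π s hs).comp (q' b s) = ψ₀ b C π :=
  AlgHom.ext (ψ_q' b C π s hs)

/-- the generic point modulo the relations -/
noncomputable def gam' : MvPolynomial (Fin n) A →ₐ[A] (PF A n ι ⧸ K b s) ⊗[A] B :=
  (Algebra.TensorProduct.map (q' b s) (AlgHom.id A B)).comp (gam b)

include hs in
theorem ker_le_gam' : RingHom.ker π.toRingHom ≤ RingHom.ker (gam' b s).toRingHom := by
  rw [← hs, Ideal.span_le]
  intro f hf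
  rw [SetLike.mem_coe, RingHom.mem_ker]
  show gam' b s f = 0
  apply eq_zero_of_coord b
  intro i
  unfold gam'
  rw [AlgHom.comp_apply, coord_map]
  exact Ideal.Quotient.eq_zero_iff_mem.mpr (coord_mem_K b s f hf i)

variable (hπ : Function.Surjective π)

set_option maxHeartbeats 1000000 in
set_option synthInstance.maxHeartbeats 200000 in
/-- the universal point of the presented algebra -/
noncomputable def φ' : C →ₐ[A] (PF A n ι ⧸ K b s) ⊗[A] B :=
  AlgHom.liftOfSurjective (R := A) (A := MvPolynomial (Fin n) A) (B := C)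
    (C := (PF A n ι ⧸ K b s) ⊗[A] B) π hπ (gam' b s) (ker_le_gam' b C π s hs)

theorem φ'_π (f : MvPolynomial (Fin n) A) : φ' b C π s hs hπ (π f) = gam' b s f :=
  AlgHom.liftOfSurjective_apply _ _ _ _ _

/-- the inverse map -/
noncomputable def χ : R b C →ₐ[A] (PF A n ι ⧸ K b s) := θ b C (φ' b C π s hs hπ)

theorem χ_ψ : (χ b C π s hs hπ).comp (ψ b C π s hs) = AlgHom.id A _ := by
  apply Ideal.Quotient.algHom_ext
  apply MvPolynomial.algHom_ext
  rintro ⟨k, i⟩
  show χ b C π s hs hπ (ψ b C π s hs (q' b s (MvPolynomial.X (k, i)))) = q' b s (MvPolynomial.X (k, i))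
  rw [ψ_q']
  unfold ψ₀ χ
  rw [MvPolynomial.aeval_X, θ_q]
  unfold θ₀
  rw [MvPolynomial.aeval_X]
  show coord b _ (φ' b C π s hs hπ (π (MvPolynomial.X k))) i = _
  rw [φ'_π]
  unfold gam'
  rw [AlgHom.comp_apply, gam_X, map_sum]
  simp only [Algebra.TensorProduct.map_tmul, AlgHom.coe_id, id_eq]
  exact coord_sum b _ (fun j => q' b s (MvPolynomial.X (k, j))) i

theorem ψ_χ : (ψ b C π s hs).comp (χ b C π s hs hπ) = AlgHom.id A _ := by
  have h1 : (ψ b C π s hs).comp (χ b C π s hs hπ) = θ b C (univ b C) := by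
    apply θ_unique
    intro c
    obtain ⟨f, rfl⟩ := hπ c
    rw [← map_map_tmul]
    unfold χ
    rw [map_θ_univ, φ'_π]
    unfold gam'
    rw [AlgHom.comp_apply, map_map_tmul, ψ_comp_q', ψ₀_gam_apply]
  have h2 : AlgHom.id A (R b C) = θ b C (univ b C) := by
    apply θ_unique
    intro c
    rw [Algebra.TensorProduct.map_id]
    rfl
  rw [h1, h2]

end FP

/-- **The Weil restriction algebra of a finitely presented algebra is finitely presented.** -/
theorem finitePresentation_R [hC : Algebra.FinitePresentation A C] :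
    Algebra.FinitePresentation A (R b C) := by
  classical
  obtain ⟨n, π, hπ, hfg⟩ := hC.out
  obtain ⟨s, hs⟩ := hfg
  have hs' : Ideal.span (s : Set (MvPolynomial (Fin n) A)) = RingHom.ker π.toRingHom := hs
  haveI : Algebra.FinitePresentation A (PF A n ι ⧸ K b (s : Set (MvPolynomial (Fin n) A))) :=
    Algebra.FinitePresentation.quotient (K_fg b _ s.finite_toSet)
  exact Algebra.FinitePresentation.equiv
    (AlgEquiv.ofAlgHom (ψ b C π _ hs') (χ b C π _ hs' hπ) (ψ_χ b C π _ hs' hπ) (χ_ψ b C π _ hs' hπ))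

end Groth.Agent.H73.WeilRes
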