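import Groth.Agent.H73.WeilRes3
import Groth.Agent.H73.WeilFP1

set_option autoImplicit false
universe u

open TensorProduct CategoryTheory CategoryTheory.Limits

namespace Groth.Agent.H73.WeilRes

/-- `bridge` together with finite presentation of the representing algebra -/
theorem bridge_fp {A B C : CommRingCat.{u}} (α : A ⟶ B) (γ : A ⟶ C)
    (hfin : letI := α.hom.toAlgebra; Module.Finite A B ∧ Module.Free A B) :
    ∃ (R : CommRingCat.{u}) (ρ : A ⟶ R), (γ.hom.FinitePresentation → ρ.hom.FinitePresentation) ∧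
      ∀ (Q : CommRingCat.{u}) (inl : R ⟶ Q) (inr : B ⟶ Q),
      IsPushout ρ α inl inr →
      ∃ u : C ⟶ Q, γ ≫ u = ρ ≫ inl ∧
      ∀ (D P : CommRingCat.{u}) (δ : A ⟶ D) (i : D ⟶ P) (j : B ⟶ P), IsPushout δ α i j →
        ∀ (φ : C ⟶ P), γ ≫ φ = δ ≫ i →
        ∃ θ : R ⟶ D, (ρ ≫ θ = δ ∧ ∀ m : Q ⟶ P, inl ≫ m = θ ≫ i → inr ≫ m = j → u ≫ m = φ) ∧
          ∀ θ' : R ⟶ D, ρ ≫ θ' = δ →
            (∃ m : Q ⟶ P, inl ≫ m = θ' ≫ i ∧ inr ≫ m = j ∧ u ≫ m = φ) → θ' = θ := by
  letI : Algebra A B := α.hom.toAlgebra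
  letI : Algebra A C := γ.hom.toAlgebra
  obtain ⟨hf1, hf2⟩ := hfin
  let b₀ := Module.Free.chooseBasis A B
  haveI : Fintype (Module.Free.ChooseBasisIndex A B) := Module.Free.ChooseBasisIndex.fintype A B
  let b : Module.Basis (Fin (Fintype.card (Module.Free.ChooseBasisIndex A B))) A B :=
    b₀.reindex (Fintype.equivFin _)
  refine ⟨CommRingCat.of (R b C), CommRingCat.ofHom (algebraMap A (R b C)), ?_, ?_⟩
  · intro hγ
    haveI : Algebra.FinitePresentation A C := hγ
    have := finitePresentation_R b C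
    exact RingHom.finitePresentation_algebraMap.mpr this
  intro Q inl inr hQ
  have hα : CommRingCat.ofHom (algebraMap A B) = α := rfl
  have hγ : CommRingCat.ofHom (algebraMap A C) = γ := rfl
  have hQ₀ := CommRingCat.isPushout_tensorProduct A (R b C) B
  rw [hα] at hQ₀
  let eQ : Q ≅ CommRingCat.of (R b C ⊗[A] B) := hQ.isoIsPushout _ _ hQ₀
  have heQl : inl ≫ eQ.hom = CommRingCat.ofHom Algebra.TensorProduct.includeLeftRingHom :=
    hQ.inl_isoIsPushout_hom _ _ hQ₀
  have heQr : inr ≫ eQ.hom = CommRingCat.ofHom (Algebra.TensorProduct.includeRight (R := A)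
      (A := R b C) (B := B)).toRingHom := hQ.inr_isoIsPushout_hom _ _ hQ₀
  let u₁ : C ⟶ CommRingCat.of (R b C ⊗[A] B) := CommRingCat.ofHom (univ b C).toRingHom
  refine ⟨u₁ ≫ eQ.inv, ?_, ?_⟩
  · rw [← cancel_mono eQ.hom, Category.assoc, Category.assoc, Iso.inv_hom_id, Category.comp_id,
      Category.assoc, heQl]
    ext a
    show (univ b C) (algebraMap A C a) = (algebraMap A (R b C) a) ⊗ₜ[A] (1 : B)
    rw [(univ b C).commutes]
    rfl
  intro D P δ i j hP φ hφ
  letI : Algebra A D := δ.hom.toAlgebra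
  have hδ : CommRingCat.ofHom (algebraMap A D) = δ := rfl
  have hP₀ := CommRingCat.isPushout_tensorProduct A D B
  rw [hα, hδ] at hP₀
  let eP : P ≅ CommRingCat.of (D ⊗[A] B) := hP.isoIsPushout _ _ hP₀
  have hePl : i ≫ eP.hom = CommRingCat.ofHom Algebra.TensorProduct.includeLeftRingHom :=
    hP.inl_isoIsPushout_hom _ _ hP₀
  have hePr : j ≫ eP.hom = CommRingCat.ofHom (Algebra.TensorProduct.includeRight (R := A)
      (A := D) (B := B)).toRingHom := hP.inr_isoIsPushout_hom _ _ hP₀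
  -- φ as an algebra hom into the tensor product
  let φₐ : C →ₐ[A] D ⊗[A] B :=
    { toRingHom := (φ ≫ eP.hom).hom
      commutes' := fun a => by
        have h1 : (γ ≫ φ ≫ eP.hom) = δ ≫ CommRingCat.ofHom
            Algebra.TensorProduct.includeLeftRingHom := by
          rw [← Category.assoc, hφ, Category.assoc, hePl]
        have h2 := congrArg (fun k => k.hom a) h1
        exact h2 }
  -- a morphism θ' over A as an algebra hom
  have mkAlg : ∀ θ' : CommRingCat.of (R b C) ⟶ D,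
      CommRingCat.ofHom (algebraMap A (R b C)) ≫ θ' = δ →
      ∃ θₐ' : R b C →ₐ[A] D, CommRingCat.ofHom θₐ'.toRingHom = θ' := by
    intro θ' hθ'
    refine ⟨{ toRingHom := θ'.hom
              commutes' := fun a => congrArg (fun k => k.hom a) hθ' }, rfl⟩
  -- the induced maps of pushouts
  have mEq : ∀ (θₐ' : R b C →ₐ[A] D) (m : Q ⟶ P),
      inl ≫ m = CommRingCat.ofHom θₐ'.toRingHom ≫ i → inr ≫ m = j →
      m = eQ.hom ≫ CommRingCat.ofHom
        (Algebra.TensorProduct.map θₐ' (AlgHom.id A B)).toRingHom ≫ eP.inv := by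
    intro θₐ' m hm1 hm2
    have hi : i = CommRingCat.ofHom Algebra.TensorProduct.includeLeftRingHom ≫ eP.inv :=
      (Iso.eq_comp_inv eP).mpr hePl
    have hj : j = CommRingCat.ofHom (Algebra.TensorProduct.includeRight (R := A)
      (A := D) (B := B)).toRingHom ≫ eP.inv := (Iso.eq_comp_inv eP).mpr hePr
    have key1 : CommRingCat.ofHom θₐ'.toRingHom ≫
        CommRingCat.ofHom (Algebra.TensorProduct.includeLeftRingHom (R := A) (A := D) (B := B)) =
        CommRingCat.ofHom (Algebra.TensorProduct.includeLeftRingHom (R := A) (A := R b C) (B := B))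
          ≫ (CommRingCat.ofHom (Algebra.TensorProduct.map θₐ' (AlgHom.id A B)).toRingHom :
            CommRingCat.of (R b C ⊗[A] B) ⟶ CommRingCat.of (D ⊗[A] B)) := by
      apply CommRingCat.hom_ext
      apply RingHom.ext
      intro r
      show (θₐ' r) ⊗ₜ[A] (1 : B) = Algebra.TensorProduct.map θₐ' (AlgHom.id A B) (r ⊗ₜ[A] (1 : B))
      simp
    have key2 : CommRingCat.ofHom (Algebra.TensorProduct.includeRight (R := A)
          (A := D) (B := B)).toRingHom =
        CommRingCat.ofHom (Algebra.TensorProduct.includeRight (R := A)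
          (A := R b C) (B := B)).toRingHom
          ≫ (CommRingCat.ofHom (Algebra.TensorProduct.map θₐ' (AlgHom.id A B)).toRingHom :
            CommRingCat.of (R b C ⊗[A] B) ⟶ CommRingCat.of (D ⊗[A] B)) := by
      apply CommRingCat.hom_ext
      apply RingHom.ext
      intro x
      show (1 : D) ⊗ₜ[A] x = Algebra.TensorProduct.map θₐ' (AlgHom.id A B) ((1 : R b C) ⊗ₜ[A] x)
      simp
    apply hQ.hom_ext
    · rw [hm1, hi, ← Category.assoc, key1, Category.assoc, ← heQl, Category.assoc]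
    · rw [hm2, hj, key2, Category.assoc, ← heQr, Category.assoc]
  have uComp : ∀ (θₐ' : R b C →ₐ[A] D),
      (u₁ ≫ eQ.inv) ≫ (eQ.hom ≫ CommRingCat.ofHom
        (Algebra.TensorProduct.map θₐ' (AlgHom.id A B)).toRingHom ≫ eP.inv) = φ ↔
      ∀ c, Algebra.TensorProduct.map θₐ' (AlgHom.id A B) (univ b C c) = φₐ c := by
    intro θₐ'
    rw [Category.assoc, Iso.inv_hom_id_assoc, ← cancel_mono eP.hom, Category.assoc, Category.assoc,
      Iso.inv_hom_id, Category.comp_id]
    constructor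
    · intro h c
      exact congrArg (fun k => k.hom c) h
    · intro h
      ext c
      exact h c
  refine ⟨CommRingCat.ofHom (θ b C φₐ).toRingHom, ⟨?_, ?_⟩, ?_⟩
  · apply CommRingCat.hom_ext
    apply RingHom.ext
    intro a
    show (θ b C φₐ) (algebraMap A (R b C) a) = δ.hom a
    rw [(θ b C φₐ).commutes]
    rfl
  · intro m hm1 hm2
    rw [mEq (θ b C φₐ) m hm1 hm2]
    exact (uComp (θ b C φₐ)).mpr (map_θ_univ b C φₐ)
  · intro θ' hθ' ⟨m, hm1, hm2, hm3⟩
    obtain ⟨θₐ', rfl⟩ := mkAlg θ' hθ'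
    rw [mEq θₐ' m hm1 hm2] at hm3
    have := θ_unique b C φₐ θₐ' ((uComp θₐ').mp hm3)
    rw [this]

end Groth.Agent.H73.WeilRes
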