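import Groth.Agent.H73.WeilRes6
import Groth.Agent.H73.WeilFP2

set_option autoImplicit false
universe u

open CategoryTheory CategoryTheory.Limits AlgebraicGeometry Opposite

namespace Groth.Agent.H73.WeilRes

/-- `exists_representable` together with finite presentation of the representing object -/
theorem exists_representable_fp {Z X S : Scheme.{u}} [IsAffine Z] [IsAffine X] [IsAffine S]
    (g : Z ⟶ S) (f : X ⟶ S)
    (hfree : letI := (g.appTop).hom.toAlgebra
      Module.Finite Γ(S, ⊤) Γ(Z, ⊤) ∧ Module.Free Γ(S, ⊤) Γ(Z, ⊤)) :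
    ∃ W : Over S, IsAffine W.left ∧ (LocallyOfFinitePresentation f → LocallyOfFinitePresentation W.hom) ∧
      Nonempty ((Flatn.morS g f).RepresentableBy W) := by
  obtain ⟨R, ρ, hρfp, hR⟩ := bridge_fp g.appTop f.appTop hfree
  haveI : IsAffine (Over.mk f).left := inferInstanceAs (IsAffine X)
  let w : Spec R ⟶ S := Spec.map ρ ≫ S.isoSpec.inv
  have hw : w.appTop = ρ ≫ (Scheme.ΓSpecIso R).inv := by
    rw [Iso.eq_comp_inv]
    show (Spec.map ρ ≫ S.isoSpec.inv).appTop ≫ _ = _
    rw [Scheme.Hom.comp_appTop, Category.assoc, Scheme.ΓSpecIso_naturality, ← Category.assoc,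
      isoSpec_inv_appTop_ΓSpecIso, Category.id_comp]
  let W : Over S := Over.mk w
  have hPW : IsPushout w.appTop g.appTop (pullback.fst w g).appTop (pullback.snd w g).appTop :=
    isPushout_appTop_of_isPullback (IsPullback.of_hasPullback w g)
  have hQ : IsPushout ρ g.appTop ((Scheme.ΓSpecIso R).inv ≫ (pullback.fst w g).appTop)
      (pullback.snd w g).appTop := by
    refine IsPushout.of_iso hPW (Iso.refl _) (Scheme.ΓSpecIso R) (Iso.refl _) (Iso.refl _) ?_ ?_ ?_ ?_
    · rw [hw]; simp
    · simp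
    · simp
    · simp
  obtain ⟨u, hu, hUP⟩ := hR _ _ _ hQ
  let ξ₀ : pullback w g ⟶ X := ofAppTop u
  have hξ₀ : ξ₀ ≫ f = pullback.snd w g ≫ g := by
    apply ext_of_isAffine
    rw [← pullback.condition, Scheme.Hom.comp_appTop, Scheme.Hom.comp_appTop, ofAppTop_appTop, hu,
      hw, Category.assoc]
  let ξ : (Flatn.morS g f).obj (op W) := Over.homMk ξ₀ hξ₀
  -- affine bijectivity
  have haff : ∀ T : Over S, IsAffine T.left →
      Function.Bijective (fun t : T ⟶ W => (Flatn.morS g f).map t.op ξ) := by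
    intro T hT
    have hPT : IsPushout T.hom.appTop g.appTop (pullback.fst T.hom g).appTop
        (pullback.snd T.hom g).appTop :=
      isPushout_appTop_of_isPullback (IsPullback.of_hasPullback T.hom g)
    -- the induced map on fibre products
    let τ : (T ⟶ W) → (pullback T.hom g ⟶ pullback w g) := fun t =>
      pullback.lift (pullback.fst T.hom g ≫ t.left) (pullback.snd T.hom g)
        (by
          have h1 : t.left ≫ w = T.hom := Over.w t
          rw [Category.assoc, h1, pullback.condition])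
    have hτ1 : ∀ t, τ t ≫ pullback.fst w g = pullback.fst T.hom g ≫ t.left :=
      fun t => pullback.lift_fst _ _ _
    have hτ2 : ∀ t, τ t ≫ pullback.snd w g = pullback.snd T.hom g :=
      fun t => pullback.lift_snd _ _ _
    have hleft : ∀ t : T ⟶ W, ((Flatn.morS g f).map t.op ξ).left = τ t ≫ ξ₀ := fun t => rfl
    have hρθ : ∀ t : T ⟶ W, ρ ≫ toθ t.left = T.hom.appTop := by
      intro t
      have h1 : t.left ≫ w = T.hom := Over.w t
      rw [← h1, Scheme.Hom.comp_appTop, hw, Category.assoc]
      rfl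
    have hm1 : ∀ t : T ⟶ W, ((Scheme.ΓSpecIso R).inv ≫ (pullback.fst w g).appTop) ≫ (τ t).appTop =
        toθ t.left ≫ (pullback.fst T.hom g).appTop := by
      intro t
      rw [Category.assoc, ← Scheme.Hom.comp_appTop, hτ1, Scheme.Hom.comp_appTop, ← Category.assoc]
      rfl
    have hm2 : ∀ t : T ⟶ W, (pullback.snd w g).appTop ≫ (τ t).appTop =
        (pullback.snd T.hom g).appTop := by
      intro t
      rw [← Scheme.Hom.comp_appTop, hτ2]
    have happ : ∀ t : T ⟶ W, ((Flatn.morS g f).map t.op ξ).left.appTop = u ≫ (τ t).appTop := by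
      intro t
      rw [hleft, Scheme.Hom.comp_appTop, ofAppTop_appTop]
    have hover : ∀ b : (Flatn.morS g f).obj (op T),
        f.appTop ≫ b.left.appTop = T.hom.appTop ≫ (pullback.fst T.hom g).appTop := by
      intro b
      have h1 : b.left ≫ f = pullback.snd T.hom g ≫ g := Over.w b
      rw [← Scheme.Hom.comp_appTop, h1, ← pullback.condition, Scheme.Hom.comp_appTop]
    constructor
    · intro t₁ t₂ (h : (Flatn.morS g f).map t₁.op ξ = (Flatn.morS g f).map t₂.op ξ)
      obtain ⟨θ, -, huniq⟩ := hUP _ _ _ _ _ hPT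
        ((Flatn.morS g f).map t₁.op ξ).left.appTop (hover _)
      have e1 := huniq (toθ t₁.left) (hρθ t₁) ⟨(τ t₁).appTop, hm1 t₁, hm2 t₁, (happ t₁).symm⟩
      have e2 := huniq (toθ t₂.left) (hρθ t₂) ⟨(τ t₂).appTop, hm1 t₂, hm2 t₂, by
        rw [h]; exact (happ t₂).symm⟩
      apply Over.OverMorphism.ext
      exact toθ_injective _ _ (e1.trans e2.symm)
    · intro b
      obtain ⟨θ, ⟨hθ1, hθ2⟩, -⟩ := hUP _ _ _ _ _ hPT b.left.appTop (hover b)
      let t₀ : T.left ⟶ Spec R := T.left.toSpecΓ ≫ Spec.map θ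
      have ht₀ : toθ t₀ = θ := toθ_ofθ θ
      have ht₀w : t₀ ≫ w = T.hom := by
        apply ext_of_isAffine
        rw [Scheme.Hom.comp_appTop, hw, Category.assoc]
        show ρ ≫ toθ t₀ = _
        rw [ht₀, hθ1]
      let t : T ⟶ W := Over.homMk t₀ ht₀w
      refine ⟨t, ?_⟩
      apply Over.OverMorphism.ext
      apply ext_of_isAffine
      rw [happ t]
      apply hθ2
      · rw [hm1 t]
        show toθ t₀ ≫ _ = _
        rw [ht₀]
      · exact hm2 t
  have hbij := bijective_of_affine g f ξ haff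
  refine ⟨W, inferInstanceAs (IsAffine (Spec R)), ?_, ⟨?_⟩⟩
  · intro hf
    have h1 : f.appTop.hom.FinitePresentation :=
      (HasRingHomProperty.iff_of_isAffine (P := @LocallyOfFinitePresentation)).mp hf
    have h2 : LocallyOfFinitePresentation (Spec.map ρ) :=
      (HasRingHomProperty.Spec_iff (P := @LocallyOfFinitePresentation)).mpr (hρfp h1)
    show LocallyOfFinitePresentation (Spec.map ρ ≫ S.isoSpec.inv)
    infer_instance
  exact
    { homEquiv := fun {T} => Equiv.ofBijective _ (hbij T)
      homEquiv_comp := fun {T T'} j t => hmap_comp g f ξ j t }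

end Groth.Agent.H73.WeilRes
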