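import Groth.Agent.H73.WeilLoc6
import Groth.Agent.H73.WeilFP3
import Groth.Agent.H73.FixLoc8

/-!
# The Weil restriction `Mor_S(Z, X)` is locally of finite presentation when `X → S` is
-/

set_option autoImplicit false
universe u

open CategoryTheory CategoryTheory.Limits AlgebraicGeometry Opposite

namespace Groth.Agent.H73.WeilLoc

open Groth.Agent.H73.SigF

section piece

variable {Z X S : Scheme.{u}} {g : Z ⟶ S} {f : X ⟶ S}
variable {V' Z' U' : Scheme.{u}} {jV : V' ⟶ S} {jZ : Z' ⟶ Z} {jU : U' ⟶ X}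
  {g' : Z' ⟶ V'} {f' : U' ⟶ V'}
variable [IsOpenImmersion jV] [IsOpenImmersion jU]
variable (hsq : IsPullback jZ g' g jV) (hf' : jU ≫ f = f' ≫ jV)

include hsq hf' in
theorem exists_piece_fp [IsAffine V'] [IsAffine Z'] [IsAffine U']
    (hfree : letI := (g'.appTop).hom.toAlgebra
      Module.Finite Γ(V', ⊤) Γ(Z', ⊤) ∧ Module.Free Γ(V', ⊤) Γ(Z', ⊤)) :
    ∃ (W₀ : Scheme.{u}) (w : W₀ ⟶ S) (ξ : (Flatn.morS g f).obj (op (Over.mk w))),
      IsAffine W₀ ∧ (LocallyOfFinitePresentation f' → LocallyOfFinitePresentation w) ∧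
      (∀ x, w x ∈ jV.opensRange) ∧ (∀ y, lft g f ξ y ∈ jU.opensRange) ∧
      ∀ {T : Scheme.{u}} (t : T ⟶ S) (b : (Flatn.morS g f).obj (op (Over.mk t))),
        (∀ x, t x ∈ jV.opensRange) → (∀ y, lft g f b y ∈ jU.opensRange) →
        ∃! c : T ⟶ W₀, ∃ hc : c ≫ w = t, res (Flatn.morS g f) c hc ξ = b := by
  obtain ⟨W', hWaff, hWfp, ⟨R'⟩⟩ := WeilRes.exists_representable_fp g' f' hfree
  let ξ' : (Flatn.morS g' f').obj (op (Over.mk W'.hom)) := R'.homEquiv (𝟙 W')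
  have hR' : ∀ {T : Scheme.{u}} {t' : T ⟶ V'} (c : Over.mk t' ⟶ W'),
      R'.homEquiv c = res (Flatn.morS g' f') c.left (Over.w c) ξ' := by
    intro T t' c
    rw [R'.homEquiv_eq]
    rfl
  refine ⟨W'.left, W'.hom ≫ jV, Phi hsq hf' (W'.hom ≫ jV) W'.hom rfl ξ', hWaff, ?_, ?_, ?_, ?_⟩
  · intro hfp
    haveI := hWfp hfp
    infer_instance
  · intro x
    exact ⟨W'.hom x, rfl⟩
  · intro y
    rw [lft_Phi]
    exact ⟨(eps hsq (W'.hom ≫ jV) W'.hom rfl ≫ lft g' f' ξ') y, rfl⟩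
  · intro T t b ht hb
    have hr : Set.range t ⊆ Set.range jV := by
      rintro _ ⟨x, rfl⟩
      exact ht x
    let t' : T ⟶ V' := IsOpenImmersion.lift jV t hr
    have ht' : t' ≫ jV = t := IsOpenImmersion.lift_fac _ _ _
    obtain ⟨φ, hφ⟩ := exists_Psi hsq hf' t t' ht' b hb
    let c' : Over.mk t' ⟶ W' := R'.homEquiv.symm φ
    have hc' : res (Flatn.morS g' f') c'.left (Over.w c') ξ' = φ := by
      rw [← hR']
      exact R'.homEquiv.apply_symm_apply φ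
    have hcw : c'.left ≫ W'.hom ≫ jV = t := by
      rw [← Category.assoc, Over.w c']
      exact ht'
    refine ⟨c'.left, ⟨hcw, ?_⟩, ?_⟩
    · rw [Phi_res hsq hf' (W'.hom ≫ jV) W'.hom rfl c'.left t t' ht' hcw (Over.w c'), hc', hφ]
    · rintro c₁ ⟨hc₁, hres₁⟩
      have hc₁' : c₁ ≫ W'.hom = t' := by
        rw [← cancel_mono jV, Category.assoc, hc₁, ht']
      let c₁' : Over.mk t' ⟶ W' := Over.homMk c₁ hc₁'
      have h2 : res (Flatn.morS g' f') c₁ hc₁' ξ' = φ := by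
        apply Phi_injective hsq hf' t t' ht'
        rw [hφ, ← hres₁]
        exact (Phi_res hsq hf' (W'.hom ≫ jV) W'.hom rfl c₁ t t' ht' hc₁ hc₁' ξ').symm
      have h3 : R'.homEquiv c₁' = R'.homEquiv c' := by
        rw [hR', hR', hc']
        exact h2
      have h4 := R'.homEquiv.injective h3
      exact congrArg (fun k => k.left) h4

end piece

variable {Z X S : Scheme.{u}} (g : Z ⟶ S) (f : X ⟶ S)

/-- existence of an affine local representer for `(V, U)`, locally of finite presentation -/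
def HasLocRepFP (V : S.Opens) (U : X.Opens) : Prop :=
  ∃ (W₀ : Scheme.{u}) (w : W₀ ⟶ S) (ξ : (Flatn.morS g f).obj (op (Over.mk w))),
    IsAffine W₀ ∧ LocallyOfFinitePresentation w ∧ IsLocRep g f V U w ξ

theorem exists_hasLocRep_fp (hg : Mor2.IsFinLocFree g) [LocallyOfFinitePresentation f] (s : S) :
    ∃ V : S.Opens, s ∈ V ∧ IsAffineOpen V ∧
      ∀ U : X.Opens, IsAffineOpen U → U ≤ f ⁻¹ᵁ V → HasLocRepFP g f V U := by
  obtain ⟨V', Z', jV, jZ, g', hjV, hV', hZ', hsq, ⟨x₀, hx₀⟩, hfree⟩ := exists_good g hg s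
  refine ⟨jV.opensRange, ⟨x₀, hx₀⟩, isAffineOpen_opensRange jV, ?_⟩
  intro U hU hUV
  haveI : IsAffine U.toScheme := hU
  have hr : Set.range (U.ι ≫ f) ⊆ Set.range jV := by
    rintro _ ⟨y, rfl⟩
    have : (U.ι y) ∈ f ⁻¹ᵁ jV.opensRange := hUV y.2
    exact this
  let f' : U.toScheme ⟶ V' := IsOpenImmersion.lift jV (U.ι ≫ f) hr
  have hf' : U.ι ≫ f = f' ≫ jV := (IsOpenImmersion.lift_fac _ _ _).symm
  obtain ⟨W₀, w, ξ, hW₀, hfp, h1, h2, h3⟩ := exists_piece_fp (jU := U.ι) hsq hf' hfree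
  have hf'fp : LocallyOfFinitePresentation f' := by
    apply FixLoc.lfp_of_comp (g := jV) inferInstance
    rw [← hf']
    infer_instance
  refine ⟨W₀, w, ξ, hW₀, hfp hf'fp, ⟨h1, ?_, ?_⟩⟩
  · intro y
    have := h2 y
    rwa [Scheme.Opens.opensRange_ι] at this
  · intro T t b ht hb
    apply h3 t b ht
    intro y
    rw [Scheme.Opens.opensRange_ι]
    exact hb y

variable {g f}

theorem exists_iso_preimage_of_locRep {W₀ : Over S}
    (R : (Flatn.morS g f).RepresentableBy W₀) {V : S.Opens} {W_V : Scheme.{u}} {w_V : W_V ⟶ S}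
    {ξ_V : (Flatn.morS g f).obj (op (Over.mk w_V))}
    (hrep : IsLocRep g f V (f ⁻¹ᵁ V) w_V ξ_V) :
    ∃ α : (W₀.hom ⁻¹ᵁ V).toScheme ⟶ W_V, IsIso α ∧ α ≫ w_V = (W₀.hom ⁻¹ᵁ V).ι ≫ W₀.hom := by
  let ξ₀ : (Flatn.morS g f).obj (op (Over.mk W₀.hom)) := R.homEquiv (𝟙 W₀)
  have hR : ∀ {T : Scheme.{u}} {t : T ⟶ S} (c : Over.mk t ⟶ W₀),
      R.homEquiv c = res (Flatn.morS g f) c.left (Over.w c) ξ₀ := by
    intro T t c
    rw [R.homEquiv_eq]
    rfl
  let P : W₀.left.Opens := W₀.hom ⁻¹ᵁ V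
  have h1 : ∀ x, (P.ι ≫ W₀.hom) x ∈ V := fun x => x.2
  have h2 : ∀ y, lft g f (res (Flatn.morS g f) P.ι rfl ξ₀) y ∈ f ⁻¹ᵁ V := by
    intro y
    show f _ ∈ V
    rw [f_lft]
    exact h1 _
  obtain ⟨α, ⟨hα, hαres⟩, -⟩ := hrep.univ (P.ι ≫ W₀.hom) (res (Flatn.morS g f) P.ι rfl ξ₀) h1 h2
  let β₀ : Over.mk w_V ⟶ W₀ := R.homEquiv.symm ξ_V
  have hβ₀ : res (Flatn.morS g f) β₀.left (Over.w β₀) ξ₀ = ξ_V := by
    rw [← hR]
    exact R.homEquiv.apply_symm_apply ξ_V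
  have hβr : Set.range β₀.left ⊆ Set.range P.ι := by
    rintro _ ⟨x, rfl⟩
    rw [Scheme.Opens.range_ι]
    show W₀.hom (β₀.left x) ∈ V
    rw [← Scheme.Hom.comp_apply, Over.w β₀]
    exact hrep.hV x
  let β : W_V ⟶ P.toScheme := IsOpenImmersion.lift P.ι β₀.left hβr
  have hβ : β ≫ P.ι = β₀.left := IsOpenImmersion.lift_fac _ _ _
  have hw1 : (α ≫ β₀.left) ≫ W₀.hom = P.ι ≫ W₀.hom := by
    rw [Category.assoc, Over.w β₀]
    exact hα
  have hαβ : α ≫ β = 𝟙 _ := by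
    rw [← cancel_mono P.ι, Category.assoc, hβ, Category.id_comp]
    have h3 : R.homEquiv (Over.homMk (α ≫ β₀.left) hw1 : Over.mk (P.ι ≫ W₀.hom) ⟶ W₀) =
        R.homEquiv (Over.homMk P.ι rfl : Over.mk (P.ι ≫ W₀.hom) ⟶ W₀) := by
      rw [hR, hR]
      show res (Flatn.morS g f) (α ≫ β₀.left) hw1 ξ₀ = res (Flatn.morS g f) P.ι rfl ξ₀
      rw [← hαres, ← hβ₀, res_res]
    exact congrArg (fun k => k.left) (R.homEquiv.injective h3)
  have hw2 : (β ≫ α) ≫ w_V = w_V := by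
    rw [Category.assoc, hα, ← Category.assoc, hβ]
    exact Over.w β₀
  have hβα : β ≫ α = 𝟙 _ := by
    obtain ⟨c₀, -, huniq⟩ := hrep.univ w_V ξ_V hrep.hV hrep.hU
    have e1 := huniq (β ≫ α) ⟨hw2, by
      rw [← res_res (Flatn.morS g f) α β hα (by rw [← Category.assoc, hβ]; exact Over.w β₀),
        hαres, res_res]
      rw [res_congr (Flatn.morS g f) hβ]
      exact hβ₀⟩
    have e2 := huniq (𝟙 _) ⟨Category.id_comp _, res_id _ _ _⟩
    exact e1.trans e2.symm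
  exact ⟨α, ⟨β, hαβ, hβα⟩, hα⟩


/-- **Representability of `Mor_S(Z, X)` by an `S`-scheme affine and of finite presentation over
`S`**, for `Z → S` finite locally free and `X → S` affine of finite presentation. -/
theorem exists_representable_affine_fp (hg : Mor2.IsFinLocFree g) [IsAffineHom f]
    [LocallyOfFinitePresentation f] :
    ∃ W : Over S, IsAffineHom W.hom ∧ LocallyOfFinitePresentation W.hom ∧
      Nonempty ((Flatn.morS g f).RepresentableBy W) := by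
  obtain ⟨hfin, hflat, hfp⟩ := hg
  haveI : IsFinite g := hfin
  have hmem : ∀ {T : Scheme.{u}} (t : T ⟶ S) (b : (Flatn.morS g f).obj (Opposite.op (Over.mk t)))
      (x : T) (V : S.Opens), t x ∈ V → x ∈ locOpen t b V (f ⁻¹ᵁ V) := by
    intro T t b x V hx
    rw [mem_locOpen]
    refine ⟨hx, fun y hy => ?_⟩
    show f _ ∈ V
    rw [f_lft, hy]
    exact hx
  obtain ⟨W₀, ⟨R⟩⟩ := representable_of_cover (g := g) (f := f) (by
    intro T t b x
    obtain ⟨V, hsV, hV, hVU⟩ := exists_hasLocRep g f ⟨hfin, hflat, hfp⟩ (t x)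
    exact ⟨V, f ⁻¹ᵁ V, hVU _ (hV.preimage f) le_rfl, hmem t b x V hsV⟩)
  refine ⟨W₀, ?_, ?_, ⟨R⟩⟩
  · apply isAffineHom_of_forall_exists_isAffineOpen
    intro s
    obtain ⟨V, hsV, hV, hVU⟩ := exists_hasLocRep g f ⟨hfin, hflat, hfp⟩ s
    obtain ⟨W_V, w_V, ξ_V, hWaff, hrep⟩ := hVU _ (hV.preimage f) le_rfl
    exact ⟨V, hsV, hV, isAffineOpen_preimage_of_locRep R hrep⟩
  · have : IsZariskiLocalAtTarget @LocallyOfFinitePresentation.{u} :=
      HasRingHomProperty.instIsZariskiLocalAtTarget _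
    apply IsZariskiLocalAtTarget.of_forall_exists_morphismRestrict
      (P := @LocallyOfFinitePresentation)
    intro s
    obtain ⟨V, hsV, hV, hVU⟩ := exists_hasLocRep_fp g f ⟨hfin, hflat, hfp⟩ s
    obtain ⟨W_V, w_V, ξ_V, hWaff, hwfp, hrep⟩ := hVU _ (hV.preimage f) le_rfl
    refine ⟨V, hsV, ?_⟩
    obtain ⟨α, hα, hαw⟩ := exists_iso_preimage_of_locRep R hrep
    apply FixLoc.lfp_of_comp (g := V.ι) inferInstance
    rw [morphismRestrict_ι, ← hαw]
    infer_instance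

end Groth.Agent.H73.WeilLoc
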