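import Groth.Agent.H73.WeilFP4

/-!
# `Mor_S(X, Y)` in the cartesian monoidal language of `Over S`
-/

set_option autoImplicit false
universe u

open CategoryTheory CategoryTheory.Limits AlgebraicGeometry Opposite MonoidalCategory
  CartesianMonoidalCategory

namespace Groth.Agent.H73.WeilLoc

open Groth.Agent.H73.SigF

variable {S : Scheme.{u}} (X Y : Over S)

theorem symm_symm {A B C : Scheme.{u}} (f : A ⟶ C) (g : B ⟶ C) :
    (pullbackSymmetry f g).hom ≫ (pullbackSymmetry g f).hom = 𝟙 _ := by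
  apply pullback.hom_ext <;> simp

/-- from the monoidal formulation to `morS` -/
noncomputable def toMor (T : Over S) (φ : X ⊗ T ⟶ Y) : (Flatn.morS X.hom Y.hom).obj (op T) :=
  (Over.homMk ((pullbackSymmetry T.hom X.hom).hom ≫ φ.left) (by
    show ((pullbackSymmetry T.hom X.hom).hom ≫ φ.left) ≫ Y.hom = pullback.snd T.hom X.hom ≫ X.hom
    rw [Category.assoc, Over.w φ, Over.tensorObj_hom, pullbackSymmetry_hom_comp_fst_assoc]) :
    (Over.map X.hom).obj ((Over.pullback X.hom).obj T) ⟶ Over.mk Y.hom)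

theorem toMor_left (T : Over S) (φ : X ⊗ T ⟶ Y) :
    Over.Hom.left (toMor X Y T φ) = (pullbackSymmetry T.hom X.hom).hom ≫ φ.left := rfl

/-- from `morS` to the monoidal formulation -/
noncomputable def ofMor (T : Over S) (b : (Flatn.morS X.hom Y.hom).obj (op T)) : X ⊗ T ⟶ Y :=
  Over.homMk ((pullbackSymmetry X.hom T.hom).hom ≫ Over.Hom.left b) (by
    have hb : Over.Hom.left b ≫ Y.hom = pullback.snd T.hom X.hom ≫ X.hom := Over.w b
    rw [Category.assoc, hb, Over.tensorObj_hom, pullbackSymmetry_hom_comp_snd_assoc])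

theorem toMor_ofMor (T : Over S) (b : (Flatn.morS X.hom Y.hom).obj (op T)) :
    toMor X Y T (ofMor X Y T b) = b := by
  apply Over.OverMorphism.ext
  rw [toMor_left]
  show (pullbackSymmetry T.hom X.hom).hom ≫ (pullbackSymmetry X.hom T.hom).hom ≫ _ = _
  rw [← Category.assoc, symm_symm, Category.id_comp]

theorem toMor_injective (T : Over S) : Function.Injective (toMor X Y T) := by
  intro φ φ' h
  apply Over.OverMorphism.ext
  have h1 := congrArg (fun k => Over.Hom.left k) h
  simp only [toMor_left] at h1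
  exact (cancel_epi _).mp h1

theorem toMor_natural {T T' : Over S} (v : T' ⟶ T) (φ : X ⊗ T ⟶ Y) :
    toMor X Y T' ((X ◁ v) ≫ φ) = (Flatn.morS X.hom Y.hom).map v.op (toMor X Y T φ) := by
  apply Over.OverMorphism.ext
  rw [map_eq_res, res_left, toMor_left, toMor_left, Over.comp_left]
  rw [← Category.assoc, ← Category.assoc]
  congr 1
  apply pullback.hom_ext
  · rw [Category.assoc, Over.whiskerLeft_left_fst, pullbackSymmetry_hom_comp_fst, Category.assoc,
      pullbackSymmetry_hom_comp_fst, pmap_snd]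
  · rw [Category.assoc, Over.whiskerLeft_left_snd, pullbackSymmetry_hom_comp_snd_assoc,
      Category.assoc, pullbackSymmetry_hom_comp_snd, pmap_fst]

/-- **From representability of `morS` to the universal property in `Over S`.** -/
theorem exists_ev (M : Over S) (R : (Flatn.morS X.hom Y.hom).RepresentableBy M) :
    ∃ ev : X ⊗ M ⟶ Y, ∀ (T : Over S) (φ : X ⊗ T ⟶ Y), ∃! v : T ⟶ M, (X ◁ v) ≫ ev = φ := by
  let ξ : (Flatn.morS X.hom Y.hom).obj (op M) := R.homEquiv (𝟙 M)
  refine ⟨ofMor X Y M ξ, fun T φ => ?_⟩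
  have key : ∀ v : T ⟶ M, (X ◁ v) ≫ ofMor X Y M ξ = φ ↔ R.homEquiv v = toMor X Y T φ := by
    intro v
    rw [R.homEquiv_eq]
    have h1 : (Flatn.morS X.hom Y.hom).map v.op (R.homEquiv (𝟙 M)) =
        toMor X Y T ((X ◁ v) ≫ ofMor X Y M ξ) := by
      rw [toMor_natural, toMor_ofMor]
    rw [h1]
    exact (toMor_injective X Y T).eq_iff.symm
  refine ⟨R.homEquiv.symm (toMor X Y T φ), (key _).mpr (R.homEquiv.apply_symm_apply _), ?_⟩
  intro v hv
  rw [← (key v).mp hv, Equiv.symm_apply_apply]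

/-- **`Hom_S(X, Y)` is representable by an `S`-scheme affine and of finite presentation**, for `X`
finite locally free and `Y` affine of finite presentation over `S`. -/
theorem exists_hom_scheme (hXf : IsFinite X.hom) (hXfl : Flat X.hom)
    (hXfp : LocallyOfFinitePresentation X.hom)
    (hYa : IsAffineHom Y.hom) (hYfp : LocallyOfFinitePresentation Y.hom) :
    ∃ (M : Over S) (ev : X ⊗ M ⟶ Y), IsAffineHom M.hom ∧ LocallyOfFinitePresentation M.hom ∧
      ∀ (T : Over S) (φ : X ⊗ T ⟶ Y), ∃! v : T ⟶ M, (X ◁ v) ≫ ev = φ := by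
  have hg : Mor2.IsFinLocFree X.hom := ⟨hXf, hXfl, hXfp⟩
  obtain ⟨M, hMa, hMfp, ⟨R⟩⟩ := exists_representable_affine_fp (g := X.hom) (f := Y.hom) hg
  obtain ⟨ev, hev⟩ := exists_ev X Y M R
  exact ⟨M, ev, hMa, hMfp, hev⟩

end Groth.Agent.H73.WeilLoc
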