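import Groth.Agent.H73.GmPts
import Groth.Agent.H73.SemiUnits
import Groth.Prelude.Def_WeilRes

/-!
# Sections of the Weil restriction of `𝔾_m` over a semilocal ring lift from the closed points
-/

set_option autoImplicit false
universe u
open CategoryTheory CategoryTheory.Limits AlgebraicGeometry
open scoped TensorProduct

noncomputable section

namespace Groth.Agent.H73.WeilGm

open Groth.Agent.H73.GmPts Groth.Agent.H73.GmH1_GP Groth.Agent.H73.SemiUnits

variable (A : Type u) [CommRing A] (B : Type u) [CommRing B] [Algebra A B]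

/-- `Spec B ⟶ Spec A` -/
abbrev gAB : Spec (CommRingCat.of B) ⟶ Spec (CommRingCat.of A) :=
  Spec.map (CommRingCat.ofHom (algebraMap A B))

/-- the test object `Spec A` -/
abbrev T₀ : Over (Spec (CommRingCat.of A)) := Over.mk (𝟙 (Spec (CommRingCat.of A)))

/-- the test object `Spec (A ⧸ m)` -/
abbrev Tm (m : Ideal A) : Over (Spec (CommRingCat.of A)) :=
  Over.mk (Spec.map (CommRingCat.ofHom (Ideal.Quotient.mk m)))

/-- the closed immersion `Spec (A ⧸ m) ⟶ Spec A` over `Spec A` -/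
abbrev im (m : Ideal A) : Tm A m ⟶ T₀ A :=
  Over.homMk (Spec.map (CommRingCat.ofHom (Ideal.Quotient.mk m))) (Category.comp_id _)

/-- the base change of `Spec (A ⧸ m)` is `Spec ((A ⧸ m) ⊗ B)` -/
def eIso (m : Ideal A) :
    pullback (Tm A m).hom (gAB A B) ≅ Spec (CommRingCat.of ((A ⧸ m) ⊗[A] B)) :=
  pullbackSpecIso A (A ⧸ m) B

theorem eIso_hom_snd (m : Ideal A) :
    (eIso A B m).hom ≫ Spec.map (CommRingCat.ofHom (incR A B m)) =
      pullback.snd (Tm A m).hom (gAB A B) :=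
  pullbackSpecIso_hom_snd A (A ⧸ m) B

/-- the ring map `(A ⧸ m) ⊗ B → Γ(Y_m)` (an isomorphism) -/
def τ (m : Ideal A) : CommRingCat.of ((A ⧸ m) ⊗[A] B) ⟶ Γ(pullback (Tm A m).hom (gAB A B), ⊤) :=
  (Scheme.ΓSpecIso _).inv ≫ (eIso A B m).hom.appTop

/-- its inverse -/
def τinv (m : Ideal A) : Γ(pullback (Tm A m).hom (gAB A B), ⊤) ⟶ CommRingCat.of ((A ⧸ m) ⊗[A] B) :=
  (eIso A B m).inv.appTop ≫ (Scheme.ΓSpecIso _).hom

theorem τinv_τ (m : Ideal A) : τinv A B m ≫ τ A B m = 𝟙 _ := by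
  rw [τ, τinv, Category.assoc, Iso.hom_inv_id_assoc, ← Scheme.Hom.comp_appTop, Iso.hom_inv_id]
  rfl

/-- the `B`-algebra structure of the functions on a base change -/
def σ (T : Over (Spec (CommRingCat.of A))) :
    CommRingCat.of B ⟶ Γ(pullback T.hom (gAB A B), ⊤) :=
  (Scheme.ΓSpecIso _).inv ≫ (pullback.snd T.hom (gAB A B)).appTop

theorem σ_eq (m : Ideal A) :
    σ A B (Tm A m) = CommRingCat.ofHom (incR A B m) ≫ τ A B m := by
  rw [σ, τ, ← eIso_hom_snd, Scheme.Hom.comp_appTop, Scheme.ΓSpecIso_inv_naturality_assoc]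

theorem map_σ {T T' : Over (Spec (CommRingCat.of A))} (v : T' ⟶ T) :
    σ A B T ≫ ((Over.pullback (gAB A B)).map v).left.appTop = σ A B T' := by
  have h1 : ((Over.pullback (gAB A B)).map v).left ≫ pullback.snd T.hom (gAB A B) =
      pullback.snd T'.hom (gAB A B) := by
    simp
    exact pullback.lift_snd _ _ _
  rw [σ, σ, Category.assoc, ← Scheme.Hom.comp_appTop, h1]


/-- **Sections of `R_{B/A}(𝔾_m)` over a semilocal ring lift from the closed points.** -/
theorem main [Finite (MaximalSpectrum A)] [Algebra.IsIntegral A B]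
    (P : Over (Spec (CommRingCat.of A)))
    (q : Red.bc (gAB A B) P ⟶ Red.Gm (Spec (CommRingCat.of B)))
    (hP : WeilRes.IsWeilRes (gAB A B) (Red.Gm (Spec (CommRingCat.of B))) P q)
    (u : ∀ m : MaximalSpectrum A, Spec (CommRingCat.of (A ⧸ m.asIdeal)) ⟶ P.left)
    (hu : ∀ m : MaximalSpectrum A,
      u m ≫ P.hom = Spec.map (CommRingCat.ofHom (Ideal.Quotient.mk m.asIdeal))) :
    ∃ s : Spec (CommRingCat.of A) ⟶ P.left, s ≫ P.hom = 𝟙 (Spec (CommRingCat.of A)) ∧
      ∀ m : MaximalSpectrum A,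
        Spec.map (CommRingCat.ofHom (Ideal.Quotient.mk m.asIdeal)) ≫ s = u m := by
  -- points over the closed points
  let um : ∀ m : MaximalSpectrum A, Tm A m.asIdeal ⟶ P := fun m => Over.homMk (u m) (hu m)
  let xm : ∀ m : MaximalSpectrum A,
      Red.bc (gAB A B) (Tm A m.asIdeal) ⟶ Red.Gm (Spec (CommRingCat.of B)) :=
    fun m => WeilRes.restr (gAB A B) q _ (um m)
  let wm : ∀ m : MaximalSpectrum A, Γ(pullback (Tm A m.asIdeal).hom (gAB A B), ⊤) :=
    fun m => Red.gmFn (xm m)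
  have hwm : ∀ m, IsUnit (wm m) := fun m => isUnit_gmFn _
  -- transport to tensor products
  let w' : ∀ m : MaximalSpectrum A, ((A ⧸ m.asIdeal) ⊗[A] B)ˣ :=
    fun m => ((hwm m).map (τinv A B m.asIdeal).hom).unit
  obtain ⟨b, hb⟩ := exists_unit A B w'
  -- the unit over `Spec A`
  let b₀ : Γ(pullback (T₀ A).hom (gAB A B), ⊤) := (σ A B (T₀ A)).hom (b : B)
  have hb₀ : IsUnit b₀ := b.isUnit.map (σ A B (T₀ A)).hom
  obtain ⟨x₀, hx₀⟩ := exists_gm_of_unit (S := Spec (CommRingCat.of B))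
    (T := Red.bc (gAB A B) (T₀ A)) b₀ hb₀
  obtain ⟨s', hs'⟩ := (hP (T₀ A)).2 x₀
  refine ⟨s'.left, Over.w s', fun m => ?_⟩
  have key : im A m.asIdeal ≫ s' = um m := by
    apply (hP (Tm A m.asIdeal)).1
    show WeilRes.restr (gAB A B) q _ (im A m.asIdeal ≫ s') = xm m
    rw [WeilRes.restr_comp, hs']
    apply gm_ext
    rw [gmFn_comp, hx₀]
    show ((Over.pullback (gAB A B)).map (im A m.asIdeal)).left.appTop.hom
      ((σ A B (T₀ A)).hom (b : B)) = wm m
    have h1 : ((Over.pullback (gAB A B)).map (im A m.asIdeal)).left.appTop.hom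
        ((σ A B (T₀ A)).hom (b : B)) = (σ A B (Tm A m.asIdeal)).hom (b : B) := by
      rw [← map_σ A B (im A m.asIdeal)]
      rfl
    have h2 : (σ A B (Tm A m.asIdeal)).hom (b : B) = (τ A B m.asIdeal).hom (incR A B m.asIdeal b) := by
      rw [σ_eq]
      rfl
    have h3 : (τ A B m.asIdeal).hom ((τinv A B m.asIdeal).hom (wm m)) = wm m := by
      have := congrArg (fun k => k.hom (wm m)) (τinv_τ A B m.asIdeal)
      exact this
    rw [h1, h2, hb m]
    show (τ A B m.asIdeal).hom ((τinv A B m.asIdeal).hom (wm m)) = wm m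
    exact h3
  exact congrArg (fun k => k.left) key

end Groth.Agent.H73.WeilGm
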