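import Groth.Agent.H73.SigF2
import Groth.Agent.H73.WeilRes6

/-!
# `Flatn.morS g f` is a Zariski sheaf on `Over S`
-/

set_option autoImplicit false
universe u

open CategoryTheory CategoryTheory.Limits AlgebraicGeometry Opposite

namespace Groth.Agent.H73.WeilLoc

open Groth.Agent.H73.SigF

variable {Z X S : Scheme.{u}} (g : Z ⟶ S) (f : X ⟶ S)

/-- the induced map on fibre products -/
noncomputable abbrev pmap {T T' : Scheme.{u}} (a : T' ⟶ T) {t : T ⟶ S} {t' : T' ⟶ S}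
    (h : a ≫ t = t') : pullback t' g ⟶ pullback t g :=
  pullback.lift (pullback.fst t' g ≫ a) (pullback.snd t' g)
    (by rw [Category.assoc, h, pullback.condition])

@[reassoc (attr := simp)]
theorem pmap_fst {T T' : Scheme.{u}} (a : T' ⟶ T) {t : T ⟶ S} {t' : T' ⟶ S}
    (h : a ≫ t = t') : pmap g a h ≫ pullback.fst t g = pullback.fst t' g ≫ a :=
  pullback.lift_fst _ _ _

@[reassoc (attr := simp)]
theorem pmap_snd {T T' : Scheme.{u}} (a : T' ⟶ T) {t : T ⟶ S} {t' : T' ⟶ S}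
    (h : a ≫ t = t') : pmap g a h ≫ pullback.snd t g = pullback.snd t' g :=
  pullback.lift_snd _ _ _

theorem res_left {T T' : Scheme.{u}} (a : T' ⟶ T) {t : T ⟶ S} {t' : T' ⟶ S}
    (h : a ≫ t = t') (b : (Flatn.morS g f).obj (op (Over.mk t))) :
    (res (Flatn.morS g f) a h b).left = pmap g a h ≫ b.left := rfl

theorem cover_f_eq {T : Scheme.{u}} (t : T ⟶ S) (𝒰 : Scheme.OpenCover.{u + 1} T) (i : 𝒰.I₀) :
    (Scheme.Pullback.openCoverOfLeft 𝒰 t g).f i = pmap g (𝒰.f i) rfl := by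
  apply pullback.hom_ext
  · show pullback.lift _ _ _ ≫ pullback.fst _ _ = _
    exact (pullback.lift_fst _ _ _).trans (pullback.lift_fst _ _ _).symm
  · show pullback.lift _ _ _ ≫ pullback.snd _ _ = _
    exact (pullback.lift_snd _ _ _).trans
      ((Category.comp_id _).trans (pullback.lift_snd _ _ _).symm)

/-- a cone over two charts of `T ×_S Z` factors through the chart over the intersection -/
theorem exists_factor {T U₁ U₂ Q : Scheme.{u}} (t : T ⟶ S) (a₁ : U₁ ⟶ T) (a₂ : U₂ ⟶ T)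
    (q₁ : Q ⟶ pullback (a₁ ≫ t) g) (q₂ : Q ⟶ pullback (a₂ ≫ t) g)
    (hq : q₁ ≫ pmap g a₁ rfl = q₂ ≫ pmap g a₂ rfl) :
    ∃ m : Q ⟶ pullback (pullback.fst a₁ a₂ ≫ a₁ ≫ t) g,
      q₁ = m ≫ pmap g (pullback.fst a₁ a₂) rfl ∧
      q₂ = m ≫ pmap g (pullback.snd a₁ a₂)
        (by rw [← Category.assoc, ← pullback.condition, Category.assoc]) := by
  have c1 : (q₁ ≫ pullback.fst _ _) ≫ a₁ = (q₂ ≫ pullback.fst _ _) ≫ a₂ := by
    have := congrArg (fun k => k ≫ pullback.fst t g) hq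
    simp only [Category.assoc, pmap_fst] at this
    simpa only [Category.assoc] using this
  have c2 : q₁ ≫ pullback.snd _ _ = q₂ ≫ pullback.snd _ _ := by
    have := congrArg (fun k => k ≫ pullback.snd t g) hq
    simp only [Category.assoc, pmap_snd] at this
    exact this
  refine ⟨pullback.lift (pullback.lift (q₁ ≫ pullback.fst _ _) (q₂ ≫ pullback.fst _ _) c1)
      (q₁ ≫ pullback.snd _ _) (by
        rw [← Category.assoc, pullback.lift_fst, Category.assoc, Category.assoc,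
          pullback.condition]), ?_, ?_⟩
  · apply pullback.hom_ext
    · rw [Category.assoc, pmap_fst, pullback.lift_fst_assoc, pullback.lift_fst]
    · rw [Category.assoc, pmap_snd, pullback.lift_snd]
  · apply pullback.hom_ext
    · rw [Category.assoc, pmap_fst, pullback.lift_fst_assoc, pullback.lift_snd]
    · rw [Category.assoc, pmap_snd, pullback.lift_snd, c2]

theorem compat_of_factor {T U₁ U₂ Q Y : Scheme.{u}} (t : T ⟶ S) (a₁ : U₁ ⟶ T) (a₂ : U₂ ⟶ T)
    (q₁ : Q ⟶ pullback (a₁ ≫ t) g) (q₂ : Q ⟶ pullback (a₂ ≫ t) g)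
    (hq : q₁ ≫ pmap g a₁ rfl = q₂ ≫ pmap g a₂ rfl)
    (φ₁ : pullback (a₁ ≫ t) g ⟶ Y) (φ₂ : pullback (a₂ ≫ t) g ⟶ Y)
    (h1 : pmap g (pullback.fst a₁ a₂) rfl ≫ φ₁ =
      pmap g (pullback.snd a₁ a₂)
        (by rw [← Category.assoc, ← pullback.condition, Category.assoc]) ≫ φ₂) :
    q₁ ≫ φ₁ = q₂ ≫ φ₂ := by
  obtain ⟨m, hm1, hm2⟩ := exists_factor g t a₁ a₂ q₁ q₂ hq
  rw [hm1, Category.assoc, h1, ← Category.assoc, ← hm2]

/-- morphisms out of `T ×_S Z` are determined on the charts of an open cover of `T` -/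
theorem hom_ext_pullback {T Y : Scheme.{u}} (t : T ⟶ S) (𝒰 : Scheme.OpenCover.{u + 1} T)
    (b b' : pullback t g ⟶ Y)
    (h : ∀ i : 𝒰.I₀, pmap g (𝒰.f i) rfl ≫ b = pmap g (𝒰.f i) rfl ≫ b') : b = b' := by
  apply (Scheme.Pullback.openCoverOfLeft 𝒰 t g).hom_ext
  intro (i : 𝒰.I₀)
  have e := cover_f_eq g t 𝒰 i
  exact (congrArg (fun k => k ≫ b) e).trans
    ((h i).trans (congrArg (fun k => k ≫ b') e).symm)

/-- gluing morphisms out of `T ×_S Z` along an open cover of `T` -/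
theorem glue_pullback {T Y : Scheme.{u}} (t : T ⟶ S) (𝒰 : Scheme.OpenCover.{u + 1} T)
    (φ : ∀ i : 𝒰.I₀, pullback (𝒰.f i ≫ t) g ⟶ Y)
    (hφ : ∀ i j : 𝒰.I₀, pmap g (pullback.fst (𝒰.f i) (𝒰.f j)) rfl ≫ φ i =
      pmap g (pullback.snd (𝒰.f i) (𝒰.f j))
        (by rw [← Category.assoc, ← pullback.condition, Category.assoc]) ≫ φ j) :
    ∃ b₀ : pullback t g ⟶ Y, ∀ i : 𝒰.I₀, pmap g (𝒰.f i) rfl ≫ b₀ = φ i := by
  have hcompat : ∀ i j : 𝒰.I₀,
      pullback.fst ((Scheme.Pullback.openCoverOfLeft 𝒰 t g).f i)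
        ((Scheme.Pullback.openCoverOfLeft 𝒰 t g).f j) ≫ φ i =
      pullback.snd ((Scheme.Pullback.openCoverOfLeft 𝒰 t g).f i)
        ((Scheme.Pullback.openCoverOfLeft 𝒰 t g).f j) ≫ φ j := by
    intro i j
    have hcondQ : pullback.fst ((Scheme.Pullback.openCoverOfLeft 𝒰 t g).f i)
        ((Scheme.Pullback.openCoverOfLeft 𝒰 t g).f j) ≫ pmap g (𝒰.f i) rfl =
        pullback.snd ((Scheme.Pullback.openCoverOfLeft 𝒰 t g).f i)
        ((Scheme.Pullback.openCoverOfLeft 𝒰 t g).f j) ≫ pmap g (𝒰.f j) rfl := by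
      have e1 := cover_f_eq g t 𝒰 i
      have e2 := cover_f_eq g t 𝒰 j
      exact (congrArg (fun k => _ ≫ k) e1).symm.trans
        (pullback.condition.trans (congrArg (fun k => _ ≫ k) e2))
    exact compat_of_factor g t (𝒰.f i) (𝒰.f j) _ _ hcondQ _ _ (hφ i j)
  refine ⟨(Scheme.Pullback.openCoverOfLeft 𝒰 t g).glueMorphisms φ hcompat, fun i => ?_⟩
  exact (congrArg (fun k => k ≫ _) (cover_f_eq g t 𝒰 i)).symm.trans
    ((Scheme.Pullback.openCoverOfLeft 𝒰 t g).ι_glueMorphisms _ hcompat i)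

/-- the underlying morphism of a section of `morS` -/
noncomputable abbrev lft {T : Scheme.{u}} {t : T ⟶ S}
    (b : (Flatn.morS g f).obj (op (Over.mk t))) : pullback t g ⟶ X := Over.Hom.left b

theorem lft_w {T : Scheme.{u}} {t : T ⟶ S} (b : (Flatn.morS g f).obj (op (Over.mk t))) :
    lft g f b ≫ f = pullback.snd t g ≫ g := Over.w b

theorem lft_res {T T' : Scheme.{u}} (a : T' ⟶ T) {t : T ⟶ S} {t' : T' ⟶ S}
    (h : a ≫ t = t') (b : (Flatn.morS g f).obj (op (Over.mk t))) :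
    lft g f (res (Flatn.morS g f) a h b) = pmap g a h ≫ lft g f b := rfl

theorem lft_ext {T : Scheme.{u}} {t : T ⟶ S} (b b' : (Flatn.morS g f).obj (op (Over.mk t)))
    (h : lft g f b = lft g f b') : b = b' := Over.OverMorphism.ext h

/-- constructor for sections of `morS` -/
noncomputable abbrev mkS {T : Scheme.{u}} (t : T ⟶ S) (φ : pullback t g ⟶ X)
    (h : φ ≫ f = pullback.snd t g ≫ g) : (Flatn.morS g f).obj (op (Over.mk t)) :=
  (Over.homMk φ h : (Over.map g).obj ((Over.pullback g).obj (Over.mk t)) ⟶ Over.mk f)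

theorem lft_mkS {T : Scheme.{u}} (t : T ⟶ S) (φ : pullback t g ⟶ X)
    (h : φ ≫ f = pullback.snd t g ≫ g) : lft g f (mkS g f t φ h) = φ := rfl

theorem isZarSheaf_morS : IsZarSheaf (Flatn.morS g f) where
  sep {T} t 𝒰 b b' h := by
    apply lft_ext
    apply hom_ext_pullback g t 𝒰
    intro i
    exact congrArg (fun k => lft g f k) (h i)
  glue {T} t 𝒰 c hc := by
    obtain ⟨b₀, hb₀⟩ := glue_pullback g t 𝒰 (fun i => lft g f (c i))
      (fun i j => congrArg (fun k => lft g f k) (hc i j))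
    have hw : b₀ ≫ f = pullback.snd t g ≫ g := by
      apply hom_ext_pullback g t 𝒰
      intro i
      rw [← Category.assoc, hb₀, lft_w, pmap_snd_assoc]
    refine ⟨mkS g f t b₀ hw, ?_⟩
    intro i
    apply lft_ext
    rw [lft_res, lft_mkS]
    exact hb₀ i

end Groth.Agent.H73.WeilLoc
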