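import Groth.Agent.H73.WeilLoc1

/-!
# Local pieces of the Weil restriction functor
-/

set_option autoImplicit false
universe u

open CategoryTheory CategoryTheory.Limits AlgebraicGeometry Opposite

namespace Groth.Agent.H73.WeilLoc

open Groth.Agent.H73.SigF

variable {Z X S : Scheme.{u}} (g : Z ⟶ S) (f : X ⟶ S)
variable {V' Z' U' : Scheme.{u}} (jV : V' ⟶ S) (jZ : Z' ⟶ Z) (jU : U' ⟶ X)
  (g' : Z' ⟶ V') (f' : U' ⟶ V')

section eps

variable {g jV jZ g'} (hsq : IsPullback jZ g' g jV)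
variable {T : Scheme.{u}} (t : T ⟶ S) (t' : T ⟶ V') (h : t' ≫ jV = t)

/-- comparison `T ×_S Z ⟶ T ×_{V'} Z'` -/
noncomputable def eps : pullback t g ⟶ pullback t' g' :=
  pullback.lift (pullback.fst t g)
    (hsq.lift (pullback.snd t g) (pullback.fst t g ≫ t')
      (by rw [Category.assoc, h, pullback.condition]))
    (by rw [hsq.lift_snd])

@[reassoc (attr := simp)]
theorem eps_fst : eps hsq t t' h ≫ pullback.fst t' g' = pullback.fst t g :=
  pullback.lift_fst _ _ _

@[reassoc (attr := simp)]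
theorem eps_snd : eps hsq t t' h ≫ pullback.snd t' g' ≫ jZ = pullback.snd t g := by
  rw [eps, pullback.lift_snd_assoc, hsq.lift_fst]

include hsq h in
theorem del_cond : pullback.fst t' g' ≫ t = (pullback.snd t' g' ≫ jZ) ≫ g := by
  rw [← h, ← Category.assoc, pullback.condition, Category.assoc, Category.assoc, hsq.w]

/-- the inverse comparison -/
noncomputable def del : pullback t' g' ⟶ pullback t g :=
  pullback.lift (pullback.fst t' g') (pullback.snd t' g' ≫ jZ) (del_cond hsq t t' h)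

@[reassoc (attr := simp)]
theorem del_fst : del hsq t t' h ≫ pullback.fst t g = pullback.fst t' g' :=
  pullback.lift_fst _ _ _

@[reassoc (attr := simp)]
theorem del_snd : del hsq t t' h ≫ pullback.snd t g = pullback.snd t' g' ≫ jZ :=
  pullback.lift_snd _ _ _

@[reassoc (attr := simp)]
theorem eps_del : eps hsq t t' h ≫ del hsq t t' h = 𝟙 _ := by
  apply pullback.hom_ext
  · rw [Category.assoc, del_fst, eps_fst, Category.id_comp]
  · rw [Category.assoc, del_snd, eps_snd, Category.id_comp]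

@[reassoc (attr := simp)]
theorem del_eps : del hsq t t' h ≫ eps hsq t t' h = 𝟙 _ := by
  apply pullback.hom_ext
  · rw [Category.assoc, eps_fst, del_fst, Category.id_comp]
  · apply hsq.hom_ext
    · rw [Category.assoc, Category.assoc, eps_snd, del_snd, Category.id_comp]
    · rw [Category.assoc, Category.assoc, ← pullback.condition, eps_fst_assoc, del_fst_assoc,
        Category.id_comp, pullback.condition]

/-- naturality of `eps` -/
theorem pmap_eps {T₁ : Scheme.{u}} (a : T₁ ⟶ T) (t₁ : T₁ ⟶ S) (t₁' : T₁ ⟶ V')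
    (h₁ : t₁' ≫ jV = t₁) (ha : a ≫ t = t₁) (ha' : a ≫ t' = t₁') :
    pmap g a ha ≫ eps hsq t t' h = eps hsq t₁ t₁' h₁ ≫ pmap g' a ha' := by
  apply pullback.hom_ext
  · rw [Category.assoc, eps_fst, pmap_fst, Category.assoc, pmap_fst, eps_fst_assoc]
  · apply hsq.hom_ext
    · rw [Category.assoc, Category.assoc, eps_snd, pmap_snd, Category.assoc, Category.assoc,
        pmap_snd_assoc, eps_snd]
    · rw [Category.assoc, Category.assoc, ← pullback.condition, eps_fst_assoc, pmap_fst_assoc,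
        Category.assoc, Category.assoc, pmap_snd_assoc, ← pullback.condition, eps_fst_assoc, ← ha']

end eps


section piece

variable {g f jV jZ jU g' f'} [IsOpenImmersion jV] [IsOpenImmersion jU]
variable (hsq : IsPullback jZ g' g jV) (hf' : jU ≫ f = f' ≫ jV)

/-- transport a section of the local functor to the global one -/
noncomputable def Phi {T : Scheme.{u}} (t : T ⟶ S) (t' : T ⟶ V') (h : t' ≫ jV = t)
    (φ : (Flatn.morS g' f').obj (op (Over.mk t'))) : (Flatn.morS g f).obj (op (Over.mk t)) :=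
  mkS g f t (eps hsq t t' h ≫ lft g' f' φ ≫ jU) (by
    rw [Category.assoc, Category.assoc, hf', ← Category.assoc (lft g' f' φ), lft_w,
      Category.assoc, ← hsq.w, eps_snd_assoc])

theorem lft_Phi {T : Scheme.{u}} (t : T ⟶ S) (t' : T ⟶ V') (h : t' ≫ jV = t)
    (φ : (Flatn.morS g' f').obj (op (Over.mk t'))) :
    lft g f (Phi hsq hf' t t' h φ) = eps hsq t t' h ≫ lft g' f' φ ≫ jU := rfl

theorem Phi_res {T T₁ : Scheme.{u}} (t : T ⟶ S) (t' : T ⟶ V') (h : t' ≫ jV = t)
    (a : T₁ ⟶ T) (t₁ : T₁ ⟶ S) (t₁' : T₁ ⟶ V')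
    (h₁ : t₁' ≫ jV = t₁) (ha : a ≫ t = t₁) (ha' : a ≫ t' = t₁')
    (φ : (Flatn.morS g' f').obj (op (Over.mk t'))) :
    res (Flatn.morS g f) a ha (Phi hsq hf' t t' h φ) =
      Phi hsq hf' t₁ t₁' h₁ (res (Flatn.morS g' f') a ha' φ) := by
  apply lft_ext
  rw [lft_res, lft_Phi, lft_Phi, lft_res, ← Category.assoc, pmap_eps hsq t t' h a t₁ t₁' h₁ ha ha']
  simp only [Category.assoc]

theorem Phi_injective {T : Scheme.{u}} (t : T ⟶ S) (t' : T ⟶ V') (h : t' ≫ jV = t)
    (φ₁ φ₂ : (Flatn.morS g' f').obj (op (Over.mk t')))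
    (hφ : Phi hsq hf' t t' h φ₁ = Phi hsq hf' t t' h φ₂) : φ₁ = φ₂ := by
  apply lft_ext
  have h1 := congrArg (fun k => lft g f k) hφ
  simp only [lft_Phi] at h1
  have h2 := congrArg (fun k => del hsq t t' h ≫ k) h1
  simp only [del_eps_assoc] at h2
  exact (cancel_mono jU).mp h2

include hsq hf' in
theorem exists_Psi {T : Scheme.{u}} (t : T ⟶ S) (t' : T ⟶ V') (h : t' ≫ jV = t)
    (b : (Flatn.morS g f).obj (op (Over.mk t)))
    (hb : ∀ y, lft g f b y ∈ jU.opensRange) :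
    ∃ φ : (Flatn.morS g' f').obj (op (Over.mk t')), Phi hsq hf' t t' h φ = b := by
  have hr : Set.range (lft g f b) ⊆ Set.range jU := by
    rintro _ ⟨y, rfl⟩
    exact hb y
  let l : pullback t g ⟶ U' := IsOpenImmersion.lift jU (lft g f b) hr
  have hl : l ≫ jU = lft g f b := IsOpenImmersion.lift_fac _ _ _
  have hw : (del hsq t t' h ≫ l) ≫ f' = pullback.snd t' g' ≫ g' := by
    rw [← cancel_mono jV, Category.assoc, Category.assoc, ← hf', ← Category.assoc l, hl, lft_w,
      del_snd_assoc, Category.assoc, hsq.w]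
  refine ⟨mkS g' f' t' (del hsq t t' h ≫ l) hw, ?_⟩
  apply lft_ext
  rw [lft_Phi, lft_mkS, Category.assoc, hl, eps_del_assoc]

include hsq hf' in
theorem exists_piece [IsAffine V'] [IsAffine Z'] [IsAffine U']
    (hfree : letI := (g'.appTop).hom.toAlgebra
      Module.Finite Γ(V', ⊤) Γ(Z', ⊤) ∧ Module.Free Γ(V', ⊤) Γ(Z', ⊤)) :
    ∃ (W₀ : Scheme.{u}) (w : W₀ ⟶ S) (ξ : (Flatn.morS g f).obj (op (Over.mk w))),
      IsAffine W₀ ∧ (∀ x, w x ∈ jV.opensRange) ∧ (∀ y, lft g f ξ y ∈ jU.opensRange) ∧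
      ∀ {T : Scheme.{u}} (t : T ⟶ S) (b : (Flatn.morS g f).obj (op (Over.mk t))),
        (∀ x, t x ∈ jV.opensRange) → (∀ y, lft g f b y ∈ jU.opensRange) →
        ∃! c : T ⟶ W₀, ∃ hc : c ≫ w = t, res (Flatn.morS g f) c hc ξ = b := by
  obtain ⟨W', hWaff, ⟨R'⟩⟩ := WeilRes.exists_representable g' f' hfree
  let ξ' : (Flatn.morS g' f').obj (op (Over.mk W'.hom)) := R'.homEquiv (𝟙 W')
  have hR' : ∀ {T : Scheme.{u}} {t' : T ⟶ V'} (c : Over.mk t' ⟶ W'),
      R'.homEquiv c = res (Flatn.morS g' f') c.left (Over.w c) ξ' := by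
    intro T t' c
    rw [R'.homEquiv_eq]
    rfl
  refine ⟨W'.left, W'.hom ≫ jV, Phi hsq hf' (W'.hom ≫ jV) W'.hom rfl ξ', hWaff, ?_, ?_, ?_⟩
  · intro x
    exact ⟨W'.hom x, rfl⟩
  · intro y
    rw [lft_Phi]
    exact ⟨(eps hsq (W'.hom ≫ jV) W'.hom rfl ≫ lft g' f' ξ') y, rfl⟩
  · intro T t b ht hb
    have hr : Set.range t ⊆ Set.range jV := by
      rintro _ ⟨x, rfl⟩
      exact ht x
    let t' : T ⟶ V' := IsOpenImmersion.lift jV t hr
    have ht' : t' ≫ jV = t := IsOpenImmersion.lift_fac _ _ _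
    obtain ⟨φ, hφ⟩ := exists_Psi hsq hf' t t' ht' b hb
    let c' : Over.mk t' ⟶ W' := R'.homEquiv.symm φ
    have hc' : res (Flatn.morS g' f') c'.left (Over.w c') ξ' = φ := by
      rw [← hR']
      exact R'.homEquiv.apply_symm_apply φ
    have hcw : c'.left ≫ W'.hom ≫ jV = t := by
      rw [← Category.assoc, Over.w c']
      exact ht'
    refine ⟨c'.left, ⟨hcw, ?_⟩, ?_⟩
    · rw [Phi_res hsq hf' (W'.hom ≫ jV) W'.hom rfl c'.left t t' ht' hcw (Over.w c'), hc', hφ]
    · rintro c₁ ⟨hc₁, hres₁⟩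
      have hc₁' : c₁ ≫ W'.hom = t' := by
        rw [← cancel_mono jV, Category.assoc, hc₁, ht']
      let c₁' : Over.mk t' ⟶ W' := Over.homMk c₁ hc₁'
      have h2 : res (Flatn.morS g' f') c₁ hc₁' ξ' = φ := by
        apply Phi_injective hsq hf' t t' ht'
        rw [hφ, ← hres₁]
        exact (Phi_res hsq hf' (W'.hom ≫ jV) W'.hom rfl c₁ t t' ht' hc₁ hc₁' ξ').symm
      have h3 : R'.homEquiv c₁' = R'.homEquiv c' := by
        rw [hR', hR', hc']
        exact h2
      have h4 := R'.homEquiv.injective h3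
      exact congrArg (fun k => k.left) h4

end piece

end Groth.Agent.H73.WeilLoc
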