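import Groth.Agent.H73.WeilLoc2
import Mathlib.AlgebraicGeometry.Morphisms.UniversallyClosed
import Mathlib.AlgebraicGeometry.PullbackCarrier

/-!
# Local representers give open subfunctors of the Weil restriction functor
-/

set_option autoImplicit false
universe u

open CategoryTheory CategoryTheory.Limits AlgebraicGeometry Opposite

namespace Groth.Agent.H73.WeilLoc

open Groth.Agent.H73.SigF

variable {Z X S : Scheme.{u}} (g : Z ⟶ S) (f : X ⟶ S)

/-- `(W₀, w, ξ)` represents the subfunctor of `morS g f` of those `(t, b)` with `t` landing in `V`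
and `b` landing in `U`. -/
structure IsLocRep (V : S.Opens) (U : X.Opens) {W₀ : Scheme.{u}} (w : W₀ ⟶ S)
    (ξ : (Flatn.morS g f).obj (op (Over.mk w))) : Prop where
  hV : ∀ x, w x ∈ V
  hU : ∀ y, lft g f ξ y ∈ U
  univ : ∀ {T : Scheme.{u}} (t : T ⟶ S) (b : (Flatn.morS g f).obj (op (Over.mk t))),
    (∀ x, t x ∈ V) → (∀ y, lft g f b y ∈ U) →
    ∃! c : T ⟶ W₀, ∃ hc : c ≫ w = t, res (Flatn.morS g f) c hc ξ = b

variable {g f}

theorem IsLocRep.mono {V : S.Opens} {U : X.Opens} {W₀ : Scheme.{u}} {w : W₀ ⟶ S}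
    {ξ : (Flatn.morS g f).obj (op (Over.mk w))} (h : IsLocRep g f V U w ξ)
    (T : Over S) (c c' : T ⟶ Over.mk w)
    (hcc : (Flatn.morS g f).map c.op ξ = (Flatn.morS g f).map c'.op ξ) : c = c' := by
  have h1 : ∀ x, T.hom x ∈ V := by
    intro x
    have : T.hom = c.left ≫ w := (Over.w c).symm
    rw [this]
    exact h.hV _
  have h2 : ∀ y, lft g f (res (Flatn.morS g f) c.left (Over.w c) ξ) y ∈ U := by
    intro y
    rw [lft_res]
    exact h.hU _
  obtain ⟨c₀, -, huniq⟩ := h.univ T.hom (res (Flatn.morS g f) c.left (Over.w c) ξ) h1 h2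
  have e1 := huniq c.left ⟨Over.w c, rfl⟩
  have e2 := huniq c'.left ⟨Over.w c', by
    rw [map_eq_res, map_eq_res] at hcc
    exact hcc.symm⟩
  apply Over.OverMorphism.ext
  exact e1.trans e2.symm

section open_

variable [UniversallyClosed g]

/-- the open locus of `T` where `(t, b)` lands in `(V, U)` -/
noncomputable def locOpen {T : Scheme.{u}} (t : T ⟶ S) (b : (Flatn.morS g f).obj (op (Over.mk t)))
    (V : S.Opens) (U : X.Opens) : T.Opens :=
  t ⁻¹ᵁ V ⊓ ⟨((pullback.fst t g) '' ((lft g f b) ⁻¹' (U : Set X)ᶜ))ᶜ, by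
    rw [isOpen_compl_iff]
    apply (pullback.fst t g).isClosedMap
    exact (U.isOpen.preimage (lft g f b).continuous).isClosed_compl⟩

theorem mem_locOpen {T : Scheme.{u}} (t : T ⟶ S) (b : (Flatn.morS g f).obj (op (Over.mk t)))
    (V : S.Opens) (U : X.Opens) (x : T) :
    x ∈ locOpen t b V U ↔ t x ∈ V ∧ ∀ y, pullback.fst t g y = x → lft g f b y ∈ U := by
  constructor
  · rintro ⟨h1, h2⟩
    refine ⟨h1, fun y hy => ?_⟩
    by_contra hn
    exact h2 ⟨y, hn, hy⟩
  · rintro ⟨h1, h2⟩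
    refine ⟨h1, ?_⟩
    rintro ⟨y, hy1, hy2⟩
    exact hy1 (h2 y hy2)

theorem IsLocRep.exists_classifying {V : S.Opens} {U : X.Opens} {W₀ : Scheme.{u}} {w : W₀ ⟶ S}
    {ξ : (Flatn.morS g f).obj (op (Over.mk w))} (h : IsLocRep g f V U w ξ)
    {T : Scheme.{u}} (t : T ⟶ S) (b : (Flatn.morS g f).obj (op (Over.mk t))) :
    ∃ (c : (locOpen t b V U).toScheme ⟶ W₀) (hc : c ≫ w = (locOpen t b V U).ι ≫ t),
      res (Flatn.morS g f) c hc ξ = res (Flatn.morS g f) (locOpen t b V U).ι rfl b := by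
  have h1 : ∀ x, ((locOpen t b V U).ι ≫ t) x ∈ V := by
    intro x
    have := ((mem_locOpen t b V U ((locOpen t b V U).ι x)).mp x.2).1
    exact this
  have h2 : ∀ y, lft g f (res (Flatn.morS g f) (locOpen t b V U).ι rfl b) y ∈ U := by
    intro y
    rw [lft_res]
    have hx := ((mem_locOpen t b V U ((locOpen t b V U).ι
      (pullback.fst ((locOpen t b V U).ι ≫ t) g y))).mp
      (pullback.fst ((locOpen t b V U).ι ≫ t) g y).2).2
    apply hx (pmap g (locOpen t b V U).ι rfl y)
    rw [← Scheme.Hom.comp_apply, pmap_fst, Scheme.Hom.comp_apply]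
  obtain ⟨c, ⟨hc, hres⟩, -⟩ := h.univ _ _ h1 h2
  exact ⟨c, hc, hres⟩

theorem IsLocRep.mem_locOpen_of_classifying {V : S.Opens} {U : X.Opens} {W₀ : Scheme.{u}}
    {w : W₀ ⟶ S} {ξ : (Flatn.morS g f).obj (op (Over.mk w))} (h : IsLocRep g f V U w ξ)
    {T : Scheme.{u}} (t : T ⟶ S) (b : (Flatn.morS g f).obj (op (Over.mk t)))
    {T' : Scheme.{u}} (a : T' ⟶ T) (c : T' ⟶ W₀) (hc : c ≫ w = a ≫ t)
    (hres : res (Flatn.morS g f) c hc ξ = res (Flatn.morS g f) a rfl b) (x : T') :
    a x ∈ locOpen t b V U := by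
  rw [mem_locOpen]
  constructor
  · rw [← Scheme.Hom.comp_apply, ← hc, Scheme.Hom.comp_apply]
    exact h.hV _
  · intro y hy
    obtain ⟨z, hz1, hz2⟩ := Scheme.Pullback.exists_preimage_pullback (f := a)
      (g := pullback.fst t g) x y hy.symm
    let κ : pullback a (pullback.fst t g) ⟶ pullback (a ≫ t) g :=
      pullback.lift (pullback.fst _ _) (pullback.snd _ _ ≫ pullback.snd t g) (by
        rw [← Category.assoc, pullback.condition, Category.assoc, Category.assoc,
          pullback.condition])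
    have hκ : κ ≫ pmap g a rfl = pullback.snd a (pullback.fst t g) := by
      apply pullback.hom_ext
      · rw [Category.assoc, pmap_fst, pullback.lift_fst_assoc, pullback.condition]
      · rw [Category.assoc, pmap_snd, pullback.lift_snd]
    have h1 : lft g f (res (Flatn.morS g f) c hc ξ) (κ z) ∈ U := by
      rw [lft_res]
      exact h.hU _
    rw [hres, lft_res] at h1
    have h2 : (pmap g a rfl) (κ z) = y := by
      rw [← Scheme.Hom.comp_apply, hκ]
      exact hz2
    rw [Scheme.Hom.comp_apply, h2] at h1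
    exact h1

end open_

end Groth.Agent.H73.WeilLoc
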