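import Groth.Agent.H73.WeilLoc3

/-!
# Membership in the open locus `locOpen`
-/

set_option autoImplicit false
universe u

open CategoryTheory CategoryTheory.Limits AlgebraicGeometry Opposite

namespace Groth.Agent.H73.WeilLoc

open Groth.Agent.H73.SigF

variable {Z X S : Scheme.{u}} {g : Z ⟶ S} {f : X ⟶ S} [UniversallyClosed g]

theorem mem_locOpen_of_lands {T : Scheme.{u}} (t : T ⟶ S)
    (b : (Flatn.morS g f).obj (op (Over.mk t))) (V : S.Opens) (U : X.Opens)
    {T' : Scheme.{u}} (a : T' ⟶ T) {t' : T' ⟶ S} (h : a ≫ t = t')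
    (hV : ∀ x, t' x ∈ V)
    (hU : ∀ y, lft g f (res (Flatn.morS g f) a h b) y ∈ U) (x : T') :
    a x ∈ locOpen t b V U := by
  rw [mem_locOpen]
  constructor
  · rw [← Scheme.Hom.comp_apply, h]
    exact hV x
  · intro y hy
    obtain ⟨z, hz1, hz2⟩ := Scheme.Pullback.exists_preimage_pullback (f := a)
      (g := pullback.fst t g) x y hy.symm
    let κ : pullback a (pullback.fst t g) ⟶ pullback t' g :=
      pullback.lift (pullback.fst _ _) (pullback.snd _ _ ≫ pullback.snd t g) (by
        rw [← h, ← Category.assoc, pullback.condition, Category.assoc, Category.assoc,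
          pullback.condition])
    have hκ : κ ≫ pmap g a h = pullback.snd a (pullback.fst t g) := by
      apply pullback.hom_ext
      · rw [Category.assoc, pmap_fst, pullback.lift_fst_assoc, pullback.condition]
      · rw [Category.assoc, pmap_snd, pullback.lift_snd]
    have h1 := hU (κ z)
    rw [lft_res] at h1
    have h2 : (pmap g a h) (κ z) = y := by
      rw [← Scheme.Hom.comp_apply, hκ]
      exact hz2
    rw [Scheme.Hom.comp_apply, h2] at h1
    exact h1

theorem lands_of_mem_locOpen {T : Scheme.{u}} (t : T ⟶ S)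
    (b : (Flatn.morS g f).obj (op (Over.mk t))) (V : S.Opens) (U : X.Opens)
    {T' : Scheme.{u}} (a : T' ⟶ T) {t' : T' ⟶ S} (h : a ≫ t = t')
    (ha : ∀ x, a x ∈ locOpen t b V U) (y : ↑(pullback t' g)) :
    lft g f (res (Flatn.morS g f) a h b) y ∈ U := by
  rw [lft_res]
  have hx := ((mem_locOpen t b V U (a (pullback.fst t' g y))).mp (ha _)).2
  apply hx (pmap g a h y)
  rw [← Scheme.Hom.comp_apply, pmap_fst, Scheme.Hom.comp_apply]

end Groth.Agent.H73.WeilLoc
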