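import Mathlib

set_option autoImplicit false
universe u

open TensorProduct

namespace Groth.Agent.H73.WeilRes

section Coord

variable {A B : Type u} [CommRing A] [CommRing B] [Algebra A B]
variable {ι : Type} [Fintype ι] (b : Module.Basis ι A B)

/-- coordinates of an element of `D ⊗ B` in the basis `1 ⊗ b i` -/
noncomputable def coord (D : Type u) [CommRing D] [Algebra A D] (p : D ⊗[A] B) (i : ι) : D :=
  (Algebra.TensorProduct.basis D b).repr p i

theorem sum_coord (D : Type u) [CommRing D] [Algebra A D] (p : D ⊗[A] B) :
    ∑ i, coord b D p i ⊗ₜ[A] b i = p := by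
  have h := (Algebra.TensorProduct.basis D b).sum_repr p
  conv_rhs => rw [← h]
  apply Finset.sum_congr rfl
  intro i _
  exact (Algebra.TensorProduct.basis_repr_symm_apply' b _ i).symm

theorem coord_sum (D : Type u) [CommRing D] [Algebra A D] (a : ι → D) (i : ι) :
    coord b D (∑ j, a j ⊗ₜ[A] b j) i = a i := by
  classical
  unfold coord
  rw [map_sum, Finsupp.finset_sum_apply]
  rw [Finset.sum_eq_single i]
  · simp
  · intro j _ hji
    simp [Finsupp.single_apply, hji]
  · intro h; exact absurd (Finset.mem_univ i) h

theorem coord_zero (D : Type u) [CommRing D] [Algebra A D] (i : ι) : coord b D 0 i = 0 := by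
  unfold coord; simp

theorem eq_zero_of_coord (D : Type u) [CommRing D] [Algebra A D] (p : D ⊗[A] B)
    (h : ∀ i, coord b D p i = 0) : p = 0 := by
  rw [← sum_coord b D p]
  apply Finset.sum_eq_zero
  intro i _
  rw [h i, TensorProduct.zero_tmul]

theorem coord_map {D D' : Type u} [CommRing D] [Algebra A D] [CommRing D'] [Algebra A D']
    (θ : D →ₐ[A] D') (p : D ⊗[A] B) (i : ι) :
    coord b D' (Algebra.TensorProduct.map θ (AlgHom.id A B) p) i = θ (coord b D p i) := by
  conv_lhs => rw [← sum_coord b D p]
  rw [map_sum]
  simp only [Algebra.TensorProduct.map_tmul, AlgHom.coe_id, id_eq]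
  exact coord_sum b D' (fun j => θ (coord b D p j)) i

end Coord

end Groth.Agent.H73.WeilRes
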