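import Groth.Agent.H73.WeilRes

set_option autoImplicit false
universe u

open TensorProduct

namespace Groth.Agent.H73.WeilRes

variable {A B : Type u} [CommRing A] [CommRing B] [Algebra A B]
variable {ι : Type} [Fintype ι] (b : Module.Basis ι A B)
variable (C : Type u) [CommRing C] [Algebra A C]

/-- the polynomial ring on the coordinates -/
abbrev P₀ (A : Type u) [CommRing A] (ι : Type) (C : Type u) : Type u := MvPolynomial (C × ι) A

/-- the candidate universal map before quotienting -/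
noncomputable def u₀ (c : C) : P₀ A ι C ⊗[A] B := ∑ i, MvPolynomial.X (c, i) ⊗ₜ[A] b i

/-- the defects -/
def defects : Set (P₀ A ι C) :=
  {x | ∃ (c c' : C) (i : ι), x = coord b (P₀ A ι C) (u₀ b C (c + c') - u₀ b C c - u₀ b C c') i} ∪
  {x | ∃ (a : A) (c : C) (i : ι), x = coord b (P₀ A ι C) (u₀ b C (a • c) - a • u₀ b C c) i} ∪
  {x | ∃ (c c' : C) (i : ι), x = coord b (P₀ A ι C) (u₀ b C (c * c') - u₀ b C c * u₀ b C c') i} ∪
  {x | ∃ (i : ι), x = coord b (P₀ A ι C) (u₀ b C 1 - 1) i}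

/-- the defect ideal -/
noncomputable def I : Ideal (P₀ A ι C) := Ideal.span (defects b C)

/-- the Weil restriction algebra -/
abbrev R : Type u := P₀ A ι C ⧸ I b C

/-- the quotient map -/
noncomputable def q : P₀ A ι C →ₐ[A] R b C := Ideal.Quotient.mkₐ A (I b C)

/-- the base-changed quotient map -/
noncomputable def qB : P₀ A ι C ⊗[A] B →ₐ[A] R b C ⊗[A] B :=
  Algebra.TensorProduct.map (q b C) (AlgHom.id A B)

theorem qB_eq_zero (p : P₀ A ι C ⊗[A] B) (h : ∀ i, coord b (P₀ A ι C) p i ∈ I b C) :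
    qB b C p = 0 := by
  apply eq_zero_of_coord b
  intro i
  unfold qB
  rw [coord_map]
  exact Ideal.Quotient.eq_zero_iff_mem.mpr (h i)

theorem qB_add (c c' : C) : qB b C (u₀ b C (c + c')) = qB b C (u₀ b C c) + qB b C (u₀ b C c') := by
  have h := qB_eq_zero b C (u₀ b C (c + c') - u₀ b C c - u₀ b C c') (fun i =>
    Ideal.subset_span (Or.inl (Or.inl (Or.inl ⟨c, c', i, rfl⟩))))
  rw [map_sub, map_sub] at h
  rw [sub_sub, sub_eq_zero] at h
  exact h

theorem qB_smul (a : A) (c : C) : qB b C (u₀ b C (a • c)) = a • qB b C (u₀ b C c) := by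
  have h := qB_eq_zero b C (u₀ b C (a • c) - a • u₀ b C c) (fun i =>
    Ideal.subset_span (Or.inl (Or.inl (Or.inr ⟨a, c, i, rfl⟩))))
  rw [map_sub, map_smul, sub_eq_zero] at h
  exact h

theorem qB_mul (c c' : C) : qB b C (u₀ b C (c * c')) = qB b C (u₀ b C c) * qB b C (u₀ b C c') := by
  have h := qB_eq_zero b C (u₀ b C (c * c') - u₀ b C c * u₀ b C c') (fun i =>
    Ideal.subset_span (Or.inl (Or.inr ⟨c, c', i, rfl⟩)))
  rw [map_sub, map_mul, sub_eq_zero] at h
  exact h

theorem qB_one : qB b C (u₀ b C 1) = 1 := by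
  have h := qB_eq_zero b C (u₀ b C 1 - 1) (fun i =>
    Ideal.subset_span (Or.inr ⟨i, rfl⟩))
  have h1 : qB b C 1 = 1 := (qB b C).toRingHom.map_one
  rw [map_sub, h1, sub_eq_zero] at h
  exact h

/-- the universal algebra map -/
noncomputable def univ : C →ₐ[A] R b C ⊗[A] B :=
  AlgHom.ofLinearMap
    { toFun := fun c => qB b C (u₀ b C c)
      map_add' := qB_add b C
      map_smul' := fun a c => by simpa using qB_smul b C a c }
    (qB_one b C) (qB_mul b C)

theorem univ_apply (c : C) : univ b C c = ∑ i, q b C (MvPolynomial.X (c, i)) ⊗ₜ[A] b i := by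
  show qB b C (u₀ b C c) = _
  unfold qB u₀
  rw [map_sum]
  simp

section UP

variable {D : Type u} [CommRing D] [Algebra A D] (φ : C →ₐ[A] D ⊗[A] B)

/-- the map on polynomials -/
noncomputable def θ₀ : P₀ A ι C →ₐ[A] D :=
  MvPolynomial.aeval (fun ci : C × ι => coord b D (φ ci.1) ci.2)

theorem map_θ₀_u₀ (c : C) :
    Algebra.TensorProduct.map (θ₀ b C φ) (AlgHom.id A B) (u₀ b C c) = φ c := by
  unfold u₀
  rw [map_sum]
  simp only [Algebra.TensorProduct.map_tmul, AlgHom.coe_id, id_eq]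
  unfold θ₀
  simp only [MvPolynomial.aeval_X]
  exact sum_coord b D (φ c)

theorem θ₀_mem (x : P₀ A ι C) (hx : x ∈ I b C) : θ₀ b C φ x = 0 := by
  have hle : I b C ≤ RingHom.ker (θ₀ b C φ : P₀ A ι C →+* D) := by
    unfold I
    rw [Ideal.span_le]
    intro y hy
    rw [SetLike.mem_coe, RingHom.mem_ker]
    show θ₀ b C φ y = 0
    rcases hy with ((⟨c, c', i, rfl⟩ | ⟨a, c, i, rfl⟩) | ⟨c, c', i, rfl⟩) | ⟨i, rfl⟩
    · rw [← coord_map, map_sub, map_sub, map_θ₀_u₀, map_θ₀_u₀, map_θ₀_u₀, map_add]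
      simp [coord_zero]
    · rw [← coord_map, map_sub, map_smul, map_θ₀_u₀, map_θ₀_u₀, map_smul]
      simp [coord_zero]
    · rw [← coord_map, map_sub, map_mul, map_θ₀_u₀, map_θ₀_u₀, map_θ₀_u₀, map_mul]
      simp [coord_zero]
    · rw [← coord_map, map_sub, map_one, map_θ₀_u₀, map_one]
      simp [coord_zero]
  exact hle hx

/-- the induced map on the Weil restriction algebra -/
noncomputable def θ : R b C →ₐ[A] D :=
  Ideal.Quotient.liftₐ (I b C) (θ₀ b C φ) (θ₀_mem b C φ)

theorem θ_q (x : P₀ A ι C) : θ b C φ (q b C x) = θ₀ b C φ x := by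
  unfold θ q
  simp

theorem map_θ_univ (c : C) :
    Algebra.TensorProduct.map (θ b C φ) (AlgHom.id A B) (univ b C c) = φ c := by
  rw [univ_apply, map_sum]
  simp only [Algebra.TensorProduct.map_tmul, AlgHom.coe_id, id_eq, θ_q]
  unfold θ₀
  simp only [MvPolynomial.aeval_X]
  exact sum_coord b D (φ c)

theorem θ_unique (θ' : R b C →ₐ[A] D)
    (h : ∀ c, Algebra.TensorProduct.map θ' (AlgHom.id A B) (univ b C c) = φ c) :
    θ' = θ b C φ := by
  have key : ∀ (θ'' : R b C →ₐ[A] D),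
      (∀ c, Algebra.TensorProduct.map θ'' (AlgHom.id A B) (univ b C c) = φ c) →
      ∀ c i, θ'' (q b C (MvPolynomial.X (c, i))) = coord b D (φ c) i := by
    intro θ'' h'' c i
    rw [← h'' c, univ_apply, map_sum]
    simp only [Algebra.TensorProduct.map_tmul, AlgHom.coe_id, id_eq]
    exact (coord_sum b D (fun j => θ'' (q b C (MvPolynomial.X (c, j)))) i).symm
  have h1 := key θ' h
  have h2 := key (θ b C φ) (map_θ_univ b C φ)
  have h3 : θ'.comp (q b C) = (θ b C φ).comp (q b C) := by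
    apply MvPolynomial.algHom_ext
    rintro ⟨c, i⟩
    simp only [AlgHom.comp_apply]
    rw [h1, h2]
  apply AlgHom.ext
  intro x
  obtain ⟨y, rfl⟩ := Ideal.Quotient.mk_surjective x
  exact congrArg (fun f => f y) h3

end UP

end Groth.Agent.H73.WeilRes
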