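import Groth.Agent.H73.WeilRes3
import Groth.Prelude.Def_Flatn

set_option autoImplicit false
universe u

open CategoryTheory CategoryTheory.Limits AlgebraicGeometry Opposite

namespace Groth.Agent.H73.WeilRes

section Aff

/-- the morphism to an affine scheme with prescribed map on global sections -/
noncomputable def ofAppTop {P Y : Scheme.{u}} [IsAffine Y] (φ : Γ(Y, ⊤) ⟶ Γ(P, ⊤)) : P ⟶ Y :=
  P.toSpecΓ ≫ Spec.map φ ≫ Y.isoSpec.inv

theorem isoSpec_inv_appTop_ΓSpecIso (Y : Scheme.{u}) [IsAffine Y] :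
    Y.isoSpec.inv.appTop ≫ (Scheme.ΓSpecIso Γ(Y, ⊤)).hom = 𝟙 _ := by
  have h1 : Y.isoSpec.hom.appTop = (Scheme.ΓSpecIso Γ(Y, ⊤)).hom := Scheme.toSpecΓ_appTop Y
  rw [← h1, ← Scheme.Hom.comp_appTop, Iso.hom_inv_id]
  rfl

theorem ofAppTop_appTop {P Y : Scheme.{u}} [IsAffine Y] (φ : Γ(Y, ⊤) ⟶ Γ(P, ⊤)) :
    (ofAppTop φ).appTop = φ := by
  unfold ofAppTop
  rw [Scheme.Hom.comp_appTop, Scheme.Hom.comp_appTop, Scheme.toSpecΓ_appTop, Category.assoc,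
    Scheme.ΓSpecIso_naturality, ← Category.assoc, isoSpec_inv_appTop_ΓSpecIso, Category.id_comp]

/-- ring map attached to a morphism to `Spec R` -/
noncomputable def toθ {T : Scheme.{u}} {R : CommRingCat.{u}} (t : T ⟶ Spec R) : R ⟶ Γ(T, ⊤) :=
  (Scheme.ΓSpecIso R).inv ≫ t.appTop

theorem toθ_injective {T : Scheme.{u}} {R : CommRingCat.{u}} (t₁ t₂ : T ⟶ Spec R)
    (h : toθ t₁ = toθ t₂) : t₁ = t₂ := by
  apply ext_of_isAffine
  unfold toθ at h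
  exact (Iso.cancel_iso_inv_left _ _ _).mp h

theorem toθ_ofθ {T : Scheme.{u}} {R : CommRingCat.{u}} (θ : R ⟶ Γ(T, ⊤)) :
    toθ (T.toSpecΓ ≫ Spec.map θ) = θ := by
  unfold toθ
  rw [Scheme.Hom.comp_appTop, Scheme.toSpecΓ_appTop, Scheme.ΓSpecIso_naturality,
    Iso.inv_hom_id_assoc]

end Aff

end Groth.Agent.H73.WeilRes
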