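import Groth.Agent.H73.WeilRes4

set_option autoImplicit false
universe u

open CategoryTheory CategoryTheory.Limits AlgebraicGeometry Opposite

namespace Groth.Agent.H73.WeilRes

variable {Z X S : Scheme.{u}} (g : Z ⟶ S) (f : X ⟶ S)

/-- naturality of the yoneda-type map -/
theorem hmap_comp {W T T' : Over S} (ξ : (Flatn.morS g f).obj (op W)) (j : T' ⟶ T) (t : T ⟶ W) :
    (Flatn.morS g f).map (j ≫ t).op ξ = (Flatn.morS g f).map j.op ((Flatn.morS g f).map t.op ξ) := by
  rw [op_comp, Functor.map_comp]
  rfl

theorem hmap_comp_b {T T' T'' : Over S} (b : (Flatn.morS g f).obj (op T)) (j : T'' ⟶ T')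
    (j' : T' ⟶ T) :
    (Flatn.morS g f).map (j ≫ j').op b =
      (Flatn.morS g f).map j.op ((Flatn.morS g f).map j'.op b) := by
  rw [op_comp, Functor.map_comp]
  rfl

/-- the restriction of `T` to an open -/
abbrev TU (T : Over S) (U : T.left.Opens) : Over S := Over.mk (U.ι ≫ T.hom)

/-- the inclusion of the restriction -/
abbrev jU (T : Over S) (U : T.left.Opens) : TU T U ⟶ T := Over.homMk U.ι rfl

theorem map_left (T T' : Over S) (j : T' ⟶ T) (b : (Flatn.morS g f).obj (op T)) :
    ((Flatn.morS g f).map j.op b).left =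
      pullback.lift (pullback.fst T'.hom g ≫ j.left) (pullback.snd T'.hom g)
        (by rw [Category.assoc, Over.w j, pullback.condition]) ≫ b.left := rfl

/-- `morS` is separated for the Zariski topology -/
theorem morS_sep (T : Over S) (b₁ b₂ : (Flatn.morS g f).obj (op T))
    (h : ∀ U : T.left.affineOpens, (Flatn.morS g f).map (jU T U.1).op b₁ =
      (Flatn.morS g f).map (jU T U.1).op b₂) : b₁ = b₂ := by
  apply Over.OverMorphism.ext
  apply (Scheme.Pullback.openCoverOfLeft T.left.directedAffineCover T.hom g).hom_ext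
  intro (U : T.left.affineOpens)
  have h1 := congrArg (fun k => k.left) (h U)
  simp only [map_left] at h1
  have hf : (Scheme.Pullback.openCoverOfLeft T.left.directedAffineCover T.hom g).f U =
      (pullback.lift (pullback.fst (TU T U.1).hom g ≫ (jU T U.1).left)
        (pullback.snd (TU T U.1).hom g)
        (by rw [Category.assoc, Over.w (jU T U.1), pullback.condition]) :
        pullback (U.1.ι ≫ T.hom) g ⟶ pullback T.hom g) := by
    apply pullback.hom_ext
    · show pullback.lift _ _ _ ≫ pullback.fst _ _ = _
      rw [pullback.lift_fst]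
      exact (pullback.lift_fst _ _ _).symm
    · show pullback.lift _ _ _ ≫ pullback.snd _ _ = _
      rw [pullback.lift_snd, Category.comp_id]
      exact (pullback.lift_snd _ _ _).symm
  rw [hf]
  exact h1

/-- transition maps between restrictions -/
noncomputable abbrev jUV (T : Over S) {U V : T.left.Opens} (hUV : U ≤ V) : TU T U ⟶ TU T V :=
  Over.homMk (T.left.homOfLE hUV) (by
    show T.left.homOfLE hUV ≫ V.ι ≫ T.hom = U.ι ≫ T.hom
    rw [← Category.assoc, Scheme.homOfLE_ι])

theorem jUV_jU (T : Over S) {U V : T.left.Opens} (hUV : U ≤ V) : jUV T hUV ≫ jU T V = jU T U := by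
  apply Over.OverMorphism.ext
  show T.left.homOfLE hUV ≫ V.ι = U.ι
  exact Scheme.homOfLE_ι _ _

theorem bijective_of_affine {W : Over S} (ξ : (Flatn.morS g f).obj (op W))
    (haff : ∀ T : Over S, IsAffine T.left →
      Function.Bijective (fun t : T ⟶ W => (Flatn.morS g f).map t.op ξ))
    (T : Over S) : Function.Bijective (fun t : T ⟶ W => (Flatn.morS g f).map t.op ξ) := by
  have hU : ∀ U : T.left.affineOpens, IsAffine (TU T U.1).left := fun U => U.2
  constructor
  · intro t₁ t₂ (h : (Flatn.morS g f).map t₁.op ξ = (Flatn.morS g f).map t₂.op ξ)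
    apply Over.OverMorphism.ext
    apply T.left.directedAffineCover.hom_ext
    intro (U : T.left.affineOpens)
    have h1 : (Flatn.morS g f).map (jU T U.1 ≫ t₁).op ξ =
        (Flatn.morS g f).map (jU T U.1 ≫ t₂).op ξ := by
      rw [hmap_comp, hmap_comp, h]
    have h2 := (haff _ (hU U)).1 h1
    exact congrArg (fun k => k.left) h2
  · intro b
    have hex : ∀ U : T.left.affineOpens, ∃ tU : TU T U.1 ⟶ W,
        (Flatn.morS g f).map tU.op ξ = (Flatn.morS g f).map (jU T U.1).op b :=
      fun U => (haff _ (hU U)).2 _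
    choose tU htU using hex
    have hcompat : ∀ {U V : T.left.affineOpens} (hUV : U ≤ V),
        jUV T (show U.1 ≤ V.1 from hUV) ≫ tU V = tU U := by
      intro U V hUV
      apply (haff _ (hU U)).1
      show (Flatn.morS g f).map (jUV T (show U.1 ≤ V.1 from hUV) ≫ tU V).op ξ =
        (Flatn.morS g f).map (tU U).op ξ
      rw [hmap_comp, htU, htU, ← hmap_comp_b]
      rw [jUV_jU]
    let t : T ⟶ W := T.left.directedAffineCover.glueMorphismsOverOfLocallyDirected
      (fun U => (tU U).left)
      (fun {U V} hUV => by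
        have := congrArg (fun k => k.left) (hcompat (leOfHom hUV))
        exact this)
      (fun U => Over.w (tU U))
    have ht : ∀ U : T.left.affineOpens, jU T U.1 ≫ t = tU U := by
      intro U
      apply Over.OverMorphism.ext
      exact Scheme.OpenCover.map_glueMorphismsOverOfLocallyDirected_left
        T.left.directedAffineCover _ _ _ U
    refine ⟨t, ?_⟩
    apply morS_sep
    intro U
    show (Flatn.morS g f).map (jU T U.1).op ((Flatn.morS g f).map t.op ξ) = _
    rw [← hmap_comp, ht, htU]

end Groth.Agent.H73.WeilRes
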