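import Mathlib

set_option autoImplicit false
universe u
open CategoryTheory CategoryTheory.Limits AlgebraicGeometry

namespace Groth.Agent.H73.ZCorr_B1

/-- fibres of `π` over points of `V` versus fibres of `π ∣_ V` -/
theorem finite_preimage_of_restrict {Z W : Scheme.{u}} (π : Z ⟶ W) (V : W.Opens) (w : W)
    (hw : w ∈ V) (h : ((π ∣_ V) ⁻¹' {⟨w, hw⟩}).Finite) : (π ⁻¹' {w}).Finite := by
  refine (h.image (π ⁻¹ᵁ V).ι).subset ?_
  intro x hx
  have hx' : π x = w := hx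
  have hxV : x ∈ π ⁻¹ᵁ V := by
    show π x ∈ V
    rw [hx']; exact hw
  refine ⟨⟨x, hxV⟩, ?_, rfl⟩
  show (π ∣_ V) ⟨x, hxV⟩ = ⟨w, hw⟩
  apply Subtype.ext
  exact (morphismRestrict_base_coe π V ⟨x, hxV⟩).trans hx'

theorem preimage_restrict_finite_of_finite {Z W : Scheme.{u}} (π : Z ⟶ W) (V : W.Opens)
    (w : V) (h : (π ⁻¹' {w.1}).Finite) : ((π ∣_ V) ⁻¹' {w}).Finite := by
  refine Set.Finite.of_finite_image (f := (π ⁻¹ᵁ V).ι) (h.subset ?_)
    ((π ⁻¹ᵁ V).ι.isOpenEmbedding.injective.injOn)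
  rintro _ ⟨x, hx, rfl⟩
  have hx' : (π ∣_ V) x = w := hx
  show π x.1 = w.1
  exact (morphismRestrict_base_coe π V x).symm.trans (congrArg Subtype.val hx')

theorem isOpen_setOf_finite_preimage {Z W : Scheme.{u}} (π : Z ⟶ W) [IsProper π] :
    IsOpen {w : W | (π ⁻¹' {w}).Finite} := by
  rw [isOpen_iff_forall_mem_open]
  intro w hw
  obtain ⟨V, hwV, hV⟩ := exists_isFinite_morphismRestrict_of_finite_preimage_singleton π w hw
  refine ⟨V, ?_, V.2, hwV⟩
  intro w' hw'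
  exact finite_preimage_of_restrict π V w' hw'
    (Scheme.Hom.finite_preimage_singleton (π ∣_ V) _)

end Groth.Agent.H73.ZCorr_B1
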