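import Mathlib
import Groth.Agent.H73.ZCorr_B1

set_option autoImplicit false
universe u
open CategoryTheory CategoryTheory.Limits AlgebraicGeometry

namespace Groth.Agent.H73.ZCorr_B2

theorem isFinite_morphismRestrict_of_forall_finite {Z W : Scheme.{u}} (π : Z ⟶ W) [IsProper π]
    (U : W.Opens) (hU : ∀ w ∈ U, (π ⁻¹' {w}).Finite) : IsFinite (π ∣_ U) := by
  have hprop : IsProper (π ∣_ U) := IsZariskiLocalAtTarget.restrict ‹IsProper π› U
  have hqf : LocallyQuasiFinite (π ∣_ U) :=
    LocallyQuasiFinite.of_finite_preimage_singleton _ fun w =>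
      Groth.Agent.H73.ZCorr_B1.preimage_restrict_finite_of_finite π U w (hU w.1 w.2)
  exact IsFinite.of_isProper_of_locallyQuasiFinite _

end Groth.Agent.H73.ZCorr_B2
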