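import Mathlib

set_option autoImplicit false
universe u
open CategoryTheory CategoryTheory.Limits AlgebraicGeometry

namespace Groth.Agent.H73.ZCorr_D3

set_option backward.isDefEq.respectTransparency.types false in
theorem finite_preimage_of_dim_fiber_le_zero {Z W : Scheme.{u}} (π : Z ⟶ W)
    [LocallyOfFiniteType π] [QuasiCompact π] (w : W)
    (h : topologicalKrullDim ↥(π.fiber w) ≤ 0) : (π ⁻¹' {w}).Finite := by
  have hlft : LocallyOfFiniteType (π.fiberToSpecResidueField w) :=
    MorphismProperty.pullback_snd _ _ inferInstance
  have hN : IsLocallyNoetherian (π.fiber w) :=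
    LocallyOfFiniteType.isLocallyNoetherian (π.fiberToSpecResidueField w)
  have hA : IsLocallyArtinian (π.fiber w) := IsLocallyArtinian.of_topologicalKrullDim_le_zero h
  have hAS : IsArtinianScheme (π.fiber w) := { }
  have hfin : Finite (π.fiber w) := inferInstance
  exact Set.finite_coe_iff.mp ((π.fiberHomeo w).finite_iff.mp hfin)

end Groth.Agent.H73.ZCorr_D3
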