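import Mathlib

set_option autoImplicit false
universe u
open CategoryTheory CategoryTheory.Limits AlgebraicGeometry

namespace Groth.Agent.H73.ZCorr_G

/-- a ring map out of a field is flat -/
theorem flat_of_isField {R S : Type u} [CommRing R] [CommRing S] (f : R →+* S) (hR : IsField R) :
    f.Flat := by
  letI := hR.toField
  letI := f.toAlgebra
  show Module.Flat R S
  infer_instance

theorem flat_stalkMap_of_eq_genericPoint {Z W : Scheme.{u}} [IsIntegral W] (π : Z ⟶ W) (z : Z)
    (hz : π z = genericPoint W) : (π.stalkMap z).hom.Flat := by
  have hF : IsField (W.presheaf.stalk (π z)) := by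
    rw [hz]
    exact Field.toIsField (W.functionField)
  exact flat_of_isField _ hF

end Groth.Agent.H73.ZCorr_G
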